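import Groth.Agent.GrModLib.HilbertPoly
import Mathlib.RingTheory.Regular.RegularSequence

/-! Standard graded rings over a field and polynomial rings. -/

set_option autoImplicit false
universe u

open DirectSum

namespace GrModLib

/-- Prepending a regular element. -/
theorem isWeaklyRegular_cons_of_surjective {P B : Type u} [CommRing P] [CommRing B] (Ψ : P →+* B)
    (hΨ : Function.Surjective Ψ) (u₀ : P) (hker : RingHom.ker Ψ = Ideal.span {u₀}) (hu : IsSMulRegular P u₀)
    (rs : List P) (h : RingTheory.Sequence.IsWeaklyRegular B (rs.map Ψ)) : RingTheory.Sequence.IsWeaklyRegular P (u₀ :: rs) := by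
  refine ⟨fun i hi => ?_⟩
  rw [smul_eq_mul, Ideal.mul_top, isSMulRegular_quotient_iff_mem_of_smul_mem]
  rcases i with _ | i
  · intro x hx
    simp only [List.take_zero, Ideal.ofList_nil, Submodule.mem_bot] at hx ⊢
    exact hu.right_eq_zero_of_smul hx
  · have hi' : i < rs.length := by simpa using hi
    have hcomap : Ideal.ofList ((u₀ :: rs).take (i + 1)) = (Ideal.ofList ((rs.map Ψ).take i)).comap Ψ := by
      rw [List.take_succ_cons, Ideal.ofList_cons, ← List.map_take, ← Ideal.map_ofList,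
        Ideal.comap_map_of_surjective Ψ hΨ, ← RingHom.ker_eq_comap_bot, hker, sup_comm]
    have h1 := h.regular_mod_prev i (by simpa using hi')
    rw [smul_eq_mul, Ideal.mul_top, isSMulRegular_quotient_iff_mem_of_smul_mem] at h1
    intro x hx
    rw [hcomap, Ideal.mem_comap] at hx ⊢
    refine h1 (Ψ x) ?_
    simpa using hx

variable {R : Type u} [CommRing R] [IsNoetherianRing R] {𝒜 : ℤ → AddSubgroup R} [GradedRing 𝒜]

omit [IsNoetherianRing R] in
/-- Elements of degree one generating the irrelevant ideal generate the ring. -/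
theorem eval₂_surjective (hpos : ∀ n : ℤ, n < 0 → 𝒜 n = ⊥) {e : ℕ} (x : Fin e → R) (hx : ∀ i, x i ∈ 𝒜 1)
    (hgen : (posIdeal 𝒜).toIdeal ≤ Ideal.span (Set.range x)) :
    Function.Surjective (MvPolynomial.eval₂Hom (GrLC.deg0 𝒜).subtype x) := by
  let S := (MvPolynomial.eval₂Hom (GrLC.deg0 𝒜).subtype x).range
  suffices key : ∀ (k : ℕ) (r : R), r ∈ 𝒜 (k : ℤ) → r ∈ S by
    intro r
    obtain ⟨t, -, ht⟩ := exists_finset 𝒜 r
    rw [← ht]
    show (∑ g ∈ t, pr 𝒜 g r) ∈ S
    refine sum_mem fun g _ => ?_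
    rcases lt_or_ge g 0 with hg | hg
    · rw [eq_zero_of_neg hpos hg (pr_mem 𝒜 g r)]; exact zero_mem S
    · obtain ⟨k, rfl⟩ : ∃ k : ℕ, g = (k : ℤ) := ⟨g.toNat, by omega⟩
      exact key k _ (pr_mem 𝒜 _ r)
  intro k
  induction k with
  | zero => exact fun r hr => ⟨MvPolynomial.C (⟨r, hr⟩ : GrLC.deg0 𝒜), by simp⟩
  | succ k ih =>
    intro r hr
    have hrs : r ∈ Ideal.span (Set.range x) := hgen (mem_posIdeal (by exact_mod_cast k.succ_pos) hr)
    obtain ⟨c, hc⟩ := Ideal.mem_span_range_iff_exists_fun.1 hrs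
    rw [← pr_self 𝒜 hr, ← hc, map_sum]
    refine sum_mem fun i _ => ?_
    rw [← smul_eq_mul (c i), pr_smul_mem 𝒜 𝒜 (hx i) (c i), smul_eq_mul]
    refine mul_mem (ih _ ?_) ⟨MvPolynomial.X i, MvPolynomial.eval₂Hom_X' _ _ i⟩
    rw [show ((k + 1 : ℕ) : ℤ) - 1 = k by push_cast; ring]
    exact pr_mem 𝒜 _ _

omit [IsNoetherianRing R] in
/-- A surjection from a polynomial ring over a field of the same dimension is bijective. -/
theorem bijective_of_dim {K : Type u} [CommRing K] (hK : IsField K) {r : ℕ} (hr : ringKrullDim R = r)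
    (π : MvPolynomial (Fin r) K →+* R) (hπ : Function.Surjective π) : Function.Bijective π := by
  letI := hK.toField
  refine ⟨(injective_iff_map_eq_zero π).2 fun f hf => ?_, hπ⟩
  by_contra hne
  have h1 := ringKrullDim_quotient_succ_le_of_nonZeroDivisor (R := MvPolynomial (Fin r) K)
    (mem_nonZeroDivisors_of_ne_zero hne)
  have h2 : ringKrullDim R ≤ ringKrullDim (MvPolynomial (Fin r) K ⧸ Ideal.span {f}) := by
    refine ringKrullDim_le_of_surjective (Ideal.Quotient.lift _ π fun a ha => ?_)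
      (Ideal.Quotient.lift_surjective_of_surjective _ _ hπ)
    obtain ⟨b, rfl⟩ := Ideal.mem_span_singleton'.1 ha
    rw [map_mul, hf, mul_zero]
  rw [MvPolynomial.ringKrullDim_of_isNoetherianRing, ringKrullDim_eq_zero_of_field, zero_add, Nat.card_fin] at h1
  rw [hr] at h2
  have h3 : ((r : ℕ) : WithBot ℕ∞) + 1 ≤ (r : ℕ) := le_trans (add_le_add h2 le_rfl) h1
  have h4 : r + 1 ≤ r := by exact_mod_cast h3
  omega

/-- The variables of a polynomial ring form a weakly regular sequence. -/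
theorem isWeaklyRegular_X (K : Type u) [CommRing K] : ∀ r : ℕ,
    RingTheory.Sequence.IsWeaklyRegular (MvPolynomial (Fin r) K) (List.ofFn (MvPolynomial.X : Fin r → MvPolynomial (Fin r) K))
  | 0 => by simp
  | r + 1 => by
    let Ψ : MvPolynomial (Fin (r + 1)) K →+* MvPolynomial (Fin r) K :=
      (Polynomial.evalRingHom 0).comp (MvPolynomial.finSuccEquiv K r).toRingEquiv.toRingHom
    have hX : ∀ i : Fin r, Ψ (MvPolynomial.X i.succ) = MvPolynomial.X i := fun i => by
      show Polynomial.eval 0 (MvPolynomial.finSuccEquiv K r (MvPolynomial.X i.succ)) = _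
      rw [MvPolynomial.finSuccEquiv_X_succ, Polynomial.eval_C]
    rw [List.ofFn_succ]
    refine isWeaklyRegular_cons_of_surjective Ψ ?_ _ ?_ (MvPolynomial.isRegular_X.left.isSMulRegular) _ ?_
    · exact fun p => ⟨(MvPolynomial.finSuccEquiv K r).symm (Polynomial.C p), by
        show Polynomial.eval 0 (MvPolynomial.finSuccEquiv K r _) = p
        rw [AlgEquiv.apply_symm_apply, Polynomial.eval_C]⟩
    · refine le_antisymm (fun p hp => ?_) ((Ideal.span_singleton_le_iff_mem _).2 ?_)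
      · have h1 : Polynomial.eval 0 (MvPolynomial.finSuccEquiv K r p) = 0 := hp
        rw [← Polynomial.coeff_zero_eq_eval_zero, ← Polynomial.X_dvd_iff] at h1
        obtain ⟨q, hq⟩ := h1
        refine Ideal.mem_span_singleton'.2 ⟨(MvPolynomial.finSuccEquiv K r).symm q,
          (MvPolynomial.finSuccEquiv K r).injective ?_⟩
        rw [map_mul, AlgEquiv.apply_symm_apply, MvPolynomial.finSuccEquiv_X_zero, hq, mul_comm]
      · show Polynomial.eval 0 (MvPolynomial.finSuccEquiv K r (MvPolynomial.X 0)) = 0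
        rw [MvPolynomial.finSuccEquiv_X_zero, Polynomial.eval_X]
    · rw [List.map_ofFn, show (Ψ ∘ fun i : Fin r => MvPolynomial.X i.succ) = MvPolynomial.X from funext hX]
      exact isWeaklyRegular_X K r

omit [IsNoetherianRing R] in
/-- If the ring is abstractly a polynomial ring, the irrelevant ideal is generated by as many linear forms. -/
theorem exists_linear_generators (hpos : ∀ n : ℤ, n < 0 → 𝒜 n = ⊥) (h0 : IsField (GrLC.deg0 𝒜))
    (hmax : (posIdeal 𝒜).toIdeal.IsMaximal)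
    (hstd : (posIdeal 𝒜).toIdeal = Ideal.span ((𝒜 1 : AddSubgroup R) : Set R)) {r : ℕ}
    (ψ : R ≃+* MvPolynomial (Fin r) (GrLC.deg0 𝒜)) :
    ∃ x : Fin r → R, (∀ i, x i ∈ 𝒜 1) ∧ (posIdeal 𝒜).toIdeal ≤ Ideal.span (Set.range x) := by
  letI := h0.toField
  have hunit : ∀ c : R, c ∈ 𝒜 0 → c ≠ 0 → IsUnit c := fun c hc hne => by
    obtain ⟨d, hd⟩ := h0.mul_inv_cancel (show (⟨c, hc⟩ : GrLC.deg0 𝒜) ≠ 0 from fun h => hne (congrArg Subtype.val h))
    exact IsUnit.of_mul_eq_one (d : R) (congrArg Subtype.val hd)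
  have hsub : ∀ z : R, z - pr 𝒜 0 z ∈ (posIdeal 𝒜).toIdeal := fun z => by
    classical
    obtain ⟨t, ht0, ht⟩ := exists_finset 𝒜 z
    have h1 : z - pr 𝒜 0 z = ∑ g ∈ t.erase 0, pr 𝒜 g z := by
      by_cases h : (0 : ℤ) ∈ t
      · rw [sub_eq_iff_eq_add, Finset.sum_erase_add _ _ h, ht]
      · rw [Finset.erase_eq_of_notMem h, ht, ht0 0 h, sub_zero]
    rw [h1]
    refine sum_mem fun g hg => ?_
    rcases lt_or_gt_of_ne (Finset.ne_of_mem_erase hg) with hg | hg
    · rw [eq_zero_of_neg hpos hg (pr_mem 𝒜 g z)]; exact zero_mem _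
    · exact mem_posIdeal hg (pr_mem 𝒜 g z)
  have hconst : ∀ c : R, c ∈ 𝒜 0 → ∃ a, ψ c = MvPolynomial.C a := fun c hc => by
    by_cases hne : c = 0
    · exact ⟨0, by rw [hne, map_zero, map_zero]⟩
    · obtain ⟨-, h2⟩ := MvPolynomial.isUnit_iff.1 ((hunit c hc hne).map ψ)
      refine ⟨(ψ c).coeff 0, MvPolynomial.ext _ _ fun i => ?_⟩
      rw [MvPolynomial.coeff_C]
      by_cases hi : 0 = i
      · rw [if_pos hi, hi]
      · rw [if_neg hi]
        exact (h2 i (Ne.symm hi)).eq_zero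
  choose a ha using fun i : Fin r => hconst (pr 𝒜 0 (ψ.symm (MvPolynomial.X i))) (pr_mem 𝒜 0 _)
  let g : Fin r → R := fun i => ψ.symm (MvPolynomial.X i) - pr 𝒜 0 (ψ.symm (MvPolynomial.X i))
  have hψg : ∀ i, ψ.symm (MvPolynomial.X i - MvPolynomial.C (a i)) = g i := fun i => by
    rw [map_sub, ← ha i, RingEquiv.symm_apply_apply]
  have hspan : ∀ p : MvPolynomial (Fin r) (GrLC.deg0 𝒜),
      ψ.symm (p - MvPolynomial.C (MvPolynomial.eval a p)) ∈ Ideal.span (Set.range g) := by
    intro p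
    induction p using MvPolynomial.induction_on with
    | C b => rw [MvPolynomial.eval_C, sub_self, map_zero]; exact zero_mem _
    | add p q hp hq =>
      rw [map_add, map_add, show p + q - (MvPolynomial.C (MvPolynomial.eval a p) + MvPolynomial.C (MvPolynomial.eval a q)) =
        (p - MvPolynomial.C (MvPolynomial.eval a p)) + (q - MvPolynomial.C (MvPolynomial.eval a q)) by ring, map_add]
      exact add_mem hp hq
    | mul_X p i hp =>
      rw [map_mul, MvPolynomial.eval_X, map_mul,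
        show p * MvPolynomial.X i - MvPolynomial.C (MvPolynomial.eval a p) * MvPolynomial.C (a i) =
          (p - MvPolynomial.C (MvPolynomial.eval a p)) * MvPolynomial.X i +
            MvPolynomial.C (MvPolynomial.eval a p) * (MvPolynomial.X i - MvPolynomial.C (a i)) by ring,
        map_add, map_mul, map_mul, hψg]
      exact add_mem (Ideal.mul_mem_right _ _ hp) (Ideal.mul_mem_left _ _ (Ideal.subset_span ⟨i, rfl⟩))
  have hJ : (posIdeal 𝒜).toIdeal ≤ Ideal.span (Set.range g) := by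
    intro f hf
    have h1 := hspan (ψ f)
    rw [map_sub, RingEquiv.symm_apply_apply] at h1
    have hJle : Ideal.span (Set.range g) ≤ (posIdeal 𝒜).toIdeal :=
      Ideal.span_le.2 (Set.range_subset_iff.2 fun i => hsub _)
    have hm : ψ.symm (MvPolynomial.C (MvPolynomial.eval a (ψ f))) ∈ (posIdeal 𝒜).toIdeal := by
      simpa using sub_mem hf (hJle h1)
    by_cases hb : MvPolynomial.eval a (ψ f) = 0
    · rwa [hb, map_zero, map_zero, sub_zero] at h1
    · exact absurd (Ideal.eq_top_of_isUnit_mem _ hm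
        (((isUnit_iff_ne_zero.2 hb).map MvPolynomial.C).map ψ.symm)) hmax.ne_top
  refine ⟨fun i => pr 𝒜 1 (g i), fun i => pr_mem 𝒜 1 _, ?_⟩
  rw [hstd, Ideal.span_le]
  intro y hy
  have hy' : y ∈ (posIdeal 𝒜).toIdeal := mem_posIdeal one_pos hy
  obtain ⟨c, hc⟩ := Ideal.mem_span_range_iff_exists_fun.1 (hJ hy')
  rw [SetLike.mem_coe, ← pr_self 𝒜 hy, ← hc, map_sum]
  refine sum_mem fun i _ => ?_
  obtain ⟨t, -, ht⟩ := exists_finset 𝒜 (g i)
  rw [show c i * g i = ∑ d ∈ t, c i • pr 𝒜 d (g i) by rw [← Finset.smul_sum, ht, smul_eq_mul], map_sum]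
  refine sum_mem fun d _ => ?_
  rw [pr_smul_mem 𝒜 𝒜 (pr_mem 𝒜 d (g i)) (c i) 1, smul_eq_mul]
  rcases lt_trichotomy d 1 with hd | hd | hd
  · have h0' : pr 𝒜 d (g i) = 0 := by
      rcases lt_or_eq_of_le (show d ≤ 0 by omega) with hd' | hd'
      · exact eq_zero_of_neg hpos hd' (pr_mem 𝒜 d _)
      · subst hd'
        exact pr_zero_posIdeal hpos _ (hsub _)
    rw [h0', mul_zero]
    exact zero_mem _
  · subst hd
    exact Ideal.mul_mem_left _ _ (Ideal.subset_span ⟨i, rfl⟩)
  · rw [eq_zero_of_neg hpos (show 1 - d < 0 by omega) (pr_mem 𝒜 _ (c i)), zero_mul]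
    exact zero_mem _

/-- Vanishing of the top cohomology above degree `-r` for a ring generated by a regular sequence of linear forms. -/
theorem endDeg_le_neg (hpos : ∀ n : ℤ, n < 0 → 𝒜 n = ⊥) {m : HomogeneousIdeal 𝒜}
    (hle : (posIdeal 𝒜).toIdeal ≤ m.toIdeal) {r : ℕ} (x : Fin r → R) (hx : ∀ i, x i ∈ 𝒜 1)
    (hgen : (posIdeal 𝒜).toIdeal ≤ Ideal.span (Set.range x))
    (hreg : RingTheory.Sequence.IsWeaklyRegular R (List.ofFn x))
    (hbelow : ∀ j, j < r → ∀ n, Van m 𝒜 j n) (E : GrLC.StarInjRes 𝒜 𝒜) :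
    GrLC.endDeg (E.Hgr m r) ≤ (((-(r : ℤ) : ℤ) : WithTop ℤ) : WithBot (WithTop ℤ)) := by
  rw [endDeg_le_iff E]
  let xs : List (R × ℤ) := List.ofFn fun i => (x i, (1 : ℤ))
  have hfst : xs.map Prod.fst = List.ofFn x := by simp [xs, List.map_ofFn, Function.comp_def]
  have hsnd : (xs.map Prod.snd).sum = (r : ℤ) := by simp [xs, List.map_ofFn, Function.comp_def, List.sum_ofFn]
  have hlen : xs.length = r := List.length_ofFn
  let J : Submodule R R := Ideal.span (Set.range x)
  have hJ : Submodule.IsHomogeneous J 𝒜 := Ideal.homogeneous_span 𝒜 _ (by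
    rintro _ ⟨i, rfl⟩; exact ⟨1, hx i⟩)
  let N := quotG 𝒜 (ℳ := 𝒜) J hJ
  have hker : LinearMap.ker J.mkQ = Ideal.ofList (xs.map Prod.fst) • (⊤ : Submodule R R) := by
    rw [J.ker_mkQ, hfst, smul_eq_mul, Ideal.mul_top]
    refine congrArg Ideal.span (Set.ext fun z => ?_)
    show z ∈ Set.range x ↔ z ∈ List.ofFn x
    rw [List.mem_ofFn]
    exact Set.mem_range
  have key := end_seq (a := m) hpos xs (fun p hp => by
      obtain ⟨i, rfl⟩ := List.mem_ofFn.1 hp
      exact ⟨hx i, hle (mem_posIdeal one_pos (hx i))⟩)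
    (GrLC.GMod.of 𝒜 R 𝒜) N J.mkQ (fun g z hz => ⟨z, hz, rfl⟩) J.mkQ_surjective (by rw [hfst]; exact hreg) hker 0
    (fun j hj n => hbelow j (by omega) n) (-(r : ℤ))
  rw [hlen, zero_add] at key
  refine key.1 fun n hn F y hy => ?_
  rw [hsnd, neg_add_cancel] at hn
  obtain ⟨z, hz, rfl⟩ := hy
  have hzr : (z : (F.X 0).carrier) ∈ LinearMap.range F.ε := F.exact_zero.le z.2.2
  rw [← add_zero n] at hz
  obtain ⟨v, hv, hvz⟩ := preimage_homogeneous (ε_deg F) hz hzr
  have hv0 : v = 0 := by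
    obtain ⟨w, hw, rfl⟩ := hv
    exact (Submodule.Quotient.mk_eq_zero J).2 (hgen (mem_posIdeal hn hw))
  rw [show z = 0 from Subtype.ext (by rw [← hvz, hv0, map_zero]; rfl), map_zero]

/-- A polynomial of degree less than `r` with the values of the Hilbert function of a polynomial ring in the
degrees `1 - r, …, 0` has value `r` at one. -/
theorem eval_one_eq {r : ℕ} (P : Polynomial ℚ) (hdeg : P.degree < (r : WithBot ℕ))
    (h0 : 1 ≤ r → P.eval 0 = 1) (hneg : ∀ k : ℕ, k + 1 < r → P.eval (-((k + 1 : ℕ) : ℚ)) = 0) :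
    P.eval 1 = r := by
  rcases r with _ | s
  · have hP0 : P = 0 := Polynomial.degree_eq_bot.1 (Nat.WithBot.lt_zero_iff.1 (by exact_mod_cast hdeg))
    rw [hP0]
    simp
  let Q : Polynomial ℚ := Polynomial.C ((s.factorial : ℚ)⁻¹) *
    ∏ i ∈ Finset.range s, (Polynomial.X + Polynomial.C ((i + 1 : ℕ) : ℚ))
  have hQdeg : Q.degree < ((s + 1 : ℕ) : WithBot ℕ) := by
    refine lt_of_le_of_lt ((Polynomial.degree_mul_le _ _).trans (add_le_add Polynomial.degree_C_le
      ((Polynomial.degree_prod_le _ _).trans (Finset.sum_le_sum fun i _ => (Polynomial.degree_X_add_C _).le)))) ?_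
    simp only [Finset.sum_const, Finset.card_range, zero_add, nsmul_eq_mul, mul_one]
    exact_mod_cast s.lt_succ_self
  have hPQ : P = Q := by
    refine Polynomial.eq_of_degrees_lt_of_eval_index_eq (Finset.range (s + 1)) (v := fun k : ℕ => (-(k : ℚ)))
      (fun a _ b _ h => by simpa using h) (by rw [Finset.card_range]; exact hdeg)
      (by rw [Finset.card_range]; exact hQdeg) fun k hk => ?_
    have hk' : k < s + 1 := Finset.mem_range.1 hk
    rw [Polynomial.eval_mul, Polynomial.eval_prod, Polynomial.eval_C]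
    rcases k with _ | k
    · rw [Nat.cast_zero, neg_zero, h0 (by omega)]
      simp only [Polynomial.eval_add, Polynomial.eval_X, Polynomial.eval_C, zero_add]
      rw [← Nat.cast_prod, Finset.prod_range_add_one_eq_factorial, inv_mul_cancel₀]
      exact_mod_cast s.factorial_ne_zero
    · rw [hneg k hk']
      exact (mul_eq_zero_of_right _ (Finset.prod_eq_zero (Finset.mem_range.2 (show k < s by omega)) (by simp))).symm
  rw [hPQ, Polynomial.eval_mul, Polynomial.eval_prod, Polynomial.eval_C]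
  simp only [Polynomial.eval_add, Polynomial.eval_X, Polynomial.eval_C]
  have h2 : ((s + 1).factorial : ℚ) = ∏ i ∈ Finset.range s, (1 + ((i + 1 : ℕ) : ℚ)) := by
    rw [← Finset.prod_range_add_one_eq_factorial, Finset.prod_range_succ']
    push_cast
    rw [mul_one]
    exact Finset.prod_congr rfl fun i _ => by ring
  rw [← h2, Nat.factorial_succ, Nat.cast_mul]
  have hne : (s.factorial : ℚ) ≠ 0 := by exact_mod_cast s.factorial_ne_zero
  field_simp

/-- The number of linear forms when the top cohomology ends at minus the dimension. -/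
theorem hf_one_eq [IsArtinianRing (GrLC.deg0 𝒜)] (hpos : ∀ n : ℤ, n < 0 → 𝒜 n = ⊥)
    (hstd : (posIdeal 𝒜).toIdeal = Ideal.span ((𝒜 1 : AddSubgroup R) : Set R)) (m : HomogeneousIdeal 𝒜)
    (hle : (posIdeal 𝒜).toIdeal ≤ m.toIdeal) (har : m.toIdeal ≤ (posIdeal 𝒜).toIdeal.radical)
    {r : ℕ} (hr : ringKrullDim R ≤ (r : ℕ))
    (hvan : ∀ i, i ≤ r → ∀ j : ℤ, -(r : ℤ) < j → Van m 𝒜 i j) (hf0 : hf (GrLC.GMod.of 𝒜 R 𝒜) 0 = 1)
    (E : GrLC.StarInjRes 𝒜 𝒜) : hf (GrLC.GMod.of 𝒜 R 𝒜) 1 = (r : ℚ) := by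
  haveI : Module.Finite R (GrLC.GMod.of 𝒜 R 𝒜).carrier := inferInstanceAs (Module.Finite R R)
  obtain ⟨P, n₀, hP⟩ := exists_hilbertPoly_self hpos hstd
  have hdeg : P.degree < (r : WithBot ℕ) :=
    degree_lt_of_supportDim hpos r (GrLC.GMod.of 𝒜 R 𝒜) inferInstance
      ((Module.supportDim_le_ringKrullDim R _).trans hr) P n₀ hP
  have heq : ∀ j : ℤ, -(r : ℤ) < j → hf (GrLC.GMod.of 𝒜 R 𝒜) j = P.eval (j : ℚ) := fun j hj =>
    sub_eq_zero.1 ((hf_sub_eval_eq_chi hpos hle har hr P (GrLC.GMod.of 𝒜 R 𝒜) ⟨n₀, hP⟩ E j).trans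
      (Finset.sum_eq_zero fun i hi => mul_eq_zero_of_right _
        (qlen_Hcomp_of_van (N := GrLC.GMod.of 𝒜 R 𝒜)
          (hvan i (Nat.lt_succ_iff.1 (Finset.mem_range.1 hi)) j hj) E)))
  rw [heq 1 (by omega), Int.cast_one]
  refine eval_one_eq P hdeg (fun h => ?_) fun k hk => ?_
  · rw [← Int.cast_zero, ← heq 0 (by omega), hf0]
  · rw [show (-((k + 1 : ℕ) : ℚ)) = ((-((k + 1 : ℕ) : ℤ) : ℤ) : ℚ) by push_cast; ring, ← heq _ (by omega)]
    haveI : Subsingleton (GrLC.comp 𝒜 (GrLC.GMod.of 𝒜 R 𝒜).gr (-((k + 1 : ℕ) : ℤ))) := ⟨fun u v => Subtype.ext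
      ((eq_zero_of_neg hpos (by omega) u.2).trans (eq_zero_of_neg hpos (by omega) v.2).symm)⟩
    exact qlen_subsingleton _

theorem qlen_field {K : Type u} [CommRing K] (hK : IsField K) : qlen (K := K) K = 1 := by
  letI := hK.toField
  rw [qlen, Module.length_eq_finrank, Module.finrank_self]
  rfl

theorem exists_spanning {K : Type u} [CommRing K] (hK : IsField K) {M : Type u} [AddCommGroup M] [Module K M]
    [IsNoetherian K M] {r : ℕ} (h : qlen (K := K) M = (r : ℚ)) :
    ∃ v : Fin r → M, ∀ y : M, ∃ c : Fin r → K, ∑ i, c i • v i = y := by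
  letI := hK.toField
  rw [qlen, Module.length_eq_finrank, ENat.toNat_natCast] at h
  let b := Module.finBasisOfFinrankEq K M (n := r) (by exact_mod_cast h)
  exact ⟨b, fun y => ⟨_, b.sum_repr y⟩⟩

theorem isArtinianRing_of_isField {K : Type u} [CommRing K] (hK : IsField K) : IsArtinianRing K := by
  letI := hK.toField
  infer_instance

end GrModLib
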