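import Groth.Agent.GrModLib.Res
import Groth.Agent.InjHullLib.Quotient

/-! *Injective hulls of `R ⧸ p`. -/

set_option autoImplicit false
universe u

open DirectSum

namespace GrModLib

variable {ι : Type} [AddCommGroup ι] [DecidableEq ι] {R : Type u} [CommRing R]
  {𝒜 : ι → AddSubgroup R} [GradedRing 𝒜]

/-- The grading of `R ⧸ p`, shifted. -/
theorem quotGr_shift_isInternal (p : HomogeneousIdeal 𝒜) (g₀ : ι) :
    DirectSum.IsInternal fun j : ι => GrLC.quotGr 𝒜 p (j - g₀) := by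
  letI : DirectSum.Decomposition (quotGr' p.toIdeal 𝒜) :=
    (quotGr'_isInternal p.toIdeal p.isHomogeneous).chooseDecomposition
  simp only [sub_eq_add_neg]
  exact shift_isInternal (quotGr' p.toIdeal 𝒜) (-g₀)

/-- Linear orders on free abelian groups of finite rank. -/
theorem exists_linearOrder (ι : Type) [AddCommGroup ι] [Module.Free ℤ ι] [Module.Finite ℤ ι] :
    ∃ l : LinearOrder ι, @IsOrderedAddMonoid ι _ l.toPartialOrder.toPreorder := by
  let φ : ι →+ Lex (Fin (Module.finrank ℤ ι) → ℤ) :=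
    { toFun := fun x => toLex ((Module.finBasis ℤ ι).equivFun x)
      map_zero' := by simp
      map_add' := fun x y => by simp }
  have hφ : Function.Injective φ := fun x y h => (Module.finBasis ℤ ι).equivFun.injective (toLex.injective h)
  let l : LinearOrder ι := LinearOrder.lift' φ hφ
  letI := l
  have h1 : ∀ a b : ι, a ≤ b → ∀ c, a + c ≤ b + c := fun a b hab c => show φ (a + c) ≤ φ (b + c) by
    rw [map_add, map_add]; exact add_le_add (show φ a ≤ φ b from hab) le_rfl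
  exact ⟨l, { add_le_add_left := h1 }⟩

/-- The homogeneous annihilator. -/
theorem colon_isHomogeneous {M : Type u} [AddCommGroup M] [Module R M] (ℳ : ι → AddSubgroup M)
    [DirectSum.Decomposition ℳ] [SetLike.GradedSMul 𝒜 ℳ] {g : ι} {m : M} (hm : m ∈ ℳ g) :
    (R ∙ m).annihilator.IsHomogeneous 𝒜 := by
  intro h r hr
  rw [Submodule.mem_annihilator_span_singleton] at hr ⊢
  show pr 𝒜 h r • m = 0
  have h1 := pr_smul_mem 𝒜 ℳ hm r (h + g)
  rw [hr, map_zero, add_sub_cancel_right] at h1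
  exact h1.symm

/-- A homogeneous element with prime annihilator. -/
theorem exists_prime_annihilator [Module.Free ℤ ι] [Module.Finite ℤ ι] [IsNoetherianRing R]
    {M : Type u} [AddCommGroup M] [Module R M] (ℳ : ι → AddSubgroup M)
    [DirectSum.Decomposition ℳ] [SetLike.GradedSMul 𝒜 ℳ] {g₁ : ι} {m₁ : M} (hm₁ : m₁ ∈ ℳ g₁) (h₁ : m₁ ≠ 0) :
    ∃ (g : ι) (m : M) (q : HomogeneousIdeal 𝒜), m ∈ ℳ g ∧ m ≠ 0 ∧ q.toIdeal.IsPrime ∧
      (R ∙ m).annihilator = q.toIdeal ∧ (R ∙ m₁).annihilator ≤ q.toIdeal := by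
  let S : Set (Ideal R) :=
    {J | (R ∙ m₁).annihilator ≤ J ∧ ∃ (g : ι) (m : M), m ∈ ℳ g ∧ m ≠ 0 ∧ (R ∙ m).annihilator = J}
  obtain ⟨J, ⟨hle, g, m, hm, hm0, hJ⟩, hmax⟩ := set_has_maximal_iff_noetherian.2 (inferInstanceAs (IsNoetherian R R))
    S ⟨(R ∙ m₁).annihilator, le_rfl, g₁, m₁, hm₁, h₁, rfl⟩
  have hJh : J.IsHomogeneous 𝒜 := hJ ▸ colon_isHomogeneous ℳ hm
  obtain ⟨l, hl⟩ := exists_linearOrder ι
  refine ⟨g, m, ⟨J, hJh⟩, hm, hm0, ?_, hJ, hle⟩
  obtain rfl : ‹DecidableEq ι› = l.toDecidableEq := Subsingleton.elim _ _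
  let _ := l
  have := hl
  show Ideal.IsPrime J
  refine Ideal.IsHomogeneous.isPrime_of_homogeneous_mem_or_mem hJh ?_ fun {a b} ha hb hab => ?_
  · intro e
    rw [← hJ, Ideal.eq_top_iff_one, Submodule.mem_annihilator_span_singleton, one_smul] at e
    exact hm0 e
  · refine or_iff_not_imp_right.2 fun hbJ => ?_
    obtain ⟨i, hi⟩ := hb
    rw [← hJ, Submodule.mem_annihilator_span_singleton] at hbJ hab
    have hle' : J ≤ (R ∙ (b • m)).annihilator := fun r hr => by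
      rw [← hJ, Submodule.mem_annihilator_span_singleton] at hr
      rw [Submodule.mem_annihilator_span_singleton, smul_comm, hr, smul_zero]
    have heq : (R ∙ (b • m)).annihilator = J := (hle'.eq_or_lt.resolve_right fun hlt =>
      hmax _ ⟨hle.trans hle', _, _, smul_mem 𝒜 ℳ hi hm, hbJ, rfl⟩ hlt).symm
    show a ∈ J
    rw [← heq, Submodule.mem_annihilator_span_singleton, ← mul_smul]
    exact hab

/-- A hull of `(R ⧸ q)` shifted inside a *injective module, as a direct summand. -/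
theorem exists_hull_summand {I : Type u} [AddCommGroup I] [Module R I] (ℐ : ι → AddSubgroup I)
    [DirectSum.Decomposition ℐ] [SetLike.GradedSMul 𝒜 ℐ] (hI : GrLC.IsStarInj 𝒜 ℐ)
    (q : HomogeneousIdeal 𝒜) (g₀ : ι) (m : I) (hm : m ∈ ℐ g₀) (hann : (R ∙ m).annihilator = q.toIdeal) :
    ∃ (X : GrLC.GMod.{u} 𝒜) (f : (R ⧸ q.toIdeal) →ₗ[R] X.carrier) (ψ : X.carrier →ₗ[R] I) (Q : Submodule R I),
      GrLC.IsStarInjHull 𝒜 (fun j : ι => GrLC.quotGr 𝒜 q (j - g₀)) X.gr f ∧ Function.Injective ψ ∧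
      GrLC.IsGrHom X.gr ℐ ψ ∧ ψ (f 1) = m ∧ Q.IsHomogeneous ℐ ∧ IsCompl (LinearMap.range ψ) Q := by
  letI := (quotGr_shift_isInternal q g₀).chooseDecomposition
  haveI : SetLike.GradedSMul 𝒜 (fun j : ι => GrLC.quotGr 𝒜 q (j - g₀)) := ⟨fun {h g r x} hr ⟨y, hy, e⟩ => by
    refine ⟨r • y, ?_, e ▸ (Submodule.mkQ q.toIdeal).map_smul r y⟩
    show r * y ∈ 𝒜 (h + g - g₀)
    rw [add_sub_assoc]; exact SetLike.mul_mem_graded hr hy⟩
  let e : (R ⧸ q.toIdeal) →ₗ[R] I := Submodule.liftQ q.toIdeal (LinearMap.toSpanSingleton R I m) fun r hr => by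
    rw [← hann, Submodule.mem_annihilator_span_singleton] at hr
    exact hr
  have he : GrLC.IsGrHom (fun j : ι => GrLC.quotGr 𝒜 q (j - g₀)) ℐ e := by
    rintro j _ ⟨y, hy, rfl⟩
    show y • m ∈ ℐ j
    have := smul_mem 𝒜 ℐ (show y ∈ 𝒜 (j - g₀) from hy) hm
    rwa [sub_add_cancel] at this
  have hei : Function.Injective e := by
    refine (injective_iff_map_eq_zero e).2 fun x hx => ?_
    obtain ⟨y, rfl⟩ := Submodule.mkQ_surjective _ x
    refine (Submodule.Quotient.mk_eq_zero _).2 ?_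
    rw [← hann, Submodule.mem_annihilator_span_singleton]
    exact hx
  obtain ⟨X, f, ψ, hf, hψ, hψi, hψf⟩ := exists_hull_in hI e he hei
  obtain ⟨r, hr, hrψ⟩ := extend hf.starInj X.gr ℐ ψ hψ hψi LinearMap.id (fun g x hx => hx)
  refine ⟨X, f, ψ, LinearMap.ker r, hf, hψi, hψ, ?_, ker_isHomogeneous hr, ?_⟩
  · exact (LinearMap.congr_fun hψf 1).trans (one_smul R m)
  · refine ⟨disjoint_iff.2 (eq_bot_iff.2 ?_), codisjoint_iff.2 (eq_top_iff.2 fun x _ => ?_)⟩
    · rintro _ ⟨⟨y, rfl⟩, hy⟩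
      have : y = 0 := (LinearMap.congr_fun hrψ y).symm.trans hy
      rw [this, map_zero]; exact zero_mem _
    · refine Submodule.mem_sup.2 ⟨ψ (r x), ⟨_, rfl⟩, x - ψ (r x), ?_, add_sub_cancel _ _⟩
      rw [LinearMap.mem_ker, map_sub, show r (ψ (r x)) = r x from LinearMap.congr_fun hrψ (r x), sub_self]

variable {E : Type u} [AddCommGroup E] [Module R E] {𝓔 : ι → AddSubgroup E} [DirectSum.Decomposition 𝓔]
  [SetLike.GradedSMul 𝒜 𝓔] {p : HomogeneousIdeal 𝒜} {e : (R ⧸ p.toIdeal) →ₗ[R] E}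

theorem isEssentialInj_quot (he : GrLC.IsStarEss (GrLC.quotGr 𝒜 p) 𝓔 e) : InjHull.IsEssentialInj e := by
  letI : DirectSum.Decomposition (GrLC.quotGr 𝒜 p) :=
    (quotGr'_isInternal (ℳ := 𝒜) p.toIdeal p.isHomogeneous).chooseDecomposition
  exact isEssentialInj (𝒜 := 𝒜) he

theorem gam_eq_top [IsNoetherianRing R] [p.toIdeal.IsPrime] (he : GrLC.IsStarEss (GrLC.quotGr 𝒜 p) 𝓔 e) :
    GrLC.gam p.toIdeal E = ⊤ := by
  refine eq_top_iff.2 fun x _ => ?_
  have hle : p.toIdeal ≤ (R ∙ x).annihilator.radical := fun s hs => by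
    obtain ⟨n, hn⟩ := InjHullLib.exists_pow_smul_eq_zero_of_mem p.toIdeal (isEssentialInj_quot he) hs x
    exact ⟨n, Submodule.mem_annihilator_span_singleton _ _ |>.2 hn⟩
  obtain ⟨n, hn⟩ := Ideal.exists_pow_le_of_le_radical_of_fg hle (IsNoetherian.noetherian _)
  exact ⟨n, fun r hr => (Submodule.mem_annihilator_span_singleton _ _).1 (hn hr)⟩

theorem smul_bijective [p.toIdeal.IsPrime] (he : GrLC.IsStarInjHull 𝒜 (GrLC.quotGr 𝒜 p) 𝓔 e)
    (g : ι) (r : R) (hr : r ∈ 𝒜 g) (hrp : r ∉ p.toIdeal) : Function.Bijective (fun x : E => r • x) := by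
  have hess := isEssentialInj_quot he.toIsStarEss
  have hinj : Function.Injective (r • LinearMap.id : E →ₗ[R] E) := by
    rw [← LinearMap.ker_eq_bot]
    by_contra hne
    obtain ⟨y, hy, hy0⟩ := Submodule.exists_mem_ne_zero_of_ne_bot (hess.essential _ hne)
    obtain ⟨z, rfl⟩ := hy.2
    obtain ⟨w, rfl⟩ := Submodule.mkQ_surjective _ z
    have h1 : e (r • Submodule.mkQ p.toIdeal w) = 0 := (map_smul e r _).trans hy.1
    have h2 : r * w ∈ p.toIdeal := by
      refine (Submodule.Quotient.mk_eq_zero (p.toIdeal : Submodule R R)).1 ?_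
      exact ((Submodule.mkQ p.toIdeal).map_smul r w).trans (he.injective (h1.trans (map_zero e).symm))
    rcases Ideal.IsPrime.mem_or_mem ‹p.toIdeal.IsPrime› h2 with h | h
    · exact hrp h
    · exact hy0 (by rw [show Submodule.mkQ p.toIdeal w = 0 from (Submodule.Quotient.mk_eq_zero _).2 h, map_zero])
  let E' := shiftG 𝒜 𝓔 (-g)
  let μ : E'.carrier →ₗ[R] E := (r • LinearMap.id : E →ₗ[R] E)
  obtain ⟨h, -, hh⟩ := extend_deg he.starInj E'.gr 𝓔 μ
    (fun j m hm => by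
      show r • m ∈ 𝓔 j
      have := smul_mem 𝒜 𝓔 hr (show m ∈ 𝓔 (j + -g) from hm)
      rwa [add_comm g, neg_add_cancel_right] at this)
    hinj (LinearMap.id : E →ₗ[R] E) (-g) (fun j m hm => hm)
  refine ⟨hinj, fun x => ⟨h x, ?_⟩⟩
  show r • h x = x
  rw [← map_smul]
  exact LinearMap.congr_fun hh x

end GrModLib
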