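import Groth.Agent.GrModLib.Inj

/-! Existence of *injective hulls and resolutions. -/

set_option autoImplicit false
universe u

open DirectSum

namespace GrModLib

variable {ι : Type} [AddCommGroup ι] [DecidableEq ι] {R : Type u} [CommRing R]
  {𝒜 : ι → AddSubgroup R} [GradedRing 𝒜]
  {M : Type u} [AddCommGroup M] [Module R M]

theorem exists_injective_embedding (R : Type u) [CommRing R] (M : Type u) [AddCommGroup M] [Module R M] :
    ∃ (J : Type u) (_ : AddCommGroup J) (_ : Module R J) (e : M →ₗ[R] J),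
      Module.Injective R J ∧ Function.Injective e :=
  let J := CategoryTheory.Injective.under (ModuleCat.of R M)
  haveI : CategoryTheory.Injective (ModuleCat.of R J) :=
    inferInstanceAs (CategoryTheory.Injective (CategoryTheory.Injective.under (ModuleCat.of R M)))
  ⟨J, inferInstance, inferInstance, (CategoryTheory.Injective.ι (ModuleCat.of R M)).hom,
    Module.injective_module_of_injective_object R J, (ModuleCat.mono_iff_injective _).1 inferInstance⟩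

variable (ℳ : ι → AddSubgroup M) [DirectSum.Decomposition ℳ] [SetLike.GradedSMul 𝒜 ℳ]

/-- Enough *injectives. -/
theorem exists_starInj_embedding : ∃ (J : GrLC.GMod.{u} 𝒜) (e : M →ₗ[R] J.carrier),
    GrLC.IsStarInj 𝒜 J.gr ∧ GrLC.IsGrHom ℳ J.gr e ∧ Function.Injective e := by
  obtain ⟨J, _, _, e, hJ, he⟩ := exists_injective_embedding R M
  exact ⟨cofreeG 𝒜 J, lift 𝒜 ℳ e, isStarInj_cofree 𝒜 J, lift_grHom 𝒜 ℳ e, lift_injective 𝒜 ℳ e he⟩

/-- *Injective hulls exist. -/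
theorem exists_hull : ∃ (E : GrLC.GMod.{u} 𝒜) (f : M →ₗ[R] E.carrier), GrLC.IsStarInjHull 𝒜 ℳ E.gr f := by
  obtain ⟨J, e, hJ, he, hei⟩ := exists_starInj_embedding (𝒜 := 𝒜) ℳ
  obtain ⟨E, f, -, hf, -⟩ := exists_hull_in hJ e he hei
  exact ⟨E, f, hf⟩

/-- One step of a resolution. -/
theorem exists_step (C : GrLC.GMod.{u} 𝒜) : ∃ (J : GrLC.GMod.{u} 𝒜) (e : C.carrier →ₗ[R] J.carrier)
    (C' : GrLC.GMod.{u} 𝒜) (p : J.carrier →ₗ[R] C'.carrier),
    GrLC.IsStarInj 𝒜 J.gr ∧ GrLC.IsGrHom C.gr J.gr e ∧ Function.Injective e ∧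
      GrLC.IsGrHom J.gr C'.gr p ∧ Function.Surjective p ∧ LinearMap.ker p = LinearMap.range e := by
  obtain ⟨J, e, hJ, he, hei⟩ := exists_starInj_embedding (𝒜 := 𝒜) C.gr
  exact ⟨J, e, quotG 𝒜 _ (range_isHomogeneous he), (LinearMap.range e).mkQ, hJ, he, hei,
    fun g m hm => ⟨m, hm, rfl⟩, Submodule.mkQ_surjective _, Submodule.ker_mkQ _⟩

/-- *Injective resolutions exist. -/
theorem nonempty_starInjRes : Nonempty (GrLC.StarInjRes 𝒜 ℳ) := by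
  choose J e C' p h1 h2 h3 h4 h5 h6 using exists_step (𝒜 := 𝒜) (ι := ι)
  let C : ℕ → GrLC.GMod.{u} 𝒜 := fun n => n.rec (GrLC.GMod.of 𝒜 M ℳ) fun _ c => C' c
  refine ⟨{
    X := fun n => J (C n)
    d := fun n => e (C (n + 1)) ∘ₗ p (C n)
    ε := e (C 0)
    d_grHom := fun n g m hm => h2 (C (n + 1)) g _ (h4 (C n) g m hm)
    ε_grHom := h2 (C 0)
    ε_injective := h3 (C 0)
    exact_zero := ?_
    exact_succ := ?_
    starInj := fun n => h1 (C n) }⟩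
  · rw [LinearMap.ker_comp, LinearMap.ker_eq_bot.2 (h3 _)]
    exact h6 (C 0)
  · intro n
    rw [LinearMap.ker_comp, LinearMap.ker_eq_bot.2 (h3 _),
      LinearMap.range_comp_of_range_eq_top _ (LinearMap.range_eq_top.2 (h5 _))]
    exact h6 (C (n + 1))

variable {ℳ}

theorem surjective_of_starEss (hM : GrLC.IsStarInj 𝒜 ℳ) {N : Type u} [AddCommGroup N] [Module R N]
    (𝒩 : ι → AddSubgroup N) [DirectSum.Decomposition 𝒩] [SetLike.GradedSMul 𝒜 𝒩] {f : M →ₗ[R] N}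
    (hf : GrLC.IsStarEss ℳ 𝒩 f) : Function.Surjective f := by
  obtain ⟨r, hr, hrf⟩ := extend hM ℳ 𝒩 f hf.grHom hf.injective LinearMap.id (fun g m hm => hm)
  have hri : LinearMap.ker r = ⊥ := by
    by_contra h
    obtain ⟨y, hy, hy0⟩ := Submodule.exists_mem_ne_zero_of_ne_bot
      (hf.essential _ (ker_isHomogeneous hr) h)
    obtain ⟨m, rfl⟩ := hy.2
    exact hy0 (by rw [show m = 0 from (LinearMap.congr_fun hrf m).symm.trans hy.1, map_zero])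
  exact fun y => ⟨r y, LinearMap.ker_eq_bot.1 hri (LinearMap.congr_fun hrf (r y))⟩

theorem starInj_of_equiv (hM : GrLC.IsStarInj 𝒜 ℳ) {N : Type u} [AddCommGroup N] [Module R N]
    {𝒩 : ι → AddSubgroup N} [DirectSum.Decomposition 𝒩] [SetLike.GradedSMul 𝒜 𝒩] (φ : M ≃ₗ[R] N)
    (hφ : GrLC.IsGrHom ℳ 𝒩 φ.toLinearMap) : GrLC.IsStarInj 𝒜 𝒩 := by
  intro A B f hf hfi g hg
  have hφs : ∀ (j : ι) (y : N), y ∈ 𝒩 j → φ.symm y ∈ ℳ j := by
    intro j y hy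
    obtain ⟨x, rfl⟩ := φ.surjective y
    rw [LinearEquiv.symm_apply_apply]
    have : φ.toLinearMap (pr ℳ j x) = φ.toLinearMap x := by rw [map_pr hφ]; exact pr_self 𝒩 hy
    exact φ.injective this ▸ pr_mem ℳ j x
  obtain ⟨h, hh, hhf⟩ := hM A B f hf hfi (φ.symm.toLinearMap ∘ₗ g) (fun j m hm => hφs j _ (hg j m hm))
  refine ⟨φ.toLinearMap ∘ₗ h, fun j m hm => hφ j _ (hh j m hm), ?_⟩
  rw [LinearMap.comp_assoc, hhf]
  ext a
  exact φ.apply_symm_apply (g a)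

theorem starInj_iff : GrLC.IsStarInj 𝒜 ℳ ↔
    ∀ (N : GrLC.GMod.{u} 𝒜) (f : M →ₗ[R] N.carrier), GrLC.IsStarEss ℳ N.gr f → Function.Surjective f := by
  refine ⟨fun h N f hf => surjective_of_starEss h N.gr hf, fun h => ?_⟩
  obtain ⟨E, f, hf⟩ := exists_hull (𝒜 := 𝒜) ℳ
  let φ := LinearEquiv.ofBijective f ⟨hf.injective, h E f hf.toIsStarEss⟩
  refine starInj_of_equiv hf.starInj φ.symm fun g y hy => ?_
  obtain ⟨x, rfl⟩ := φ.surjective y
  show φ.symm (φ x) ∈ ℳ g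
  rw [φ.symm_apply_apply]
  have : f (pr ℳ g x) = f x := by rw [map_pr hf.grHom]; exact pr_self E.gr hy
  exact hf.injective this ▸ pr_mem ℳ g x

/-- *Injective hulls are unique. -/
theorem hull_unique {E₁ E₂ : Type u} [AddCommGroup E₁] [Module R E₁] {𝓔₁ : ι → AddSubgroup E₁}
    [DirectSum.Decomposition 𝓔₁] [SetLike.GradedSMul 𝒜 𝓔₁] [AddCommGroup E₂] [Module R E₂]
    {𝓔₂ : ι → AddSubgroup E₂} [DirectSum.Decomposition 𝓔₂] [SetLike.GradedSMul 𝒜 𝓔₂]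
    {f₁ : M →ₗ[R] E₁} {f₂ : M →ₗ[R] E₂} (h₁ : GrLC.IsStarInjHull 𝒜 ℳ 𝓔₁ f₁)
    (h₂ : GrLC.IsStarInjHull 𝒜 ℳ 𝓔₂ f₂) :
    ∃ β : E₁ ≃ₗ[R] E₂, GrLC.IsGrHom 𝓔₁ 𝓔₂ β.toLinearMap ∧ β.toLinearMap ∘ₗ f₁ = f₂ := by
  have inj : ∀ {E : Type u} [AddCommGroup E] [Module R E] {𝓔 : ι → AddSubgroup E} [DirectSum.Decomposition 𝓔]
      {E' : Type u} [AddCommGroup E'] [Module R E'] {𝓔' : ι → AddSubgroup E'} [DirectSum.Decomposition 𝓔']
      {f : M →ₗ[R] E} {f' : M →ₗ[R] E'}, GrLC.IsStarEss ℳ 𝓔 f → Function.Injective f' →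
      ∀ h : E →ₗ[R] E', GrLC.IsGrHom 𝓔 𝓔' h → h ∘ₗ f = f' → Function.Injective h := by
    intro E _ _ 𝓔 _ E' _ _ 𝓔' _ f f' hf hf' h hh hhf
    rw [← LinearMap.ker_eq_bot]
    by_contra hne
    obtain ⟨y, hy, hy0⟩ := Submodule.exists_mem_ne_zero_of_ne_bot (hf.essential _ (ker_isHomogeneous hh) hne)
    obtain ⟨m, rfl⟩ := hy.2
    have : f' m = 0 := (LinearMap.congr_fun hhf m).symm.trans hy.1
    exact hy0 (by rw [show m = 0 from hf' (this.trans (map_zero f').symm), map_zero])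
  obtain ⟨h, hh, hhf⟩ := extend h₂.starInj ℳ 𝓔₁ f₁ h₁.grHom h₁.injective f₂ h₂.grHom
  have hi := inj h₁.toIsStarEss h₂.injective h hh hhf
  obtain ⟨h', hh', hh'h⟩ := extend h₁.starInj 𝓔₁ 𝓔₂ h hh hi LinearMap.id (fun g m hm => hm)
  have hh'f : h' ∘ₗ f₂ = f₁ := by rw [← hhf, ← LinearMap.comp_assoc, hh'h, LinearMap.id_comp]
  have hi' := inj h₂.toIsStarEss h₁.injective h' hh' hh'f
  exact ⟨LinearEquiv.ofBijective h ⟨hi, fun y => ⟨h' y, hi' (LinearMap.congr_fun hh'h (h' y))⟩⟩, hh, hhf⟩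

end GrModLib
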