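import Groth.Agent.GrModLib.Bass
import Groth.Agent.GrModLib.Res
import Groth.Agent.GrModLib.Prime

/-! The comparison `μ^{i+d}(p, M) = μ^i(p*, M)`. -/

set_option autoImplicit false
universe u

open DirectSum CategoryTheory

namespace GrModLib

variable {ι : Type} [AddCommGroup ι] [DecidableEq ι] [Module.Free ℤ ι] [Module.Finite ℤ ι] {R : Type u} [CommRing R]
  [IsNoetherianRing R] {𝒜 : ι → AddSubgroup R} [GradedRing 𝒜]

theorem tors_isHomogeneous {M : Type u} [AddCommGroup M] [Module R M] (ℳ : ι → AddSubgroup M)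
    [DirectSum.Decomposition ℳ] [SetLike.GradedSMul 𝒜 ℳ] {q : Ideal R} (hq : q.IsHomogeneous 𝒜) :
    (tors q M).IsHomogeneous ℳ := by
  intro g x hx
  show pr ℳ g x ∈ _
  refine (mem_tors q).2 fun r hr => ?_
  obtain ⟨s, -, hs⟩ := exists_finset 𝒜 r
  rw [← hs, Finset.sum_smul]
  refine Finset.sum_eq_zero fun h _ => ?_
  rw [← pr_smul_add 𝒜 ℳ (pr_mem 𝒜 h r) g x, (mem_tors q).1 hx (pr 𝒜 h r) (hq h hr), map_zero]

/-- The localisation of `R ⧸ q`. -/
theorem nonempty_quot_equiv (S : Submonoid R) (q : Ideal R) :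
    Nonempty ((Localization S ⧸ q.map (algebraMap R (Localization S))) ≃ₗ[Localization S]
      LocalizedModule S (R ⧸ q)) := by
  let φ : Localization S →ₗ[Localization S] LocalizedModule S (R ⧸ q) :=
    LinearMap.toSpanSingleton _ _ (LocalizedModule.mk (Submodule.Quotient.mk 1) 1)
  have hφ : ∀ r s, φ (Localization.mk r s) = LocalizedModule.mk (Submodule.Quotient.mk r) s := fun r s => by
    rw [LinearMap.toSpanSingleton_apply, LocalizedModule.mk_smul_mk, mul_one, ← Submodule.Quotient.mk_smul,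
      smul_eq_mul, mul_one]
  have hsur : Function.Surjective φ := fun y => by
    induction y using LocalizedModule.induction_on with
    | h m s =>
      obtain ⟨r, rfl⟩ := Submodule.Quotient.mk_surjective q m
      exact ⟨_, hφ r s⟩
  have hker : LinearMap.ker φ = q.map (algebraMap R (Localization S)) := by
    ext a
    induction a using Localization.induction_on with
    | H p =>
      obtain ⟨r, s⟩ := p
      rw [LinearMap.mem_ker, hφ, ← LocalizedModule.zero_mk s, LocalizedModule.mk_eq,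
        Localization.mk_eq_mk', IsLocalization.mk'_mem_map_algebraMap_iff]
      constructor
      · rintro ⟨u, hu⟩
        refine ⟨u * s, mul_mem u.2 s.2, ?_⟩
        rw [smul_zero, smul_zero, Submonoid.smul_def, Submonoid.smul_def, ← mul_smul, ← Submodule.Quotient.mk_smul,
          Submodule.Quotient.mk_eq_zero, smul_eq_mul] at hu
        exact hu
      · rintro ⟨t, ht, htr⟩
        refine ⟨⟨t, ht⟩, ?_⟩
        rw [smul_zero, smul_zero, Submonoid.smul_def, Submonoid.smul_def, smul_comm, ← Submodule.Quotient.mk_smul,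
          show ((⟨t, ht⟩ : S) : R) • r = t * r from rfl, (Submodule.Quotient.mk_eq_zero q).2 htr, smul_zero]
  exact ⟨(Submodule.quotEquivOfEq _ _ hker.symm).trans (φ.quotKerEquivOfSurjective hsur)⟩

/-- The quotient `R_p ⧸ q R_p` is regular of dimension `ht (p/q)`. -/
theorem regular_quot (p q : Ideal R) [p.IsPrime] [q.IsPrime] (hqh : q.IsHomogeneous 𝒜) (hqp : q ≤ p)
    (hhom : ∀ g, ∀ a ∈ 𝒜 g, a ∉ q → a ∉ p) :
    IsRegularLocalRing (Localization.AtPrime p ⧸ q.map (algebraMap R (Localization.AtPrime p))) ∧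
      ringKrullDim (Localization.AtPrime p ⧸ q.map (algebraMap R (Localization.AtPrime p))) =
        ((p.map (Ideal.Quotient.mk q)).height : WithBot ℕ∞) ∧
      (p.map (Ideal.Quotient.mk q)).height ≤ (Module.finrank ℤ ι : ℕ) := by
  let A := Localization.AtPrime p
  let J := q.map (algebraMap R A)
  let φ : R →+* A ⧸ J := (Ideal.Quotient.mk J).comp (algebraMap R A)
  have hcomap : J.comap (algebraMap R A) = q :=
    IsLocalization.comap_map_of_isPrime_disjoint p.primeCompl A ‹q.IsPrime›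
      (Set.disjoint_left.2 fun r hr hrq => hr (hqp hrq))
  have hJne : J ≠ ⊤ := fun h => Ideal.IsPrime.ne_top ‹q.IsPrime› (by rw [← hcomap, h, Ideal.comap_top])
  haveI : Nontrivial (A ⧸ J) := Ideal.Quotient.nontrivial_iff.2 hJne
  haveI : IsLocalRing (A ⧸ J) := IsLocalRing.of_surjective' (Ideal.Quotient.mk J) Ideal.Quotient.mk_surjective
  have hker : ∀ r, φ r = 0 ↔ r ∈ q := fun r => by
    rw [RingHom.comp_apply, Ideal.Quotient.eq_zero_iff_mem, ← Ideal.mem_comap, hcomap]
  have hunit : ∀ r, r ∉ p → IsUnit (φ r) := fun r hr =>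
    (IsLocalization.map_units A (⟨r, hr⟩ : p.primeCompl)).map (Ideal.Quotient.mk J)
  have hsur : ∀ y : A ⧸ J, ∃ r s : R, s ∉ p ∧ y * φ s = φ r := by
    intro y
    obtain ⟨a, rfl⟩ := Ideal.Quotient.mk_surjective y
    obtain ⟨⟨r, s⟩, hrs⟩ := IsLocalization.surj p.primeCompl a
    refine ⟨r, s, s.2, ?_⟩
    rw [RingHom.comp_apply, RingHom.comp_apply, ← map_mul, hrs]
  obtain ⟨hreg, hbd⟩ := regular_and_dim_le_of_frac 𝒜 q φ hqh hker
    (fun g a ha haq => hunit a (hhom g a ha haq))
    (fun y => by obtain ⟨r, s, hs, h⟩ := hsur y; exact ⟨r, s, hunit s hs, h⟩)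
  refine ⟨hreg, ?_⟩
  suffices h : ringKrullDim (A ⧸ J) = ((p.map (Ideal.Quotient.mk q)).height : WithBot ℕ∞) by
    exact ⟨h, WithBot.coe_le_coe.1 (h ▸ hbd)⟩
  let ψ : R ⧸ q →+* A ⧸ J := Ideal.Quotient.lift q φ fun r hr => (hker r).2 hr
  let _ : Algebra (R ⧸ q) (A ⧸ J) := ψ.toAlgebra
  have hP : (p.map (Ideal.Quotient.mk q)).IsPrime :=
    Ideal.map_isPrime_of_surjective Ideal.Quotient.mk_surjective (by rwa [Ideal.mk_ker])
  have hmem : ∀ r, Ideal.Quotient.mk q r ∈ p.map (Ideal.Quotient.mk q) ↔ r ∈ p := fun r => by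
    rw [← Ideal.mem_comap, Ideal.comap_map_of_surjective _ Ideal.Quotient.mk_surjective, ← RingHom.ker_eq_comap_bot,
      Ideal.mk_ker, sup_eq_left.2 hqp]
  have : IsLocalization.AtPrime (A ⧸ J) (p.map (Ideal.Quotient.mk q)) := by
    refine (isLocalization_iff _ _).2 ⟨fun x => ?_, fun y => ?_, fun {x y} h => ⟨1, ?_⟩⟩
    · obtain ⟨r, hr⟩ := Ideal.Quotient.mk_surjective (x : R ⧸ q)
      show IsUnit (ψ x)
      rw [← hr]
      exact hunit r fun h => x.2 (hr ▸ (hmem r).2 h)
    · obtain ⟨r, s, hs, h⟩ := hsur y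
      exact ⟨⟨Ideal.Quotient.mk q r, ⟨Ideal.Quotient.mk q s, fun h => hs ((hmem s).1 h)⟩⟩, h⟩
    · obtain ⟨a, rfl⟩ := Ideal.Quotient.mk_surjective x
      obtain ⟨b, rfl⟩ := Ideal.Quotient.mk_surjective y
      have h' : φ (a - b) = 0 := by rw [map_sub, sub_eq_zero]; exact h
      rw [(Ideal.Quotient.eq).2 ((hker _).1 h')]
  exact IsLocalization.AtPrime.ringKrullDim_eq_height (p.map (Ideal.Quotient.mk q)) (A ⧸ J)

theorem height_map_self (q : Ideal R) [q.IsPrime] : (q.map (Ideal.Quotient.mk q)).height = 0 := by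
  rw [Ideal.map_quotient_self]
  exact Ideal.height_bot

/-- Homogeneous elements outside the core are outside the prime. -/
theorem notMem_of_notMem_core {p : Ideal R} (g : ι) (a : R) (ha : a ∈ 𝒜 g)
    (h : a ∉ (Ideal.homogeneousCore 𝒜 p).toIdeal) : a ∉ p :=
  fun hap => h (Ideal.mem_homogeneousCore_of_homogeneous_of_mem ⟨g, ha⟩ hap)

/-- The main comparison of Bass numbers. -/
theorem bassNum_eq {M : Type u} [AddCommGroup M] [Module R M] (ℳ : ι → AddSubgroup M)
    [DirectSum.Decomposition ℳ] [SetLike.GradedSMul 𝒜 ℳ] (p q : Ideal R) [p.IsPrime] [hq : q.IsPrime]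
    (hqh : q.IsHomogeneous 𝒜) (hqp : q ≤ p) (hhom : ∀ g, ∀ a ∈ 𝒜 g, a ∉ q → a ∉ p)
    (d : ℕ) (hd : (p.map (Ideal.Quotient.mk q)).height = d) :
    (∀ i < d, GrLC.bassNum p M i = 0) ∧ ∀ i, GrLC.bassNum p M (i + d) = GrLC.bassNum q M i := by
  obtain ⟨E⟩ := nonempty_starInjRes (𝒜 := 𝒜) ℳ
  let X : ℕ → Type u := fun n => (E.X n).carrier
  have hZ : ∀ i, (torsZ q X E.d i).IsHomogeneous (E.X i).gr := fun i =>
    inf_isHomogeneous _ (tors_isHomogeneous _ hqh) (ker_isHomogeneous (E.d_grHom i))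
  have hB : ∀ i, (torsB q X E.d i).IsHomogeneous (E.X i).gr := by
    intro i
    cases i with
    | zero => exact bot_isHomogeneous _
    | succ i => exact map_isHomogeneous (E.d_grHom i) (tors_isHomogeneous _ hqh)
  have hfam : ∀ i, ∃ (κ : Type u) (z : κ → torsZ q X E.d i),
      (∀ c : κ →₀ R, Finsupp.linearCombination R (fun k => (z k : X i)) c ∈ torsB q X E.d i → ∀ k, c k ∈ q) ∧
      ∀ y : torsZ q X E.d i, ∃ s ∈ homCompl 𝒜 q, ∃ c : κ →₀ R,
        s • (y : X i) - Finsupp.linearCombination R (fun k => (z k : X i)) c ∈ torsB q X E.d i := by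
    intro i
    letI := (subGr_isInternal (torsZ q X E.d i) (hZ i)).chooseDecomposition
    haveI : SetLike.GradedSMul 𝒜 (subGr (torsZ q X E.d i) (E.X i).gr) :=
      ⟨fun {h g r m} hr hm => smul_mem 𝒜 (E.X i).gr hr hm⟩
    have hBh : ((torsB q X E.d i).comap (torsZ q X E.d i).subtype).IsHomogeneous (subGr (torsZ q X E.d i) (E.X i).gr) :=
      comap_isHomogeneous (f := (torsZ q X E.d i).subtype) (ℳ := subGr (torsZ q X E.d i) (E.X i).gr)
        (𝒩 := (E.X i).gr) (fun g m hm => hm) (hB i)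
    let H := quotG 𝒜 (ℳ := subGr (torsZ q X E.d i) (E.X i).gr) _ hBh
    obtain ⟨κ, v, hv, hgen⟩ := exists_indep (M := H.carrier) H.gr q hqh (fun r hr w => by
      obtain ⟨w, rfl⟩ := Submodule.mkQ_surjective _ w
      exact (map_smul (Submodule.mkQ _) r w).symm.trans (by
        rw [show r • w = 0 from Subtype.ext ((mem_tors q).1 w.2.1 r hr)]; exact map_zero _))
    choose z hz using fun k => Submodule.mkQ_surjective _ (v k)
    have hcomb : ∀ c : κ →₀ R, Finsupp.linearCombination R v c =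
        Submodule.mkQ _ (Finsupp.linearCombination R z c) := fun c => by
      rw [Finsupp.apply_linearCombination]
      congr 1
      exact congrArg _ (funext fun k => (hz k).symm)
    have hcomb' : ∀ c : κ →₀ R, ((Finsupp.linearCombination R z c : torsZ q X E.d i) : X i) =
        Finsupp.linearCombination R (fun k => (z k : X i)) c := fun c =>
      Finsupp.apply_linearCombination R (torsZ q X E.d i).subtype z c
    refine ⟨κ, z, fun c hc => hv c ?_, fun y => ?_⟩
    · rw [hcomb]
      refine (Submodule.Quotient.mk_eq_zero _).2 ?_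
      show ((Finsupp.linearCombination R z c : torsZ q X E.d i) : X i) ∈ torsB q X E.d i
      rw [hcomb']; exact hc
    · obtain ⟨s, hs, hsy⟩ := hgen (Submodule.mkQ _ y)
      obtain ⟨c, hc⟩ := (Finsupp.mem_span_range_iff_exists_finsupp).1 hsy
      refine ⟨s, hs, c, ?_⟩
      have hc' : Finsupp.linearCombination R v c = s • Submodule.mkQ _ y := hc
      rw [hcomb] at hc'
      have h1 := (Submodule.Quotient.eq _).1 hc'.symm
      rw [← hcomb']
      exact h1
  choose κ z hind hgen using hfam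
  have key : ∀ (P : Ideal R) [P.IsPrime], q ≤ P → (∀ g, ∀ a ∈ 𝒜 g, a ∉ q → a ∉ P) → ∀ (e : ℕ),
      (P.map (Ideal.Quotient.mk q)).height = e →
      (∀ i < e, GrLC.bassNum P M i = 0) ∧ ∀ i, GrLC.bassNum P M (i + e) = ENat.card (κ i) := by
    intro P _ hqP hP e he
    let S := P.primeCompl
    let A := Localization.AtPrime P
    let J := q.map (algebraMap R A)
    obtain ⟨hreg, hdim, -⟩ := regular_quot P q hqh hqP hP
    haveI : IsRegularLocalRing (A ⧸ J) := hreg
    have hspan : (IsLocalRing.maximalIdeal (A ⧸ J)).spanFinrank = e := by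
      have := IsRegularLocalRing.spanFinrank_maximalIdeal (R := A ⧸ J)
      rw [hdim, he] at this
      exact_mod_cast this
    obtain ⟨eq'⟩ := nonempty_quot_equiv S q
    refine length_ext_of_free (ModuleCat.of A (LocalizedModule S M)) e J κ hspan fun j => ?_
    obtain ⟨e1⟩ := nonempty_equiv_ext J j (LocalizedModule S M) (fun n => LocalizedModule S (X n)) (locD S E.d)
      (LocalizedModule.map S E.ε) (LocalizedModule.map_injective S _ E.ε_injective)
      (LinearMap.exact_iff.1 (LocalizedModule.map_exact S _ _ (LinearMap.exact_iff.2 E.exact_zero)))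
      (fun n => LinearMap.exact_iff.1 (LocalizedModule.map_exact S _ _ (LinearMap.exact_iff.2 (E.exact_succ n))))
      (fun n k => by
        let Q := quotG 𝒜 (ℳ := 𝒜) q hqh
        haveI : Module.Finite R Q.carrier := inferInstanceAs (Module.Finite R (R ⧸ q))
        haveI h' : Subsingleton (Abelian.Ext.{u} (ModuleCat.of A (LocalizedModule S (R ⧸ q)))
          (ModuleCat.of A (LocalizedModule S (X n))) (k + 1)) :=
          subsingleton_ext_localized (E.starInj n) S k Q.carrier Q.gr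
        exact (extCongrLeft eq' (ModuleCat.of A (LocalizedModule S (X n))) (k + 1)).symm.injective.subsingleton)
    obtain ⟨e2⟩ := nonempty_finsupp_equiv S q E.d j (κ j) (z j)
      (fun r hr hrS => hrS (hqP hr)) hq (hind j)
      (fun y => by
        obtain ⟨s, hs, c, hc⟩ := hgen j y
        exact ⟨s, homCompl_le hP hs, c, hc⟩)
    exact ⟨e1.symm.trans e2⟩
  obtain ⟨h1, h2⟩ := key p hqp hhom d hd
  obtain ⟨-, h3⟩ := key q le_rfl (fun g a _ h => h) 0 (height_map_self q)
  exact ⟨h1, fun i => (h2 i).trans (h3 i).symm⟩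

end GrModLib
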