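import Groth.Agent.LocCohLib.CohDim
import Groth.Prelude.Def_GrLC

/-! Local cohomology from a resolution by acyclic modules. -/

set_option autoImplicit false
universe u

open CategoryTheory

namespace GrModLib

variable {R : Type u} [CommRing R] (a : Ideal R)

/-- Cocycles of `Γ_a` of a complex. -/
def acCocyc (X : ℕ → Type u) [∀ n, AddCommGroup (X n)] [∀ n, Module R (X n)]
    (d : ∀ n, X n →ₗ[R] X (n + 1)) (i : ℕ) : Submodule R (X i) :=
  GrLC.gam a (X i) ⊓ LinearMap.ker (d i)

/-- Coboundaries of `Γ_a` of a complex. -/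
def acCobdy (X : ℕ → Type u) [∀ n, AddCommGroup (X n)] [∀ n, Module R (X n)]
    (d : ∀ n, X n →ₗ[R] X (n + 1)) : (i : ℕ) → Submodule R (X i)
  | 0 => ⊥
  | n + 1 => (GrLC.gam a (X n)).map (d n)

/-- Acyclic resolutions compute local cohomology. -/
theorem nonempty_equiv_H [IsNoetherianRing R] :
    ∀ (i : ℕ) (M : Type u) [AddCommGroup M] [Module R M] (X : ℕ → Type u) [∀ n, AddCommGroup (X n)]
      [∀ n, Module R (X n)] (d : ∀ n, X n →ₗ[R] X (n + 1)) (ε : M →ₗ[R] X 0),
      Function.Injective ε → LinearMap.ker (d 0) = LinearMap.range ε →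
      (∀ n, LinearMap.ker (d (n + 1)) = LinearMap.range (d n)) →
      (∀ n j, Subsingleton (LocCoh.H a (j + 1) (X n))) →
      Nonempty ((↥(acCocyc a X d i) ⧸ (acCobdy a X d i).comap (acCocyc a X d i).subtype) ≃ₗ[R]
        LocCoh.H a i M) := by
  intro i
  induction i with
  | zero =>
    intro M _ _ X _ _ d ε hε h0 _ _
    let Γ := GrLC.gam a M
    let φ : Γ →ₗ[R] acCocyc a X d 0 := (ε ∘ₗ Γ.subtype).codRestrict _ fun m => by
      refine ⟨?_, h0.ge ⟨m, rfl⟩⟩
      obtain ⟨n, hn⟩ := m.2
      exact ⟨n, fun r hr => by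
        rw [LinearMap.comp_apply, ← map_smul]
        exact (congrArg ε (hn r hr)).trans (map_zero ε)⟩
    have hφ : Function.Bijective φ := by
      refine ⟨fun x y h => Subtype.ext (hε (congrArg Subtype.val h)), fun z => ?_⟩
      obtain ⟨m, hm⟩ := h0.le z.2.2
      obtain ⟨n, hn⟩ := z.2.1
      exact ⟨⟨m, n, fun r hr => hε (by rw [map_smul, hm, hn r hr, map_zero])⟩, Subtype.ext hm⟩
    exact ⟨(Submodule.quotEquivOfEqBot _ (by
      show Submodule.comap _ ⊥ = ⊥
      rw [Submodule.comap_bot, Submodule.ker_subtype])).trans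
      ((LinearEquiv.ofBijective φ hφ).symm.trans (LocCohLib.H0Equiv a M).symm)⟩
  | succ i ih =>
    intro M _ _ X _ _ d ε hε h0 h1 hacy
    let C := LinearMap.ker (d 1)
    let p : X 0 →ₗ[R] C := (d 0).codRestrict C fun x => (h1 0).ge ⟨x, rfl⟩
    have hp : Function.Surjective p := fun c => by
      obtain ⟨x, hx⟩ := (h1 0).le c.2
      exact ⟨x, Subtype.ext hx⟩
    have hex : Function.Exact ε p := fun x => by
      show p x = 0 ↔ x ∈ LinearMap.range ε
      rw [← h0, LinearMap.mem_ker]
      exact ⟨fun h => congrArg Subtype.val h, fun h => Subtype.ext h⟩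
    have hS : (ShortComplex.moduleCatMk ε p hex.linearMap_comp_eq_zero).ShortExact :=
      { exact := (ShortComplex.ShortExact.moduleCat_exact_iff_function_exact _).2 hex
        mono_f := (ModuleCat.mono_iff_injective _).2 hε
        epi_g := (ModuleCat.epi_iff_surjective _).2 hp }
    let δ : LocCoh.H a i C →ₗ[R] LocCoh.H a (i + 1) M := ((LocCohLib.lcDelta a).δ hS i).hom
    have hepi : Function.Surjective δ :=
      (ModuleCat.epi_iff_surjective _).1 ((LocCohLib.lcDelta a).epi_δ hS i
        (@ModuleCat.isZero_of_subsingleton _ _ _ (hacy 0 i)))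
    cases i with
    | zero =>
      have htor : ∀ z : acCocyc a X d 1, (⟨z.1, z.2.2⟩ : C) ∈ DRing.torsionSub a C := fun z => by
        obtain ⟨n, hn⟩ := z.2.1
        exact ⟨n, fun r hr => Subtype.ext (hn r hr)⟩
      let ψ : acCocyc a X d 1 →ₗ[R] DRing.torsionSub a C :=
        { toFun := fun z => ⟨⟨z.1, z.2.2⟩, htor z⟩
          map_add' := fun x y => rfl
          map_smul' := fun r x => rfl }
      have hψ : Function.Surjective ψ := fun w => by
        obtain ⟨n, hn⟩ := w.2
        exact ⟨⟨w.1.1, ⟨n, fun r hr => congrArg Subtype.val (hn r hr)⟩, w.1.2⟩, rfl⟩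
      let θ : acCocyc a X d 1 →ₗ[R] LocCoh.H a 1 M :=
        δ ∘ₗ (LocCohLib.H0Equiv a C).symm.toLinearMap ∘ₗ ψ
      have hθ : Function.Surjective θ := hepi.comp ((LocCohLib.H0Equiv a C).symm.surjective.comp hψ)
      have hnat : ∀ y : LocCoh.H a 0 (X 0),
          ((LocCohLib.H0Equiv a C) (((localCohomology a 0).map (ModuleCat.ofHom p)).hom y) : C) =
            p (LocCohLib.H0Equiv a (X 0) y : X 0) := fun y => by
        have h := (LocCohLib.lcZeroIso a).hom.naturality (ModuleCat.ofHom p)
        exact congrArg Subtype.val (congrArg (fun φ : _ ⟶ (DRing.gammaI a).obj (ModuleCat.of R C) => φ.hom y) h)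
      have hker : LinearMap.ker θ = (acCobdy a X d 1).comap (acCocyc a X d 1).subtype := by
        ext z
        constructor
        · intro hz
          obtain ⟨y, hy⟩ := (ShortComplex.moduleCat_exact_iff _).1 ((LocCohLib.lcDelta a).exact₃ hS 0) _ hz
          let x := LocCohLib.H0Equiv a (X 0) y
          refine ⟨x.1, x.2, ?_⟩
          have h2 := hnat y
          have hy' : ((localCohomology a 0).map (ModuleCat.ofHom p)).hom y =
              (LocCohLib.H0Equiv a C).symm (ψ z) := hy
          rw [hy', LinearEquiv.apply_symm_apply] at h2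
          exact (congrArg Subtype.val h2).symm
        · rintro ⟨x, hx, hxz⟩
          let y := (LocCohLib.H0Equiv a (X 0)).symm ⟨x, hx⟩
          have h2 := hnat y
          rw [LinearEquiv.apply_symm_apply] at h2
          have h3 : (LocCohLib.H0Equiv a C).symm (ψ z) = ((localCohomology a 0).map (ModuleCat.ofHom p)).hom y := by
            rw [LinearEquiv.symm_apply_eq]
            exact (Subtype.ext (h2.trans (Subtype.ext hxz : p x = (⟨z.1, z.2.2⟩ : C)))).symm
          show δ ((LocCohLib.H0Equiv a C).symm (ψ z)) = 0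
          rw [h3]
          exact congrArg (fun φ : ModuleCat.of R (LocCoh.H a 0 (X 0)) ⟶ ModuleCat.of R (LocCoh.H a 1 M) => φ.hom y)
            ((LocCohLib.lcDelta a).map_comp_δ hS 0)
      exact ⟨(Submodule.quotEquivOfEq _ _ hker.symm).trans (θ.quotKerEquivOfSurjective hθ)⟩
    | succ i =>
      obtain ⟨e⟩ := ih C (fun n => X (n + 1)) (fun n => d (n + 1)) C.subtype C.injective_subtype
        (Submodule.range_subtype C).symm (fun n => h1 (n + 1)) (fun n j => hacy (n + 1) j)
      haveI := (LocCohLib.lcDelta a).isIso_δ hS (i + 1)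
        (@ModuleCat.isZero_of_subsingleton _ _ _ (hacy 0 i))
        (@ModuleCat.isZero_of_subsingleton _ _ _ (hacy 0 (i + 1)))
      exact ⟨e.trans (asIso ((LocCohLib.lcDelta a).δ hS (i + 1))).toLinearEquiv⟩

end GrModLib
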