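import Groth.Agent.GrModLib.Res
import Groth.Agent.LocCohLib.CohDim

/-! `Ext` and local cohomology of *injective modules vanish. -/

set_option autoImplicit false
universe u

open DirectSum CategoryTheory Limits Opposite

namespace GrModLib

variable {ι : Type} [AddCommGroup ι] [DecidableEq ι] {R : Type u} [CommRing R]
  {𝒜 : ι → AddSubgroup R} [GradedRing 𝒜]
  {I : Type u} [AddCommGroup I] [Module R I] {ℐ : ι → AddSubgroup I} [DirectSum.Decomposition ℐ]
  [SetLike.GradedSMul 𝒜 ℐ]

/-- *Injective modules extend all linear maps from finitely generated graded modules. -/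
theorem extend_linear (hI : GrLC.IsStarInj 𝒜 ℐ) {A B : Type u} [AddCommGroup A] [Module R A] [AddCommGroup B]
    [Module R B] [Module.Finite R A] (𝒶 : ι → AddSubgroup A) [DirectSum.Decomposition 𝒶]
    [SetLike.GradedSMul 𝒜 𝒶] (𝒷 : ι → AddSubgroup B) [DirectSum.Decomposition 𝒷] [SetLike.GradedSMul 𝒜 𝒷]
    (f : A →ₗ[R] B) (hf : GrLC.IsGrHom 𝒶 𝒷 f) (hfi : Function.Injective f) (φ : A →ₗ[R] I) :
    ∃ h : B →ₗ[R] I, h ∘ₗ f = φ := by
  classical
  obtain ⟨k, e, a, ha, hspan⟩ := exists_homogeneous_generators 𝒜 𝒶 (top_isHomogeneous 𝒶)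
    (Module.Finite.fg_top (R := R) (M := A))
  let cm : ∀ d : ι, A →+ I := fun d =>
    (DirectSum.toAddMonoid fun g => ((pr ℐ (g + d)).comp φ.toAddMonoidHom).comp (𝒶 g).subtype).comp
      (decomposeAddEquiv 𝒶).toAddMonoidHom
  have hcm : ∀ d g m, m ∈ 𝒶 g → cm d m = pr ℐ (g + d) (φ m) := by
    intro d g m hm
    show DirectSum.toAddMonoid _ (decompose 𝒶 m) = _
    rw [decompose_of_mem 𝒶 hm, DirectSum.toAddMonoid_of]
    rfl
  let cl : ∀ d : ι, A →ₗ[R] I := fun d => linearOf 𝒜 𝒶 (cm d) fun h r hr g m hm => by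
    rw [hcm d _ _ (smul_mem 𝒜 𝒶 hr hm), hcm d _ _ hm, map_smul, add_assoc, pr_smul_add 𝒜 ℐ hr]
  have hcl : ∀ d, GrLC.IsGrHomDeg 𝒶 ℐ (cl d) d := fun d g m hm => by
    rw [linearOf_apply, hcm d g m hm]; exact pr_mem ℐ _ _
  choose h _ hh using fun d => extend_deg hI 𝒶 𝒷 f hf hfi (cl d) d (hcl d)
  choose s hs0 hs using exists_finset ℐ
  let D : Finset ι := Finset.univ.biUnion fun j : Fin k => (s (φ (a j))).image (· - e j)
  refine ⟨∑ d ∈ D, h d, LinearMap.ext_on hspan ?_⟩
  rintro _ ⟨j, rfl⟩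
  have hsub : (s (φ (a j))).image (· - e j) ⊆ D :=
    fun x hx => Finset.mem_biUnion.2 ⟨j, Finset.mem_univ j, hx⟩
  rw [LinearMap.comp_apply, LinearMap.sum_apply]
  calc ∑ d ∈ D, h d (f (a j)) = ∑ d ∈ D, pr ℐ (e j + d) (φ (a j)) :=
        Finset.sum_congr rfl fun d _ => by
          rw [show h d (f (a j)) = cl d (a j) from LinearMap.congr_fun (hh d) (a j), linearOf_apply,
            hcm d _ _ (ha j)]
    _ = ∑ d ∈ (s (φ (a j))).image (· - e j), pr ℐ (e j + d) (φ (a j)) := by
        refine (Finset.sum_subset hsub fun d _ hd => hs0 _ _ fun hm => hd ?_).symm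
        exact Finset.mem_image.2 ⟨_, hm, add_sub_cancel_left _ _⟩
    _ = φ (a j) := by
        rw [Finset.sum_image fun x _ y _ hxy => sub_left_injective hxy]
        simp only [add_sub_cancel]
        exact hs _

/-- A finite free graded module. -/
def freeGr {k : ℕ} (𝒜 : ι → AddSubgroup R) (d : Fin k → ι) : ι → AddSubgroup (Fin k → R) :=
  fun g => AddSubgroup.pi Set.univ fun j => 𝒜 (g - d j)

theorem freeGr_isInternal {k : ℕ} (d : Fin k → ι) : DirectSum.IsInternal (freeGr 𝒜 d) := by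
  classical
  refine isInternal_of_pr _ (fun g =>
    { toFun := fun v j => pr 𝒜 (g - d j) (v j), map_zero' := funext fun j => map_zero _,
      map_add' := fun u v => funext fun j => map_add (pr 𝒜 (g - d j)) (u j) (v j) })
    (fun g v hv => funext fun j => pr_self 𝒜 (hv j (Set.mem_univ j)))
    (fun g i v hv h => funext fun j => pr_ne 𝒜 (hv j (Set.mem_univ j)) fun e => h (sub_left_injective e)) fun v => ?_
  rw [← Finset.univ_sum_single v]
  refine sum_mem fun j _ => ?_
  obtain ⟨s, -, hs⟩ := exists_finset 𝒜 (v j)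
  rw [← hs, ← AddMonoidHom.single_apply, map_sum]
  refine sum_mem fun g _ => le_iSup (freeGr 𝒜 d) (g + d j) fun i _ => ?_
  by_cases hi : i = j
  · subst hi
    show AddMonoidHom.single (fun _ => R) i (pr 𝒜 g (v i)) i ∈ 𝒜 (g + d i - d i)
    rw [AddMonoidHom.single_apply, Pi.single_eq_same, add_sub_cancel_right]
    exact pr_mem 𝒜 g _
  · show AddMonoidHom.single (fun _ => R) j (pr 𝒜 g (v j)) i ∈ 𝒜 (g + d j - d i)
    rw [AddMonoidHom.single_apply, Pi.single_eq_of_ne hi]
    exact zero_mem _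

theorem freeGr_gradedSMul {k : ℕ} (d : Fin k → ι) : SetLike.GradedSMul 𝒜 (freeGr 𝒜 d) :=
  ⟨fun {h g r v} hr hv j _ => by
    show r * v j ∈ 𝒜 (h + g - d j)
    rw [add_sub_assoc]
    exact SetLike.mul_mem_graded hr (hv j (Set.mem_univ j))⟩

theorem subsingleton_ext [IsNoetherianRing R] (hI : GrLC.IsStarInj 𝒜 ℐ) :
    ∀ (i : ℕ) (M : Type u) [AddCommGroup M] [Module R M] [Module.Finite R M] (ℳ : ι → AddSubgroup M)
      [DirectSum.Decomposition ℳ] [SetLike.GradedSMul 𝒜 ℳ],
      Subsingleton (Abelian.Ext.{u} (ModuleCat.of R M) (ModuleCat.of R I) (i + 1)) := by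
  intro i
  induction i with
  | zero | succ i ih =>
    intro M _ _ _ ℳ _ _
    classical
    obtain ⟨k, d, m, hm, hspan⟩ := exists_homogeneous_generators 𝒜 ℳ (top_isHomogeneous ℳ)
      (Module.Finite.fg_top (R := R) (M := M))
    letI := (freeGr_isInternal (𝒜 := 𝒜) d).chooseDecomposition
    haveI := freeGr_gradedSMul (𝒜 := 𝒜) d
    let π : (Fin k → R) →ₗ[R] M := Fintype.linearCombination R m
    have hπ : GrLC.IsGrHom (freeGr 𝒜 d) ℳ π := fun g v hv => by
      rw [Fintype.linearCombination_apply]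
      refine sum_mem fun j _ => ?_
      have := smul_mem 𝒜 ℳ (hv j (Set.mem_univ j)) (hm j)
      rwa [sub_add_cancel] at this
    have hsur : Function.Surjective π := by
      rw [← LinearMap.range_eq_top, Fintype.range_linearCombination, hspan]
    letI := (subGr_isInternal (LinearMap.ker π) (ker_isHomogeneous hπ)).chooseDecomposition
    haveI : SetLike.GradedSMul 𝒜 (subGr (LinearMap.ker π) (freeGr 𝒜 d)) :=
      ⟨fun {h g r m} hr hv => smul_mem 𝒜 (freeGr 𝒜 d) hr hv⟩
    have hS : (ShortComplex.moduleCatMk (LinearMap.ker π).subtype π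
        (LinearMap.exact_subtype_ker_map π).linearMap_comp_eq_zero).ShortExact :=
      { exact := (ShortComplex.ShortExact.moduleCat_exact_iff_function_exact _).2 (LinearMap.exact_subtype_ker_map π)
        mono_f := (ModuleCat.mono_iff_injective _).2 (Submodule.subtype_injective _)
        epi_g := (ModuleCat.epi_iff_surjective _).2 hsur }
    haveI : Projective (ModuleCat.of R (Fin k → R)) := inferInstance
    refine subsingleton_of_forall_eq 0 fun x => ?_
    obtain ⟨x₁, hx₁⟩ := Abelian.Ext.contravariant_sequence_exact₃ hS (ModuleCat.of R I) x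
      (Abelian.Ext.eq_zero_of_projective (P := ModuleCat.of R (Fin k → R)) _) (Nat.add_comm 1 _)
    rw [← hx₁]
    first
      | (haveI := ih (LinearMap.ker π) (subGr (LinearMap.ker π) (freeGr 𝒜 d))
         rw [Subsingleton.elim (α := Abelian.Ext (ModuleCat.of R (LinearMap.ker π)) (ModuleCat.of R I) (i + 1)) x₁ 0]
         exact Abelian.Ext.comp_zero ..)
      | (obtain ⟨φ, rfl⟩ := (Abelian.Ext.mk₀_bijective _ _).2 x₁
         obtain ⟨h, hh⟩ := extend_linear hI (A := LinearMap.ker π) (subGr (LinearMap.ker π) (freeGr 𝒜 d)) (freeGr 𝒜 d) (LinearMap.ker π).subtype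
           (fun g v hv => hv) (Submodule.subtype_injective _) φ.hom
         rw [show φ = ModuleCat.ofHom (LinearMap.ker π).subtype ≫ ModuleCat.ofHom h from
           ModuleCat.hom_ext hh.symm]
         erw [← Abelian.Ext.mk₀_comp_mk₀]
         exact hS.extClass_comp_assoc _)

/-- Vanishing of `Ext` from the system kills local cohomology. -/
theorem subsingleton_H_of_ext (a : Ideal R) (M : Type u) [AddCommGroup M] [Module R M] (i : ℕ)
    (h : ∀ n : ℕ, Subsingleton (Abelian.Ext.{u} (ModuleCat.of R (R ⧸ a ^ n)) (ModuleCat.of R M) (i + 1))) :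
    Subsingleton (LocCoh.H a (i + 1) M) := by
  let S := LocCohLib.lcSystem a
  refine ModuleCat.isZero_iff_subsingleton.1 ?_
  refine IsZero.of_iso ?_ ((LocCohLib.lcIso a (i + 1)).app (ModuleCat.of R M))
  refine Functor.map_isZero colim ?_
  refine (HomologicalComplex.exactAt_iff_isZero_homology _ _).1 ?_
  rw [HomologicalComplex.exactAt_iff' _ i (i + 1) (i + 2) (by simp) (by simp)]
  refine LocCohLib.exact_of_eval fun d => (ShortComplex.moduleCat_exact_iff _).2
    fun (x : (S.res d.unop).complex.X (i + 1) ⟶ ModuleCat.of R M) hx => ?_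
  haveI := h d.unop.unop
  exact ((S.res d.unop).extMk_eq_zero_iff x (i + 2) rfl hx i rfl).1
    (Subsingleton.elim (α := Abelian.Ext.{u} (ModuleCat.of R (R ⧸ a ^ d.unop.unop)) (ModuleCat.of R M) (i + 1)) _ _)

omit [DirectSum.Decomposition ℐ] in
theorem pow_isHomogeneous (a : HomogeneousIdeal 𝒜) (n : ℕ) : (a.toIdeal ^ n).IsHomogeneous 𝒜 := by
  induction n with
  | zero => rw [pow_zero, Ideal.one_eq_top]; exact Ideal.IsHomogeneous.top 𝒜
  | succ n ih => rw [pow_succ]; exact Ideal.IsHomogeneous.mul ih a.isHomogeneous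

theorem subsingleton_H [IsNoetherianRing R] (hI : GrLC.IsStarInj 𝒜 ℐ) (a : HomogeneousIdeal 𝒜) (i : ℕ)
    (hi : 1 ≤ i) : Subsingleton (LocCoh.H a.toIdeal i I) := by
  obtain ⟨i, rfl⟩ : ∃ k, i = k + 1 := ⟨i - 1, by omega⟩
  refine subsingleton_H_of_ext _ I i fun n => ?_
  let Q := quotG 𝒜 (ℳ := 𝒜) _ (pow_isHomogeneous a n)
  haveI : Module.Finite R Q.carrier := inferInstanceAs (Module.Finite R (R ⧸ a.toIdeal ^ n))
  exact subsingleton_ext hI i Q.carrier Q.gr

end GrModLib
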