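import Mathlib
import Groth.Prelude.Def_GrLC

/-! Basic tools for graded modules over a graded ring: projections, homogeneous submodules, subquotients, shifts. -/

set_option autoImplicit false
universe u

open DirectSum

namespace GrModLib

variable {ι : Type} [AddCommGroup ι] [DecidableEq ι] {R : Type u} [CommRing R]
  (𝒜 : ι → AddSubgroup R) [GradedRing 𝒜]
  {M : Type u} [AddCommGroup M] [Module R M] (ℳ : ι → AddSubgroup M) [DirectSum.Decomposition ℳ]

/-- The projection to the piece of degree `g`. -/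
def pr (g : ι) : M →+ M where
  toFun x := (decompose ℳ x g : M)
  map_zero' := by simp
  map_add' x y := by simp

omit [AddCommGroup ι] [Module R M] in
theorem pr_mem (g : ι) (x : M) : pr ℳ g x ∈ ℳ g := (decompose ℳ x g).2

omit [AddCommGroup ι] [Module R M] in
theorem pr_self {g : ι} {x : M} (hx : x ∈ ℳ g) : pr ℳ g x = x := decompose_of_mem_same ℳ hx

omit [AddCommGroup ι] [Module R M] in
theorem pr_ne {g j : ι} {x : M} (hx : x ∈ ℳ j) (h : j ≠ g) : pr ℳ g x = 0 := decompose_of_mem_ne ℳ hx h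

omit [AddCommGroup ι] [Module R M] in
theorem pr_ext {x y : M} (h : ∀ g, pr ℳ g x = pr ℳ g y) : x = y :=
  (decompose ℳ).injective (DFinsupp.ext fun g => Subtype.ext (h g))

omit [AddCommGroup ι] [Module R M] in
theorem exists_pr_ne_zero {x : M} (hx : x ≠ 0) : ∃ g, pr ℳ g x ≠ 0 := by
  by_contra h
  push Not at h
  exact hx (pr_ext ℳ fun g => by rw [h g, map_zero])

omit [AddCommGroup ι] [Module R M] in
/-- Finitely many components. -/
theorem exists_finset (x : M) : ∃ s : Finset ι, (∀ g ∉ s, pr ℳ g x = 0) ∧ ∑ g ∈ s, pr ℳ g x = x := by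
  classical
  refine ⟨(decompose ℳ x).support, fun g hg => ?_, DirectSum.sum_support_decompose ℳ x⟩
  simp only [DFinsupp.mem_support_toFun, not_not] at hg
  show ((decompose ℳ x g : ℳ g) : M) = 0
  rw [hg]; rfl

omit [AddCommGroup ι] [Module R M] in
theorem induction {P : M → Prop} (h0 : P 0) (hmem : ∀ (g : ι) (m : M), m ∈ ℳ g → P m)
    (hadd : ∀ m m' : M, P m → P m' → P (m + m')) (x : M) : P x :=
  DirectSum.Decomposition.inductionOn ℳ h0 (fun {g} m => hmem g m m.2) hadd x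

section Smul

variable [SetLike.GradedSMul 𝒜 ℳ]

include 𝒜 in
omit [DirectSum.Decomposition ℳ] in
theorem smul_mem {h g : ι} {r : R} (hr : r ∈ 𝒜 h) {m : M} (hm : m ∈ ℳ g) : r • m ∈ ℳ (h + g) :=
  SetLike.GradedSMul.smul_mem (A := 𝒜) (B := ℳ) hr hm

theorem pr_smul_add {h : ι} {r : R} (hr : r ∈ 𝒜 h) (g : ι) (x : M) :
    pr ℳ (h + g) (r • x) = r • pr ℳ g x := by
  induction x using induction ℳ with
  | h0 => simp
  | hmem j m hm =>
    by_cases hj : j = g
    · subst hj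
      rw [pr_self ℳ hm, pr_self ℳ (smul_mem 𝒜 ℳ hr hm)]
    · rw [pr_ne ℳ hm hj, smul_zero, pr_ne ℳ (smul_mem 𝒜 ℳ hr hm) fun e => hj (add_left_cancel e)]
  | hadd a b ha hb => rw [smul_add, map_add, map_add, ha, hb, smul_add]

theorem pr_smul {h : ι} {r : R} (hr : r ∈ 𝒜 h) (g : ι) (x : M) :
    pr ℳ g (r • x) = r • pr ℳ (g - h) x := by
  conv_lhs => rw [show g = h + (g - h) by abel]
  exact pr_smul_add 𝒜 ℳ hr _ x

/-- The components of a multiple of a homogeneous element. -/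
theorem pr_smul_mem {g : ι} {x : M} (hx : x ∈ ℳ g) (r : R) (j : ι) :
    pr ℳ j (r • x) = pr 𝒜 (j - g) r • x := by
  induction r using induction 𝒜 with
  | h0 => simp
  | hmem h a ha =>
    rw [pr_smul 𝒜 ℳ ha]
    by_cases hh : h = j - g
    · subst hh
      rw [show j - (j - g) = g by abel, pr_self ℳ hx, pr_self 𝒜 ha]
    · rw [pr_ne 𝒜 ha hh, zero_smul, pr_ne ℳ hx, smul_zero]
      intro e
      exact hh (by rw [e]; abel)
  | hadd a b ha hb => rw [add_smul, map_add, map_add, ha, hb, add_smul]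

end Smul

section Maps

variable {N : Type u} [AddCommGroup N] [Module R N] {𝒩 : ι → AddSubgroup N}

omit [AddCommGroup ι] in
theorem hom_ext {f f' : M →ₗ[R] N} (h : ∀ (g : ι) (m : M), m ∈ ℳ g → f m = f' m) : f = f' := by
  ext x
  induction x using induction ℳ with
  | h0 => simp
  | hmem g m hm => exact h g m hm
  | hadd a b ha hb => rw [map_add, map_add, ha, hb]

/-- An additive map linear on homogeneous elements is linear. -/
def linearOf (φ : M →+ N) (hφ : ∀ (h : ι) (r : R), r ∈ 𝒜 h → ∀ (g : ι) (m : M), m ∈ ℳ g → φ (r • m) = r • φ m) :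
    M →ₗ[R] N where
  toFun := φ
  map_add' := map_add φ
  map_smul' r x := by
    rw [RingHom.id_apply]
    induction r using induction 𝒜 with
    | h0 => simp
    | hmem h a ha =>
      induction x using induction ℳ with
      | h0 => simp
      | hmem g m hm => exact hφ h a ha g m hm
      | hadd u v hu hv => rw [smul_add, map_add, map_add, hu, hv, smul_add]
    | hadd a b ha hb => rw [add_smul, map_add, ha, hb, add_smul]

@[simp]
theorem linearOf_apply (φ : M →+ N) (hφ) (x : M) : linearOf 𝒜 ℳ φ hφ x = φ x := rfl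

variable {ℳ} [DirectSum.Decomposition 𝒩]

omit [AddCommGroup ι] in
theorem map_pr {f : M →ₗ[R] N} (hf : GrLC.IsGrHom ℳ 𝒩 f) (g : ι) (x : M) : f (pr ℳ g x) = pr 𝒩 g (f x) := by
  induction x using induction ℳ with
  | h0 => simp
  | hmem j m hm =>
    by_cases hj : j = g
    · subst hj; rw [pr_self ℳ hm, pr_self 𝒩 (hf j m hm)]
    · rw [pr_ne ℳ hm hj, map_zero, pr_ne 𝒩 (hf j m hm) hj]
  | hadd a b ha hb => simp [ha, hb]

omit [AddCommGroup ι] in
theorem ker_isHomogeneous {f : M →ₗ[R] N} (hf : GrLC.IsGrHom ℳ 𝒩 f) : (LinearMap.ker f).IsHomogeneous ℳ :=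
  fun g x hx => by
    show f (pr ℳ g x) = 0
    rw [map_pr hf, LinearMap.mem_ker.1 hx, map_zero]

omit [AddCommGroup ι] in
theorem map_isHomogeneous {f : M →ₗ[R] N} (hf : GrLC.IsGrHom ℳ 𝒩 f) {P : Submodule R M}
    (hP : P.IsHomogeneous ℳ) : (P.map f).IsHomogeneous 𝒩 := by
  rintro g _ ⟨x, hx, rfl⟩
  exact ⟨pr ℳ g x, hP g hx, map_pr hf g x⟩

omit [AddCommGroup ι] in
theorem range_isHomogeneous {f : M →ₗ[R] N} (hf : GrLC.IsGrHom ℳ 𝒩 f) : (LinearMap.range f).IsHomogeneous 𝒩 := by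
  rintro g _ ⟨x, rfl⟩
  exact ⟨pr ℳ g x, map_pr hf g x⟩

omit [AddCommGroup ι] in
theorem comap_isHomogeneous {f : M →ₗ[R] N} (hf : GrLC.IsGrHom ℳ 𝒩 f) {P : Submodule R N}
    (hP : P.IsHomogeneous 𝒩) : (P.comap f).IsHomogeneous ℳ := fun g x hx => by
  show f (pr ℳ g x) ∈ P
  rw [map_pr hf]; exact hP g hx

omit [AddCommGroup ι] in
/-- A homogeneous map injective on homogeneous elements is injective. -/
theorem injective_of_homogeneous {f : M →ₗ[R] N} (hf : GrLC.IsGrHom ℳ 𝒩 f)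
    (h : ∀ (g : ι) (m : M), m ∈ ℳ g → f m = 0 → m = 0) : Function.Injective f := by
  rw [injective_iff_map_eq_zero]
  intro x hx
  refine pr_ext ℳ fun g => ?_
  rw [map_zero]
  exact h g _ (pr_mem ℳ g x) (by rw [map_pr hf, hx, map_zero])

end Maps

section Submodules

omit [AddCommGroup ι] in
theorem inf_isHomogeneous {P Q : Submodule R M} (hP : P.IsHomogeneous ℳ) (hQ : Q.IsHomogeneous ℳ) :
    (P ⊓ Q).IsHomogeneous ℳ := fun g _ hx => ⟨hP g hx.1, hQ g hx.2⟩

omit [AddCommGroup ι] in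
theorem bot_isHomogeneous : (⊥ : Submodule R M).IsHomogeneous ℳ := fun g x hx => by
  rw [(Submodule.mem_bot R).1 hx]; simp

omit [AddCommGroup ι] in
theorem top_isHomogeneous : (⊤ : Submodule R M).IsHomogeneous ℳ := fun _ _ _ => trivial

omit [AddCommGroup ι] in
theorem sup_isHomogeneous {P Q : Submodule R M} (hP : P.IsHomogeneous ℳ) (hQ : Q.IsHomogeneous ℳ) :
    (P ⊔ Q).IsHomogeneous ℳ := by
  intro g x hx
  obtain ⟨p, hp, q, hq, rfl⟩ := Submodule.mem_sup.1 hx
  exact Submodule.mem_sup.2 ⟨_, hP g hp, _, hQ g hq, (map_add (pr ℳ g) p q).symm⟩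

omit [AddCommGroup ι] in
theorem exists_mem_ne_zero {P : Submodule R M} (hP : P.IsHomogeneous ℳ) (hne : P ≠ ⊥) :
    ∃ (g : ι) (x : M), x ∈ ℳ g ∧ x ∈ P ∧ x ≠ 0 := by
  obtain ⟨x, hx, hx0⟩ := Submodule.exists_mem_ne_zero_of_ne_bot hne
  obtain ⟨g, hg⟩ := exists_pr_ne_zero ℳ hx0
  exact ⟨g, _, pr_mem ℳ g x, hP g hx, hg⟩

variable [SetLike.GradedSMul 𝒜 ℳ]

include 𝒜 in
theorem span_isHomogeneous {S : Set M} (hS : ∀ x ∈ S, ∃ g, x ∈ ℳ g) :
    (Submodule.span R S).IsHomogeneous ℳ := by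
  intro j x hx
  show pr ℳ j x ∈ Submodule.span R S
  induction hx using Submodule.span_induction generalizing j with
  | mem x hx =>
    obtain ⟨g, hg⟩ := hS x hx
    by_cases h : g = j
    · subst h; rw [pr_self ℳ hg]; exact Submodule.subset_span hx
    · rw [pr_ne ℳ hg h]; exact zero_mem _
  | zero => simp
  | add a b _ _ ha hb => rw [map_add]; exact add_mem (ha j) (hb j)
  | smul r a _ ha =>
    induction r using induction 𝒜 with
    | h0 => simp
    | hmem h r hr => rw [pr_smul 𝒜 ℳ hr]; exact Submodule.smul_mem _ r (ha _)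
    | hadd r s hr hs => rw [add_smul, map_add]; exact add_mem hr hs

include 𝒜 in
theorem singleton_isHomogeneous {g : ι} {x : M} (hx : x ∈ ℳ g) : (R ∙ x).IsHomogeneous ℳ :=
  span_isHomogeneous 𝒜 ℳ fun _ hy => ⟨g, by rw [Set.mem_singleton_iff.1 hy]; exact hx⟩

omit [SetLike.GradedSMul 𝒜 ℳ] in
theorem span_homogeneous_eq {P : Submodule R M} (hP : P.IsHomogeneous ℳ) :
    Submodule.span R {x | x ∈ P ∧ ∃ g, x ∈ ℳ g} = P := by
  refine le_antisymm (Submodule.span_le.2 fun x hx => hx.1) fun x hx => ?_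
  obtain ⟨s, -, hsum⟩ := exists_finset ℳ x
  rw [← hsum]
  exact Submodule.sum_mem _ fun g _ => Submodule.subset_span ⟨hP g hx, g, pr_mem ℳ g x⟩

include 𝒜 in
/-- Finitely generated homogeneous submodules have finitely many homogeneous generators. -/
theorem exists_homogeneous_generators {P : Submodule R M} (hP : P.IsHomogeneous ℳ) (hfg : P.FG) :
    ∃ (k : ℕ) (d : Fin k → ι) (m : Fin k → M), (∀ j, m j ∈ ℳ (d j)) ∧ Submodule.span R (Set.range m) = P := by
  classical
  obtain ⟨S, hS⟩ := hfg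
  choose s hs0 hs using exists_finset ℳ
  let T : Finset M := S.biUnion fun x => (s x).image fun g => pr ℳ g x
  have hT : ∀ y ∈ T, ∃ g, y ∈ ℳ g := by
    intro y hy
    obtain ⟨x, -, hy⟩ := Finset.mem_biUnion.1 hy
    obtain ⟨g, -, rfl⟩ := Finset.mem_image.1 hy
    exact ⟨g, pr_mem ℳ g x⟩
  choose d hd using fun y : T => hT y.1 y.2
  refine ⟨T.card, fun j => d (T.equivFin.symm j), fun j => (T.equivFin.symm j).1, fun j => hd _, ?_⟩
  rw [show Set.range (fun j : Fin T.card => (T.equivFin.symm j).1) = (T : Set M) by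
    ext y
    exact ⟨fun ⟨j, hj⟩ => hj ▸ (T.equivFin.symm j).2, fun hy => ⟨T.equivFin ⟨y, hy⟩, by simp⟩⟩]
  refine le_antisymm (Submodule.span_le.2 fun y hy => ?_) ?_
  · obtain ⟨x, hx, hy⟩ := Finset.mem_biUnion.1 hy
    obtain ⟨g, -, rfl⟩ := Finset.mem_image.1 hy
    exact hP g (hS ▸ Submodule.subset_span hx)
  · rw [← hS, Submodule.span_le]
    intro x hx
    rw [← hs x]
    exact Submodule.sum_mem _ fun g hg =>
      Submodule.subset_span (Finset.mem_biUnion.2 ⟨x, hx, Finset.mem_image_of_mem _ hg⟩)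

end Submodules

section Internal

omit [AddCommGroup ι] in
/-- A family with projections which spans is a decomposition. -/
theorem isInternal_of_pr {Q : Type u} [AddCommGroup Q] (𝒬 : ι → AddSubgroup Q) (p : ι → Q →+ Q)
    (hself : ∀ g, ∀ x ∈ 𝒬 g, p g x = x) (hne : ∀ g j, ∀ x ∈ 𝒬 j, j ≠ g → p g x = 0)
    (hspan : ∀ x, x ∈ ⨆ g, 𝒬 g) : DirectSum.IsInternal 𝒬 := by
  constructor
  · have key : ∀ (z : ⨁ g, 𝒬 g) (g : ι), p g (DirectSum.coeAddMonoidHom 𝒬 z) = (z g : Q) := by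
      intro z g
      induction z using DirectSum.induction_on with
      | zero => simp
      | of j x =>
        rw [DirectSum.coeAddMonoidHom_of]
        by_cases hj : j = g
        · subst hj; rw [hself j _ x.2, DirectSum.of_eq_same]
        · rw [hne g j _ x.2 hj, DirectSum.of_eq_of_ne _ _ _ (Ne.symm hj)]; simp
      | add a b ha hb => simp [map_add, ha, hb]
    intro a b hab
    exact DFinsupp.ext fun g => Subtype.ext (by rw [← key a g, ← key b g, hab])
  · intro x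
    refine AddSubgroup.iSup_induction (C := fun x => ∃ a, DirectSum.coeAddMonoidHom 𝒬 a = x) 𝒬 (hspan x)
      (fun g y hy => ⟨DirectSum.of _ g ⟨y, hy⟩, DirectSum.coeAddMonoidHom_of ..⟩) ⟨0, map_zero _⟩ ?_
    rintro _ _ ⟨a, rfl⟩ ⟨b, rfl⟩
    exact ⟨a + b, map_add _ a b⟩

variable {ℳ} (P : Submodule R M)

/-- The pieces of a submodule. -/
def subGr (ℳ : ι → AddSubgroup M) : ι → AddSubgroup P := fun g => (ℳ g).comap P.subtype.toAddMonoidHom

omit [AddCommGroup ι] in
theorem subGr_isInternal (hP : P.IsHomogeneous ℳ) : DirectSum.IsInternal (subGr P ℳ) := by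
  refine isInternal_of_pr _ (fun g =>
    { toFun := fun x => ⟨pr ℳ g x.1, hP g x.2⟩, map_zero' := Subtype.ext (map_zero _),
      map_add' := fun a b => Subtype.ext (map_add (pr ℳ g) a.1 b.1) })
    (fun g x hx => Subtype.ext (pr_self ℳ hx)) (fun g j x hx h => Subtype.ext (pr_ne ℳ hx h)) fun x => ?_
  obtain ⟨s, -, hsum⟩ := exists_finset ℳ x.1
  rw [show x = ∑ g ∈ s, ⟨pr ℳ g x.1, hP g x.2⟩ from Subtype.ext (by rw [Submodule.coe_sum]; exact hsum.symm)]
  exact sum_mem fun g _ => le_iSup (subGr P ℳ) g (pr_mem ℳ g x.1)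

/-- The pieces of a quotient. -/
def quotGr' (ℳ : ι → AddSubgroup M) : ι → AddSubgroup (M ⧸ P) := fun g => (ℳ g).map P.mkQ.toAddMonoidHom

omit [AddCommGroup ι] in
theorem quotGr'_isInternal (hP : P.IsHomogeneous ℳ) : DirectSum.IsInternal (quotGr' P ℳ) := by
  refine isInternal_of_pr _ (fun g => QuotientAddGroup.lift P.toAddSubgroup
    (P.mkQ.toAddMonoidHom.comp (pr ℳ g)) fun x hx => (Submodule.Quotient.mk_eq_zero P).2 (hP g hx)) ?_ ?_ fun x => ?_
  · rintro g _ ⟨y, hy, rfl⟩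
    exact congrArg P.mkQ (pr_self ℳ hy)
  · rintro g j _ ⟨y, hy, rfl⟩ h
    show P.mkQ (pr ℳ g y) = 0
    rw [pr_ne ℳ hy h, map_zero]
  · obtain ⟨y, rfl⟩ := Submodule.mkQ_surjective P x
    obtain ⟨s, -, hsum⟩ := exists_finset ℳ y
    rw [← hsum, map_sum]
    exact sum_mem fun g _ => le_iSup (quotGr' P ℳ) g ⟨_, pr_mem ℳ g y, rfl⟩

variable (ℳ)

omit [Module R M] in
theorem shift_isInternal (d : ι) : DirectSum.IsInternal fun g => ℳ (g + d) := by
  refine isInternal_of_pr _ (fun g => pr ℳ (g + d)) (fun g x hx => pr_self ℳ hx)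
    (fun g j x hx h => pr_ne ℳ hx fun e => h (add_right_cancel e)) fun x => ?_
  obtain ⟨s, -, hsum⟩ := exists_finset ℳ x
  rw [← hsum]
  exact sum_mem fun g _ => le_iSup (fun g => ℳ (g + d)) (g - d) (by simpa using pr_mem ℳ g x)

end Internal

section GMod

variable [SetLike.GradedSMul 𝒜 ℳ]

/-- A homogeneous submodule as a graded module. -/
noncomputable def subG {ℳ : ι → AddSubgroup M} [DirectSum.Decomposition ℳ] [SetLike.GradedSMul 𝒜 ℳ]
    (P : Submodule R M) (hP : P.IsHomogeneous ℳ) : GrLC.GMod.{u} 𝒜 :=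
  letI := (subGr_isInternal P hP).chooseDecomposition
  haveI : SetLike.GradedSMul 𝒜 (subGr P ℳ) := ⟨fun {h g r m} hr hm => smul_mem 𝒜 ℳ hr hm⟩
  { carrier := P, gr := subGr P ℳ }

/-- The quotient by a homogeneous submodule as a graded module. -/
noncomputable def quotG {ℳ : ι → AddSubgroup M} [DirectSum.Decomposition ℳ] [SetLike.GradedSMul 𝒜 ℳ]
    (P : Submodule R M) (hP : P.IsHomogeneous ℳ) : GrLC.GMod.{u} 𝒜 :=
  letI := (quotGr'_isInternal P hP).chooseDecomposition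
  haveI : SetLike.GradedSMul 𝒜 (quotGr' P ℳ) := ⟨fun {h g r m} hr ⟨y, hy, e⟩ =>
    ⟨r • y, smul_mem 𝒜 ℳ hr hy, e ▸ P.mkQ.map_smul r y⟩⟩
  { carrier := M ⧸ P, gr := quotGr' P ℳ }

/-- The shifted graded module. -/
noncomputable def shiftG (d : ι) : GrLC.GMod.{u} 𝒜 :=
  letI := (shift_isInternal ℳ d).chooseDecomposition
  haveI : SetLike.GradedSMul 𝒜 fun g => ℳ (g + d) := ⟨fun {h g r m} hr hm => by
    show r • m ∈ ℳ (h + g + d)
    rw [add_assoc]; exact smul_mem 𝒜 ℳ hr hm⟩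
  { carrier := M, gr := fun g => ℳ (g + d) }

end GMod

end GrModLib
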