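import Mathlib
import Groth.Agent.CommAlgDim.Regular

/-! Bass numbers from free `Ext` modules over a regular quotient. -/

set_option autoImplicit false
universe u

open CategoryTheory IsLocalRing

namespace GrModLib

variable {A : Type u} [CommRing A]

/-- `Ext` along an isomorphism of the first argument. -/
noncomputable def extCongrLeft {X X' : Type u} [AddCommGroup X] [Module A X] [AddCommGroup X'] [Module A X']
    (e : X ≃ₗ[A] X') (N : ModuleCat.{u} A) (n : ℕ) :
    Abelian.Ext.{u} (ModuleCat.of A X') N n ≃ₗ[A] Abelian.Ext.{u} (ModuleCat.of A X) N n :=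
  LinearEquiv.ofLinear
    ((Abelian.Ext.mk₀ e.toModuleIso.hom).precompOfLinear A N (zero_add n))
    ((Abelian.Ext.mk₀ e.toModuleIso.inv).precompOfLinear A N (zero_add n))
    (by
      ext x
      show (Abelian.Ext.mk₀ e.toModuleIso.hom).comp ((Abelian.Ext.mk₀ e.toModuleIso.inv).comp x (zero_add n))
        (zero_add n) = x
      rw [Abelian.Ext.mk₀_comp_mk₀_assoc, Iso.hom_inv_id, Abelian.Ext.mk₀_id_comp])
    (by
      ext x
      show (Abelian.Ext.mk₀ e.toModuleIso.inv).comp ((Abelian.Ext.mk₀ e.toModuleIso.hom).comp x (zero_add n))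
        (zero_add n) = x
      rw [Abelian.Ext.mk₀_comp_mk₀_assoc, Iso.inv_hom_id, Abelian.Ext.mk₀_id_comp])

/-- Cutting down a free quotient. -/
theorem ker_mapRange_factor (J : Ideal A) (x : A) (κ : Type u) :
    LinearMap.ker (Finsupp.mapRange.linearMap (α := κ)
      (Submodule.factor (le_sup_left : J ≤ J ⊔ Ideal.span {x}))) =
    LinearMap.range (x • LinearMap.id : (κ →₀ A ⧸ J) →ₗ[A] (κ →₀ A ⧸ J)) := by
  apply le_antisymm
  · intro f hf
    rw [← Finsupp.sum_single f]
    refine Submodule.sum_mem _ fun k _ => ?_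
    have hk := DFunLike.congr_fun (LinearMap.mem_ker.1 hf) k
    obtain ⟨a, ha⟩ := Submodule.Quotient.mk_surjective J (f k)
    rw [Finsupp.mapRange.linearMap_apply, Finsupp.mapRange_apply, Finsupp.zero_apply, ← ha] at hk
    obtain ⟨j, hj, z, hz, hjz⟩ := Submodule.mem_sup.1 ((Submodule.Quotient.mk_eq_zero _).1 hk)
    obtain ⟨b, rfl⟩ := Ideal.mem_span_singleton'.1 hz
    refine ⟨Finsupp.single k (Submodule.Quotient.mk b), ?_⟩
    show x • Finsupp.single k (Submodule.Quotient.mk b : A ⧸ J) = Finsupp.single k (f k)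
    rw [Finsupp.smul_single, ← Submodule.Quotient.mk_smul, ← ha]
    congr 1
    rw [Submodule.Quotient.eq, smul_eq_mul, mul_comm]
    rw [show a = j + b * x from hjz.symm]
    have : b * x - (j + b * x) = -j := by ring
    rw [this]; exact neg_mem hj
  · rintro _ ⟨f, rfl⟩
    ext k
    obtain ⟨a, ha⟩ := Submodule.Quotient.mk_surjective J (f k)
    show Submodule.factor (le_sup_left : J ≤ J ⊔ Ideal.span {x}) ((x • f) k) = 0
    rw [Finsupp.smul_apply, ← ha, ← Submodule.Quotient.mk_smul]
    exact (Submodule.Quotient.mk_eq_zero _).2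
      (Submodule.mem_sup_right (Ideal.mem_span_singleton'.2 ⟨a, mul_comm a x⟩))

variable [IsLocalRing A] [IsNoetherianRing A]

/-- The key count. -/
theorem length_ext_of_free (N : ModuleCat.{u} A) :
    ∀ (d : ℕ) (J : Ideal A) [IsRegularLocalRing (A ⧸ J)] (κ : ℕ → Type u),
      (maximalIdeal (A ⧸ J)).spanFinrank = d →
      (∀ j, Nonempty (Abelian.Ext.{u} (ModuleCat.of A (A ⧸ J)) N j ≃ₗ[A] (κ j →₀ A ⧸ J))) →
      (∀ i < d, Module.length A (Abelian.Ext.{u} (ModuleCat.of A (ResidueField A)) N i) = 0) ∧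
      ∀ j, Module.length A (Abelian.Ext.{u} (ModuleCat.of A (ResidueField A)) N (j + d)) = ENat.card (κ j) := by
  intro d
  induction d with
  | zero =>
    intro J _ κ hd he
    refine ⟨fun i hi => absurd hi (Nat.not_lt_zero i), fun j => ?_⟩
    have hbot : maximalIdeal (A ⧸ J) = ⊥ :=
      (Submodule.spanFinrank_eq_zero_iff_eq_bot (IsNoetherian.noetherian _)).1 hd
    have hfield : IsField (A ⧸ J) := (isField_iff_maximalIdeal_eq).2 hbot
    have hJ : J.IsMaximal := Ideal.Quotient.maximal_of_isField J hfield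
    have hJm : J = maximalIdeal A := eq_maximalIdeal hJ
    subst hJm
    obtain ⟨e⟩ := he j
    let c : ResidueField A ≃ₗ[A] A ⧸ maximalIdeal A := LinearEquiv.refl A _
    rw [Nat.add_zero, ((extCongrLeft c N j).symm.trans e).length_eq, Module.length_finsupp]
    haveI : IsSimpleModule A (A ⧸ maximalIdeal A) :=
      isSimpleModule_iff_isCoatom.2 (maximalIdeal.isMaximal A).out
    rw [Module.length_eq_one, mul_one]
  | succ d ih =>
    intro J _ κ hd he
    haveI := CommAlgDim.isDomain_of_isRegularLocalRing (A ⧸ J)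
    have hm : maximalIdeal (A ⧸ J) ≠ ⊥ := fun h => by rw [h, Submodule.spanFinrank_bot] at hd; omega
    obtain ⟨y, hy, hy2, -⟩ := CommAlgDim.exists_mem_notMem_sq (R := A ⧸ J) (S := ∅) Set.finite_empty
      (fun P hP => hP.elim) (fun P hP => hP.elim) hm
    obtain ⟨x, rfl⟩ := Ideal.Quotient.mk_surjective y
    have hx0 : Ideal.Quotient.mk J x ≠ 0 := fun h => hy2 (by rw [h]; exact zero_mem _)
    let J' := J ⊔ Ideal.span {x}
    let q : (A ⧸ J) ⧸ Ideal.span {Ideal.Quotient.mk J x} ≃+* A ⧸ J' :=
      (Ideal.quotEquivOfEq (by rw [Ideal.map_span, Set.image_singleton])).trans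
        (DoubleQuot.quotQuotEquivQuotSup J (Ideal.span {x}))
    haveI := CommAlgDim.nontrivial_quotient (CommAlgDim.singleton_ne_top hy)
    haveI := CommAlgDim.isRegularLocalRing_quotient_singleton hy hy2
    haveI : IsRegularLocalRing (A ⧸ J') := IsRegularLocalRing.of_ringEquiv q
    have hd' : (maximalIdeal (A ⧸ J')).spanFinrank = d := by
      have h1 := CommAlgDim.spanFinrank_maximalIdeal_quotient_singleton hy hy2
      have h2 := IsRegularLocalRing.spanFinrank_maximalIdeal (R := A ⧸ J')
      have h3 := IsRegularLocalRing.spanFinrank_maximalIdeal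
        (R := (A ⧸ J) ⧸ Ideal.span {Ideal.Quotient.mk J x})
      rw [← ringKrullDim_eq_of_ringEquiv q, ← h3] at h2
      norm_cast at h2
      omega
    let T := A ⧸ J
    let f : T →ₗ[A] T := x • LinearMap.id
    let g : T →ₗ[A] A ⧸ J' := Submodule.factor le_sup_left
    have hreg : Function.Injective f := by
      refine (injective_iff_map_eq_zero f).2 fun t ht => ?_
      have h1 : Ideal.Quotient.mk J x * t = 0 := by
        obtain ⟨a, rfl⟩ := Ideal.Quotient.mk_surjective t
        rw [← map_mul]; exact ht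
      exact (mul_eq_zero.1 h1).resolve_left hx0
    have hg : Function.Surjective g := Submodule.factor_surjective _
    have hex : Function.Exact f g := by
      intro t
      obtain ⟨a, rfl⟩ := Submodule.Quotient.mk_surjective J t
      constructor
      · intro h
        obtain ⟨j, hj, z, hz, hjz⟩ := Submodule.mem_sup.1 ((Submodule.Quotient.mk_eq_zero _).1 h)
        obtain ⟨b, rfl⟩ := Ideal.mem_span_singleton'.1 hz
        refine ⟨Submodule.Quotient.mk b, ?_⟩
        show x • (Submodule.Quotient.mk b : T) = Submodule.Quotient.mk a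
        rw [← Submodule.Quotient.mk_smul, Submodule.Quotient.eq, smul_eq_mul, mul_comm]
        rw [show a = j + b * x from hjz.symm]
        have : b * x - (j + b * x) = -j := by ring
        rw [this]; exact neg_mem hj
      · rintro ⟨b, hb⟩
        obtain ⟨b, rfl⟩ := Submodule.Quotient.mk_surjective J b
        rw [← hb]
        exact (Submodule.Quotient.mk_eq_zero _).2
          (Submodule.mem_sup_right (Ideal.mem_span_singleton'.2 ⟨b, mul_comm b x⟩))
    have hS : (ShortComplex.moduleCatMk f g hex.linearMap_comp_eq_zero).ShortExact :=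
      { exact := (ShortComplex.ShortExact.moduleCat_exact_iff_function_exact _).2 hex
        mono_f := (ModuleCat.mono_iff_injective _).2 hreg
        epi_g := (ModuleCat.epi_iff_surjective _).2 hg }
    have hf : ∀ (j : ℕ) (α : Abelian.Ext.{u} (ModuleCat.of A T) N j),
        (Abelian.Ext.mk₀ (ModuleCat.ofHom f)).comp α (zero_add j) = x • α := fun j α => by
      rw [show ModuleCat.ofHom f = x • 𝟙 (ModuleCat.of A T) from rfl, Abelian.Ext.mk₀_smul,
        Abelian.Ext.smul_comp, Abelian.Ext.mk₀_id_comp]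
    have hinj : ∀ (j : ℕ) (α : Abelian.Ext.{u} (ModuleCat.of A T) N j), x • α = 0 → α = 0 := by
      intro j α hα
      obtain ⟨e⟩ := he j
      refine e.injective (Finsupp.ext fun k => ?_)
      have h1 := DFunLike.congr_fun (congrArg e hα) k
      rw [map_smul, Finsupp.smul_apply, map_zero, Finsupp.zero_apply] at h1
      rw [map_zero, Finsupp.zero_apply]
      exact hreg (h1.trans (map_zero f).symm)
    have hg0 : ∀ (j : ℕ) (α : Abelian.Ext.{u} (ModuleCat.of A (A ⧸ J')) N j),
        (Abelian.Ext.mk₀ (ModuleCat.ofHom g)).comp α (zero_add j) = 0 := fun j α => by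
      refine hinj j _ ?_
      rw [← hf]
      exact (Abelian.Ext.mk₀_comp_mk₀_assoc ..).trans (by
        rw [show ModuleCat.ofHom f ≫ ModuleCat.ofHom g = 0 from
          ModuleCat.hom_ext hex.linearMap_comp_eq_zero, Abelian.Ext.mk₀_zero, Abelian.Ext.zero_comp])
    have h0 : Subsingleton (Abelian.Ext.{u} (ModuleCat.of A (A ⧸ J')) N 0) := by
      refine subsingleton_of_forall_eq 0 fun α => ?_
      obtain ⟨φ, rfl⟩ := (Abelian.Ext.mk₀_bijective _ _).2 α
      have h1 := hg0 0 (Abelian.Ext.mk₀ φ)
      rw [Abelian.Ext.mk₀_comp_mk₀, ← Abelian.Ext.mk₀_zero] at h1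
      have h2 := (Abelian.Ext.mk₀_bijective _ _).1 h1
      haveI : Epi (ModuleCat.ofHom g) := hS.epi_g
      rw [show φ = 0 from (cancel_epi (ModuleCat.ofHom g)).1 (h2.trans Limits.comp_zero.symm), Abelian.Ext.mk₀_zero]
    have hstep : ∀ j, Nonempty (Abelian.Ext.{u} (ModuleCat.of A (A ⧸ J')) N (j + 1) ≃ₗ[A] (κ j →₀ A ⧸ J')) := by
      intro j
      obtain ⟨e⟩ := he j
      let δ : Abelian.Ext.{u} (ModuleCat.of A T) N j →ₗ[A] Abelian.Ext.{u} (ModuleCat.of A (A ⧸ J')) N (j + 1) :=
        hS.extClass.precompOfLinear A N (Nat.add_comm 1 j)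
      have hδ : Function.Surjective δ := fun α =>
        Abelian.Ext.contravariant_sequence_exact₃ hS N α (hg0 (j + 1) α) (Nat.add_comm 1 j)
      have hker : LinearMap.ker δ = LinearMap.range (x • LinearMap.id) := by
        apply le_antisymm
        · intro α hα
          obtain ⟨β, hβ⟩ := Abelian.Ext.contravariant_sequence_exact₁ hS N α (Nat.add_comm 1 j) hα
          exact ⟨β, ((hf j β).symm.trans hβ)⟩
        · rintro _ ⟨β, rfl⟩
          show δ (x • β) = 0
          rw [← hf]
          exact hS.extClass_comp_assoc (h := Nat.add_comm 1 j) β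
      let g' : (κ j →₀ T) →ₗ[A] (κ j →₀ A ⧸ J') := Finsupp.mapRange.linearMap g
      have hg' : Function.Surjective g' := Finsupp.mapRange_surjective g (map_zero g) hg
      have hk' : LinearMap.ker (g' ∘ₗ e.toLinearMap) = LinearMap.range (x • LinearMap.id) := by
        rw [LinearMap.ker_comp, ker_mapRange_factor]
        ext α
        constructor
        · rintro ⟨f', hf'⟩
          refine ⟨e.symm f', e.injective ?_⟩
          show e (x • e.symm f') = e α
          rw [map_smul, e.apply_symm_apply]
          exact hf'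
        · rintro ⟨β, rfl⟩
          exact ⟨e β, (map_smul e x β).symm⟩
      exact ⟨(δ.quotKerEquivOfSurjective hδ).symm.trans ((Submodule.quotEquivOfEq _ _ (hker.trans hk'.symm)).trans
        ((g' ∘ₗ e.toLinearMap).quotKerEquivOfSurjective (hg'.comp e.surjective)))⟩
    let κ' : ℕ → Type u := fun j => Nat.casesOn j PEmpty κ
    obtain ⟨h1, h2⟩ := ih J' κ' hd' (fun j => by
      cases j with
      | zero => exact ⟨LinearEquiv.ofSubsingleton (R := A) _ (PEmpty →₀ A ⧸ J')⟩
      | succ j => exact hstep j)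
    refine ⟨fun i hi => ?_, fun j => ?_⟩
    · rcases Nat.lt_succ_iff_lt_or_eq.1 hi with h | rfl
      · exact h1 i h
      · have := h2 0
        rw [Nat.zero_add] at this
        rw [this]
        exact ENat.card_eq_zero_iff_empty _ |>.2 (inferInstanceAs (IsEmpty PEmpty))
    · rw [show j + (d + 1) = j + 1 + d by omega]
      exact h2 (j + 1)

end GrModLib
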