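import Mathlib
import Groth.Agent.GrModLib.Basic

/-! The local ring at a prime over a graded prime `q` meeting no further homogeneous element is regular. -/

set_option autoImplicit false
universe u

open DirectSum

namespace GrModLib

variable {ι : Type} [AddCommGroup ι] [DecidableEq ι] {R : Type u} [CommRing R]
  (𝒜 : ι → AddSubgroup R) [GradedRing 𝒜] (q : Ideal R)
  {T : Type u} [CommRing T] (φ : R →+* T)

/-- Homogeneous fractions, with their degrees. -/
def homFrac [hq : q.IsPrime] : Subgroup (Multiplicative ι × Tˣ) where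
  carrier := {z | ∃ (g h : ι) (a b : R), a ∈ 𝒜 g ∧ b ∈ 𝒜 h ∧ a ∉ q ∧ b ∉ q ∧
    z.1 = Multiplicative.ofAdd (g - h) ∧ (z.2 : T) * φ b = φ a}
  one_mem' := ⟨0, 0, 1, 1, SetLike.one_mem_graded 𝒜, SetLike.one_mem_graded 𝒜, hq.one_notMem, hq.one_notMem,
    by rw [sub_zero]; rfl, one_mul _⟩
  mul_mem' := by
    rintro x y ⟨g, h, a, b, ha, hb, haq, hbq, hx, hxe⟩ ⟨g', h', a', b', ha', hb', haq', hbq', hy, hye⟩
    refine ⟨g + g', h + h', a * a', b * b', SetLike.mul_mem_graded ha ha', SetLike.mul_mem_graded hb hb',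
      fun e => (hq.mem_or_mem e).elim haq haq', fun e => (hq.mem_or_mem e).elim hbq hbq', ?_, ?_⟩
    · rw [Prod.fst_mul, hx, hy, ← ofAdd_add]; congr 1; abel
    · rw [Prod.snd_mul, Units.val_mul, map_mul, map_mul, ← hxe, ← hye]; ring
  inv_mem' := by
    rintro x ⟨g, h, a, b, ha, hb, haq, hbq, hx, hxe⟩
    refine ⟨h, g, b, a, hb, ha, hbq, haq, by rw [Prod.fst_inv, hx, ← ofAdd_neg, neg_sub], ?_⟩
    rw [Prod.snd_inv, ← hxe, Units.inv_mul_cancel_left]

/-- Degree zero fractions. -/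
def frac0 [hq : q.IsPrime] : Subring T where
  carrier := {y | ∃ (g : ι) (a b : R), a ∈ 𝒜 g ∧ b ∈ 𝒜 g ∧ b ∉ q ∧ y * φ b = φ a}
  one_mem' := ⟨0, 1, 1, SetLike.one_mem_graded 𝒜, SetLike.one_mem_graded 𝒜, hq.one_notMem, one_mul _⟩
  zero_mem' := ⟨0, 0, 1, zero_mem _, SetLike.one_mem_graded 𝒜, hq.one_notMem, by simp⟩
  mul_mem' := by
    rintro x y ⟨g, a, b, ha, hb, hbq, hx⟩ ⟨g', a', b', ha', hb', hbq', hy⟩
    exact ⟨g + g', a * a', b * b', SetLike.mul_mem_graded ha ha', SetLike.mul_mem_graded hb hb',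
      fun e => (hq.mem_or_mem e).elim hbq hbq', by rw [map_mul, map_mul, ← hx, ← hy]; ring⟩
  add_mem' := by
    rintro x y ⟨g, a, b, ha, hb, hbq, hx⟩ ⟨g', a', b', ha', hb', hbq', hy⟩
    exact ⟨g + g', a * b' + b * a', b * b',
      add_mem (SetLike.mul_mem_graded ha hb') (SetLike.mul_mem_graded hb ha'), SetLike.mul_mem_graded hb hb',
      fun e => (hq.mem_or_mem e).elim hbq hbq', by rw [map_add, map_mul, map_mul, map_mul, ← hx, ← hy]; ring⟩
  neg_mem' := by
    rintro x ⟨g, a, b, ha, hb, hbq, hx⟩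
    exact ⟨g, -a, b, neg_mem ha, hb, hbq, by rw [map_neg, neg_mul, hx]⟩

/-- Homogeneous fractions of distinct degrees are independent. -/
theorem frac_independent [hq : q.IsPrime] (hqh : q.IsHomogeneous 𝒜) (hker : ∀ r, φ r = 0 ↔ r ∈ q)
    (hu : ∀ (g : ι) (a : R), a ∈ 𝒜 g → a ∉ q → IsUnit (φ a))
    {σ : Type*} (s : Finset σ) (x : σ → ι) (hx : Set.InjOn x s) (y : σ → T)
    (hy : ∀ m ∈ s, ∃ (g h : ι) (a b : R), a ∈ 𝒜 g ∧ b ∈ 𝒜 h ∧ b ∉ q ∧ g - h = x m ∧ y m * φ b = φ a)
    (hsum : ∑ m ∈ s, y m = 0) : ∀ m ∈ s, y m = 0 := by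
  classical
  choose! g h a b ha hb hbq hgh hab using hy
  let B := ∏ m ∈ s, b m
  let a' : σ → R := fun m => a m * ∏ j ∈ s.erase m, b j
  have hdeg : ∀ m ∈ s, a' m ∈ 𝒜 (x m + ∑ j ∈ s, h j) := by
    intro m hm
    have h1 : a' m ∈ 𝒜 (g m + ∑ j ∈ s.erase m, h j) :=
      SetLike.mul_mem_graded (ha m hm) (SetLike.prod_mem_graded 𝒜 h b fun j hj => hb j (Finset.mem_of_mem_erase hj))
    rwa [← hgh m hm, ← Finset.add_sum_erase s h hm, ← add_assoc, sub_add_cancel]
  have hval : ∀ m ∈ s, y m * φ B = φ (a' m) := by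
    intro m hm
    show y m * φ (∏ j ∈ s, b j) = φ (a m * ∏ j ∈ s.erase m, b j)
    rw [← Finset.mul_prod_erase s b hm, map_mul, map_mul, ← mul_assoc, hab m hm]
  have htot : ∑ m ∈ s, a' m ∈ q := by
    rw [← hker, map_sum, ← Finset.sum_congr rfl hval, ← Finset.sum_mul, hsum, zero_mul]
  intro m hm
  have h1 := hqh (x m + ∑ j ∈ s, h j) htot
  change pr 𝒜 _ _ ∈ q at h1
  rw [map_sum, Finset.sum_eq_single m (fun j hj hjm => pr_ne 𝒜 (hdeg j hj) fun e => hjm (hx hj hm (add_right_cancel e)))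
    (fun h => absurd hm h), pr_self 𝒜 (hdeg m hm)] at h1
  have h2 := hval m hm
  rw [(hker _).2 h1] at h2
  have hB : IsUnit (φ B) := by
    rw [map_prod, IsUnit.prod_iff]
    exact fun j hj => hu _ _ (hb j hj) (hbq j hj)
  exact hB.mul_left_eq_zero.1 h2

variable [Module.Free ℤ ι] [Module.Finite ℤ ι]

/-- The local ring of a graded domain at a prime with no homogeneous elements is regular. -/
theorem regular_and_dim_le_of_frac [hq : q.IsPrime] (hqh : q.IsHomogeneous 𝒜) [IsLocalRing T]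
    (hker : ∀ r, φ r = 0 ↔ r ∈ q)
    (hu : ∀ (g : ι) (a : R), a ∈ 𝒜 g → a ∉ q → IsUnit (φ a))
    (hsurj : ∀ y : T, ∃ r s : R, IsUnit (φ s) ∧ y * φ s = φ r) :
    IsRegularLocalRing T ∧ ringKrullDim T ≤ (Module.finrank ℤ ι : ℕ) := by
  classical
  let S := homFrac 𝒜 q φ
  let Γ : Submodule ℤ ι := AddSubgroup.toIntSubmodule
    (Subgroup.toAddSubgroup' (S.map (MonoidHom.fst (Multiplicative ι) Tˣ)))
  obtain ⟨n, ⟨e⟩, hn⟩ : ∃ n, Nonempty (Module.Basis (Fin n) ℤ Γ) ∧ n ≤ Module.finrank ℤ ι :=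
    ⟨_, ⟨Module.finBasis ℤ Γ⟩, Γ.finrank_le⟩
  have hsel : ∀ i, ∃ u : Tˣ, (Multiplicative.ofAdd ((e i : Γ) : ι), u) ∈ S := fun i => by
    obtain ⟨z, hz, hz'⟩ := (e i).2
    exact ⟨z.2, by rw [show Multiplicative.ofAdd ((e i : Γ) : ι) = z.1 from hz'.symm]; exact hz⟩
  choose t ht using hsel
  let deg : (Fin n → ℤ) → ι := fun m => ∑ i, m i • ((e i : Γ) : ι)
  let mon : (Fin n → ℤ) → Tˣ := fun m => ∏ i, t i ^ m i
  have hmon : ∀ m, (Multiplicative.ofAdd (deg m), mon m) ∈ S := by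
    intro m
    have := Subgroup.prod_mem S (t := Finset.univ)
      (f := fun i => (Multiplicative.ofAdd ((e i : Γ) : ι), t i) ^ m i) fun i _ => zpow_mem (ht i) (m i)
    convert this using 1
    refine Prod.ext ?_ ?_
    · rw [Prod.fst_prod]
      simp only [Prod.pow_fst, ← ofAdd_zsmul, ← ofAdd_sum]
      rfl
    · rw [Prod.snd_prod]
      rfl
  have hdeg : Function.Injective deg := by
    intro m m' h
    funext i
    have h1 : ∑ j, m j • e j = ∑ j, m' j • e j := Subtype.ext (by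
      rw [Submodule.coe_sum, Submodule.coe_sum]; exact h)
    have := congrArg (fun z => e.repr z i) h1
    simpa [Finsupp.single_apply] using this
  let k := frac0 𝒜 q φ
  have hk : IsField k := by
    refine ⟨⟨0, 1, zero_ne_one⟩, mul_comm, fun {y} hy => ?_⟩
    obtain ⟨g, a, b, ha, hb, hbq, he⟩ := y.2
    have haq : a ∉ q := fun h => hy (Subtype.ext ((hu g b hb hbq).mul_left_eq_zero.1 (by rw [he, (hker a).2 h])))
    refine ⟨⟨φ b * ((hu g a ha haq).unit⁻¹ : Tˣ), g, b, a, hb, ha, haq, by rw [mul_assoc, IsUnit.val_inv_mul, mul_one]⟩,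
      Subtype.ext ?_⟩
    show (y : T) * (φ b * ((hu g a ha haq).unit⁻¹ : Tˣ)) = 1
    rw [← mul_assoc, he, IsUnit.mul_val_inv]
  have : IsDomain k := hk.isDomain
  have : IsRegularRing k := by
    letI := hk.toField
    have h : IsRegularRing k := inferInstance
    exact h
  let P := MvPolynomial (Fin n) k
  let ev : P →+* T := MvPolynomial.eval₂Hom k.subtype fun i => ((t i : Tˣ) : T)
  have hC : ∀ c : k, ev (MvPolynomial.C c) = (c : T) := fun c => MvPolynomial.eval₂Hom_C _ _ c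
  have hX : ∀ i, ev (MvPolynomial.X i) = (t i : T) := fun i => MvPolynomial.eval₂Hom_X' _ _ i
  have hevX : ∀ m : Fin n → ℕ, ev (∏ i, MvPolynomial.X i ^ m i) = (mon fun i => (m i : ℤ) : Tˣ) := by
    intro m
    simp [hX, mon, Units.coe_prod]
  -- every element of `R` times a monomial comes from `P`
  have hW : ∀ r, ∃ (f : P) (m : Fin n → ℕ), φ r * ev (∏ i, MvPolynomial.X i ^ m i) = ev f := by
    intro r
    induction r using induction 𝒜 with
    | h0 => exact ⟨0, 0, by simp⟩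
    | hmem g a ha =>
      by_cases haq : a ∈ q
      · exact ⟨0, 0, by simp [(hker a).2 haq]⟩
      have hA : (Multiplicative.ofAdd g, (hu g a ha haq).unit) ∈ S :=
        ⟨g, 0, a, 1, ha, SetLike.one_mem_graded 𝒜, haq, hq.one_notMem, by rw [sub_zero], by simp⟩
      let v : Γ := ⟨g, ⟨_, hA, rfl⟩⟩
      let m : Fin n → ℤ := fun i => e.repr v i
      have hdm : deg m = g := by
        have := congrArg Subtype.val (e.sum_repr v)
        rw [Submodule.coe_sum] at this
        exact this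
      obtain ⟨g', h', a', b', ha', hb', -, hbq', hx, hxe⟩ := S.mul_mem hA (S.inv_mem (hmon m))
      have hg' : g' = h' := by
        rw [Prod.fst_mul, Prod.fst_inv, hdm, mul_inv_cancel] at hx
        exact (sub_eq_zero.1 (Multiplicative.ofAdd.injective hx.symm))
      subst hg'
      let c : k := ⟨_, g', a', b', ha', hb', hbq', hxe⟩
      refine ⟨MvPolynomial.C c * ∏ i, MvPolynomial.X i ^ (m i).toNat, fun i => (-m i).toNat, ?_⟩
      rw [map_mul, hevX, hevX]
      have hev : ev (MvPolynomial.C c) = ((hu g a ha haq).unit * (mon m)⁻¹ : Tˣ) := by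
        rw [hC]; rfl
      rw [hev]
      have hM : mon m * (mon fun i => ((-m i).toNat : ℤ)) = mon fun i => ((m i).toNat : ℤ) := by
        simp only [mon, ← Finset.prod_mul_distrib, ← zpow_add]
        exact Finset.prod_congr rfl fun i _ => congrArg _ (by omega)
      rw [← hM, Units.val_mul, Units.val_mul]
      calc φ a * (mon fun i => ((-m i).toNat : ℤ) : Tˣ)
          = φ a * (((mon m)⁻¹ : Tˣ) * (mon m : Tˣ) : T) * (mon fun i => ((-m i).toNat : ℤ) : Tˣ) := by simp
        _ = _ := by rw [IsUnit.unit_spec]; ring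
    | hadd a b ha hb =>
      obtain ⟨f, m, hf⟩ := ha
      obtain ⟨f', m', hf'⟩ := hb
      refine ⟨f * ∏ i, MvPolynomial.X i ^ m' i + f' * ∏ i, MvPolynomial.X i ^ m i, fun i => m i + m' i, ?_⟩
      simp only [map_add, map_mul, pow_add, Finset.prod_mul_distrib, ← hf, ← hf']
      ring
  have hinj : Function.Injective ev := by
    rw [injective_iff_map_eq_zero]
    intro f hf
    rw [f.as_sum, map_sum] at hf
    have h1 := frac_independent 𝒜 q φ hqh hker hu f.support (fun m => deg fun i => (m i : ℤ))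
      (fun m _ m' _ h => Finsupp.ext fun i => by simpa using congrFun (hdeg h) i)
      (fun m => ev (MvPolynomial.monomial m (f.coeff m))) ?_ hf
    · refine MvPolynomial.ext _ _ fun m => ?_
      rw [MvPolynomial.coeff_zero]
      by_contra hm
      have h2 := h1 m (MvPolynomial.mem_support_iff.2 hm)
      rw [MvPolynomial.monomial_eq, map_mul, Finsupp.prod_pow, hevX] at h2
      have h3 : ((MvPolynomial.coeff m f : k) : T) = 0 := by
        have := (Units.isUnit _).mul_left_eq_zero.1 h2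
        rwa [hC] at this
      exact hm (Subtype.ext h3)
    · intro m _
      obtain ⟨g, h, a, b, ha, hb, -, hbq, hx, hxe⟩ := hmon fun i => (m i : ℤ)
      obtain ⟨g₀, a₀, b₀, ha₀, hb₀, hbq₀, he₀⟩ := (MvPolynomial.coeff m f).2
      refine ⟨g₀ + g, g₀ + h, a₀ * a, b₀ * b, SetLike.mul_mem_graded ha₀ ha, SetLike.mul_mem_graded hb₀ hb,
        fun e => (hq.mem_or_mem e).elim hbq₀ hbq, ?_, ?_⟩
      · rw [add_sub_add_left_eq_sub]
        exact (Multiplicative.ofAdd.injective hx).symm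
      · rw [MvPolynomial.monomial_eq, map_mul, Finsupp.prod_pow, hevX, map_mul, map_mul, ← he₀, ← hxe]
        rw [hC]
        ring
  let Q : Ideal P := (IsLocalRing.maximalIdeal T).comap ev
  let _ : Algebra P T := ev.toAlgebra
  have : IsLocalization.AtPrime T Q := by
    refine (isLocalization_iff _ _).2 ⟨fun f => ?_, fun y => ?_, fun {f f'} h => ⟨1, ?_⟩⟩
    · exact IsLocalRing.notMem_maximalIdeal.1 f.2
    · obtain ⟨r, s, hs, hy⟩ := hsurj y
      obtain ⟨f₁, m₁, h₁⟩ := hW r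
      obtain ⟨f₂, m₂, h₂⟩ := hW s
      refine ⟨⟨f₁ * ∏ i, MvPolynomial.X i ^ m₂ i, ⟨f₂ * ∏ i, MvPolynomial.X i ^ m₁ i, ?_⟩⟩, ?_⟩
      · refine IsLocalRing.notMem_maximalIdeal.2 ?_
        rw [map_mul, ← h₂, hevX, hevX]
        exact (hs.mul (Units.isUnit _)).mul (Units.isUnit _)
      · show y * ev _ = ev _
        show y * ev (f₂ * _) = ev (f₁ * _)
        rw [map_mul, map_mul, ← h₁, ← h₂, ← hy]
        ring
    · rw [hinj h]
  haveI : IsRegularLocalRing (Localization.AtPrime Q) := isRegularRing_iff.1 (inferInstanceAs (IsRegularRing P)) Q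
  let eT := (IsLocalization.algEquiv Q.primeCompl (Localization.AtPrime Q) T).toRingEquiv
  refine ⟨IsRegularLocalRing.of_ringEquiv (R := Localization.AtPrime Q) eT, ?_⟩
  have hP : ringKrullDim P = (n : ℕ) := by
    rw [MvPolynomial.ringKrullDim_of_isNoetherianRing, ringKrullDim_eq_zero_of_isField hk]
    simp
  rw [IsLocalization.AtPrime.ringKrullDim_eq_height Q T]
  refine (Ideal.height_le_ringKrullDim_of_ne_top Ideal.IsPrime.ne_top').trans ?_
  rw [hP]
  exact_mod_cast hn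

/-- The local ring of a graded domain at a prime with no homogeneous elements is regular. -/
theorem isRegularLocalRing_of_frac [hq : q.IsPrime] (hqh : q.IsHomogeneous 𝒜) [IsLocalRing T]
    (hker : ∀ r, φ r = 0 ↔ r ∈ q)
    (hu : ∀ (g : ι) (a : R), a ∈ 𝒜 g → a ∉ q → IsUnit (φ a))
    (hsurj : ∀ y : T, ∃ r s : R, IsUnit (φ s) ∧ y * φ s = φ r) : IsRegularLocalRing T :=
  (regular_and_dim_le_of_frac 𝒜 q φ hqh hker hu hsurj).1

end GrModLib
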