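import Groth.Agent.GrModLib.BassExt
import Groth.Agent.GrModLib.BassCount
import Groth.Agent.GrModLib.GrField
import Groth.Prelude.Def_GrLC2

/-! Bass numbers of graded modules at non-graded primes. -/

set_option autoImplicit false
universe u

open DirectSum CategoryTheory

namespace GrModLib

variable {ι : Type} [AddCommGroup ι] [DecidableEq ι] {R : Type u} [CommRing R]
  {𝒜 : ι → AddSubgroup R} [GradedRing 𝒜]

/-- The multiplicative set generated by the homogeneous elements outside `q`. -/
def homCompl (𝒜 : ι → AddSubgroup R) (q : Ideal R) : Submonoid R :=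
  Submonoid.closure {a | (∃ g, a ∈ 𝒜 g) ∧ a ∉ q}

omit [AddCommGroup ι] [DecidableEq ι] [GradedRing 𝒜] in
theorem homCompl_le {q p : Ideal R} [p.IsPrime] (h : ∀ g, ∀ a ∈ 𝒜 g, a ∉ q → a ∉ p) :
    homCompl 𝒜 q ≤ p.primeCompl :=
  Submonoid.closure_le.2 fun a ha => h _ a ha.1.choose_spec ha.2

/-- A homogeneous family, independent modulo `q`, spanning up to homogeneous denominators. -/
theorem exists_indep_homogeneous {M : Type u} [AddCommGroup M] [Module R M] (ℳ : ι → AddSubgroup M)
    [DirectSum.Decomposition ℳ] [SetLike.GradedSMul 𝒜 ℳ] (q : Ideal R) (hq : q.IsHomogeneous 𝒜)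
    (hkill : ∀ r ∈ q, ∀ x : M, r • x = 0) :
    ∃ (κ : Type u) (v : κ → M), (∀ i, ∃ g, v i ∈ ℳ g) ∧ (∀ c : κ →₀ R, Finsupp.linearCombination R v c = 0 → ∀ k, c k ∈ q) ∧
      ∀ y : M, ∃ s ∈ homCompl 𝒜 q, s • y ∈ Submodule.span R (Set.range v) := by
  classical
  let P : Set M → Prop := fun B => (∀ x ∈ B, ∃ g, x ∈ ℳ g) ∧
    ∀ c : M →₀ R, ↑c.support ⊆ B → Finsupp.linearCombination R id c = 0 → ∀ x, c x ∈ q
  obtain ⟨B, -, hB⟩ := zorn_subset_nonempty {B | P B} (fun c hc hchain hne => by
    refine ⟨⋃₀ c, ⟨fun x ⟨B, hB, hx⟩ => (hc hB).1 x hx, fun f hf h0 x => ?_⟩, fun B hB => Set.subset_sUnion_of_mem hB⟩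
    rw [Set.sUnion_eq_biUnion] at hf
    obtain ⟨B, hB, hfB⟩ := DirectedOn.exists_mem_subset_of_finset_subset_biUnion hne
      (f := id) hchain.directedOn hf
    exact (hc hB).2 f hfB h0 x) ∅ ⟨fun x hx => hx.elim, fun f hf _ x => by
        rw [show f = 0 from Finsupp.support_eq_empty.1 (by rwa [Set.subset_empty_iff, Finset.coe_eq_empty] at hf)]
        exact q.zero_mem⟩
  obtain ⟨⟨hBh, hBi⟩, hmax⟩ := hB
  refine ⟨B, Subtype.val, fun i => hBh i.1 i.2, fun c hc k => ?_, ?_⟩
  · have h1 := hBi (c.mapDomain Subtype.val) (fun x hx => by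
      obtain ⟨k', -, rfl⟩ := Finset.mem_image.1 (Finsupp.mapDomain_support hx)
      exact k'.2) (by rw [Finsupp.linearCombination_mapDomain]; exact hc) k
    rwa [Finsupp.mapDomain_apply Subtype.val_injective] at h1
  rw [Subtype.range_coe]
  have key : ∀ (g : ι) (y : M), y ∈ ℳ g → ∃ s ∈ homCompl 𝒜 q, s • y ∈ Submodule.span R B := by
    intro g y hy
    by_cases hyB : y ∈ B
    · exact ⟨1, one_mem _, by rw [one_smul]; exact Submodule.subset_span hyB⟩
    by_contra hcon
    push Not at hcon
    refine hyB (hmax ⟨?_, ?_⟩ (Set.subset_insert y B) (Set.mem_insert y B))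
    · rintro x (rfl | hx)
      exacts [⟨g, hy⟩, hBh x hx]
    intro c hc h0
    have hsplit : c = Finsupp.single y (c y) + c.erase y := (Finsupp.single_add_erase y c).symm
    have hsupp : ↑(c.erase y).support ⊆ B := fun x hx => by
      rw [Finsupp.support_erase, Finset.coe_erase] at hx
      exact (hc hx.1).resolve_left hx.2
    have h1 : c y • y + Finsupp.linearCombination R id (c.erase y) = 0 := by
      rwa [hsplit, map_add, Finsupp.linearCombination_single] at h0
    have hcy : c y ∈ q := by
      by_contra hcy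
      obtain ⟨s, -, hs⟩ := exists_finset 𝒜 (c y)
      obtain ⟨h, hh⟩ : ∃ h, pr 𝒜 h (c y) ∉ q := by
        by_contra hall
        push Not at hall
        exact hcy (hs ▸ sum_mem fun h _ => hall h)
      refine hcon _ (Submonoid.subset_closure ⟨⟨h, pr_mem 𝒜 h _⟩, hh⟩) ?_
      have h2 : c y • y ∈ Submodule.span R B := by
        rw [eq_neg_of_add_eq_zero_left h1]
        refine neg_mem ?_
        rw [Finsupp.linearCombination_apply]
        exact sum_mem fun x hx => Submodule.smul_mem _ _ (Submodule.subset_span (hsupp hx))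
      have h3 := span_isHomogeneous 𝒜 ℳ hBh (h + g) h2
      change pr ℳ (h + g) (c y • y) ∈ _ at h3
      rwa [pr_smul_mem 𝒜 ℳ hy, add_sub_cancel_right] at h3
    rw [hkill _ hcy, zero_add] at h1
    intro x
    by_cases hx : x = y
    · rw [hx]; exact hcy
    · rw [← Finsupp.erase_ne hx]; exact hBi _ hsupp h1 x
  intro y
  induction y using induction ℳ with
  | h0 => exact ⟨1, one_mem _, by simp⟩
  | hmem g m hm => exact key g m hm
  | hadd a b ha hb =>
    obtain ⟨s, hs, hsa⟩ := ha
    obtain ⟨t, ht, htb⟩ := hb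
    refine ⟨s * t, mul_mem hs ht, ?_⟩
    rw [smul_add, show (s * t) • a = t • s • a by rw [← mul_smul, mul_comm], mul_smul s t b]
    exact add_mem (Submodule.smul_mem _ t hsa) (Submodule.smul_mem _ s htb)

/-- A family, independent modulo `q`, spanning up to homogeneous denominators. -/
theorem exists_indep {M : Type u} [AddCommGroup M] [Module R M] (ℳ : ι → AddSubgroup M)
    [DirectSum.Decomposition ℳ] [SetLike.GradedSMul 𝒜 ℳ] (q : Ideal R) (hq : q.IsHomogeneous 𝒜)
    (hkill : ∀ r ∈ q, ∀ x : M, r • x = 0) :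
    ∃ (κ : Type u) (v : κ → M), (∀ c : κ →₀ R, Finsupp.linearCombination R v c = 0 → ∀ k, c k ∈ q) ∧
      ∀ y : M, ∃ s ∈ homCompl 𝒜 q, s • y ∈ Submodule.span R (Set.range v) :=
  let ⟨κ, v, _, h⟩ := exists_indep_homogeneous ℳ q hq hkill
  ⟨κ, v, h⟩

variable [IsNoetherianRing R]

section Localized

variable (S : Submonoid R) (q : Ideal R)

/-- Killed elements of a localisation. -/
theorem tors_localized {X : Type u} [AddCommGroup X] [Module R X] (x : X) (s : S) :
    LocalizedModule.mk x s ∈ tors (q.map (algebraMap R (Localization S))) (LocalizedModule S X) ↔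
      ∃ t ∈ S, t • x ∈ tors q X := by
  classical
  rw [mem_tors]
  constructor
  · intro h
    obtain ⟨G, hG⟩ := (IsNoetherian.noetherian q : q.FG)
    have h1 : ∀ r ∈ G, ∃ t : S, (t : R) • r • x = 0 := fun r hr => by
      have h2 := h _ (Ideal.mem_map_of_mem _ (hG ▸ Submodule.subset_span hr))
      rw [IsScalarTower.algebraMap_smul, LocalizedModule.smul'_mk, ← LocalizedModule.zero_mk s] at h2
      obtain ⟨u, hu⟩ := LocalizedModule.mk_eq.1 h2
      refine ⟨u * s, ?_⟩
      rw [Submonoid.coe_mul, mul_smul]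
      simpa [Submonoid.smul_def] using hu
    choose t ht using h1
    refine ⟨∏ r : G, (t r.1 r.2 : R), prod_mem fun r _ => (t r.1 r.2).2, (mem_tors q).2 fun a ha => ?_⟩
    rw [← hG] at ha
    induction ha using Submodule.span_induction with
    | mem r hr =>
      rw [← Finset.prod_erase_mul _ _ (Finset.mem_univ (⟨r, hr⟩ : G)), mul_smul, smul_comm, smul_comm r,
        ht r hr, smul_zero]
    | zero => exact zero_smul R _
    | add a b _ _ ha hb => rw [add_smul, ha, hb, add_zero]
    | smul c a _ ha => rw [smul_eq_mul, mul_smul, ha, smul_zero]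
  · rintro ⟨t, ht, htx⟩ a ha
    induction ha using Submodule.span_induction with
    | mem a ha =>
      obtain ⟨r, hr, rfl⟩ := ha
      rw [IsScalarTower.algebraMap_smul, LocalizedModule.smul'_mk, ← LocalizedModule.zero_mk s, LocalizedModule.mk_eq]
      refine ⟨⟨t, ht⟩, ?_⟩
      simp only [smul_zero, Submonoid.smul_def]
      rw [smul_comm, smul_comm t r, (mem_tors q).1 htx r hr, smul_zero]
    | zero => exact zero_smul _ _
    | add a b _ _ ha hb => rw [add_smul, ha, hb, add_zero]
    | smul c a _ ha => rw [smul_eq_mul, mul_smul, ha, smul_zero]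

/-- The localised complex. -/
noncomputable def locD {X : ℕ → Type u} [∀ n, AddCommGroup (X n)] [∀ n, Module R (X n)]
    (d : ∀ n, X n →ₗ[R] X (n + 1)) (n : ℕ) :
    LocalizedModule S (X n) →ₗ[Localization S] LocalizedModule S (X (n + 1)) :=
  LocalizedModule.map S (d n)

variable {X : ℕ → Type u} [∀ n, AddCommGroup (X n)] [∀ n, Module R (X n)] (d : ∀ n, X n →ₗ[R] X (n + 1))

theorem mem_torsZ_localized {i : ℕ} (x : X i) (s : S) :
    LocalizedModule.mk x s ∈ torsZ (q.map (algebraMap R (Localization S))) (fun n => LocalizedModule S (X n))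
      (locD S d) i ↔ ∃ t ∈ S, t • x ∈ torsZ q X d i := by
  constructor
  · rintro ⟨h1, h2⟩
    obtain ⟨t, ht, htx⟩ := (tors_localized S q x s).1 h1
    rw [SetLike.mem_coe, LinearMap.mem_ker, locD, LocalizedModule.map_mk, ← LocalizedModule.zero_mk s,
      LocalizedModule.mk_eq] at h2
    obtain ⟨u, hu⟩ := h2
    simp only [smul_zero, Submonoid.smul_def] at hu
    refine ⟨t * ((u : R) * s), mul_mem ht (mul_mem u.2 s.2), ?_, ?_⟩
    · rw [mul_comm, mul_smul]; exact Submodule.smul_mem _ _ htx
    · show d i ((t * ((u : R) * s)) • x) = 0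
      rw [map_smul, mul_smul, mul_smul, hu, smul_zero]
  · rintro ⟨t, ht, h1, h2⟩
    refine ⟨(tors_localized S q x s).2 ⟨t, ht, h1⟩, ?_⟩
    rw [SetLike.mem_coe, LinearMap.mem_ker, locD, LocalizedModule.map_mk, ← LocalizedModule.zero_mk s,
      LocalizedModule.mk_eq]
    refine ⟨⟨t, ht⟩, ?_⟩
    simp only [smul_zero, Submonoid.smul_def]
    rw [smul_comm, ← map_smul, show d i (t • x) = 0 from h2, smul_zero]

theorem mem_torsB_localized {i : ℕ} (x : X i) (s : S) :
    LocalizedModule.mk x s ∈ torsB (q.map (algebraMap R (Localization S))) (fun n => LocalizedModule S (X n))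
      (locD S d) i ↔ ∃ t ∈ S, t • x ∈ torsB q X d i := by
  cases i with
  | zero =>
    rw [show torsB _ (fun n => LocalizedModule S (X n)) (locD S d) 0 = ⊥ from rfl, Submodule.mem_bot,
      ← LocalizedModule.zero_mk s, LocalizedModule.mk_eq]
    constructor
    · rintro ⟨u, hu⟩
      simp only [smul_zero, Submonoid.smul_def] at hu
      exact ⟨(u : R) * s, mul_mem u.2 s.2, by rw [mul_smul, hu]; exact zero_mem _⟩
    · rintro ⟨t, ht, htx⟩
      refine ⟨⟨t, ht⟩, ?_⟩
      simp only [smul_zero, Submonoid.smul_def]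
      rw [smul_comm, (Submodule.mem_bot R).1 htx, smul_zero]
  | succ i =>
    constructor
    · rintro ⟨y, hy, hxy⟩
      induction y using LocalizedModule.induction_on with
      | h m t =>
        obtain ⟨t', ht', htm⟩ := (tors_localized S q m t).1 hy
        rw [locD, LocalizedModule.map_mk, LocalizedModule.mk_eq] at hxy
        obtain ⟨u, hu⟩ := hxy
        simp only [Submonoid.smul_def] at hu
        refine ⟨t' * ((u : R) * t), mul_mem ht' (mul_mem u.2 t.2), ((u : R) * s) • t' • m,
          Submodule.smul_mem _ _ htm, ?_⟩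
        rw [map_smul, map_smul, mul_smul t', mul_smul (u : R) (t : R), ← hu, smul_comm ((u : R) * s) t',
          mul_smul (u : R) (s : R)]
    · rintro ⟨t, ht, y, hy, hyx⟩
      refine ⟨LocalizedModule.mk y (⟨t, ht⟩ * s), (tors_localized S q y _).2 ⟨1, one_mem S, by rwa [one_smul]⟩, ?_⟩
      rw [locD, LocalizedModule.map_mk, hyx, LocalizedModule.mk_eq]
      refine ⟨1, ?_⟩
      simp only [one_smul, Submonoid.smul_def, Submonoid.coe_mul]
      rw [← mul_smul, mul_comm]

/-- A basis of the localised cohomology. -/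
theorem nonempty_finsupp_equiv (i : ℕ) (κ : Type u) (z : κ → torsZ q X d i) (hdis : ∀ r ∈ q, r ∉ S)
    (hqp : q.IsPrime)
    (hind : ∀ c : κ →₀ R, Finsupp.linearCombination R (fun k => (z k : X i)) c ∈ torsB q X d i → ∀ k, c k ∈ q)
    (hgen : ∀ y : torsZ q X d i, ∃ s ∈ S, ∃ c : κ →₀ R,
      s • (y : X i) - Finsupp.linearCombination R (fun k => (z k : X i)) c ∈ torsB q X d i) :
    Nonempty ((↥(torsZ (q.map (algebraMap R (Localization S))) (fun n => LocalizedModule S (X n)) (locD S d) i) ⧸
      (torsB (q.map (algebraMap R (Localization S))) (fun n => LocalizedModule S (X n)) (locD S d) i).comap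
        (torsZ (q.map (algebraMap R (Localization S))) (fun n => LocalizedModule S (X n)) (locD S d) i).subtype)
      ≃ₗ[Localization S] (κ →₀ Localization S ⧸ q.map (algebraMap R (Localization S)))) := by
  classical
  set J := q.map (algebraMap R (Localization S))
  set Z := torsZ J (fun n => LocalizedModule S (X n)) (locD S d) i
  set B := (torsB J (fun n => LocalizedModule S (X n)) (locD S d) i).comap Z.subtype
  have hmem : ∀ k, LocalizedModule.mk (z k : X i) (1 : S) ∈ Z :=
    fun k => (mem_torsZ_localized S q d _ _).2 ⟨1, one_mem S, by rw [one_smul]; exact (z k).2⟩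
  let e : κ → Z ⧸ B := fun k => B.mkQ ⟨_, hmem k⟩
  have hJ : ∀ (a : Localization S), a ∈ J → ∀ w : Z ⧸ B, a • w = 0 := by
    intro a ha w
    obtain ⟨w, rfl⟩ := B.mkQ_surjective w
    rw [← map_smul, show a • w = 0 from Subtype.ext ((mem_tors J).1 w.2.1 a ha), map_zero]
  let Φ : (κ →₀ Localization S ⧸ J) →ₗ[Localization S] Z ⧸ B :=
    Finsupp.lsum ℕ fun k => Submodule.liftQ J (LinearMap.toSpanSingleton (Localization S) _ (e k))
      fun a ha => hJ a ha (e k)
  have hΦ : ∀ c : κ →₀ R, ∀ s : S,
      (Finsupp.linearCombination R (fun k => (z k : X i)) c) ∈ (torsZ q X d i) →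
      ∀ hm, Φ (c.mapRange (fun r => Submodule.Quotient.mk (Localization.mk r s))
        (by rw [Localization.mk_zero]; rfl)) =
        B.mkQ ⟨LocalizedModule.mk (Finsupp.linearCombination R (fun k => (z k : X i)) c) s, hm⟩ := by
    intro c s _ hm
    rw [Finsupp.lsum_apply, Finsupp.sum_mapRange_index (fun k => map_zero _)]
    have h1 : (⟨_, hm⟩ : Z) = c.sum fun k r => Localization.mk r s • (⟨_, hmem k⟩ : Z) := by
      apply Subtype.ext
      show LocalizedModule.mk (Finsupp.linearCombination R (fun k => (z k : X i)) c) s = _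
      rw [Finsupp.linearCombination_apply, Finsupp.sum, Finsupp.sum, Submodule.coe_sum]
      simp only [Submodule.coe_smul, LocalizedModule.mk_smul_mk, mul_one]
      exact map_sum (M := X i) (AddMonoidHom.mk' (fun x => LocalizedModule.mk x s) fun a b => by
        rw [LocalizedModule.mk_add_mk, ← smul_add, LocalizedModule.mk_cancel_common_left]) _ _
    rw [h1, map_finsuppSum]
    exact Finsupp.sum_congr fun k _ => (map_smul B.mkQ _ _).symm
  refine ⟨(LinearEquiv.ofBijective Φ ⟨?_, ?_⟩).symm⟩
  · rw [injective_iff_map_eq_zero]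
    intro c hc
    obtain ⟨c', hc'⟩ := Finsupp.mapRange_surjective (Submodule.Quotient.mk (p := J)) rfl
      (Submodule.Quotient.mk_surjective J) c
    obtain ⟨b, hb⟩ := IsLocalization.exist_integer_multiples S c'.support c'
    choose! r hr using fun k (hk : k ∈ c'.support) => hb k hk
    let a : κ →₀ R := Finsupp.onFinset c'.support (fun k => if k ∈ c'.support then r k else 0)
      fun k hk => by by_contra h; exact hk (if_neg h)
    have ha : a.mapRange (fun x => Submodule.Quotient.mk (p := J) (Localization.mk x b))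
        (by rw [Localization.mk_zero]; rfl) = c := by
      rw [← hc']
      ext k
      simp only [Finsupp.mapRange_apply, a, Finsupp.onFinset_apply]
      congr 1
      by_cases hk : k ∈ c'.support
      · rw [if_pos hk, Localization.mk_eq_mk', IsLocalization.mk'_eq_iff_eq_mul, hr k hk, Algebra.smul_def,
          mul_comm]
      · rw [if_neg hk, Localization.mk_zero, Finsupp.notMem_support_iff.1 hk]
    have hmem' : Finsupp.linearCombination R (fun k => (z k : X i)) a ∈ torsZ q X d i := by
      rw [Finsupp.linearCombination_apply]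
      exact sum_mem fun k _ => Submodule.smul_mem _ _ (z k).2
    have h2 := hΦ a b hmem' ((mem_torsZ_localized S q d _ _).2 ⟨1, one_mem S, by rwa [one_smul]⟩)
    rw [ha, hc] at h2
    obtain ⟨t, ht, htB⟩ := (mem_torsB_localized S q d _ _).1 ((Submodule.Quotient.mk_eq_zero B).1 h2.symm)
    rw [← map_smul] at htB
    rw [← hc']
    ext k
    rw [Finsupp.mapRange_apply, Finsupp.zero_apply, Submodule.Quotient.mk_eq_zero]
    have h3 := hind _ htB k
    rw [Finsupp.smul_apply, smul_eq_mul] at h3
    have h4 : a k ∈ q := (hqp.mem_or_mem h3).resolve_left fun h => hdis t h ht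
    by_cases hk : k ∈ c'.support
    · simp only [a, Finsupp.onFinset_apply, if_pos hk] at h4
      have h5 : algebraMap R (Localization S) (r k) ∈ J := Ideal.mem_map_of_mem _ h4
      rw [hr k hk, Algebra.smul_def] at h5
      exact (J.unit_mul_mem_iff_mem (IsLocalization.map_units _ b)).1 h5
    · rw [Finsupp.notMem_support_iff.1 hk]; exact J.zero_mem
  · intro w
    obtain ⟨⟨w, hw⟩, rfl⟩ := B.mkQ_surjective w
    induction w using LocalizedModule.induction_on with
    | h x s =>
      obtain ⟨t, ht, htx⟩ := (mem_torsZ_localized S q d _ _).1 hw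
      obtain ⟨u, hu, c, hc⟩ := hgen ⟨t • x, htx⟩
      have hmem' : Finsupp.linearCombination R (fun k => (z k : X i)) c ∈ torsZ q X d i := by
        rw [Finsupp.linearCombination_apply]
        exact sum_mem fun k _ => Submodule.smul_mem _ _ (z k).2
      refine ⟨_, (hΦ c (⟨u, hu⟩ * ⟨t, ht⟩ * s) hmem'
        ((mem_torsZ_localized S q d _ _).2 ⟨1, one_mem S, by rwa [one_smul]⟩)).trans ((Submodule.Quotient.eq B).2 ?_)⟩
      show LocalizedModule.mk _ _ - LocalizedModule.mk x s ∈ torsB J (fun n => LocalizedModule S (X n)) (locD S d) i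
      have e1 : LocalizedModule.mk (u • t • x) (⟨u, hu⟩ * ⟨t, ht⟩ * s) = LocalizedModule.mk x s := by
        rw [← mul_smul]
        exact LocalizedModule.mk_cancel_common_left (⟨u, hu⟩ * ⟨t, ht⟩) s x
      rw [← e1]
      have e2 : ∀ (y y' : X i) (w : S), LocalizedModule.mk y w - LocalizedModule.mk y' w = LocalizedModule.mk (y - y') w := by
        intro y y' w
        rw [sub_eq_iff_eq_add, LocalizedModule.mk_add_mk, ← smul_add, LocalizedModule.mk_cancel_common_left, sub_add_cancel]
      rw [e2]
      refine (mem_torsB_localized S q d _ _).2 ⟨1, one_mem S, ?_⟩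
      rw [one_smul, ← neg_sub]
      exact neg_mem hc

end Localized

end GrModLib
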