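import Groth.Agent.GrModLib.Ext

/-! `Ext` of localised *injective modules, and `Ext` of a cyclic module from an acyclic resolution. -/

set_option autoImplicit false
universe u

open DirectSum CategoryTheory

namespace GrModLib

section LocExt

variable {ι : Type} [AddCommGroup ι] [DecidableEq ι] {R : Type u} [CommRing R] [IsNoetherianRing R]
  {𝒜 : ι → AddSubgroup R} [GradedRing 𝒜]
  {I : Type u} [AddCommGroup I] [Module R I] {ℐ : ι → AddSubgroup I} [DirectSum.Decomposition ℐ]
  [SetLike.GradedSMul 𝒜 ℐ]

/-- The localisation of a *injective module has no higher `Ext` from localised graded modules. -/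
theorem subsingleton_ext_localized (hI : GrLC.IsStarInj 𝒜 ℐ) (S : Submonoid R) :
    ∀ (i : ℕ) (M : Type u) [AddCommGroup M] [Module R M] [Module.Finite R M] (ℳ : ι → AddSubgroup M)
      [DirectSum.Decomposition ℳ] [SetLike.GradedSMul 𝒜 ℳ],
      Subsingleton (Abelian.Ext.{u} (ModuleCat.of (Localization S) (LocalizedModule S M))
        (ModuleCat.of (Localization S) (LocalizedModule S I)) (i + 1)) := by
  intro i
  induction i with
  | zero | succ i ih =>
    intro M _ _ _ ℳ _ _
    classical
    obtain ⟨k, d, m, hm, hspan⟩ := exists_homogeneous_generators 𝒜 ℳ (top_isHomogeneous ℳ)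
      (Module.Finite.fg_top (R := R) (M := M))
    letI := (freeGr_isInternal (𝒜 := 𝒜) d).chooseDecomposition
    haveI := freeGr_gradedSMul (𝒜 := 𝒜) d
    let π : (Fin k → R) →ₗ[R] M := Fintype.linearCombination R m
    have hπ : GrLC.IsGrHom (freeGr 𝒜 d) ℳ π := fun g v hv => by
      rw [Fintype.linearCombination_apply]
      refine sum_mem fun j _ => ?_
      have := smul_mem 𝒜 ℳ (hv j (Set.mem_univ j)) (hm j)
      rwa [sub_add_cancel] at this
    have hsur : Function.Surjective π := by
      rw [← LinearMap.range_eq_top, Fintype.range_linearCombination, hspan]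
    let K := LinearMap.ker π
    letI := (subGr_isInternal K (ker_isHomogeneous hπ)).chooseDecomposition
    haveI : SetLike.GradedSMul 𝒜 (subGr K (freeGr 𝒜 d)) :=
      ⟨fun {h g r m} hr hv => smul_mem 𝒜 (freeGr 𝒜 d) hr hv⟩
    let fS : LocalizedModule S K →ₗ[Localization S] LocalizedModule S (Fin k → R) := LocalizedModule.map S K.subtype
    let gS : LocalizedModule S (Fin k → R) →ₗ[Localization S] LocalizedModule S M := LocalizedModule.map S π
    have hfS : Function.Injective fS := LocalizedModule.map_injective S _ K.injective_subtype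
    have hgS : Function.Surjective gS := LocalizedModule.map_surjective S _ hsur
    have hexS : Function.Exact fS gS := LocalizedModule.map_exact S _ _ (LinearMap.exact_subtype_ker_map π)
    have hS : (ShortComplex.moduleCatMk (R := Localization S) (X₁ := LocalizedModule S K) (X₂ := LocalizedModule S (Fin k → R))
        (X₃ := LocalizedModule S M) fS gS hexS.linearMap_comp_eq_zero).ShortExact :=
      { exact := (ShortComplex.ShortExact.moduleCat_exact_iff_function_exact _).2 hexS
        mono_f := (ModuleCat.mono_iff_injective _).2 hfS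
        epi_g := (ModuleCat.epi_iff_surjective _).2 hgS }
    haveI : Module.Free (Localization S) (LocalizedModule S (Fin k → R)) :=
      Module.Free.of_basis ((Pi.basisFun R (Fin k)).ofIsLocalizedModule (Localization S) S
        (LocalizedModule.mkLinearMap S (Fin k → R)))
    haveI : Projective (ModuleCat.of (Localization S) (LocalizedModule S (Fin k → R))) := inferInstance
    refine subsingleton_of_forall_eq 0 fun x => ?_
    obtain ⟨x₁, hx₁⟩ := Abelian.Ext.contravariant_sequence_exact₃ hS (ModuleCat.of (Localization S) (LocalizedModule S I)) x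
      (Abelian.Ext.eq_zero_of_projective (P := ModuleCat.of (Localization S) (LocalizedModule S (Fin k → R))) _)
      (Nat.add_comm 1 _)
    rw [← hx₁]
    first
      | (haveI := ih K (subGr K (freeGr 𝒜 d))
         rw [Subsingleton.elim (α := Abelian.Ext (ModuleCat.of (Localization S) (LocalizedModule S K))
           (ModuleCat.of (Localization S) (LocalizedModule S I)) (i + 1)) x₁ 0]
         exact Abelian.Ext.comp_zero ..)
      | (obtain ⟨φ, rfl⟩ := (Abelian.Ext.mk₀_bijective _ _).2 x₁
         haveI : Module.FinitePresentation R K := Module.finitePresentation_of_finite R K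
         let φ' : LocalizedModule S K →ₗ[Localization S] LocalizedModule S I := φ.hom
         obtain ⟨ψ, s, hψ⟩ := Module.FinitePresentation.exists_lift_of_isLocalizedModule S
           (LocalizedModule.mkLinearMap S I) ((φ'.restrictScalars R) ∘ₗ LocalizedModule.mkLinearMap S K)
         obtain ⟨h, hh⟩ := extend_linear hI (subGr K (freeGr 𝒜 d)) (freeGr 𝒜 d) K.subtype
           (fun g v hv => hv) K.injective_subtype ψ
         let u : (Localization S)ˣ := (IsLocalization.map_units (Localization S) s).unit
         let Ψ : LocalizedModule S (Fin k → R) →ₗ[Localization S] LocalizedModule S I :=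
           ((u⁻¹ : (Localization S)ˣ) : Localization S) • LocalizedModule.map S h
         have hφ' : φ' = Ψ ∘ₗ fS := by
           apply LinearMap.restrictScalars_injective R
           refine IsLocalizedModule.ext S (LocalizedModule.mkLinearMap S K)
             (IsLocalizedModule.map_units (LocalizedModule.mkLinearMap S I)) ?_
           refine LinearMap.ext fun (z : K) => ?_
           show φ' (LocalizedModule.mk z 1) = Ψ (fS (LocalizedModule.mk z 1))
           have h1 : s • φ' (LocalizedModule.mk z 1) = LocalizedModule.mk (ψ z) 1 :=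
             (LinearMap.congr_fun hψ z).symm
           show _ = ((u⁻¹ : (Localization S)ˣ) : Localization S) •
             LocalizedModule.map S h (LocalizedModule.map S K.subtype (LocalizedModule.mk z 1))
           rw [LocalizedModule.map_mk, LocalizedModule.map_mk,
             show h (K.subtype z) = ψ z from LinearMap.congr_fun hh z, ← h1, Submonoid.smul_def,
             ← IsScalarTower.algebraMap_smul (Localization S) (s : R), ← mul_smul]
           rw [show algebraMap R (Localization S) s = (u : Localization S) from rfl, Units.inv_mul, one_smul]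
         rw [show φ = ModuleCat.ofHom fS ≫ ModuleCat.ofHom Ψ from ModuleCat.hom_ext hφ']
         erw [← Abelian.Ext.mk₀_comp_mk₀]
         exact hS.extClass_comp_assoc _)

end LocExt

section Cyclic

variable {A : Type u} [CommRing A] (J : Ideal A)

/-- The submodule killed by `J`. -/
abbrev tors (X : Type u) [AddCommGroup X] [Module A X] : Submodule A X := Submodule.torsionBySet A X (J : Set A)

theorem mem_tors {X : Type u} [AddCommGroup X] [Module A X] {x : X} : x ∈ tors J X ↔ ∀ a ∈ J, a • x = 0 :=
  ⟨fun h a ha => (Submodule.mem_torsionBySet_iff _ _).1 h ⟨a, ha⟩,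
    fun h => (Submodule.mem_torsionBySet_iff _ _).2 fun a => h a.1 a.2⟩

/-- The map `A ⧸ J → X` given by a killed element. -/
noncomputable def ofTors (X : Type u) [AddCommGroup X] [Module A X] : tors J X ≃ₗ[A] (A ⧸ J →ₗ[A] X) where
  toFun x := Submodule.liftQ J (LinearMap.toSpanSingleton A X x.1) fun a ha => (mem_tors J).1 x.2 a ha
  map_add' x y := Submodule.linearMap_qext _ (LinearMap.ext_ring (smul_add (1 : A) x.1 y.1))
  map_smul' r x := Submodule.linearMap_qext _ (LinearMap.ext_ring (smul_comm (1 : A) r x.1))
  invFun φ := ⟨φ (Submodule.Quotient.mk 1), (mem_tors J).2 fun a ha => by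
    rw [← map_smul, ← Submodule.Quotient.mk_smul, smul_eq_mul, mul_one,
      (Submodule.Quotient.mk_eq_zero J).2 ha, map_zero]⟩
  left_inv x := Subtype.ext (one_smul A x.1)
  right_inv φ := Submodule.linearMap_qext _ (LinearMap.ext_ring (one_smul A (φ (Submodule.Quotient.mk 1))))

/-- `Ext⁰` of a cyclic module. -/
noncomputable def torsExt0 (X : Type u) [AddCommGroup X] [Module A X] :
    tors J X ≃ₗ[A] Abelian.Ext.{u} (ModuleCat.of A (A ⧸ J)) (ModuleCat.of A X) 0 :=
  ((ofTors J X).trans
    (ModuleCat.homLinearEquiv (S := A) (M := ModuleCat.of A (A ⧸ J)) (N := ModuleCat.of A X)).symm).trans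
    Abelian.Ext.linearEquiv₀.symm

/-- Cocycles of `Hom(A ⧸ J, -)` of a complex. -/
def torsZ (X : ℕ → Type u) [∀ n, AddCommGroup (X n)] [∀ n, Module A (X n)]
    (d : ∀ n, X n →ₗ[A] X (n + 1)) (i : ℕ) : Submodule A (X i) :=
  tors J (X i) ⊓ LinearMap.ker (d i)

/-- Coboundaries of `Hom(A ⧸ J, -)` of a complex. -/
def torsB (X : ℕ → Type u) [∀ n, AddCommGroup (X n)] [∀ n, Module A (X n)]
    (d : ∀ n, X n →ₗ[A] X (n + 1)) : (i : ℕ) → Submodule A (X i)
  | 0 => ⊥
  | n + 1 => (tors J (X n)).map (d n)

/-- Acyclic resolutions compute `Ext`. -/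
theorem nonempty_equiv_ext :
    ∀ (i : ℕ) (M : Type u) [AddCommGroup M] [Module A M] (X : ℕ → Type u) [∀ n, AddCommGroup (X n)]
      [∀ n, Module A (X n)] (d : ∀ n, X n →ₗ[A] X (n + 1)) (ε : M →ₗ[A] X 0),
      Function.Injective ε → LinearMap.ker (d 0) = LinearMap.range ε →
      (∀ n, LinearMap.ker (d (n + 1)) = LinearMap.range (d n)) →
      (∀ n j, Subsingleton (Abelian.Ext.{u} (ModuleCat.of A (A ⧸ J)) (ModuleCat.of A (X n)) (j + 1))) →
      Nonempty ((↥(torsZ J X d i) ⧸ (torsB J X d i).comap (torsZ J X d i).subtype) ≃ₗ[A]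
        Abelian.Ext.{u} (ModuleCat.of A (A ⧸ J)) (ModuleCat.of A M) i) := by
  intro i
  induction i with
  | zero =>
    intro M _ _ X _ _ d ε hε h0 _ _
    let φ : tors J M →ₗ[A] torsZ J X d 0 := (ε ∘ₗ (tors J M).subtype).codRestrict _ fun m => by
      refine ⟨(mem_tors J).2 fun a ha => ?_, h0.ge ⟨m, rfl⟩⟩
      rw [LinearMap.comp_apply, ← map_smul]
      exact (congrArg ε ((mem_tors J).1 m.2 a ha)).trans (map_zero ε)
    have hφ : Function.Bijective φ := by
      refine ⟨fun x y h => Subtype.ext (hε (congrArg Subtype.val h)), fun z => ?_⟩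
      obtain ⟨m, hm⟩ := h0.le z.2.2
      exact ⟨⟨m, (mem_tors J).2 fun a ha => hε (by rw [map_smul, hm, (mem_tors J).1 z.2.1 a ha, map_zero])⟩,
        Subtype.ext hm⟩
    exact ⟨(Submodule.quotEquivOfEqBot _ (by
      show Submodule.comap _ ⊥ = ⊥
      rw [Submodule.comap_bot, Submodule.ker_subtype])).trans
      ((LinearEquiv.ofBijective φ hφ).symm.trans (torsExt0 J M))⟩
  | succ i ih =>
    intro M _ _ X _ _ d ε hε h0 h1 hacy
    let C := LinearMap.ker (d 1)
    let p : X 0 →ₗ[A] C := (d 0).codRestrict C fun x => (h1 0).ge ⟨x, rfl⟩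
    have hp : Function.Surjective p := fun c => by
      obtain ⟨x, hx⟩ := (h1 0).le c.2
      exact ⟨x, Subtype.ext hx⟩
    have hex : Function.Exact ε p := fun x => by
      show p x = 0 ↔ x ∈ LinearMap.range ε
      rw [← h0, LinearMap.mem_ker]
      exact ⟨fun h => congrArg Subtype.val h, fun h => Subtype.ext h⟩
    have hS : (ShortComplex.moduleCatMk ε p hex.linearMap_comp_eq_zero).ShortExact :=
      { exact := (ShortComplex.ShortExact.moduleCat_exact_iff_function_exact _).2 hex
        mono_f := (ModuleCat.mono_iff_injective _).2 hε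
        epi_g := (ModuleCat.epi_iff_surjective _).2 hp }
    let T := ModuleCat.of A (A ⧸ J)
    let δ : Abelian.Ext.{u} T (ModuleCat.of A C) i →ₗ[A] Abelian.Ext.{u} T (ModuleCat.of A M) (i + 1) :=
      hS.extClass.postcompOfLinear A T rfl
    have hepi : Function.Surjective δ := fun x =>
      Abelian.Ext.covariant_sequence_exact₁ T hS x ((hacy 0 i).elim _ _) rfl
    cases i with
    | zero =>
      let ψ : torsZ J X d 1 →ₗ[A] tors J C :=
        { toFun := fun z => ⟨⟨z.1, z.2.2⟩, (mem_tors J).2 fun a ha => Subtype.ext ((mem_tors J).1 z.2.1 a ha)⟩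
          map_add' := fun x y => rfl
          map_smul' := fun r x => rfl }
      have hψ : Function.Surjective ψ := fun w =>
        ⟨⟨w.1.1, (mem_tors J).2 fun a ha => congrArg Subtype.val ((mem_tors J).1 w.2 a ha), w.1.2⟩, rfl⟩
      let eC : tors J C ≃ₗ[A] Abelian.Ext.{u} T (ModuleCat.of A C) 0 := torsExt0 J C
      let θ : torsZ J X d 1 →ₗ[A] Abelian.Ext.{u} T (ModuleCat.of A M) 1 := δ ∘ₗ eC.toLinearMap ∘ₗ ψ
      have hθ : Function.Surjective θ := hepi.comp (eC.surjective.comp hψ)
      have heC : ∀ w : tors J C, eC w = Abelian.Ext.mk₀ (ModuleCat.ofHom (ofTors J C w)) := fun w => rfl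
      have hker : LinearMap.ker θ = (torsB J X d 1).comap (torsZ J X d 1).subtype := by
        ext z
        constructor
        · intro hz
          obtain ⟨y, hy⟩ := Abelian.Ext.covariant_sequence_exact₃ T hS (eC (ψ z)) rfl hz
          obtain ⟨φ, rfl⟩ := (Abelian.Ext.mk₀_bijective _ _).2 y
          rw [heC, Abelian.Ext.mk₀_comp_mk₀] at hy
          have h2 := congrArg (fun f : T ⟶ ModuleCat.of A C => ((f.hom (Submodule.Quotient.mk 1) : C) : X 1))
            ((Abelian.Ext.mk₀_bijective _ _).1 hy)
          refine ⟨φ.hom (Submodule.Quotient.mk 1), (mem_tors J).2 fun a ha => ?_, ?_⟩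
          · have h0' : a • (Submodule.Quotient.mk 1 : A ⧸ J) = 0 := by
              rw [← Submodule.Quotient.mk_smul, smul_eq_mul, mul_one, (Submodule.Quotient.mk_eq_zero J).2 ha]
            exact (map_smul φ.hom a _).symm.trans ((congrArg φ.hom h0').trans (map_zero φ.hom))
          · exact h2.trans (one_smul A z.1)
        · rintro ⟨x, hx, hxz⟩
          show δ (eC (ψ z)) = 0
          have h3 : eC (ψ z) = (Abelian.Ext.mk₀ (ModuleCat.ofHom (ofTors J (X 0) ⟨x, hx⟩))).comp
              (Abelian.Ext.mk₀ (ModuleCat.ofHom p)) (add_zero 0) := by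
            rw [heC, Abelian.Ext.mk₀_comp_mk₀]
            congr 1
            apply ModuleCat.hom_ext
            refine Submodule.linearMap_qext _ (LinearMap.ext_ring ?_)
            show (1 : A) • (ψ z).1 = p ((1 : A) • x)
            rw [one_smul, one_smul]
            exact Subtype.ext hxz.symm
          rw [h3]
          show (Abelian.Ext.comp _ _ _).comp hS.extClass rfl = 0
          rw [Abelian.Ext.comp_assoc _ _ _ (add_zero 0) (zero_add 1) (by omega)]
          erw [hS.comp_extClass]
          exact Abelian.Ext.comp_zero ..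
      exact ⟨(Submodule.quotEquivOfEq _ _ hker.symm).trans (θ.quotKerEquivOfSurjective hθ)⟩
    | succ i =>
      obtain ⟨e⟩ := ih C (fun n => X (n + 1)) (fun n => d (n + 1)) C.subtype C.injective_subtype
        (Submodule.range_subtype C).symm (fun n => h1 (n + 1)) (fun n j => hacy (n + 1) j)
      have hinj : Function.Injective δ := (injective_iff_map_eq_zero δ).2 fun x hx => by
        obtain ⟨y, rfl⟩ := Abelian.Ext.covariant_sequence_exact₃ T hS x rfl hx
        haveI := hacy 0 i
        rw [Subsingleton.elim (α := Abelian.Ext.{u} T (ModuleCat.of A (X 0)) (i + 1)) y 0]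
        exact Abelian.Ext.zero_comp ..
      exact ⟨e.trans (LinearEquiv.ofBijective δ ⟨hinj, hepi⟩)⟩

end Cyclic

end GrModLib
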