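import Groth.Agent.GrModLib.BassMain

/-! Bass numbers count indecomposable summands of minimal *injective resolutions. -/

set_option autoImplicit false
universe u

open DirectSum CategoryTheory

namespace GrModLib

variable {ι : Type} [AddCommGroup ι] [DecidableEq ι] [Module.Free ℤ ι] [Module.Finite ℤ ι] {R : Type u} [CommRing R]
  [IsNoetherianRing R] {𝒜 : ι → AddSubgroup R} [GradedRing 𝒜]
  {M : Type u} [AddCommGroup M] [Module R M] {ℳ : ι → AddSubgroup M} [DirectSum.Decomposition ℳ]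
  [SetLike.GradedSMul 𝒜 ℳ]

omit [Module.Free ℤ ι] [Module.Finite ℤ ι] [IsNoetherianRing R] in
theorem mem_tors_iff {X : Type u} [AddCommGroup X] [Module R X] {q : Ideal R} {x : X} :
    x ∈ tors q X ↔ ∀ r ∈ q, r • x = 0 := mem_tors q

/-- A basis of the killed cycles up to homogeneous denominators computes the Bass number. -/
theorem bassNum_eq_card (E : GrLC.StarInjRes 𝒜 ℳ) (q : Ideal R) [hq : q.IsPrime] (hqh : q.IsHomogeneous 𝒜)
    (i : ℕ) (κ : Type u) (z : κ → torsZ q (fun n => (E.X n).carrier) E.d i)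
    (hind : ∀ c : κ →₀ R, Finsupp.linearCombination R (fun k => (z k : (E.X i).carrier)) c ∈
      torsB q (fun n => (E.X n).carrier) E.d i → ∀ k, c k ∈ q)
    (hgen : ∀ y : torsZ q (fun n => (E.X n).carrier) E.d i, ∃ s ∈ homCompl 𝒜 q, ∃ c : κ →₀ R,
      s • (y : (E.X i).carrier) - Finsupp.linearCombination R (fun k => (z k : (E.X i).carrier)) c ∈
        torsB q (fun n => (E.X n).carrier) E.d i) :
    GrLC.bassNum q M i = ENat.card κ := by
  let X : ℕ → Type u := fun n => (E.X n).carrier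
  let S := q.primeCompl
  let A := Localization.AtPrime q
  let J := q.map (algebraMap R A)
  have hJ : J = IsLocalRing.maximalIdeal A := IsLocalization.AtPrime.map_eq_maximalIdeal q A
  obtain ⟨eq'⟩ := nonempty_quot_equiv S q
  obtain ⟨e1⟩ := nonempty_equiv_ext J i (LocalizedModule S M) (fun n => LocalizedModule S (X n)) (locD S E.d)
    (LocalizedModule.map S E.ε) (LocalizedModule.map_injective S _ E.ε_injective)
    (LinearMap.exact_iff.1 (LocalizedModule.map_exact S _ _ (LinearMap.exact_iff.2 E.exact_zero)))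
    (fun n => LinearMap.exact_iff.1 (LocalizedModule.map_exact S _ _ (LinearMap.exact_iff.2 (E.exact_succ n))))
    (fun n k => by
      let Q := quotG 𝒜 (ℳ := 𝒜) q hqh
      haveI : Module.Finite R Q.carrier := inferInstanceAs (Module.Finite R (R ⧸ q))
      haveI h' : Subsingleton (Abelian.Ext.{u} (ModuleCat.of A (LocalizedModule S (R ⧸ q)))
        (ModuleCat.of A (LocalizedModule S (X n))) (k + 1)) :=
        subsingleton_ext_localized (E.starInj n) S k Q.carrier Q.gr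
      exact (extCongrLeft eq' (ModuleCat.of A (LocalizedModule S (X n))) (k + 1)).symm.injective.subsingleton)
  obtain ⟨e2⟩ := nonempty_finsupp_equiv S q E.d i κ z (fun r hr hrS => hrS hr) hq hind (fun y => by
    obtain ⟨s, hs, c, hc⟩ := hgen y
    exact ⟨s, homCompl_le (fun g a _ h => h) hs, c, hc⟩)
  let c : IsLocalRing.ResidueField A ≃ₗ[A] A ⧸ J :=
    (LinearEquiv.refl A _ : IsLocalRing.ResidueField A ≃ₗ[A] A ⧸ IsLocalRing.maximalIdeal A).trans
      (Submodule.quotEquivOfEq _ _ hJ.symm)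
  show Module.length A (Abelian.Ext.{u} (ModuleCat.of A (IsLocalRing.ResidueField A))
    (ModuleCat.of A (LocalizedModule S M)) i) = _
  rw [((extCongrLeft c (ModuleCat.of A (LocalizedModule S M)) i).symm.trans (e1.symm.trans e2)).length_eq,
    Module.length_finsupp]
  haveI : IsSimpleModule A (A ⧸ q.map (algebraMap R A)) := by
    rw [isSimpleModule_iff_isCoatom]
    show IsCoatom J
    rw [hJ]
    exact (IsLocalRing.maximalIdeal.isMaximal A).out
  rw [Module.length_eq_one, mul_one]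

theorem smul_torsZ_mem {X : Type u} [AddCommGroup X] [Module R X] {𝒳 : ι → AddSubgroup X}
    [DirectSum.Decomposition 𝒳] [SetLike.GradedSMul 𝒜 𝒳] {q : Ideal R} (hqh : q.IsHomogeneous 𝒜)
    (N : Submodule R X) (h : ∀ (g : ι) (x : X), x ∈ 𝒳 g → x ∈ tors q X → ∃ s ∈ homCompl 𝒜 q, s • x ∈ N)
    (x : X) (hx : x ∈ tors q X) : ∃ s ∈ homCompl 𝒜 q, s • x ∈ N := by
  classical
  obtain ⟨t, -, ht⟩ := exists_finset 𝒳 x
  choose s hs hsx using fun g => h g (pr 𝒳 g x) (pr_mem 𝒳 g x) (tors_isHomogeneous 𝒳 hqh g hx)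
  refine ⟨∏ g ∈ t, s g, Submonoid.prod_mem _ fun g _ => hs g, ?_⟩
  rw [← ht, Finset.smul_sum]
  refine sum_mem fun g hg => ?_
  rw [← Finset.prod_erase_mul t s hg, mul_smul]
  exact N.smul_mem _ (hsx g)

/-- Bass numbers count summands. -/
theorem bassNum_eq_count (E : GrLC.StarInjRes 𝒜 ℳ) (j : ℕ)
    (hess : ∀ n, n ≤ j → ∀ (g : ι) (x : (E.X n).carrier), x ∈ (E.X n).gr g → x ≠ 0 →
      ∃ (h : ι) (r : R), r ∈ 𝒜 h ∧ r • x ∈ LinearMap.ker (E.d n) ∧ r • x ≠ 0)
    (Λ : Type u) (P : Λ → HomogeneousIdeal 𝒜) (hP : ∀ α, (P α).toIdeal.IsPrime) (g : Λ → ι)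
    (J : Λ → Submodule R (E.X j).carrier) (hJ : ∀ α, (J α).IsHomogeneous (E.X j).gr) (hind : iSupIndep J)
    (htop : iSup J = ⊤) (f : ∀ α, (R ⧸ (P α).toIdeal) →ₗ[R] (E.X j).carrier)
    (hf : ∀ α, Function.Injective (f α) ∧ GrLC.IsGrHomDeg (GrLC.quotGr 𝒜 (P α)) (E.X j).gr (f α) (g α) ∧
      LinearMap.range (f α) ≤ J α ∧ ∀ Q : Submodule R (E.X j).carrier, Q.IsHomogeneous (E.X j).gr → Q ≤ J α →
        Q ≠ ⊥ → Q ⊓ LinearMap.range (f α) ≠ ⊥)
    (p : HomogeneousIdeal 𝒜) [hp : p.toIdeal.IsPrime] :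
    GrLC.bassNum p.toIdeal M j = ENat.card {α : Λ // P α = p} := by
  classical
  let X : ℕ → Type u := fun n => (E.X n).carrier
  have hS : ∀ s ∈ homCompl 𝒜 p.toIdeal, s ∉ p.toIdeal := fun s hs =>
    homCompl_le (p := p.toIdeal) (fun _ _ _ h => h) hs
  -- killed elements become cycles
  have hker : ∀ n, n ≤ j → ∀ x : X n, x ∈ tors p.toIdeal (X n) →
      ∃ s ∈ homCompl 𝒜 p.toIdeal, s • x ∈ LinearMap.ker (E.d n) := by
    intro n hn x hx
    refine smul_torsZ_mem (𝒳 := (E.X n).gr) p.isHomogeneous _ (fun k y hy hyt => ?_) x hx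
    by_cases hy0 : y = 0
    · exact ⟨1, one_mem _, by rw [hy0, smul_zero]; exact zero_mem _⟩
    · obtain ⟨h, r, hr, hrk, hr0⟩ := hess n hn k y hy hy0
      exact ⟨r, Submonoid.subset_closure ⟨⟨h, hr⟩, fun hrp => hr0 ((mem_tors_iff.1 hyt) r hrp)⟩, hrk⟩
  -- coboundaries are killed by denominators
  have hB : ∀ b ∈ torsB p.toIdeal X E.d j, ∃ s ∈ homCompl 𝒜 p.toIdeal, s • b = 0 := by
    obtain _ | n := j
    · intro b hb
      exact ⟨1, one_mem _, by rw [(Submodule.mem_bot R).1 hb, smul_zero]⟩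
    · rintro _ ⟨x, hx, rfl⟩
      obtain ⟨s, hs, hsx⟩ := hker n n.le_succ x hx
      exact ⟨s, hs, (map_smul (E.d n) s x).symm.trans hsx⟩
  let m : Λ → X j := fun α => f α 1
  have hmJ : ∀ α, m α ∈ J α := fun α => (hf α).2.2.1 ⟨1, rfl⟩
  have hrm : ∀ α (r : R), r • m α = f α (Submodule.Quotient.mk r) := fun α r => by
    rw [← map_smul]
    exact congrArg (f α) ((Submodule.Quotient.mk_smul _ r (1 : R)).symm.trans (by rw [smul_eq_mul, mul_one]))
  have hann : ∀ α (r : R), r • m α = 0 ↔ r ∈ (P α).toIdeal := fun α r => by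
    rw [hrm, map_eq_zero_iff _ (hf α).1]
    exact Submodule.Quotient.mk_eq_zero _
  let κ := {α : Λ // P α = p}
  have hz : ∀ k : κ, ∃ s ∈ homCompl 𝒜 p.toIdeal, s • m k.1 ∈ LinearMap.ker (E.d j) := fun k =>
    hker j le_rfl _ (mem_tors_iff.2 fun r hr => (hann k.1 r).2 (by rw [k.2]; exact hr))
  choose s hs hsk using hz
  let z : κ → torsZ p.toIdeal X E.d j := fun k => ⟨s k • m k.1,
    Submodule.smul_mem _ _ (mem_tors_iff.2 fun r hr => (hann k.1 r).2 (by rw [k.2]; exact hr)), hsk k⟩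
  refine bassNum_eq_card E p.toIdeal p.isHomogeneous j κ z (fun c hc k => ?_) fun y => ?_
  · obtain ⟨t, ht, htc⟩ := hB _ hc
    rw [Finsupp.linearCombination_apply, Finsupp.sum, Finset.smul_sum] at htc
    by_cases hk : k ∈ c.support
    · have h0 : t • (c k • (z k : X j)) = 0 :=
        (iSupIndep_iff_finsetSum_eq_zero_imp_eq_zero _).1 (iSupIndep.comp hind Subtype.val_injective) c.support
          (fun k => t • (c k • (z k : X j)))
          (fun k _ => Submodule.smul_mem _ _ (Submodule.smul_mem _ _ (Submodule.smul_mem _ _ (hmJ k.1)))) htc k hk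
      have h1 : (t * c k * s k) • m k.1 = 0 := by rw [mul_smul, mul_smul]; exact h0
      rw [hann, k.2] at h1
      exact ((hp.mem_or_mem h1).resolve_right (hS _ (hs k)) |> hp.mem_or_mem).resolve_left (hS _ ht)
    · rw [Finsupp.notMem_support_iff.1 hk]
      exact zero_mem _
  · let C : Submodule R (X j) := Submodule.span R (Set.range fun k => (z k : X j))
    suffices h : ∃ t ∈ homCompl 𝒜 p.toIdeal, t • (y : X j) ∈ C by
      obtain ⟨t, ht, hty⟩ := h
      obtain ⟨c, hc⟩ := Finsupp.mem_span_range_iff_exists_finsupp.1 hty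
      refine ⟨t, ht, c, ?_⟩
      rw [show Finsupp.linearCombination R (fun k => (z k : X j)) c = t • (y : X j) from hc, sub_self]
      exact zero_mem _
    have hytop : (y : X j) ∈ ⨆ α, J α := htop.ge Submodule.mem_top
    obtain ⟨t, w, hw, hsum⟩ : ∃ (t : Finset Λ) (w : Λ → X j), (∀ α ∈ t, w α ∈ J α) ∧ ∑ α ∈ t, w α = y := by
      obtain ⟨v, hv⟩ := (Submodule.mem_iSup_iff_exists_dfinsupp' _ _).1 hytop
      exact ⟨v.support, fun α => v α, fun α _ => (v α).2, hv⟩
    have hwt : ∀ α ∈ t, w α ∈ tors p.toIdeal (X j) := fun α hα => mem_tors_iff.2 fun r hr => by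
      refine (iSupIndep_iff_finsetSum_eq_zero_imp_eq_zero _).1 hind t (fun α => r • w α) (fun α hα => Submodule.smul_mem _ _ (hw α hα)) ?_ α hα
      rw [← Finset.smul_sum, hsum]
      exact mem_tors_iff.1 y.2.1 r hr
    have hw' : ∀ α ∈ t, ∃ a ∈ homCompl 𝒜 p.toIdeal, a • w α ∈ C := by
      intro α hα
      suffices hhom : ∀ (k : ι) (v : X j), v ∈ (E.X j).gr k → v ∈ J α → v ∈ tors p.toIdeal (X j) →
          ∃ a ∈ homCompl 𝒜 p.toIdeal, a • v ∈ C by
        obtain ⟨u, -, hu⟩ := exists_finset (E.X j).gr (w α)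
        choose! a ha hav using fun k (_ : k ∈ u) => hhom k (pr (E.X j).gr k (w α)) (pr_mem _ k _)
          (hJ α k (hw α hα)) (tors_isHomogeneous _ p.isHomogeneous k (hwt α hα))
        refine ⟨∏ k ∈ u, a k, Submonoid.prod_mem _ fun k hk => ha k hk, ?_⟩
        rw [← hu, Finset.smul_sum]
        refine sum_mem fun k hk => ?_
        rw [← Finset.prod_erase_mul u a hk, mul_smul]
        exact C.smul_mem _ (hav k hk)
      intro k v hv hvJ hvt
      by_cases hv0 : v = 0
      · exact ⟨1, one_mem _, by rw [hv0, smul_zero]; exact zero_mem _⟩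
      obtain ⟨u, ⟨hu, hur⟩, hu0⟩ := Submodule.exists_mem_ne_zero_of_ne_bot
        ((hf α).2.2.2 (R ∙ v) (singleton_isHomogeneous 𝒜 (E.X j).gr hv)
          ((Submodule.span_singleton_le_iff_mem _ _).2 hvJ)
          (fun e => hv0 (Submodule.span_singleton_eq_bot.1 e)))
      have hfr : GrLC.IsGrHomDeg (GrLC.quotGr 𝒜 (P α)) (E.X j).gr (f α) (g α) := (hf α).2.1
      obtain ⟨r, rfl⟩ := Submodule.mem_span_singleton.1 hu
      obtain ⟨l, hl⟩ := exists_pr_ne_zero (E.X j).gr hu0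
      rw [pr_smul_mem 𝒜 (E.X j).gr hv r l] at hl
      let a := pr 𝒜 (l - k) r
      have hap : a ∉ p.toIdeal := fun h => hl (mem_tors_iff.1 hvt a h)
      obtain ⟨b, hb⟩ := hur
      obtain ⟨b, rfl⟩ := Submodule.Quotient.mk_surjective _ b
      have hab : a • v = pr 𝒜 (l - g α) b • m α := by
        have hgm : m α ∈ (E.X j).gr (g α) := by
          have := hfr 0 1 ⟨1, SetLike.one_mem_graded 𝒜, rfl⟩
          rwa [zero_add] at this
        rw [← hrm] at hb
        have h1 := congrArg (pr (E.X j).gr l) hb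
        rw [pr_smul_mem 𝒜 (E.X j).gr hgm b l, pr_smul_mem 𝒜 (E.X j).gr hv r l] at h1
        exact h1.symm
      set b' := pr 𝒜 (l - g α) b
      have ha : a ∈ homCompl 𝒜 p.toIdeal := Submonoid.subset_closure ⟨⟨_, pr_mem 𝒜 _ r⟩, hap⟩
      have hle : p.toIdeal ≤ (P α).toIdeal := fun e he => by
        have h1 : (e * b') • m α = 0 := by
          rw [mul_smul, ← hab, smul_comm, mem_tors_iff.1 hvt e he, smul_zero]
        rw [hann] at h1
        refine ((hP α).mem_or_mem h1).resolve_right fun h => hl ?_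
        show a • v = 0
        rw [hab]
        exact (hann α b').2 h
      by_cases hPα : P α = p
      · refine ⟨s ⟨α, hPα⟩ * a, mul_mem (hs _) ha, ?_⟩
        rw [mul_smul, hab, smul_comm]
        exact C.smul_mem _ (Submodule.subset_span ⟨⟨α, hPα⟩, rfl⟩)
      · obtain ⟨c₀, c, hc, hcP, hcp⟩ := exists_homogeneous_notMem' (P α).isHomogeneous
          (fun h : (P α).toIdeal ≤ p.toIdeal => hPα (HomogeneousIdeal.ext (le_antisymm h hle)))
        refine ⟨c * a, mul_mem (Submonoid.subset_closure ⟨⟨c₀, hc⟩, hcp⟩) ha, ?_⟩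
        rw [mul_smul, hab, ← mul_smul, (hann α (c * b')).2 (Ideal.mul_mem_right _ _ hcP)]
        exact zero_mem _
    choose! a ha haw using hw'
    refine ⟨∏ α ∈ t, a α, Submonoid.prod_mem _ fun α hα => ha α hα, ?_⟩
    rw [← hsum, Finset.smul_sum]
    refine sum_mem fun α hα => ?_
    rw [← Finset.prod_erase_mul t a hα, mul_smul]
    exact C.smul_mem _ (haw α hα)
where
  exists_homogeneous_notMem' {I Q : Ideal R} (hI : I.IsHomogeneous 𝒜) (h : ¬ I ≤ Q) :
      ∃ (c₀ : ι) (c : R), c ∈ 𝒜 c₀ ∧ c ∈ I ∧ c ∉ Q := by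
    by_contra hcon
    refine h fun c hc => ?_
    obtain ⟨t, -, ht⟩ := exists_finset 𝒜 c
    rw [← ht]
    refine sum_mem fun k _ => ?_
    by_contra hk
    exact hcon ⟨k, pr 𝒜 k c, pr_mem 𝒜 k c, hI k hc, hk⟩

/-- A resolution starting with a given *injective embedding. -/
noncomputable def resOfEmbedding {E' : Type u} [AddCommGroup E'] [Module R E'] (𝓔 : ι → AddSubgroup E')
    [DirectSum.Decomposition 𝓔] [SetLike.GradedSMul 𝒜 𝓔] (e : M →ₗ[R] E') (he : GrLC.IsGrHom ℳ 𝓔 e)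
    (hei : Function.Injective e) (hI : GrLC.IsStarInj 𝒜 𝓔) : GrLC.StarInjRes 𝒜 ℳ :=
  let C := quotG 𝒜 (ℳ := 𝓔) (LinearMap.range e) (range_isHomogeneous he)
  let F : GrLC.StarInjRes 𝒜 C.gr := (nonempty_starInjRes (𝒜 := 𝒜) C.gr).some
  let p : E' →ₗ[R] C.carrier := (LinearMap.range e).mkQ
  let X : ℕ → GrLC.GMod.{u} 𝒜 := fun n => match n with
    | 0 => GrLC.GMod.of 𝒜 E' 𝓔
    | n + 1 => F.X n
  let d : ∀ n, (X n).carrier →ₗ[R] (X (n + 1)).carrier := fun n => match n with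
    | 0 => F.ε ∘ₗ p
    | n + 1 => F.d n
  { X := X, d := d, ε := e
    d_grHom := by
      rintro (_ | n)
      · exact fun g x hx => F.ε_grHom g _ (show p x ∈ C.gr g from ⟨x, hx, rfl⟩)
      · exact F.d_grHom n
    ε_grHom := he
    ε_injective := hei
    exact_zero := by
      show LinearMap.ker (F.ε ∘ₗ p) = LinearMap.range e
      rw [LinearMap.ker_comp, LinearMap.ker_eq_bot.2 F.ε_injective]
      exact (LinearMap.range e).ker_mkQ
    exact_succ := by
      rintro (_ | n)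
      · show LinearMap.ker (F.d 0) = LinearMap.range (F.ε ∘ₗ p)
        rw [LinearMap.range_comp, show LinearMap.range p = ⊤ from Submodule.range_mkQ _, Submodule.map_top]
        exact F.exact_zero
      · exact F.exact_succ n
    starInj := by
      rintro (_ | n)
      · exact hI
      · exact F.starInj n }

/-- From essentiality over a submodule to homogeneous multiples. -/
theorem exists_smul_of_essential {X : Type u} [AddCommGroup X] [Module R X] (𝒳 : ι → AddSubgroup X)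
    [DirectSum.Decomposition 𝒳] [SetLike.GradedSMul 𝒜 𝒳] (N : Submodule R X) (hN : N.IsHomogeneous 𝒳)
    (h : ∀ P : Submodule R X, P.IsHomogeneous 𝒳 → P ≠ ⊥ → P ⊓ N ≠ ⊥) (g : ι) (x : X) (hx : x ∈ 𝒳 g)
    (hx0 : x ≠ 0) : ∃ (h : ι) (r : R), r ∈ 𝒜 h ∧ r • x ∈ N ∧ r • x ≠ 0 := by
  obtain ⟨y, hy, hy0⟩ := Submodule.exists_mem_ne_zero_of_ne_bot
    (h (R ∙ x) (singleton_isHomogeneous 𝒜 𝒳 hx) (fun e => hx0 (Submodule.span_singleton_eq_bot.1 e)))
  obtain ⟨r, rfl⟩ := Submodule.mem_span_singleton.1 hy.1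
  obtain ⟨j, hj⟩ := exists_pr_ne_zero 𝒳 hy0
  have hmem : pr 𝒳 j (r • x) ∈ N := hN j hy.2
  rw [pr_smul_mem 𝒜 𝒳 hx r j] at hj hmem
  exact ⟨_, _, pr_mem 𝒜 _ r, hmem, hj⟩

end GrModLib
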