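import Groth.Agent.GrModLib.BassCount
import Groth.Prelude.Def_GrLC2

/-! Bass numbers in the short exact sequences given by multiplication by an element of the prime. -/

set_option autoImplicit false
universe u

open CategoryTheory IsLocalRing

namespace GrModLib

section Local

variable {A : Type u} [CommRing A] [IsLocalRing A]

/-- `Ext` of the residue field is killed by the maximal ideal. -/
theorem smul_ext_residue {N : ModuleCat.{u} A} {i : ℕ} {x : A} (hx : x ∈ maximalIdeal A)
    (α : Abelian.Ext.{u} (ModuleCat.of A (ResidueField A)) N i) : x • α = 0 := by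
  have h0 : x • 𝟙 (ModuleCat.of A (ResidueField A)) = 0 := by
    apply ModuleCat.hom_ext
    refine LinearMap.ext fun z => ?_
    obtain ⟨a, rfl⟩ := Ideal.Quotient.mk_surjective z
    show x • (Ideal.Quotient.mk (maximalIdeal A) a : ResidueField A) = 0
    exact Ideal.Quotient.eq_zero_iff_mem.2 (Ideal.mul_mem_right a _ hx)
  have h1 : (Abelian.Ext.mk₀ (x • 𝟙 (ModuleCat.of A (ResidueField A)))).comp α (zero_add i) = x • α := by
    rw [Abelian.Ext.mk₀_smul, Abelian.Ext.smul_comp, Abelian.Ext.mk₀_id_comp]
  rw [← h1, h0, Abelian.Ext.mk₀_zero, Abelian.Ext.zero_comp]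

theorem comp_smul_id {N : ModuleCat.{u} A} {i : ℕ} {x : A} (hx : x ∈ maximalIdeal A)
    (α : Abelian.Ext.{u} (ModuleCat.of A (ResidueField A)) N i) :
    α.comp (Abelian.Ext.mk₀ (x • 𝟙 N)) (add_zero i) = 0 := by
  rw [Abelian.Ext.mk₀_smul, Abelian.Ext.comp_smul, Abelian.Ext.comp_mk₀_id, smul_ext_residue hx]

variable {N Q : Type u} [AddCommGroup N] [Module A N] [AddCommGroup Q] [Module A Q] {x : A}

/-- The quotient by a regular element. -/
theorem length_ext_quot (hx : x ∈ maximalIdeal A) (g : N →ₗ[A] Q) (hf : IsSMulRegular N x)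
    (hg : Function.Surjective g) (hex : Function.Exact (x • LinearMap.id : N →ₗ[A] N) g) (i : ℕ) :
    Module.length A (Abelian.Ext.{u} (ModuleCat.of A (ResidueField A)) (ModuleCat.of A Q) i) =
      Module.length A (Abelian.Ext.{u} (ModuleCat.of A (ResidueField A)) (ModuleCat.of A N) i) +
      Module.length A (Abelian.Ext.{u} (ModuleCat.of A (ResidueField A)) (ModuleCat.of A N) (i + 1)) := by
  let k := ModuleCat.of A (ResidueField A)
  let f : N →ₗ[A] N := x • LinearMap.id
  let S := ShortComplex.moduleCatMk f g hex.linearMap_comp_eq_zero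
  have hS : S.ShortExact :=
    { exact := (ShortComplex.ShortExact.moduleCat_exact_iff_function_exact _).2 hex
      mono_f := (ModuleCat.mono_iff_injective _).2 hf
      epi_g := (ModuleCat.epi_iff_surjective _).2 hg }
  have hfz : ∀ (j : ℕ) (α : Abelian.Ext.{u} k (ModuleCat.of A N) j),
      α.comp (Abelian.Ext.mk₀ (ModuleCat.ofHom f)) (add_zero j) = 0 := fun j α => by
    rw [show ModuleCat.ofHom f = x • 𝟙 (ModuleCat.of A N) from rfl]
    exact comp_smul_id hx α
  let γ : Abelian.Ext.{u} k (ModuleCat.of A N) i →ₗ[A] Abelian.Ext.{u} k (ModuleCat.of A Q) i :=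
    (Abelian.Ext.mk₀ (ModuleCat.ofHom g)).postcompOfLinear A k (add_zero i)
  let δ : Abelian.Ext.{u} k (ModuleCat.of A Q) i →ₗ[A] Abelian.Ext.{u} k (ModuleCat.of A N) (i + 1) :=
    hS.extClass.postcompOfLinear A k rfl
  refine Module.length_eq_add_of_exact γ δ ((injective_iff_map_eq_zero γ).2 fun α hα => ?_) ?_ fun β => ?_
  · obtain ⟨β, rfl⟩ := Abelian.Ext.covariant_sequence_exact₂ k hS α hα
    exact hfz i β
  · exact fun α => Abelian.Ext.covariant_sequence_exact₁ k hS α (hfz (i + 1) α) rfl
  · refine ⟨fun h => Abelian.Ext.covariant_sequence_exact₃ k hS β rfl h, ?_⟩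
    rintro ⟨α, rfl⟩
    show ((α.comp (Abelian.Ext.mk₀ S.g) (add_zero i)).comp hS.extClass rfl) = 0
    rw [Abelian.Ext.comp_assoc_of_second_deg_zero]
    have hz := hS.comp_extClass
    show α.comp _ _ = 0
    refine Eq.trans ?_ (Abelian.Ext.comp_zero α _ 1 i.succ rfl)
    exact congrArg (fun β => α.comp β rfl) hz

/-- The kernel of a surjective multiplication. -/
theorem length_ext_kerSMul (hx : x ∈ maximalIdeal A) (f : Q →ₗ[A] N) (hf : Function.Injective f)
    (hs : Function.Surjective (x • LinearMap.id : N →ₗ[A] N))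
    (hex : Function.Exact f (x • LinearMap.id : N →ₗ[A] N)) :
    Module.length A (Abelian.Ext.{u} (ModuleCat.of A (ResidueField A)) (ModuleCat.of A Q) 0) =
      Module.length A (Abelian.Ext.{u} (ModuleCat.of A (ResidueField A)) (ModuleCat.of A N) 0) ∧
    ∀ i, Module.length A (Abelian.Ext.{u} (ModuleCat.of A (ResidueField A)) (ModuleCat.of A Q) (i + 1)) =
      Module.length A (Abelian.Ext.{u} (ModuleCat.of A (ResidueField A)) (ModuleCat.of A N) i) +
      Module.length A (Abelian.Ext.{u} (ModuleCat.of A (ResidueField A)) (ModuleCat.of A N) (i + 1)) := by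
  let k := ModuleCat.of A (ResidueField A)
  let g : N →ₗ[A] N := x • LinearMap.id
  let S := ShortComplex.moduleCatMk f g hex.linearMap_comp_eq_zero
  have hS : S.ShortExact :=
    { exact := (ShortComplex.ShortExact.moduleCat_exact_iff_function_exact _).2 hex
      mono_f := (ModuleCat.mono_iff_injective _).2 hf
      epi_g := (ModuleCat.epi_iff_surjective _).2 hs }
  haveI : Mono (ModuleCat.ofHom f) := hS.mono_f
  have hgz : ∀ (j : ℕ) (α : Abelian.Ext.{u} k (ModuleCat.of A N) j),
      α.comp (Abelian.Ext.mk₀ (ModuleCat.ofHom g)) (add_zero j) = 0 := fun j α => by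
    rw [show ModuleCat.ofHom g = x • 𝟙 (ModuleCat.of A N) from rfl]
    exact comp_smul_id hx α
  let φ : ∀ i, Abelian.Ext.{u} k (ModuleCat.of A Q) i →ₗ[A] Abelian.Ext.{u} k (ModuleCat.of A N) i := fun i =>
    (Abelian.Ext.mk₀ (ModuleCat.ofHom f)).postcompOfLinear A k (add_zero i)
  have hφs : ∀ i, Function.Surjective (φ i) := fun i α =>
    Abelian.Ext.covariant_sequence_exact₂ k hS α (hgz i α)
  refine ⟨(LinearEquiv.ofBijective (φ 0) ⟨(injective_iff_map_eq_zero (φ 0)).2 fun α hα => ?_, hφs 0⟩).length_eq,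
    fun i => ?_⟩
  · obtain ⟨u', rfl⟩ := (Abelian.Ext.mk₀_bijective _ _).2 α
    change (Abelian.Ext.mk₀ u').comp (Abelian.Ext.mk₀ (ModuleCat.ofHom f)) (add_zero 0) = 0 at hα
    rw [Abelian.Ext.mk₀_comp_mk₀, ← Abelian.Ext.mk₀_zero] at hα
    have h2 := (Abelian.Ext.mk₀_bijective _ _).1 hα
    rw [show u' = 0 from (cancel_mono (ModuleCat.ofHom f)).1 (h2.trans Limits.zero_comp.symm), Abelian.Ext.mk₀_zero]
  · let δ : Abelian.Ext.{u} k (ModuleCat.of A N) i →ₗ[A] Abelian.Ext.{u} k (ModuleCat.of A Q) (i + 1) :=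
      hS.extClass.postcompOfLinear A k rfl
    refine Module.length_eq_add_of_exact δ (φ (i + 1)) ((injective_iff_map_eq_zero δ).2 fun α hα => ?_) (hφs _)
      fun β => ?_
    · obtain ⟨β, rfl⟩ := Abelian.Ext.covariant_sequence_exact₃ k hS α rfl hα
      exact hgz i β
    · refine ⟨fun h => Abelian.Ext.covariant_sequence_exact₁ k hS β h rfl, ?_⟩
      rintro ⟨α, rfl⟩
      show ((α.comp hS.extClass rfl).comp (Abelian.Ext.mk₀ S.f) (add_zero (i + 1))) = 0
      rw [Abelian.Ext.comp_assoc_of_third_deg_zero]
      refine Eq.trans ?_ (Abelian.Ext.comp_zero α _ 1 i.succ rfl)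
      exact congrArg (fun β => α.comp β rfl) hS.extClass_comp

/-- No homomorphisms from the residue field into a module with a regular element in the maximal ideal. -/
theorem length_ext_zero_of_regular (hx : x ∈ maximalIdeal A) (hr : IsSMulRegular N x) :
    Module.length A (Abelian.Ext.{u} (ModuleCat.of A (ResidueField A)) (ModuleCat.of A N) 0) = 0 := by
  rw [Module.length_eq_zero_iff]
  refine subsingleton_of_forall_eq 0 fun α => ?_
  obtain ⟨φ, rfl⟩ := (Abelian.Ext.mk₀_bijective _ _).2 α
  rw [show φ = 0 from ModuleCat.hom_ext (LinearMap.ext fun z => hr (by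
    show x • φ.hom z = x • (0 : N)
    obtain ⟨a, rfl⟩ := Ideal.Quotient.mk_surjective z
    rw [smul_zero, ← map_smul]
    exact (congrArg φ.hom (Ideal.Quotient.eq_zero_iff_mem.2 (Ideal.mul_mem_right a _ hx))).trans (map_zero _))),
    Abelian.Ext.mk₀_zero]

end Local

variable {R : Type u} [CommRing R] (p : Ideal R) [p.IsPrime]
variable {N Q : Type u} [AddCommGroup N] [Module R N] [AddCommGroup Q] [Module R Q] {x : R}

theorem localized_smul_id (S : Submonoid R) :
    LocalizedModule.map S (x • LinearMap.id : N →ₗ[R] N) =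
      (algebraMap R (Localization S) x • LinearMap.id : LocalizedModule S N →ₗ[Localization S] LocalizedModule S N) := by
  refine LinearMap.ext fun z => LocalizedModule.induction_on (fun m s => ?_) z
  simp only [LocalizedModule.map_mk, LinearMap.smul_apply, LinearMap.id_apply, algebraMap_smul,
    LocalizedModule.smul'_mk]

/-- The Bass numbers of the quotient by a regular element of the prime. -/
theorem bassNum_quot (hx : x ∈ p) (g : N →ₗ[R] Q) (hf : IsSMulRegular N x) (hg : Function.Surjective g)
    (hex : Function.Exact (x • LinearMap.id : N →ₗ[R] N) g) (i : ℕ) :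
    GrLC.bassNum p Q i = GrLC.bassNum p N i + GrLC.bassNum p N (i + 1) := by
  have hx' : algebraMap R (Localization.AtPrime p) x ∈ maximalIdeal (Localization.AtPrime p) :=
    (IsLocalization.AtPrime.to_map_mem_maximal_iff _ p x).2 hx
  refine length_ext_quot hx' (LocalizedModule.map p.primeCompl g) ?_
    (LocalizedModule.map_surjective _ g hg) ?_ i
  · have h := LocalizedModule.map_injective p.primeCompl (x • LinearMap.id : N →ₗ[R] N) (fun a b h => hf h)
    rw [localized_smul_id] at h
    exact h
  · have h : Function.Exact (LocalizedModule.map p.primeCompl (x • LinearMap.id : N →ₗ[R] N))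
        (LocalizedModule.map p.primeCompl g) := LocalizedModule.map_exact p.primeCompl _ _ hex
    rwa [localized_smul_id] at h

/-- The Bass numbers of the kernel of a surjective multiplication by an element of the prime. -/
theorem bassNum_kerSMul (hx : x ∈ p) (f : Q →ₗ[R] N) (hf : Function.Injective f)
    (hs : Function.Surjective (x • LinearMap.id : N →ₗ[R] N))
    (hex : Function.Exact f (x • LinearMap.id : N →ₗ[R] N)) :
    GrLC.bassNum p Q 0 = GrLC.bassNum p N 0 ∧
      ∀ i, GrLC.bassNum p Q (i + 1) = GrLC.bassNum p N i + GrLC.bassNum p N (i + 1) := by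
  have hx' : algebraMap R (Localization.AtPrime p) x ∈ maximalIdeal (Localization.AtPrime p) :=
    (IsLocalization.AtPrime.to_map_mem_maximal_iff _ p x).2 hx
  refine length_ext_kerSMul hx' (LocalizedModule.map p.primeCompl f) (LocalizedModule.map_injective _ f hf) ?_ ?_
  · have h := LocalizedModule.map_surjective p.primeCompl (x • LinearMap.id : N →ₗ[R] N) hs
    rw [localized_smul_id] at h
    exact h
  · have h : Function.Exact (LocalizedModule.map p.primeCompl f)
        (LocalizedModule.map p.primeCompl (x • LinearMap.id : N →ₗ[R] N)) :=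
      LocalizedModule.map_exact p.primeCompl _ _ hex
    rwa [localized_smul_id] at h

theorem bassNum_zero_of_regular (hx : x ∈ p) (hr : IsSMulRegular N x) : GrLC.bassNum p N 0 = 0 := by
  have hx' : algebraMap R (Localization.AtPrime p) x ∈ maximalIdeal (Localization.AtPrime p) :=
    (IsLocalization.AtPrime.to_map_mem_maximal_iff _ p x).2 hx
  refine length_ext_zero_of_regular (N := LocalizedModule p.primeCompl N) hx' ?_
  have h := LocalizedModule.map_injective p.primeCompl (x • LinearMap.id : N →ₗ[R] N) (fun a b h => hr h)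
  rw [localized_smul_id] at h
  exact h

/-- Bass numbers only depend on the isomorphism class. -/
theorem bassNum_congr (e : N ≃ₗ[R] Q) (i : ℕ) : GrLC.bassNum p N i = GrLC.bassNum p Q i := by
  let A := Localization.AtPrime p
  let e' : LocalizedModule p.primeCompl N ≃ₗ[A] LocalizedModule p.primeCompl Q :=
    LinearEquiv.ofBijective (LocalizedModule.map p.primeCompl e.toLinearMap)
      ⟨LocalizedModule.map_injective _ _ e.injective, LocalizedModule.map_surjective _ _ e.surjective⟩
  let k := ModuleCat.of A (ResidueField A)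
  let u₁ := (Abelian.Ext.mk₀ e'.toModuleIso.hom).postcompOfLinear A k (add_zero i)
  let u₂ := (Abelian.Ext.mk₀ e'.toModuleIso.inv).postcompOfLinear A k (add_zero i)
  refine (LinearEquiv.ofLinear u₁ u₂ (LinearMap.ext fun α => ?_) (LinearMap.ext fun α => ?_)).length_eq
  · show (α.comp (Abelian.Ext.mk₀ e'.toModuleIso.inv) (add_zero i)).comp _ (add_zero i) = α
    rw [Abelian.Ext.comp_assoc_of_second_deg_zero, Abelian.Ext.mk₀_comp_mk₀, Iso.inv_hom_id,
      Abelian.Ext.comp_mk₀_id]
  · show (α.comp (Abelian.Ext.mk₀ e'.toModuleIso.hom) (add_zero i)).comp _ (add_zero i) = α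
    rw [Abelian.Ext.comp_assoc_of_second_deg_zero, Abelian.Ext.mk₀_comp_mk₀, Iso.hom_inv_id,
      Abelian.Ext.comp_mk₀_id]

end GrModLib
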