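import Groth.Agent.GrModLib.Res
import Groth.Prelude.Def_GrSyz

/-! Gradings by any kind of additive subgroups, seen as gradings by `AddSubgroup`s. -/

set_option autoImplicit false
universe u

open DirectSum

namespace GrModLib

variable {ι : Type} [AddCommGroup ι] [DecidableEq ι] {R : Type u} [CommRing R]
  {σ : Type u} [SetLike σ R] [AddSubgroupClass σ R]
  {M : Type u} [AddCommGroup M] [Module R M] {τ : Type u} [SetLike τ M] [AddSubgroupClass τ M]

/-- The underlying additive subgroups of a family of pieces. -/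
def toAdd (ℳ : ι → τ) : ι → AddSubgroup M := fun i => AddSubgroup.ofClass (ℳ i)

omit [AddCommGroup ι] [DecidableEq ι] in
theorem mem_toAdd {ℳ : ι → τ} {i : ι} {x : M} : x ∈ toAdd ℳ i ↔ x ∈ ℳ i := Iff.rfl

omit [AddCommGroup ι] in
theorem toAdd_isInternal (ℳ : ι → τ) [DirectSum.Decomposition ℳ] : DirectSum.IsInternal (toAdd ℳ) := by
  refine isInternal_of_pr _ (fun g =>
    { toFun := fun x => (decompose ℳ x g : M), map_zero' := by simp, map_add' := fun x y => by simp })
    (fun g x hx => decompose_of_mem_same ℳ hx) (fun g j x hx h => decompose_of_mem_ne ℳ hx h) fun x => ?_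
  classical
  rw [← sum_support_decompose ℳ x]
  exact sum_mem fun g _ => le_iSup (toAdd ℳ) g (decompose ℳ x g).2

noncomputable instance toAddDecomposition (ℳ : ι → τ) [DirectSum.Decomposition ℳ] :
    DirectSum.Decomposition (toAdd ℳ) := (toAdd_isInternal ℳ).chooseDecomposition

omit [AddCommGroup ι] in
theorem pr_toAdd (ℳ : ι → τ) [DirectSum.Decomposition ℳ] (g : ι) (x : M) :
    pr (toAdd ℳ) g x = (decompose ℳ x g : M) := by
  induction x using DirectSum.Decomposition.inductionOn ℳ with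
  | zero => simp
  | @homogeneous j m =>
    by_cases hj : j = g
    · subst hj; rw [pr_self (toAdd ℳ) m.2, decompose_of_mem_same ℳ m.2]
    · rw [pr_ne (toAdd ℳ) m.2 hj, decompose_of_mem_ne ℳ m.2 hj]
  | add a b ha hb => simp [ha, hb]

instance toAddGradedMonoid (𝒜 : ι → σ) [SetLike.GradedMonoid 𝒜] : SetLike.GradedMonoid (toAdd 𝒜) where
  one_mem := SetLike.one_mem_graded 𝒜
  mul_mem := fun _ _ _ _ h h' => SetLike.mul_mem_graded (A := 𝒜) h h'

noncomputable instance toAddGradedRing (𝒜 : ι → σ) [GradedRing 𝒜] : GradedRing (toAdd 𝒜) :=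
  { toAddGradedMonoid 𝒜, toAddDecomposition 𝒜 with }

instance toAddGradedSMul (𝒜 : ι → σ) (ℳ : ι → τ) [SetLike.GradedSMul 𝒜 ℳ] :
    SetLike.GradedSMul (toAdd 𝒜) (toAdd ℳ) :=
  ⟨fun {_ _ _ _} hr hm => SetLike.GradedSMul.smul_mem (A := 𝒜) (B := ℳ) hr hm⟩

variable {𝒜 : ι → σ} [GradedRing 𝒜]

/-- A homogeneous ideal, for the underlying grading. -/
noncomputable def toAddIdeal (a : HomogeneousIdeal 𝒜) : HomogeneousIdeal (toAdd 𝒜) :=
  ⟨a.toIdeal, fun g r hr => by
    have h := a.isHomogeneous g hr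
    show pr (toAdd 𝒜) g r ∈ a.toIdeal
    rwa [pr_toAdd]⟩

theorem toAddIdeal_toIdeal (a : HomogeneousIdeal 𝒜) : (toAddIdeal a).toIdeal = a.toIdeal := rfl

/-- A bundled module over the underlying grading. -/
noncomputable def GModToAdd (X : GrLC.GMod.{u} 𝒜) : GrLC.GMod.{u} (toAdd 𝒜) :=
  haveI : SetLike.GradedSMul (toAdd 𝒜) X.gr :=
    ⟨fun {_ _ _ _} hr hm => X.gsmul.smul_mem hr hm⟩
  { carrier := X.carrier, gr := X.gr }

/-- A bundled module over the original grading. -/
noncomputable def GModOfAdd (X : GrLC.GMod.{u} (toAdd 𝒜)) : GrLC.GMod.{u} 𝒜 :=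
  haveI : SetLike.GradedSMul 𝒜 X.gr :=
    ⟨fun {_ _ _ _} hr hm => X.gsmul.smul_mem hr hm⟩
  { carrier := X.carrier, gr := X.gr }

variable {ℳ : ι → τ} [DirectSum.Decomposition ℳ] [SetLike.GradedSMul 𝒜 ℳ]

/-- A resolution over the underlying gradings. -/
noncomputable def resToAdd (E : GrLC.StarInjRes 𝒜 ℳ) : GrLC.StarInjRes (toAdd 𝒜) (toAdd ℳ) where
  X n := GModToAdd (E.X n)
  d := E.d
  ε := E.ε
  d_grHom := E.d_grHom
  ε_grHom := E.ε_grHom
  ε_injective := E.ε_injective
  exact_zero := E.exact_zero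
  exact_succ := E.exact_succ
  starInj n := fun A B f hf hfi g hg => E.starInj n (GModOfAdd A) (GModOfAdd B) f hf hfi g hg

theorem Hgr_resToAdd (E : GrLC.StarInjRes 𝒜 ℳ) (a : HomogeneousIdeal 𝒜) (i : ℕ) (g : ι) :
    (resToAdd E).Hgr (toAddIdeal a) i g = E.Hgr a i g := rfl

end GrModLib

namespace GrModLib

variable {R : Type u} [CommRing R] {σ : Type u} [SetLike σ R] [AddSubgroupClass σ R]
  {M : Type u} [AddCommGroup M] [Module R M] {τ : Type u} [SetLike τ M] [AddSubgroupClass τ M]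
  {𝒜 : ℤ → σ} [GradedRing 𝒜] {ℳ : ℤ → τ} [DirectSum.Decomposition ℳ] [SetLike.GradedSMul 𝒜 ℳ]

/-- A free resolution over the underlying gradings. -/
noncomputable def freeResToAdd (F : GrSyz.FreeRes 𝒜 ℳ) : GrSyz.FreeRes (toAdd 𝒜) (toAdd ℳ) where
  rk := F.rk
  deg := F.deg
  d := F.d
  aug := F.aug
  d_mem := F.d_mem
  aug_mem := F.aug_mem
  aug_surjective := F.aug_surjective
  exact_zero := F.exact_zero
  exact_succ := F.exact_succ

end GrModLib
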