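import Groth.Agent.GrModLib.Std
import Groth.Agent.GrSyzLib.Exists

/-! Regularity as an extended integer, hyperplane sections and regular sequences. -/

set_option autoImplicit false
universe u

open DirectSum
open scoped Pointwise

namespace GrModLib

/-- Extended integers are determined by their integral upper bounds. -/
theorem eq_of_forall_coe_iff {A B : WithBot (WithTop ℤ)}
    (h : ∀ d : ℤ, A ≤ ((d : WithTop ℤ) : WithBot (WithTop ℤ)) ↔ B ≤ ((d : WithTop ℤ) : WithBot (WithTop ℤ))) :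
    A = B := by
  have key : ∀ C : WithBot (WithTop ℤ),
      (⨅ (d : ℤ) (_ : C ≤ ((d : WithTop ℤ) : WithBot (WithTop ℤ))), ((d : WithTop ℤ) : WithBot (WithTop ℤ))) = C := by
    intro C
    refine le_antisymm ?_ (le_iInf₂ fun d hd => hd)
    rcases C with _ | (_ | z)
    · refine le_of_not_gt fun hlt => ?_
      generalize hB : (⨅ (d : ℤ) (_ : (⊥ : WithBot (WithTop ℤ)) ≤ ((d : WithTop ℤ) : WithBot (WithTop ℤ))),
        ((d : WithTop ℤ) : WithBot (WithTop ℤ))) = B at hlt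
      have hle : ∀ d : ℤ, B ≤ ((d : WithTop ℤ) : WithBot (WithTop ℤ)) := fun d =>
        hB ▸ iInf₂_le_of_le d (bot_le (a := ((d : WithTop ℤ) : WithBot (WithTop ℤ)))) le_rfl
      rcases B with _ | (_ | z)
      · exact lt_irrefl _ hlt
      · exact absurd (WithBot.coe_le_coe.1 (hle 0)) (WithTop.coe_lt_top (0 : ℤ)).not_ge
      · have := WithTop.coe_le_coe.1 (WithBot.coe_le_coe.1 (hle (z - 1)))
        omega
    · exact le_top (α := WithBot (WithTop ℤ))
    · show (⨅ (d : ℤ) (_ : ((z : WithTop ℤ) : WithBot (WithTop ℤ)) ≤ ((d : WithTop ℤ) : WithBot (WithTop ℤ))),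
        ((d : WithTop ℤ) : WithBot (WithTop ℤ))) ≤ ((z : WithTop ℤ) : WithBot (WithTop ℤ))
      exact iInf₂_le_of_le z le_rfl le_rfl
  rw [← key A, ← key B]
  exact iInf_congr fun d => iInf_congr_Prop (h d) fun _ => rfl

section General

variable {R : Type u} [CommRing R] [IsNoetherianRing R] {𝒜 : ℤ → AddSubgroup R} [GradedRing 𝒜]
  {a : HomogeneousIdeal 𝒜}

/-- A finite length graded module over a positively graded ring is torsion for the irrelevant ideal. -/
theorem gam_eq_top_of_finiteLength (hpos : ∀ n : ℤ, n < 0 → 𝒜 n = ⊥)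
    (hspan : a.toIdeal = Ideal.span ((𝒜 1 : AddSubgroup R) : Set R)) {M : Type u} [AddCommGroup M] [Module R M]
    (ℳ : ℤ → AddSubgroup M) [DirectSum.Decomposition ℳ] [SetLike.GradedSMul 𝒜 ℳ] (hM : IsFiniteLength R M) :
    GrLC.gam a.toIdeal M = ⊤ := by
  haveI : IsArtinian R M := (isFiniteLength_iff_isNoetherian_isArtinian.1 hM).2
  have hhom : ∀ (g : ℤ) (y : M), y ∈ ℳ g → y ∈ GrLC.gam a.toIdeal M := by
    intro g y hy
    refine mem_gam_of_pow hspan fun x hx => ?_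
    let f : ℕ →o (Submodule R M)ᵒᵈ := ⟨fun j => OrderDual.toDual (R ∙ x ^ j • y), monotone_nat_of_le_succ fun j => by
      show (R ∙ x ^ (j + 1) • y) ≤ R ∙ x ^ j • y
      rw [Submodule.span_singleton_le_iff_mem, pow_succ', mul_smul]
      exact Submodule.smul_mem _ _ (Submodule.mem_span_singleton_self _)⟩
    obtain ⟨j, hj⟩ := monotone_stabilizes_iff_artinian.2 inferInstance f
    have h1 : (R ∙ x ^ j • y) = R ∙ x ^ (j + 1) • y := hj (j + 1) (Nat.le_succ j)
    obtain ⟨c, hc⟩ := Submodule.mem_span_singleton.1 (h1 ▸ Submodule.mem_span_singleton_self (x ^ j • y))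
    refine ⟨j, ?_⟩
    have hpw : ∀ i : ℕ, x ^ i ∈ 𝒜 (i : ℤ) := fun i => by
      have := SetLike.pow_mem_graded (A := 𝒜) i hx
      rwa [nsmul_eq_mul, mul_one] at this
    have h2 := congrArg (pr ℳ ((j : ℤ) + g)) hc
    rw [pr_smul_mem 𝒜 ℳ (smul_mem 𝒜 ℳ (hpw (j + 1)) hy) c, pr_self ℳ (smul_mem 𝒜 ℳ (hpw j) hy)] at h2
    have hc0 : pr 𝒜 ((j : ℤ) + g - (((j + 1 : ℕ) : ℤ) + g)) c = 0 := by
      have hm := pr_mem 𝒜 ((j : ℤ) + g - (((j + 1 : ℕ) : ℤ) + g)) c
      rw [hpos _ (by push_cast; omega)] at hm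
      exact AddSubgroup.mem_bot.1 hm
    rw [hc0, zero_smul] at h2
    exact h2.symm
  refine eq_top_iff.2 fun y _ => ?_
  obtain ⟨s, -, hs⟩ := exists_finset ℳ y
  rw [← hs]
  exact sum_mem fun g _ => hhom g _ (pr_mem ℳ g y)

theorem regLE_iff_of_torsion {M : Type u} [AddCommGroup M] [Module R M] {ℳ : ℤ → AddSubgroup M}
    [DirectSum.Decomposition ℳ] [SetLike.GradedSMul 𝒜 ℳ] (hM : GrLC.gam a.toIdeal M = ⊤) (D : ℤ) :
    RegLE a ℳ D ↔ ∀ m, D < m → ∀ y ∈ ℳ m, y = 0 :=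
  ⟨fun h m hm y hy => eq_zero_of_van_zero (h 0 m (by simpa using hm)) hy (hM.ge Submodule.mem_top),
    regLE_of_torsion hM⟩

variable (M N : GrLC.GMod.{u} 𝒜) {x : R} (π : M.carrier →ₗ[R] N.carrier)

/-- Cohomology of a hyperplane section whose kernel is torsion. -/
theorem van_section (hx : x ∈ 𝒜 1) (hπ : GrLC.IsGrHom M.gr N.gr π) (hπs : Function.Surjective π)
    (hker : LinearMap.ker π = LinearMap.range (x • (LinearMap.id : M.carrier →ₗ[R] M.carrier)))
    (htors : ∀ z : M.carrier, x • z = 0 → z ∈ GrLC.gam a.toIdeal M.carrier) {q : ℕ} {m : ℤ}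
    (h0 : Van a M.gr q m) (h1 : Van a M.gr (q + 1) (m - 1)) : Van a N.gr q m := by
  let u : M.carrier →ₗ[R] M.carrier := x • LinearMap.id
  have hu : GrLC.IsGrHomDeg M.gr M.gr u 1 := fun g z hz => by rw [add_comm]; exact smul_mem 𝒜 M.gr hx hz
  let K := subG 𝒜 (ℳ := M.gr) (LinearMap.ker u) (ker_isHomogeneous_deg hu)
  let B := subG 𝒜 (ℳ := M.gr) (LinearMap.range u) (range_isHomogeneous_deg hu)
  have hK : GrLC.gam a.toIdeal K.carrier = ⊤ := eq_top_iff.2 fun z _ => by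
    obtain ⟨k, hk⟩ := htors z.1 z.2
    exact ⟨k, fun r hr => Subtype.ext (hk r hr)⟩
  have hB : Van a B.gr (q + 1) m :=
    van_rightG K M B (LinearMap.ker u).subtype u.rangeRestrict (d := 0) (e := 1)
      (fun g z hz => by rw [add_zero]; exact hz) (fun g z hz => hu g z hz) (LinearMap.ker u).injective_subtype
      u.surjective_rangeRestrict (u.ker_rangeRestrict.trans (LinearMap.ker u).range_subtype.symm)
      (add_zero (m - 1)) (sub_add_cancel m 1) h1 (van_of_torsion hK (by omega) _)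
  exact van_rightG B M N (LinearMap.range u).subtype π (d := 0) (e := 0)
    (fun g z hz => by rw [add_zero]; exact hz) (fun g z hz => by rw [add_zero]; exact hπ g z hz)
    (LinearMap.range u).injective_subtype hπs (hker.trans (LinearMap.range u).range_subtype.symm)
    (add_zero m) (add_zero m) h0 hB

/-- Regularity and hyperplane sections. -/
theorem regLE_section_iff (hx : x ∈ 𝒜 1) (hxa : x ∈ a.toIdeal) (hπ : GrLC.IsGrHom M.gr N.gr π)
    (hπs : Function.Surjective π)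
    (hker : LinearMap.ker π = LinearMap.range (x • (LinearMap.id : M.carrier →ₗ[R] M.carrier)))
    (htors : ∀ z : M.carrier, x • z = 0 → z ∈ GrLC.gam a.toIdeal M.carrier) (D : ℤ) :
    RegLE a M.gr D ↔ RegLE a N.gr D ∧ ∀ m, D < m → Van a M.gr 0 m := by
  refine ⟨fun h => ⟨fun i m hm => van_section M N π hx hπ hπs hker htors (h i m hm)
    (h (i + 1) (m - 1) (by push_cast; omega)), fun m hm => h 0 m (by simpa using hm)⟩, ?_⟩
  rintro ⟨hN, h0⟩ i m hm E y hy
  rcases i with _ | q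
  · exact h0 m (by simpa using hm) E y hy
  let u : M.carrier →ₗ[R] M.carrier := x • LinearMap.id
  have hu : GrLC.IsGrHomDeg M.gr M.gr u 1 := fun g z hz => by rw [add_comm]; exact smul_mem 𝒜 M.gr hx hz
  let K := subG 𝒜 (ℳ := M.gr) (LinearMap.ker u) (ker_isHomogeneous_deg hu)
  let B := subG 𝒜 (ℳ := M.gr) (LinearMap.range u) (range_isHomogeneous_deg hu)
  have hK : GrLC.gam a.toIdeal K.carrier = ⊤ := eq_top_iff.2 fun z _ => by
    obtain ⟨k, hk⟩ := htors z.1 z.2
    exact ⟨k, fun r hr => Subtype.ext (hk r hr)⟩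
  obtain ⟨EK⟩ := nonempty_resG K
  obtain ⟨EB⟩ := nonempty_resG B
  obtain ⟨EN⟩ := nonempty_resG N
  have hi₁ : GrLC.IsGrHomDeg K.gr M.gr (LinearMap.ker u).subtype 0 := fun g z hz => by rw [add_zero]; exact hz
  have hr₁ : GrLC.IsGrHomDeg M.gr B.gr u.rangeRestrict 1 := fun g z hz => hu g z hz
  have hi₂ : GrLC.IsGrHomDeg B.gr M.gr (LinearMap.range u).subtype 0 := fun g z hz => by rw [add_zero]; exact hz
  have hπ' : GrLC.IsGrHomDeg M.gr N.gr π 0 := fun g z hz => by rw [add_zero]; exact hπ g z hz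
  obtain ⟨δ₁, -, -, hle₁⟩ := exists_lesG K M B (LinearMap.ker u).subtype u.rangeRestrict hi₁ hr₁
    (LinearMap.ker u).injective_subtype u.surjective_rangeRestrict
    (u.ker_rangeRestrict.trans (LinearMap.ker u).range_subtype.symm) EK E EB a
  obtain ⟨δ₂, hδ₂, -, hle₂⟩ := exists_lesG B M N (LinearMap.range u).subtype π hi₂ hπ'
    (LinearMap.range u).injective_subtype hπs (hker.trans (LinearMap.range u).range_subtype.symm) EB E EN a
  have hinj : ∀ (n : ℤ), D < ((q + 1 : ℕ) : ℤ) + n → ∀ w ∈ E.Hgr a (q + 1) n, x • w = 0 → w = 0 := by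
    intro n hn w hw hxw
    have hb := Hmap_deg E EB a hr₁ (q + 1) n w hw
    have h1 : Hmap EB E a (LinearMap.range u).subtype 0 hi₂ (q + 1) (Hmap E EB a u.rangeRestrict 1 hr₁ (q + 1) w) = 0 := by
      have h3 := LinearMap.congr_fun ((Hmap_comp E EB E a hr₁ hi₂ (q + 1)).symm.trans
        (Hmap_congr E E a (IsGrHomDeg.comp hr₁ hi₂) hu rfl (add_zero 1) (q + 1))) w
      exact h3.trans ((LinearMap.congr_fun (Hmap_smul E a x hu hx (q + 1)) w).trans hxw)
    have h2 : Hmap E EB a u.rangeRestrict 1 hr₁ (q + 1) w = 0 := by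
      rw [show n + 1 = n + 1 + -((0 : ℤ) + 0) by ring] at hb
      obtain ⟨v, hv, hvw⟩ := preimage_homogeneous (hδ₂ q) hb (((hle₂ q).2.2 _).1 h1)
      rw [← hvw, hN q (n + 1) (by push_cast at hn; omega) EN v hv, map_zero]
    obtain ⟨v, hv, rfl⟩ := preimage_homogeneous (Hmap_deg EK E a hi₁ (q + 1)) (g := n)
      (show w ∈ E.Hgr a (q + 1) (n + 0) by rw [add_zero]; exact hw) (((hle₁ (q + 1)).1 w).1 h2)
    rw [van_of_torsion hK (Nat.le_add_left 1 q) n EK v hv, map_zero]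
  obtain ⟨c, hc⟩ : ∃ c : ℕ, x ^ c • y = 0 := by
    obtain ⟨z, rfl⟩ := Submodule.mkQ_surjective _ y
    obtain ⟨c, hc⟩ := z.2.1
    exact ⟨c, by rw [← map_smul, show x ^ c • z = 0 from Subtype.ext (hc _ (Ideal.pow_mem_pow hxa c)), map_zero]⟩
  induction c generalizing m y with
  | zero => rwa [pow_zero, one_smul] at hc
  | succ c ih =>
    refine hinj m hm y hy (ih (m + 1) (by omega) (x • y) ?_ ?_)
    · rw [add_comm m 1]; exact smul_mem 𝒜 (E.Hgr a (q + 1)) hx hy
    · rwa [← mul_smul, ← pow_succ]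

omit [IsNoetherianRing R] in
theorem van_zero_of_regular {x : R} (hxa : x ∈ a.toIdeal) (hxr : IsSMulRegular M.carrier x) (m : ℤ) :
    Van a M.gr 0 m := fun E y hy => by
  obtain ⟨z, hz, rfl⟩ := hy
  obtain ⟨v, hv⟩ : (z : (E.X 0).carrier) ∈ LinearMap.range E.ε := E.exact_zero.le z.2.2
  obtain ⟨k, hk⟩ := z.2.1
  have h1 : x ^ k • v = 0 := E.ε_injective (by rw [map_smul, map_zero, hv]; exact hk _ (Ideal.pow_mem_pow hxa k))
  have hv0 : v = 0 := (hxr.pow k) (show x ^ k • v = x ^ k • (0 : M.carrier) by rw [h1, smul_zero])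
  rw [show z = 0 from Subtype.ext (by rw [← hv, hv0, map_zero]; rfl), map_zero]

/-- Regularity is unchanged by quotienting by a regular sequence of degree one. -/
theorem regLE_iff_of_seq : ∀ (ys : List R), (∀ y ∈ ys, y ∈ 𝒜 1 ∧ y ∈ a.toIdeal) →
    ∀ (M N : GrLC.GMod.{u} 𝒜) (π : M.carrier →ₗ[R] N.carrier), GrLC.IsGrHom M.gr N.gr π → Function.Surjective π →
      RingTheory.Sequence.IsWeaklyRegular M.carrier ys → LinearMap.ker π = Ideal.ofList ys • ⊤ →
      ∀ D : ℤ, RegLE a M.gr D ↔ RegLE a N.gr D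
  | [], _, M, N, π, hπ, hπs, _, hker, D => by
    have hπi : Function.Injective π := by
      rw [← LinearMap.ker_eq_bot, hker, Ideal.ofList_nil, Submodule.bot_smul]
    let Z := subG 𝒜 (ℳ := M.gr) ⊥ (bot_isHomogeneous M.gr)
    haveI : Subsingleton Z.carrier := inferInstanceAs (Subsingleton (⊥ : Submodule R M.carrier))
    have hzero : GrLC.IsGrHomDeg Z.gr M.gr (⊥ : Submodule R M.carrier).subtype 0 :=
      fun g z hz => by rw [add_zero]; exact hz
    have hπ' : GrLC.IsGrHomDeg M.gr N.gr π 0 := fun g z hz => by rw [add_zero]; exact hπ g z hz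
    have hex : LinearMap.ker π = LinearMap.range (⊥ : Submodule R M.carrier).subtype :=
      (LinearMap.ker_eq_bot.2 hπi).trans (⊥ : Submodule R M.carrier).range_subtype.symm
    exact ⟨fun h => regLE_right Z M N _ π hzero hπ' (⊥ : Submodule R M.carrier).injective_subtype hπs hex
        (regLE_of_subsingleton (D + 1)) h,
      fun h i m hm => van_midG Z M N _ π hzero hπ' (⊥ : Submodule R M.carrier).injective_subtype hπs hex
        (add_zero m) (add_zero m) (van_of_subsingleton i m) (h i m hm)⟩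
  | x :: ys, hys, M, N, π, hπ, hπs, hreg, hker, D => by
    obtain ⟨hxr, hrest⟩ := (RingTheory.Sequence.isWeaklyRegular_cons_iff M.carrier x ys).1 hreg
    obtain ⟨hx, hxa⟩ := hys x (List.mem_cons_self ..)
    let u : M.carrier →ₗ[R] M.carrier := x • LinearMap.id
    have hu : GrLC.IsGrHomDeg M.gr M.gr u 1 := fun g z hz => by rw [add_comm]; exact smul_mem 𝒜 M.gr hx hz
    let P := LinearMap.range u
    have hPx : P = x • (⊤ : Submodule R M.carrier) := by
      ext z
      rw [Submodule.mem_smul_pointwise_iff_exists]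
      exact ⟨fun ⟨v, hv⟩ => ⟨v, Submodule.mem_top, hv⟩, fun ⟨v, _, hv⟩ => ⟨v, hv⟩⟩
    let Q := quotG 𝒜 (ℳ := M.gr) P (range_isHomogeneous_deg hu)
    have hPπ : P ≤ LinearMap.ker π := by
      rw [hker, Ideal.ofList_cons_smul, hPx]; exact le_sup_left
    let π₁ : Q.carrier →ₗ[R] N.carrier := P.liftQ π hPπ
    have h1 := regLE_iff_of_seq ys (fun y hy => hys y (List.mem_cons_of_mem _ hy)) Q N π₁
      (fun g z ⟨v, hv, he⟩ => he ▸ hπ g v hv) (fun z => ⟨P.mkQ (hπs z).choose, (hπs z).choose_spec⟩)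
      (((Submodule.quotEquivOfEq P _ hPx).isWeaklyRegular_congr ys).2 hrest) (by
        refine (Submodule.ker_liftQ P π hPπ).trans ?_
        show Submodule.map P.mkQ (LinearMap.ker π) = Ideal.ofList ys • (⊤ : Submodule R (M.carrier ⧸ P))
        rw [hker, Ideal.ofList_cons_smul, Submodule.map_sup, ← hPx, Submodule.map_smul'', Submodule.map_top,
          Submodule.range_mkQ, Submodule.mkQ_map_self, bot_sup_eq]) D
    rw [← h1, regLE_section_iff (a := a) M Q P.mkQ hx hxa (fun g z hz => ⟨z, hz, rfl⟩) P.mkQ_surjective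
      P.ker_mkQ (fun z hz => by rw [show z = 0 from hxr (show x • z = x • (0 : M.carrier) by rw [hz, smul_zero])]; exact zero_mem _) D]
    exact and_iff_left fun m _ => van_zero_of_regular M hxa hxr m

end General

section Std

variable {k : Type u} [Field k] {r : ℕ}
  {M : Type u} [AddCommGroup M] [Module k M] [Module (MvPolynomial (Fin (r + 1)) k) M]
  [IsScalarTower k (MvPolynomial (Fin (r + 1)) k) M] [Module.Finite (MvPolynomial (Fin (r + 1)) k) M]
  {ℳ : ℤ → Submodule k M} [DirectSum.Decomposition ℳ] [SetLike.GradedSMul (GrSyz.stdGr k (Fin (r + 1))) ℳ]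

theorem stdGr_hpos : ∀ n : ℤ, n < 0 → toAdd (GrSyz.stdGr k (Fin (r + 1))) n = ⊥ := fun n hn =>
  (AddSubgroup.eq_bot_iff_forall _).2 fun p hp => (Submodule.eq_bot_iff _).1 (GrSyzLib.stdGr_neg k r hn) p hp

theorem isRegLE_iff (d : ℤ) :
    GrSyz.IsRegLE (GrSyz.stdGr k (Fin (r + 1))) ℳ (GrSyz.irrel (GrSyz.stdGr k (Fin (r + 1)))).toIdeal d ↔
      RegLE (stdIrrel k r) (toAdd ℳ) d := by
  constructor
  · rintro ⟨F, hF, hd⟩
    exact (isGenLE_iff_regLE k r ℳ F hF d).1 hd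
  · intro h
    obtain ⟨F, hF⟩ := GrSyzLib.exists_minimal (k := k) (r := r) (ℳ := ℳ)
    exact ⟨F, hF, (isGenLE_iff_regLE k r ℳ F hF d).2 h⟩

theorem reg_le_coe_iff (d : ℤ) :
    GrSyz.reg (GrSyz.stdGr k (Fin (r + 1))) ℳ (GrSyz.irrel (GrSyz.stdGr k (Fin (r + 1)))).toIdeal ≤
      ((d : WithTop ℤ) : WithBot (WithTop ℤ)) ↔ RegLE (stdIrrel k r) (toAdd ℳ) d := by
  constructor
  · intro h
    by_contra hd
    have h2 : (((d + 1 : ℤ) : WithTop ℤ) : WithBot (WithTop ℤ)) ≤
        GrSyz.reg (GrSyz.stdGr k (Fin (r + 1))) ℳ (GrSyz.irrel (GrSyz.stdGr k (Fin (r + 1)))).toIdeal := by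
      refine le_iInf₂ fun d' hd' => WithBot.coe_le_coe.2 (WithTop.coe_le_coe.2 ?_)
      by_contra hlt
      exact hd (((isRegLE_iff d').1 hd').mono (by omega))
    have := WithTop.coe_le_coe.1 (WithBot.coe_le_coe.1 (h2.trans h))
    omega
  · exact fun h => iInf₂_le d ((isRegLE_iff d).2 h)

omit [IsScalarTower k (MvPolynomial (Fin (r + 1)) k) M] in
theorem regLE_iff_endDeg_of_finiteLength (hM : IsFiniteLength (MvPolynomial (Fin (r + 1)) k) M) (d : ℤ) :
    RegLE (stdIrrel k r) (toAdd ℳ) d ↔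
      GrLC.endDeg (fun n => (ℳ n).toAddSubgroup) ≤ ((d : WithTop ℤ) : WithBot (WithTop ℤ)) := by
  rw [regLE_iff_of_torsion (gam_eq_top_of_finiteLength (a := stdIrrel k r) stdGr_hpos (stdIrrel_eq_span k r)
    (toAdd ℳ) hM) d]
  constructor
  · intro h
    refine iSup₂_le fun m hm => WithBot.coe_le_coe.2 (WithTop.coe_le_coe.2 ?_)
    by_contra hlt
    exact hm ((AddSubgroup.eq_bot_iff_forall _).2 fun y hy => h m (by omega) y hy)
  · intro h m hm y hy
    by_contra hy0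
    have h1 : ((m : WithTop ℤ) : WithBot (WithTop ℤ)) ≤ GrLC.endDeg (fun n => (ℳ n).toAddSubgroup) :=
      le_iSup₂_of_le m (fun hb => hy0 ((AddSubgroup.eq_bot_iff_forall _).1 hb y hy)) le_rfl
    have := WithTop.coe_le_coe.1 (WithBot.coe_le_coe.1 (h1.trans h))
    omega

omit [IsScalarTower k (MvPolynomial (Fin (r + 1)) k) M] [Module.Finite (MvPolynomial (Fin (r + 1)) k) M] in
theorem endDeg_zero_le_iff (E : GrLC.StarInjRes (GrSyz.stdGr k (Fin (r + 1))) ℳ) (d : ℤ) :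
    GrLC.endDeg (E.Hgr (GrSyz.irrel (GrSyz.stdGr k (Fin (r + 1)))) 0) ≤ ((d : WithTop ℤ) : WithBot (WithTop ℤ)) ↔
      ∀ m, d < m → Van (stdIrrel k r) (toAdd ℳ) 0 m := by
  constructor
  · intro h m hm
    rw [van_iff (resToAdd E)]
    intro y hy
    by_contra hy0
    have h1 : ((m : WithTop ℤ) : WithBot (WithTop ℤ)) ≤
        GrLC.endDeg (E.Hgr (GrSyz.irrel (GrSyz.stdGr k (Fin (r + 1)))) 0) :=
      le_iSup₂_of_le m (fun hb => hy0 ((AddSubgroup.eq_bot_iff_forall _).1 hb y hy)) le_rfl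
    have := WithTop.coe_le_coe.1 (WithBot.coe_le_coe.1 (h1.trans h))
    omega
  · intro h
    refine iSup₂_le fun m hm => WithBot.coe_le_coe.2 (WithTop.coe_le_coe.2 ?_)
    by_contra hlt
    exact hm ((AddSubgroup.eq_bot_iff_forall _).2 fun y hy => h m (by omega) (resToAdd E) y hy)

omit [IsScalarTower k (MvPolynomial (Fin (r + 1)) k) M] [Module.Finite (MvPolynomial (Fin (r + 1)) k) M] in
theorem dRegular_iff (E : GrLC.StarInjRes (GrSyz.stdGr k (Fin (r + 1))) ℳ) (d : ℤ) :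
    (GrLC.endDeg (E.Hgr (GrSyz.irrel (GrSyz.stdGr k (Fin (r + 1)))) 0) ≤ ((d : WithTop ℤ) : WithBot (WithTop ℤ)) ∧
      ∀ i : ℕ, 0 < i → E.Hcomp (GrSyz.irrel (GrSyz.stdGr k (Fin (r + 1)))) i (d - (i : ℤ) + 1) = ⊥) ↔
      RegLE (stdIrrel k r) (toAdd ℳ) d := by
  rw [endDeg_zero_le_iff E d]
  constructor
  · rintro ⟨h0, h⟩
    refine regLE_of_diag (stdIrrel_eq_span k r) h0 fun i hi => ?_
    rw [van_iff (resToAdd E)]
    exact fun x hx => (Submodule.eq_bot_iff _).1 (h i hi) x hx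
  · intro h
    exact ⟨fun m hm => h 0 m (by simpa using hm), fun i hi =>
      (Submodule.eq_bot_iff _).2 fun x hx => h i (d - i + 1) (by omega) (resToAdd E) x hx⟩

end Std

end GrModLib
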