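import Groth.Agent.GrModLib.Growth

/-! Vanishing in high degrees and chain conditions for the pieces of graded local cohomology. -/

set_option autoImplicit false
universe u

open DirectSum

namespace GrModLib

variable {R : Type u} [CommRing R] {𝒜 : ℤ → AddSubgroup R} [GradedRing 𝒜]

theorem posIdeal_le_of_starLocal (hpos : ∀ n : ℤ, n < 0 → 𝒜 n = ⊥) {m : HomogeneousIdeal 𝒜}
    (hm : GrLC.IsStarLocal 𝒜 m) : (posIdeal 𝒜).toIdeal ≤ m.toIdeal := by
  rcases eq_or_ne (m ⊔ posIdeal 𝒜) ⊤ with h | h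
  · exfalso
    have h1 : (1 : R) ∈ m.toIdeal ⊔ (posIdeal 𝒜).toIdeal := by
      rw [← HomogeneousIdeal.toIdeal_sup, h, HomogeneousIdeal.toIdeal_top]; exact Submodule.mem_top
    obtain ⟨u, hu, v, hv, huv⟩ := Submodule.mem_sup.1 h1
    have h2 := congrArg (pr 𝒜 0) huv
    rw [map_add, pr_zero_posIdeal hpos v hv, add_zero, pr_self 𝒜 (SetLike.one_mem_graded 𝒜)] at h2
    have h3 : pr 𝒜 0 u ∈ m.toIdeal := m.isHomogeneous 0 hu
    rw [h2] at h3
    exact hm.1.1 (HomogeneousIdeal.ext ((Ideal.eq_top_iff_one _).2 h3))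
  · rcases hm.1.le_iff.1 (le_sup_left : m ≤ m ⊔ posIdeal 𝒜) with h' | h'
    · exact absurd h' h
    · exact fun r hr => (congrArg HomogeneousIdeal.toIdeal h').le
        (by rw [HomogeneousIdeal.toIdeal_sup]; exact Submodule.mem_sup_right hr)

theorem isMaximal_of_starLocal (hpos : ∀ n : ℤ, n < 0 → 𝒜 n = ⊥) {m : HomogeneousIdeal 𝒜}
    (hm : GrLC.IsStarLocal 𝒜 m) : m.toIdeal.IsMaximal := by
  refine Ideal.isMaximal_def.2 ⟨fun h => hm.1.1 (HomogeneousIdeal.ext h), fun J hJ => ?_⟩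
  have hne : ∀ g : ℤ, g ≠ 0 → ∀ r ∈ 𝒜 g, r ∈ m.toIdeal := fun g hg r hr => by
    rcases lt_or_gt_of_ne hg with hg | hg
    · rw [eq_zero_of_neg hpos hg hr]; exact zero_mem _
    · exact posIdeal_le_of_starLocal hpos hm (mem_posIdeal hg hr)
  have hJh : J.IsHomogeneous 𝒜 := by
    intro g r hr
    show pr 𝒜 g r ∈ J
    by_cases hg : g = 0
    · subst hg
      obtain ⟨s, hs0, hs⟩ := exists_finset 𝒜 r
      by_cases h0 : (0 : ℤ) ∈ s
      · rw [← Finset.add_sum_erase _ _ h0] at hs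
        have : pr 𝒜 0 r = r - ∑ j ∈ s.erase 0, pr 𝒜 j r := eq_sub_of_add_eq hs
        rw [this]
        exact sub_mem hr (sum_mem fun j hj => hJ.le (hne j (Finset.ne_of_mem_erase hj) _ (pr_mem 𝒜 j r)))
      · rw [hs0 0 h0]; exact zero_mem J
    · exact hJ.le (hne g hg _ (pr_mem 𝒜 g r))
  exact congrArg HomogeneousIdeal.toIdeal (hm.1.2 ⟨J, hJh⟩ hJ)

/-- High degree pieces lie in high powers of the irrelevant ideal. -/
theorem exists_mem_pow [IsNoetherianRing R] (hpos : ∀ n : ℤ, n < 0 → 𝒜 n = ⊥) :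
    ∀ k : ℕ, ∃ D : ℤ, ∀ (j : ℤ) (r : R), D ≤ j → r ∈ 𝒜 j → r ∈ (posIdeal 𝒜).toIdeal ^ k := by
  classical
  obtain ⟨s, hs, hsspan⟩ := (Submodule.fg_span_iff_fg_span_finset_subset _).1
    (IsNoetherian.noetherian (posIdeal 𝒜).toIdeal)
  have hdeg : ∀ g ∈ s, ∃ d : ℤ, 0 < d ∧ g ∈ 𝒜 d := fun g hg => by
    obtain ⟨n, hn, hx⟩ := Set.mem_iUnion₂.1 (hs hg)
    exact ⟨n, hn, hx⟩
  choose! d hd hgd using hdeg
  intro k
  induction k with
  | zero => exact ⟨0, fun j r _ _ => by rw [pow_zero, Ideal.one_eq_top]; exact Submodule.mem_top⟩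
  | succ k ih =>
    obtain ⟨D, hD⟩ := ih
    refine ⟨max 1 (D + ∑ g ∈ s, d g), fun j r hj hr => ?_⟩
    have hrs : r ∈ Submodule.span R (s : Set R) := hsspan ▸ mem_posIdeal (by omega) hr
    obtain ⟨c, -, hc⟩ := Submodule.mem_span_finset.1 hrs
    rw [← pr_self 𝒜 hr, ← hc, map_sum]
    refine sum_mem fun g hg => ?_
    have h1 := pr_smul_mem 𝒜 𝒜 (hgd g hg) (c g) j
    rw [h1, smul_eq_mul, pow_succ]
    refine Ideal.mul_mem_mul (hD _ _ ?_ (pr_mem 𝒜 _ _)) (mem_posIdeal (hd g hg) (hgd g hg))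
    have h2 : d g ≤ ∑ g ∈ s, d g := Finset.single_le_sum (fun g hg => (hd g hg).le) hg
    omega

/-- A finite module killed by a power of the irrelevant ideal is bounded above. -/
theorem exists_piece_bound [IsNoetherianRing R] (hpos : ∀ n : ℤ, n < 0 → 𝒜 n = ⊥)
    {M : Type u} [AddCommGroup M] [Module R M] (ℳ : ℤ → AddSubgroup M) [DirectSum.Decomposition ℳ]
    [SetLike.GradedSMul 𝒜 ℳ] [Module.Finite R M] :
    ∃ D : ℤ, ∀ (n : ℤ) (y : M), D ≤ n → y ∈ ℳ n → y ∈ GrLC.gam (posIdeal 𝒜).toIdeal M → y = 0 := by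
  classical
  let P := posIdeal 𝒜
  haveI := isNoetherian_of_isNoetherianRing_of_finite R M
  let T := GrLC.gam P.toIdeal M
  have hT : T.IsHomogeneous ℳ := gam_isHomogeneous P
  obtain ⟨k, hk⟩ := exists_pow_smul_eq_zero (M := T) (I := P.toIdeal) (eq_top_iff.2 fun m _ =>
    m.2.imp fun k hk r hr => Subtype.ext (hk r hr))
  obtain ⟨s, hs⟩ := IsNoetherian.noetherian T
  let G : Finset ℤ := s.biUnion fun x => (exists_finset ℳ x).choose
  obtain ⟨g₀, hg₀⟩ := (G : Set ℤ).toFinite.bddAbove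
  obtain ⟨D, hD⟩ := exists_mem_pow hpos k
  refine ⟨D + g₀, fun n y hn hy hyT => ?_⟩
  rw [← pr_self ℳ hy]
  replace hyT : y ∈ Submodule.span R (s : Set M) := hs.ge hyT
  obtain ⟨c, -, hc⟩ := Submodule.mem_span_finset.1 hyT
  rw [← hc, map_sum]
  refine Finset.sum_eq_zero fun x hx => ?_
  have hxT : x ∈ T := hs ▸ Submodule.subset_span hx
  obtain ⟨hG0, hGs⟩ := (exists_finset ℳ x).choose_spec
  rw [show c x • x = ∑ g ∈ (exists_finset ℳ x).choose, c x • pr ℳ g x by rw [← Finset.smul_sum, hGs], map_sum]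
  refine Finset.sum_eq_zero fun g hg => ?_
  rw [pr_smul_mem 𝒜 ℳ (pr_mem ℳ g x) (c x) n]
  have hgle : g ≤ g₀ := hg₀ (Finset.mem_coe.2 (Finset.mem_biUnion.2 ⟨x, hx, hg⟩))
  exact congrArg Subtype.val (hk _ (hD _ _ (by omega) (pr_mem 𝒜 _ _)) ⟨pr ℳ g x, hT g hxT⟩)

/-- Graded local cohomology vanishes in high degrees. -/
theorem exists_van_bound [IsNoetherianRing R] (hpos : ∀ n : ℤ, n < 0 → 𝒜 n = ⊥) (a : HomogeneousIdeal 𝒜)
    (ha : (posIdeal 𝒜).toIdeal ≤ a.toIdeal) (i : ℕ) (N : GrLC.GMod.{u} 𝒜) (hN : Module.Finite R N.carrier) :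
    ∃ r : ℤ, ∀ n : ℤ, r ≤ n → Van a N.gr i n := by
  refine induct_H hpos a ha (fun i N => ∃ r : ℤ, ∀ n : ℤ, r ≤ n → Van a N.gr i n) ?_ ?_ ?_ ?_ i N hN
  · intro N hN
    obtain ⟨D, hD⟩ := exists_piece_bound hpos N.gr
    refine ⟨D, fun n hn E x hx => ?_⟩
    obtain ⟨z, hz, rfl⟩ := hx
    have hzr : (z : (E.X 0).carrier) ∈ LinearMap.range E.ε := E.exact_zero.le z.2.2
    rw [← add_zero n] at hz
    obtain ⟨y, hy, hyz⟩ := preimage_homogeneous (ε_deg E) hz hzr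
    have hyt : y ∈ GrLC.gam (posIdeal 𝒜).toIdeal N.carrier := by
      refine gam_mono ha ?_
      obtain ⟨k, hk⟩ := z.2.1
      refine ⟨k, fun r hr => E.ε_injective ?_⟩
      rw [map_smul, map_zero, hyz]
      exact hk r hr
    have h0 : z = 0 := Subtype.ext (by rw [← hyz, hD n y hn hy hyt, map_zero]; rfl)
    rw [h0, map_zero]
  · rintro i N P hP hN ⟨r₁, h₁⟩ ⟨r₃, h₃⟩
    exact ⟨max r₁ r₃, fun n hn => van_midG (subG 𝒜 (ℳ := N.gr) P hP) N (quotG 𝒜 (ℳ := N.gr) P hP) P.subtype P.mkQ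
      (d := 0) (e := 0) (fun g m hm => by rw [add_zero]; exact hm)
      (fun g m hm => by rw [add_zero]; exact ⟨m, hm, rfl⟩) (Submodule.injective_subtype P)
      (Submodule.mkQ_surjective P) ((Submodule.ker_mkQ P).trans P.range_subtype.symm) (add_zero n) (add_zero n)
      (h₁ n (le_of_max_le_left hn)) (h₃ n (le_of_max_le_right hn))⟩
  · exact fun i N hN => ⟨0, fun n _ => van_of_torsion hN (Nat.le_add_left 1 i) n⟩
  · intro i N t x hxt hN ht hxa hxr _ hQ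
    have hf : GrLC.IsGrHomDeg N.gr N.gr (x • (LinearMap.id : N.carrier →ₗ[R] N.carrier)) t := fun g m hm => by
      rw [add_comm]; exact smul_mem 𝒜 N.gr hxt hm
    obtain ⟨r, hr⟩ := hQ (range_isHomogeneous_deg hf)
    refine ⟨r, fun n hn E y hy => ?_⟩
    let Q := quotG 𝒜 (ℳ := N.gr) _ (range_isHomogeneous_deg hf)
    obtain ⟨F⟩ := nonempty_resG Q
    obtain ⟨δ, hδ, -, hle⟩ := exists_lesG N N Q (x • (LinearMap.id : N.carrier →ₗ[R] N.carrier))
      (LinearMap.range (x • (LinearMap.id : N.carrier →ₗ[R] N.carrier))).mkQ (e := 0)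
      hf (fun g m hm => by rw [add_zero]; exact ⟨m, hm, rfl⟩) hxr (Submodule.mkQ_surjective _)
      (Submodule.ker_mkQ _) E E F a
    have hinj : ∀ n', r ≤ n' → ∀ w ∈ E.Hgr a (i + 1) n', x • w = 0 → w = 0 := by
      intro n' hn' w hw hxw
      have h1 : Hmap E E a (x • (LinearMap.id : N.carrier →ₗ[R] N.carrier)) t hf (i + 1) w = 0 := by
        rw [Hmap_smul E a x hf hxt]; exact hxw
      rw [show n' = n' + t + -(t + 0) by ring] at hw
      obtain ⟨v, hv, rfl⟩ := preimage_homogeneous (hδ i) hw (((hle i).2.2 w).1 h1)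
      rw [hr _ (by omega) F v hv, map_zero]
    obtain ⟨K, hK⟩ : ∃ K : ℕ, x ^ K • y = 0 := by
      obtain ⟨z, rfl⟩ := Submodule.mkQ_surjective _ y
      obtain ⟨K, hK⟩ := z.2.1
      exact ⟨K, by rw [← map_smul, show x ^ K • z = 0 from Subtype.ext (hK _ (Ideal.pow_mem_pow hxa K)), map_zero]⟩
    induction K generalizing n y with
    | zero => rwa [pow_zero, one_smul] at hK
    | succ K ih =>
      refine hinj n hn y hy (ih (n + t) (by omega) (x • y) ?_ ?_)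
      · rw [add_comm n t]; exact smul_mem 𝒜 (E.Hgr a (i + 1)) hxt hy
      · rwa [← mul_smul, ← pow_succ]

section Pieces

variable {M : Type u} [AddCommGroup M] [Module R M] (ℳ : ℤ → AddSubgroup M) [DirectSum.Decomposition ℳ]
  [SetLike.GradedSMul 𝒜 ℳ]

/-- Submodules of a piece inject monotonically into submodules of the module. -/
theorem exists_piece_embedding {n : ℤ} {P : Submodule (GrLC.deg0 𝒜) M} (hP : ∀ x ∈ P, x ∈ ℳ n) :
    ∃ f : Submodule (GrLC.deg0 𝒜) P ↪o Submodule R M, True := by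
  refine ⟨OrderEmbedding.ofMapLEIff (fun W => Submodule.span R (Subtype.val '' (W : Set P))) fun W W' =>
    ⟨fun h w hw => ?_, fun h => Submodule.span_mono (Set.image_mono h)⟩, trivial⟩
  have h1 : (w : M) ∈ Submodule.span R (Subtype.val '' (W' : Set P)) :=
    h (Submodule.subset_span ⟨w, hw, rfl⟩)
  have key : ∀ y ∈ Submodule.span R (Subtype.val '' (W' : Set P)), ∀ c : R,
      ∃ w' ∈ W', pr ℳ n (c • y) = (w' : M) := by
    intro y hy
    induction hy using Submodule.span_induction with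
    | mem y hy =>
      obtain ⟨v, hv, rfl⟩ := hy
      intro c
      refine ⟨(⟨pr 𝒜 0 c, pr_mem 𝒜 0 c⟩ : GrLC.deg0 𝒜) • v, W'.smul_mem _ hv, ?_⟩
      rw [pr_smul_mem 𝒜 ℳ (hP _ v.2) c n, sub_self]
      rfl
    | zero => exact fun c => ⟨0, zero_mem _, by rw [smul_zero, map_zero]; rfl⟩
    | add y z _ _ hy hz =>
      intro c
      obtain ⟨v, hv, hv'⟩ := hy c
      obtain ⟨v', hv₂, hv₂'⟩ := hz c
      exact ⟨v + v', add_mem hv hv₂, by rw [smul_add, map_add, hv', hv₂']; rfl⟩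
    | smul c' y _ hy => exact fun c => by rw [← mul_smul]; exact hy _
  obtain ⟨w', hw', he⟩ := key _ h1 1
  rw [one_smul, pr_self ℳ (hP _ w.2)] at he
  rwa [show w = w' from Subtype.ext he]

theorem isNoetherian_piece [IsNoetherian R M] {n : ℤ} {P : Submodule (GrLC.deg0 𝒜) M} (hP : ∀ x ∈ P, x ∈ ℳ n) :
    IsNoetherian (GrLC.deg0 𝒜) P := by
  obtain ⟨f, -⟩ := exists_piece_embedding ℳ hP
  rw [isNoetherian_iff']
  exact f.strictMono.wellFoundedGT

theorem isArtinian_piece [IsArtinian R M] {n : ℤ} {P : Submodule (GrLC.deg0 𝒜) M} (hP : ∀ x ∈ P, x ∈ ℳ n) :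
    IsArtinian (GrLC.deg0 𝒜) P := by
  obtain ⟨f, -⟩ := exists_piece_embedding ℳ hP
  exact f.strictMono.wellFoundedLT

end Pieces

/-- A homogeneous map between cohomology modules, on pieces. -/
noncomputable def pieceMap {M N : Type u} [AddCommGroup M] [Module R M] [AddCommGroup N] [Module R N]
    {ℳ : ℤ → AddSubgroup M} [DirectSum.Decomposition ℳ] [SetLike.GradedSMul 𝒜 ℳ]
    {𝒩 : ℤ → AddSubgroup N} [DirectSum.Decomposition 𝒩] [SetLike.GradedSMul 𝒜 𝒩]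
    {E : GrLC.StarInjRes 𝒜 ℳ} {F : GrLC.StarInjRes 𝒜 𝒩} {a : HomogeneousIdeal 𝒜} {i j : ℕ}
    {φ : E.H a i →ₗ[R] F.H a j} {d : ℤ} (hφ : GrLC.IsGrHomDeg (E.Hgr a i) (F.Hgr a j) φ d) (n m : ℤ)
    (e : n + d = m) : E.Hcomp a i n →ₗ[GrLC.deg0 𝒜] F.Hcomp a j m :=
  (φ.restrictScalars (GrLC.deg0 𝒜)).restrict fun x hx => e ▸ hφ n x hx

set_option maxHeartbeats 1600000 in
/-- A property of modules over the degree zero ring closed under extensions passes to the pieces of graded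
local cohomology. -/
theorem piece_induction [IsNoetherianRing R] (hpos : ∀ n : ℤ, n < 0 → 𝒜 n = ⊥) (a : HomogeneousIdeal 𝒜)
    (ha : (posIdeal 𝒜).toIdeal ≤ a.toIdeal)
    (C : ∀ (X : Type u) [AddCommGroup X] [Module (GrLC.deg0 𝒜) X], Prop)
    (hzero : ∀ (X : Type u) [AddCommGroup X] [Module (GrLC.deg0 𝒜) X] [Subsingleton X], C X)
    (hmid : ∀ (A B D : Type u) [AddCommGroup A] [Module (GrLC.deg0 𝒜) A] [AddCommGroup B]
      [Module (GrLC.deg0 𝒜) B] [AddCommGroup D] [Module (GrLC.deg0 𝒜) D]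
      (f : A →ₗ[GrLC.deg0 𝒜] B) (g : B →ₗ[GrLC.deg0 𝒜] D), LinearMap.range f = LinearMap.ker g →
      C A → C D → C B)
    (h0 : ∀ (N : GrLC.GMod.{u} 𝒜), Module.Finite R N.carrier → ∀ (E : GrLC.StarInjRes 𝒜 N.gr) (n : ℤ),
      C (E.Hcomp a 0 n))
    (ht0 : ∀ (i : ℕ) (N : GrLC.GMod.{u} 𝒜), GrLC.gam (posIdeal 𝒜).toIdeal N.carrier = ⊤ →
      ∀ (E : GrLC.StarInjRes 𝒜 N.gr) (n : ℤ) (x : GrLC.deg0 𝒜), (x : R) ∈ a.toIdeal →
      C (LinearMap.ker (x • (LinearMap.id : E.Hcomp a (i + 1) n →ₗ[GrLC.deg0 𝒜] E.Hcomp a (i + 1) n))) →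
      C (E.Hcomp a (i + 1) n))
    (i : ℕ) (N : GrLC.GMod.{u} 𝒜) (hN : Module.Finite R N.carrier) :
    ∀ (E : GrLC.StarInjRes 𝒜 N.gr) (n : ℤ), C (E.Hcomp a i n) := by
  have hvz : ∀ (i : ℕ) (N : GrLC.GMod.{u} 𝒜) (E : GrLC.StarInjRes 𝒜 N.gr) (n : ℤ), Van a N.gr i n →
      C (E.Hcomp a i n) := fun i N E n h => by
    haveI : Subsingleton (E.Hcomp a i n) :=
      ⟨fun u v => Subtype.ext ((h E _ u.2).trans (h E _ v.2).symm)⟩
    exact hzero _
  refine induct_H hpos a ha (fun i N => ∀ (E : GrLC.StarInjRes 𝒜 N.gr) (n : ℤ), C (E.Hcomp a i n)) h0 ?_ ?_ ?_ i N hN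
  · intro i N P hP hN h₁ h₃ E n
    obtain ⟨E₁⟩ := nonempty_resG (subG 𝒜 (ℳ := N.gr) P hP)
    obtain ⟨E₃⟩ := nonempty_resG (quotG 𝒜 (ℳ := N.gr) P hP)
    have hf : GrLC.IsGrHomDeg (subG 𝒜 (ℳ := N.gr) P hP).gr N.gr P.subtype 0 :=
      fun g m hm => by rw [add_zero]; exact hm
    have hg : GrLC.IsGrHomDeg N.gr (quotG 𝒜 (ℳ := N.gr) P hP).gr P.mkQ 0 :=
      fun g m hm => by rw [add_zero]; exact ⟨m, hm, rfl⟩
    obtain ⟨δ, -, -, hle⟩ := exists_lesG (subG 𝒜 (ℳ := N.gr) P hP) N (quotG 𝒜 (ℳ := N.gr) P hP)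
      P.subtype P.mkQ hf hg (Submodule.injective_subtype P) (Submodule.mkQ_surjective P)
      ((Submodule.ker_mkQ P).trans P.range_subtype.symm) E₁ E E₃ a
    refine hmid _ _ _ (pieceMap (Hmap_deg E₁ E a hf (i + 1)) n n (add_zero n))
      (pieceMap (Hmap_deg E E₃ a hg (i + 1)) n n (add_zero n)) ?_ (h₁ E₁ n) (h₃ E₃ n)
    refine le_antisymm ?_ fun w hw => ?_
    · rintro _ ⟨v, rfl⟩
      exact Subtype.ext (((hle (i + 1)).1 _).2 ⟨v.1, rfl⟩)
    · obtain ⟨v, hv, hvw⟩ := preimage_homogeneous (Hmap_deg E₁ E a hf (i + 1)) (g := n)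
        (show w.1 ∈ E.Hgr a (i + 1) (n + 0) by rw [add_zero]; exact w.2)
        (((hle (i + 1)).1 w.1).1 (congrArg Subtype.val hw))
      exact ⟨⟨v, hv⟩, Subtype.ext hvw⟩
  · exact fun i N hN E n => hvz _ _ E n (van_of_torsion hN (Nat.le_add_left 1 i) n)
  · intro i N t x hxt hN ht hxa hxr htN hQ E
    have hf : GrLC.IsGrHomDeg N.gr N.gr (x • (LinearMap.id : N.carrier →ₗ[R] N.carrier)) t := fun g m hm => by
      rw [add_comm]; exact smul_mem 𝒜 N.gr hxt hm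
    let Q := quotG 𝒜 (ℳ := N.gr) _ (range_isHomogeneous_deg hf)
    obtain ⟨F⟩ := nonempty_resG Q
    obtain ⟨δ, hδ, -, hle⟩ := exists_lesG N N Q (x • (LinearMap.id : N.carrier →ₗ[R] N.carrier))
      (LinearMap.range (x • (LinearMap.id : N.carrier →ₗ[R] N.carrier))).mkQ (e := 0)
      hf (fun g m hm => by rw [add_zero]; exact ⟨m, hm, rfl⟩) hxr (Submodule.mkQ_surjective _)
      (Submodule.ker_mkQ _) E E F a
    have hxmap : ∀ w, Hmap E E a (x • (LinearMap.id : N.carrier →ₗ[R] N.carrier)) t hf (i + 1) w = x • w := fun w => by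
      rw [Hmap_smul E a x hf hxt]; rfl
    rcases ht.lt_or_eq with ht | ht
    · obtain ⟨r, hr⟩ := exists_van_bound hpos a ha (i + 1) N hN
      have key : ∀ (k : ℕ) (n : ℤ), r ≤ n + k → C (E.Hcomp a (i + 1) n) := by
        intro k
        induction k with
        | zero => exact fun n hn => hvz _ _ E n (hr n (by simpa using hn))
        | succ k ih =>
          intro n hn
          refine hmid _ _ _ (pieceMap (hδ i) (n + t) n (by ring))
            (pieceMap (Hmap_deg E E a hf (i + 1)) n (n + t) rfl) ?_ (hQ _ F (n + t)) (ih (n + t) (by push_cast at hn; omega))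
          refine le_antisymm ?_ fun w hw => ?_
          · rintro _ ⟨v, rfl⟩
            exact Subtype.ext (((hle i).2.2 _).2 ⟨v.1, rfl⟩)
          · obtain ⟨v, hv, hvw⟩ := preimage_homogeneous (hδ i) (g := n + t)
              (show w.1 ∈ E.Hgr a (i + 1) (n + t + -(t + 0)) by
                rw [show n + t + -(t + 0) = n by ring]; exact w.2)
              (((hle i).2.2 w.1).1 (congrArg Subtype.val hw))
            exact ⟨⟨v, hv⟩, Subtype.ext hvw⟩
      exact fun n => key (r - n).toNat n (by omega)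
    · intro n
      subst ht
      refine ht0 i N (htN rfl) E n ⟨x, hxt⟩ hxa ?_
      let K := LinearMap.ker
        ((⟨x, hxt⟩ : GrLC.deg0 𝒜) • (LinearMap.id : E.Hcomp a (i + 1) n →ₗ[GrLC.deg0 𝒜] E.Hcomp a (i + 1) n))
      let p := pieceMap (hδ i) n n (by ring)
      have hp : ∀ v, p v ∈ K := fun v => Subtype.ext (by
        show x • δ i v.1 = 0
        rw [← hxmap]; exact ((hle i).2.2 _).2 ⟨v.1, rfl⟩)
      refine hmid (F.Hcomp a i n) K PUnit.{u+1} (p.codRestrict K hp) (0 : K →ₗ[GrLC.deg0 𝒜] PUnit.{u+1}) ?_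
        (hQ (range_isHomogeneous_deg hf) F n) (hzero PUnit.{u+1})
      refine le_antisymm (fun z _ => LinearMap.mem_ker.2 (Subsingleton.elim _ _)) fun w _ => ?_
      have hxw : x • (w.1 : E.H a (i + 1)) = 0 := congrArg Subtype.val w.2
      obtain ⟨v, hv, hvw⟩ := preimage_homogeneous (hδ i) (g := n)
        (show (w.1 : E.H a (i + 1)) ∈ E.Hgr a (i + 1) (n + -(0 + 0)) by
          rw [show n + -(0 + 0) = n by ring]; exact w.1.2)
        (((hle i).2.2 _).1 ((hxmap _).trans hxw))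
      exact ⟨⟨v, hv⟩, Subtype.ext (Subtype.ext hvw)⟩

end GrModLib
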