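import Groth.Agent.GrModLib.BassMain
import Groth.Agent.GrModLib.Pieces

/-! Heights in ℤ-graded rings and the dimension of positively graded *local rings. -/

set_option autoImplicit false
universe u

open DirectSum

namespace GrModLib

variable {R : Type u} [CommRing R] [IsNoetherianRing R] {𝒜 : ℤ → AddSubgroup R} [GradedRing 𝒜]

variable (𝒜) in
/-- A prime is at most one step above its core. -/
theorem height_le_core_add_one : ∀ (k : ℕ) (p : Ideal R) [p.IsPrime], p.height ≤ k →
    p.height ≤ (p.homogeneousCore 𝒜).toIdeal.height + 1 := by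
  intro k
  induction k with
  | zero => intro p _ hp; exact le_trans hp (by simp)
  | succ k ih =>
    intro p _ hp
    let c := (p.homogeneousCore 𝒜).toIdeal
    haveI hcp : c.IsPrime := Ideal.IsPrime.homogeneousCore ‹p.IsPrime›
    have hcle : c ≤ p := Ideal.toIdeal_homogeneousCore_le 𝒜 p
    have hbd : (p.map (Ideal.Quotient.mk c)).height ≤ 1 := by
      have h := (regular_quot p c (p.homogeneousCore 𝒜).isHomogeneous hcle notMem_of_notMem_core).2.2
      simpa using h
    obtain ⟨n, hn⟩ := ENat.ne_top_iff_exists.1 (Ideal.height_ne_top hcp.ne_top)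
    show p.height ≤ c.height + 1
    rw [← hn, show (n : ℕ∞) + 1 = ((n + 1 : ℕ) : ℕ∞) by push_cast; rfl, Ideal.height_le_iff]
    intro q hq hqp
    rw [show ((n + 1 : ℕ) : ℕ∞) = c.height + 1 by push_cast; rw [hn]]
    refine lt_of_le_of_lt ?_ (ENat.lt_add_one_iff (Ideal.height_ne_top hcp.ne_top) |>.2 le_rfl)
    let c' := (q.homogeneousCore 𝒜).toIdeal
    haveI hcp' : c'.IsPrime := Ideal.IsPrime.homogeneousCore hq
    have hc'le : c' ≤ q := Ideal.toIdeal_homogeneousCore_le 𝒜 q
    have hcc : c' ≤ c := Ideal.homogeneousCore_mono 𝒜 hqp.le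
    rcases eq_or_lt_of_le hc'le with he | hlt
    · exact Ideal.height_mono (he ▸ hcc)
    · haveI := hq
      have h1 : q.height + 1 ≤ ((k + 1 : ℕ) : ℕ∞) := (Ideal.height_add_one_le_of_lt_of_isPrime hqp).trans hp
      have h2 : q.height ≤ k := by
        rw [Nat.cast_succ] at h1
        exact (ENat.add_le_add_iff_right ENat.one_ne_top).1 h1
      rcases eq_or_lt_of_le hcc with hcq | hcq
      · exfalso
        have hcq' : c < q := hcq ▸ hlt
        haveI : (q.map (Ideal.Quotient.mk c)).IsPrime :=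
          Ideal.map_isPrime_of_surjective Ideal.Quotient.mk_surjective (by rw [Ideal.mk_ker]; exact hcq'.le)
        haveI : (p.map (Ideal.Quotient.mk c)).IsPrime :=
          Ideal.map_isPrime_of_surjective Ideal.Quotient.mk_surjective (by rw [Ideal.mk_ker]; exact hcle)
        have hmem : ∀ J : Ideal R, c ≤ J → (J.map (Ideal.Quotient.mk c)).comap (Ideal.Quotient.mk c) = J :=
          fun J hJ => by
            rw [Ideal.comap_map_of_surjective _ Ideal.Quotient.mk_surjective, ← RingHom.ker_eq_comap_bot,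
              Ideal.mk_ker, sup_eq_left.2 hJ]
        have h3 : q.map (Ideal.Quotient.mk c) < p.map (Ideal.Quotient.mk c) :=
          lt_of_le_of_ne (Ideal.map_mono hqp.le) fun h => hqp.ne (by rw [← hmem q hcq'.le, h, hmem p hcle])
        have h4 : (⊥ : Ideal (R ⧸ c)) < q.map (Ideal.Quotient.mk c) :=
          bot_lt_iff_ne_bot.2 fun h => hcq'.ne (by
            have h' := hmem q hcq'.le
            rw [h, ← RingHom.ker_eq_comap_bot, Ideal.mk_ker] at h'
            exact h')
        have h5 : (1 : ℕ∞) ≤ (q.map (Ideal.Quotient.mk c)).height := by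
          have := Ideal.height_add_one_le_of_lt_of_isPrime h4
          rwa [Ideal.height_bot, zero_add] at this
        have h6 : (2 : ℕ∞) ≤ (p.map (Ideal.Quotient.mk c)).height := by
          refine le_trans ?_ (Ideal.height_add_one_le_of_lt_of_isPrime h3)
          rw [show (2 : ℕ∞) = 1 + 1 from rfl]
          exact add_le_add h5 le_rfl
        exact absurd (h6.trans hbd) (by norm_num)
      · exact (ih q h2).trans (Ideal.height_add_one_le_of_lt_of_isPrime hcq)

/-- The dimension of a positively graded *local ring is the height of its maximal homogeneous ideal. -/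
theorem ringKrullDim_eq_height (hpos : ∀ n : ℤ, n < 0 → 𝒜 n = ⊥) {m : HomogeneousIdeal 𝒜}
    (hm : GrLC.IsStarLocal 𝒜 m) : ringKrullDim R = (m.toIdeal.height : WithBot ℕ∞) := by
  haveI hmax := isMaximal_of_starLocal hpos hm
  refine le_antisymm ((ringKrullDim_le_iff_height_le _).2 fun p hp => ?_) Ideal.height_le_ringKrullDim_of_isPrime
  refine WithBot.coe_le_coe.2 ?_
  haveI := hp
  haveI hcp : (p.homogeneousCore 𝒜).toIdeal.IsPrime := Ideal.IsPrime.homogeneousCore hp
  obtain ⟨k, hk⟩ := ENat.ne_top_iff_exists.1 (Ideal.height_ne_top hp.ne_top)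
  have h1 := height_le_core_add_one 𝒜 k p hk.ge
  have hcm : (p.homogeneousCore 𝒜).toIdeal ≤ m.toIdeal := by
    by_contra hle
    have hJ : ∀ n : HomogeneousIdeal 𝒜, n ≠ ⊤ → n ≤ m := by
      intro n hn
      obtain ⟨M', hM', hnM⟩ : ∃ M' : HomogeneousIdeal 𝒜, IsCoatom M' ∧ n ≤ M' := by
        let S : Set (Ideal R) := {J | n.toIdeal ≤ J ∧ J.IsHomogeneous 𝒜 ∧ J ≠ ⊤}
        obtain ⟨J, ⟨hJ1, hJ2, hJ3⟩, hJmax⟩ := set_has_maximal_iff_noetherian.2
          (inferInstanceAs (IsNoetherian R R)) S
          ⟨n.toIdeal, le_rfl, n.isHomogeneous, fun h => hn (HomogeneousIdeal.ext h)⟩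
        refine ⟨⟨J, hJ2⟩, ⟨fun h => hJ3 (congrArg HomogeneousIdeal.toIdeal h), fun K hK => ?_⟩, hJ1⟩
        by_contra hKt
        exact hJmax K.toIdeal ⟨hJ1.trans hK.le, K.isHomogeneous, fun h => hKt (HomogeneousIdeal.ext h)⟩ hK
      exact hm.2 M' hM' ▸ hnM
    exact hle (hJ _ fun h => hcp.ne_top (congrArg HomogeneousIdeal.toIdeal h))
  rcases eq_or_lt_of_le hcm with he | hlt
  · have h3 : m.toIdeal = p :=
      hmax.eq_of_le hp.ne_top (he ▸ Ideal.toIdeal_homogeneousCore_le 𝒜 p)
    rw [h3]
  · exact h1.trans (Ideal.height_add_one_le_of_lt_of_isPrime hlt)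

end GrModLib
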