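import Groth.Agent.GrModLib.Reg
import Groth.Agent.GrModLib.RegStd
import Groth.Agent.GrModLib.StarDim
import Groth.Agent.S14424

/-! Ends of top local cohomology: regular sequences and Cohen–Macaulay rings. -/

set_option autoImplicit false
universe u

open DirectSum
open scoped Pointwise

namespace GrModLib

section General

variable {ι : Type} [AddCommGroup ι] [DecidableEq ι] {R : Type u} [CommRing R]
  {𝒜 : ι → AddSubgroup R} [GradedRing 𝒜] {M : Type u} [AddCommGroup M] [Module R M]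
  {ℳ : ι → AddSubgroup M} [DirectSum.Decomposition ℳ] [SetLike.GradedSMul 𝒜 ℳ]

/-- Only the torsion functor of the ideal matters. -/
theorem van_of_gam_eq {a b : HomogeneousIdeal 𝒜}
    (h : ∀ (X : Type u) [AddCommGroup X] [Module R X], GrLC.gam a.toIdeal X = GrLC.gam b.toIdeal X)
    {q : ℕ} {m : ι} (hv : Van b ℳ q m) : Van a ℳ q m := fun E x hx => by
  obtain ⟨⟨z, hzc⟩, hz, rfl⟩ := hx
  have hzb : z ∈ E.cocyc b q := ⟨(h _).le hzc.1, hzc.2⟩
  have h0 : z ∈ E.cobdy b q :=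
    (Submodule.Quotient.mk_eq_zero ((E.cobdy b q).comap (E.cocyc b q).subtype)).1 (hv E _ ⟨⟨z, hzb⟩, hz, rfl⟩)
  have hcb : E.cobdy b q ≤ E.cobdy a q := by
    cases q with
    | zero => exact le_rfl
    | succ n => exact Submodule.map_mono (h _).ge
  exact (Submodule.Quotient.mk_eq_zero _).2 (hcb h0)

end General

variable {R : Type u} [CommRing R] [IsNoetherianRing R] {𝒜 : ℤ → AddSubgroup R} [GradedRing 𝒜]
  {a : HomogeneousIdeal 𝒜}

/-- The end of a cohomology module through `Van`. -/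
theorem endDeg_le_iff {M : Type u} [AddCommGroup M] [Module R M] {ℳ : ℤ → AddSubgroup M}
    [DirectSum.Decomposition ℳ] [SetLike.GradedSMul 𝒜 ℳ] (E : GrLC.StarInjRes 𝒜 ℳ) (q : ℕ) (B : ℤ) :
    GrLC.endDeg (E.Hgr a q) ≤ ((B : WithTop ℤ) : WithBot (WithTop ℤ)) ↔ ∀ m, B < m → Van a ℳ q m := by
  constructor
  · intro h m hm
    rw [van_iff E]
    intro y hy
    by_contra hy0
    have h1 : ((m : WithTop ℤ) : WithBot (WithTop ℤ)) ≤ GrLC.endDeg (E.Hgr a q) :=
      le_iSup₂_of_le m (fun hb => hy0 ((AddSubgroup.eq_bot_iff_forall _).1 hb y hy)) le_rfl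
    have := WithTop.coe_le_coe.1 (WithBot.coe_le_coe.1 (h1.trans h))
    omega
  · intro h
    refine iSup₂_le fun m hm => WithBot.coe_le_coe.2 (WithTop.coe_le_coe.2 ?_)
    by_contra hlt
    exact hm ((AddSubgroup.eq_bot_iff_forall _).2 fun y hy => h m (by omega) E y hy)

theorem van_congr_of_bijective (M N : GrLC.GMod.{u} 𝒜) (π : M.carrier →ₗ[R] N.carrier)
    (hπ : GrLC.IsGrHom M.gr N.gr π) (hπb : Function.Bijective π) (q : ℕ) (m : ℤ) :
    Van a M.gr q m ↔ Van a N.gr q m := by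
  let Z := subG 𝒜 (ℳ := M.gr) ⊥ (bot_isHomogeneous M.gr)
  haveI : Subsingleton Z.carrier := inferInstanceAs (Subsingleton (⊥ : Submodule R M.carrier))
  have hzero : GrLC.IsGrHomDeg Z.gr M.gr (⊥ : Submodule R M.carrier).subtype 0 :=
    fun g z hz => by rw [add_zero]; exact hz
  have hπ' : GrLC.IsGrHomDeg M.gr N.gr π 0 := fun g z hz => by rw [add_zero]; exact hπ g z hz
  have hex : LinearMap.ker π = LinearMap.range (⊥ : Submodule R M.carrier).subtype :=
    (LinearMap.ker_eq_bot.2 hπb.1).trans (⊥ : Submodule R M.carrier).range_subtype.symm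
  exact ⟨fun h => van_rightG Z M N _ π hzero hπ' (⊥ : Submodule R M.carrier).injective_subtype hπb.2 hex
      (add_zero m) (add_zero m) h (van_of_subsingleton (q + 1) m),
    fun h => van_midG Z M N _ π hzero hπ' (⊥ : Submodule R M.carrier).injective_subtype hπb.2 hex
      (add_zero m) (add_zero m) (van_of_subsingleton q m) h⟩

/-- One regular element: below and at the first possibly nonzero degree. -/
theorem end_step (hpos : ∀ n : ℤ, n < 0 → 𝒜 n = ⊥) (M N : GrLC.GMod.{u} 𝒜) {x : R} {k : ℤ} (hx : x ∈ 𝒜 k)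
    (hxa : x ∈ a.toIdeal) (hxr : IsSMulRegular M.carrier x) (π : M.carrier →ₗ[R] N.carrier)
    (hπ : GrLC.IsGrHom M.gr N.gr π) (hπs : Function.Surjective π)
    (hker : LinearMap.ker π = LinearMap.range (x • (LinearMap.id : M.carrier →ₗ[R] M.carrier)))
    {e : ℕ} (hvan : ∀ j, j < e + 1 → ∀ m, Van a M.gr j m) :
    (∀ j, j < e → ∀ m, Van a N.gr j m) ∧
      ∀ B : ℤ, (∀ m, B + k < m → Van a N.gr e m) ↔ ∀ m, B < m → Van a M.gr (e + 1) m := by
  by_cases hk : k < 0
  · have hx0 : x = 0 := eq_zero_of_neg hpos hk hx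
    haveI : Subsingleton M.carrier := ⟨fun u v => hxr (show x • u = x • v by rw [hx0, zero_smul, zero_smul])⟩
    haveI : Subsingleton N.carrier := hπs.subsingleton
    exact ⟨fun j _ m => van_of_subsingleton j m,
      fun B => ⟨fun _ m _ => van_of_subsingleton _ m, fun _ m _ => van_of_subsingleton _ m⟩⟩
  have hf : GrLC.IsGrHomDeg M.gr M.gr (x • (LinearMap.id : M.carrier →ₗ[R] M.carrier)) k := fun g v hv => by
    rw [add_comm]; exact smul_mem 𝒜 M.gr hx hv
  have hg : GrLC.IsGrHomDeg M.gr N.gr π 0 := fun g v hv => by rw [add_zero]; exact hπ g v hv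
  refine ⟨fun j hj m => ?_, fun B => ⟨fun h m hm E y hy => ?_, fun h m hm => ?_⟩⟩
  · exact van_rightG M M N _ π hf hg hxr hπs hker (sub_add_cancel m k) (add_zero m) (hvan j (by omega) m)
      (hvan (j + 1) (by omega) (m - k))
  · obtain ⟨F⟩ := nonempty_resG N
    obtain ⟨δ, hδ, -, hle⟩ := exists_lesG M M N _ π hf hg hxr hπs hker E E F a
    have hinj : ∀ (n : ℤ), B < n → ∀ w ∈ E.Hgr a (e + 1) n, x • w = 0 → w = 0 := by
      intro n hn w hw hxw
      have h1 : Hmap E E a (x • (LinearMap.id : M.carrier →ₗ[R] M.carrier)) k hf (e + 1) w = 0 := by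
        rw [Hmap_smul E a x hf hx]; exact hxw
      rw [show n = n + k + -(k + 0) by ring] at hw
      obtain ⟨v, hv, rfl⟩ := preimage_homogeneous (hδ e) hw (((hle e).2.2 w).1 h1)
      rw [h (n + k) (by omega) F v hv, map_zero]
    obtain ⟨c, hc⟩ : ∃ c : ℕ, x ^ c • y = 0 := by
      obtain ⟨z, rfl⟩ := Submodule.mkQ_surjective _ y
      obtain ⟨c, hc⟩ := z.2.1
      exact ⟨c, by rw [← map_smul, show x ^ c • z = 0 from Subtype.ext (hc _ (Ideal.pow_mem_pow hxa c)), map_zero]⟩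
    induction c generalizing m y with
    | zero => rwa [pow_zero, one_smul] at hc
    | succ c ih =>
      refine hinj m hm y hy (ih (m + k) (by omega) (x • y) ?_ ?_)
      · rw [add_comm m k]; exact smul_mem 𝒜 (E.Hgr a (e + 1)) hx hy
      · rwa [← mul_smul, ← pow_succ]
  · exact van_rightG M M N _ π hf hg hxr hπs hker (sub_add_cancel m k) (add_zero m) (hvan e (by omega) m)
      (h (m - k) (by omega))

/-- A regular sequence of homogeneous elements shifts the end of the first nonvanishing cohomology. -/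
theorem end_seq (hpos : ∀ n : ℤ, n < 0 → 𝒜 n = ⊥) : ∀ (xs : List (R × ℤ)),
    (∀ p ∈ xs, p.1 ∈ 𝒜 p.2 ∧ p.1 ∈ a.toIdeal) → ∀ (M N : GrLC.GMod.{u} 𝒜) (π : M.carrier →ₗ[R] N.carrier),
      GrLC.IsGrHom M.gr N.gr π → Function.Surjective π →
      RingTheory.Sequence.IsWeaklyRegular M.carrier (xs.map Prod.fst) →
      LinearMap.ker π = Ideal.ofList (xs.map Prod.fst) • ⊤ → ∀ e : ℕ,
      (∀ j, j < e + xs.length → ∀ m, Van a M.gr j m) →
      ∀ B : ℤ, (∀ m, B + (xs.map Prod.snd).sum < m → Van a N.gr e m) ↔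
        ∀ m, B < m → Van a M.gr (e + xs.length) m
  | [], _, M, N, π, hπ, hπs, _, hker, e, _, B => by
    have hπi : Function.Injective π := by
      rw [← LinearMap.ker_eq_bot, hker, List.map_nil, Ideal.ofList_nil, Submodule.bot_smul]
    simp only [List.map_nil, List.sum_nil, add_zero, List.length_nil]
    exact forall₂_congr fun m _ => (van_congr_of_bijective M N π hπ ⟨hπi, hπs⟩ e m).symm
  | (x, k) :: xs, hxs, M, N, π, hπ, hπs, hreg, hker, e, hvan, B => by
    rw [List.map_cons, RingTheory.Sequence.isWeaklyRegular_cons_iff] at hreg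
    obtain ⟨hxr, hrest⟩ := hreg
    rw [List.map_cons] at hker
    obtain ⟨hx, hxa⟩ := hxs (x, k) (List.mem_cons_self ..)
    have hu : GrLC.IsGrHomDeg M.gr M.gr (x • (LinearMap.id : M.carrier →ₗ[R] M.carrier)) k := fun g z hz => by
      rw [add_comm]; exact smul_mem 𝒜 M.gr hx hz
    let P := LinearMap.range (x • (LinearMap.id : M.carrier →ₗ[R] M.carrier))
    have hPx : P = x • (⊤ : Submodule R M.carrier) := by
      ext z
      rw [Submodule.mem_smul_pointwise_iff_exists]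
      exact ⟨fun ⟨v, hv⟩ => ⟨v, Submodule.mem_top, hv⟩, fun ⟨v, _, hv⟩ => ⟨v, hv⟩⟩
    let Q := quotG 𝒜 (ℳ := M.gr) P (range_isHomogeneous_deg hu)
    have hPπ : P ≤ LinearMap.ker π := by
      rw [hker, Ideal.ofList_cons_smul, hPx]; exact le_sup_left
    let π₁ : Q.carrier →ₗ[R] N.carrier := P.liftQ π hPπ
    obtain ⟨hbelow, hat⟩ := end_step (a := a) hpos M Q hx hxa hxr P.mkQ (fun g z hz => ⟨z, hz, rfl⟩)
      P.mkQ_surjective P.ker_mkQ (e := e + xs.length) (fun j hj m => hvan j (by simpa [Nat.add_assoc] using hj) m)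
    have h1 := end_seq hpos xs (fun p hp => hxs p (List.mem_cons_of_mem _ hp)) Q N π₁
      (fun g z ⟨v, hv, he⟩ => he ▸ hπ g v hv) (fun z => ⟨P.mkQ (hπs z).choose, (hπs z).choose_spec⟩)
      (((Submodule.quotEquivOfEq P _ hPx).isWeaklyRegular_congr _).2 hrest) (by
        refine (Submodule.ker_liftQ P π hPπ).trans ?_
        show Submodule.map P.mkQ (LinearMap.ker π) =
          Ideal.ofList (xs.map Prod.fst) • (⊤ : Submodule R (M.carrier ⧸ P))
        rw [hker, Ideal.ofList_cons_smul, Submodule.map_sup, ← hPx, Submodule.map_smul'', Submodule.map_top,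
          Submodule.range_mkQ, Submodule.mkQ_map_self, bot_sup_eq]) e hbelow (B + k)
    simp only [List.map_cons, List.sum_cons, List.length_cons, ← Nat.add_assoc]
    rw [← add_assoc B k]
    exact h1.trans (hat B)

/-- The homogeneous ideals of a *local ring. -/
theorem le_of_starLocal {m : HomogeneousIdeal 𝒜} (hm : GrLC.IsStarLocal 𝒜 m) (n : HomogeneousIdeal 𝒜)
    (hn : n ≠ ⊤) : n ≤ m := by
  let S : Set (Ideal R) := {J | n.toIdeal ≤ J ∧ J.IsHomogeneous 𝒜 ∧ J ≠ ⊤}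
  obtain ⟨J, ⟨hJ1, hJ2, hJ3⟩, hJmax⟩ := set_has_maximal_iff_noetherian.2
    (inferInstanceAs (IsNoetherian R R)) S
    ⟨n.toIdeal, le_rfl, n.isHomogeneous, fun h => hn (HomogeneousIdeal.ext h)⟩
  have hco : IsCoatom (⟨J, hJ2⟩ : HomogeneousIdeal 𝒜) := by
    refine ⟨fun h => hJ3 (congrArg HomogeneousIdeal.toIdeal h), fun (K : HomogeneousIdeal 𝒜) hK => ?_⟩
    by_contra hKt
    exact hJmax K.toIdeal ⟨hJ1.trans hK.le, K.isHomogeneous, fun h => hKt (HomogeneousIdeal.ext h)⟩ hK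
  exact (show n ≤ ⟨J, hJ2⟩ from hJ1).trans (le_of_eq (hm.2 _ hco))

/-- Over an Artinian degree zero part, the maximal homogeneous ideal is the radical of the irrelevant ideal. -/
theorem starLocal_le_radical (hpos : ∀ n : ℤ, n < 0 → 𝒜 n = ⊥) [IsArtinianRing (GrLC.deg0 𝒜)]
    {m : HomogeneousIdeal 𝒜} (hm : GrLC.IsStarLocal 𝒜 m) : m.toIdeal ≤ (posIdeal 𝒜).toIdeal.radical := by
  have hnil : ∀ r : GrLC.deg0 𝒜, (r : R) ∈ m.toIdeal → IsNilpotent r := by
    intro r hr
    rw [← mem_nilradical, nilradical_eq_sInf, Ideal.mem_sInf]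
    intro P hP
    have hPp : P.IsPrime := hP
    haveI := hPp
    by_contra hrP
    haveI hPm : P.IsMaximal := hPp.isMaximal'
    obtain ⟨s, hs⟩ : ∃ s : GrLC.deg0 𝒜, 1 - s * r ∈ P := by
      obtain ⟨y, i, hi, hyi⟩ := hPm.exists_inv hrP
      exact ⟨y, by rwa [← hyi, add_sub_cancel_left]⟩
    have hu : (((1 - s * r : GrLC.deg0 𝒜) : R)) ∉ m.toIdeal := fun h => by
      have : (1 : R) ∈ m.toIdeal := by
        have := add_mem h (Ideal.mul_mem_left _ (s : R) hr)
        simpa using this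
      exact hm.1.1 (HomogeneousIdeal.ext ((Ideal.eq_top_iff_one _).2 this))
    let n : HomogeneousIdeal 𝒜 := ⟨Ideal.span {((1 - s * r : GrLC.deg0 𝒜) : R)},
      Ideal.homogeneous_span 𝒜 _ fun z hz => ⟨0, by rw [Set.mem_singleton_iff.1 hz]; exact (1 - s * r).2⟩⟩
    have hn : n = ⊤ := by
      by_contra hne
      exact hu (le_of_starLocal hm n hne (Ideal.subset_span rfl))
    have h1 : (1 : R) ∈ Ideal.span {((1 - s * r : GrLC.deg0 𝒜) : R)} := by
      rw [show Ideal.span {((1 - s * r : GrLC.deg0 𝒜) : R)} = n.toIdeal from rfl, hn, HomogeneousIdeal.toIdeal_top]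
      exact Submodule.mem_top
    obtain ⟨v, hv⟩ := Ideal.mem_span_singleton'.1 h1
    have h2 := congrArg (pr 𝒜 0) hv
    rw [← smul_eq_mul, pr_smul_mem 𝒜 𝒜 (1 - s * r).2 v 0, sub_self, pr_self 𝒜 (SetLike.one_mem_graded 𝒜)] at h2
    have h3 : (⟨pr 𝒜 0 v, pr_mem 𝒜 0 v⟩ : GrLC.deg0 𝒜) * (1 - s * r) = 1 := Subtype.ext h2
    exact Ideal.IsPrime.ne_top inferInstance ((Ideal.eq_top_iff_one P).2 (h3 ▸ P.mul_mem_left _ hs))
  intro z hz
  obtain ⟨t, -, ht⟩ := exists_finset 𝒜 z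
  rw [← ht]
  refine sum_mem fun g _ => ?_
  rcases lt_trichotomy g 0 with hg | hg | hg
  · rw [eq_zero_of_neg hpos hg (pr_mem 𝒜 g z)]; exact zero_mem _
  · subst hg
    obtain ⟨c, hc⟩ := hnil ⟨pr 𝒜 0 z, pr_mem 𝒜 0 z⟩ (m.isHomogeneous 0 hz)
    exact ⟨c, by rw [show (pr 𝒜 0 z) ^ c = 0 from congrArg Subtype.val hc]; exact zero_mem _⟩
  · exact Ideal.le_radical (mem_posIdeal hg (pr_mem 𝒜 g z))

/-- Depth of a Cohen–Macaulay *local ring. -/
theorem van_below_dim [LocCoh.IsCohenMacaulayRing R] (hpos : ∀ n : ℤ, n < 0 → 𝒜 n = ⊥)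
    {m : HomogeneousIdeal 𝒜} (hm : GrLC.IsStarLocal 𝒜 m) {d : ℕ} (hd : ringKrullDim R = d)
    (j : ℕ) (hj : j < d) (n : ℤ) : Van m 𝒜 j n := by
  have hh : m.toIdeal.height = (d : ℕ∞) := by
    have h := (ringKrullDim_eq_height hpos hm).symm.trans hd
    exact_mod_cast h
  refine van_of_subsingleton_H ?_ n
  refine (LocCohLib.le_idealDepth_iff_subsingleton_H (I := m.toIdeal) R d).1 ?_ j hj
  rw [(Groth.Agent.S14424.result R).1 inferInstance m.toIdeal (isMaximal_of_starLocal hpos hm).ne_top, hh]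

end GrModLib
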