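import Groth.Agent.GrModLib.Hilbert
import Groth.Agent.CommAlgDim.GrFamily

/-! Existence and degree of Hilbert polynomials. -/

set_option autoImplicit false
universe u

open DirectSum Polynomial
open scoped Pointwise

namespace GrModLib

variable {R : Type u} [CommRing R] [IsNoetherianRing R] {𝒜 : ℤ → AddSubgroup R} [GradedRing 𝒜]

/-- Finite graded modules are bounded below. -/
theorem exists_bot_bound (hpos : ∀ n : ℤ, n < 0 → 𝒜 n = ⊥) (N : GrLC.GMod.{u} 𝒜) [Module.Finite R N.carrier] :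
    ∃ B : ℤ, ∀ (n : ℤ) (y : N.carrier), n < B → y ∈ N.gr n → y = 0 := by
  classical
  obtain ⟨s, hs⟩ := Module.Finite.fg_top (R := R) (M := N.carrier)
  let G : Finset ℤ := s.biUnion fun x => (exists_finset N.gr x).choose
  obtain ⟨B, hB⟩ := (G : Set ℤ).toFinite.bddBelow
  refine ⟨B, fun n y hn hy => ?_⟩
  rw [← pr_self N.gr hy]
  have hys : y ∈ Submodule.span R (s : Set N.carrier) := hs.ge Submodule.mem_top
  obtain ⟨c, -, hc⟩ := Submodule.mem_span_finset.1 hys
  rw [← hc, map_sum]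
  refine Finset.sum_eq_zero fun x hx => ?_
  obtain ⟨-, hGs⟩ := (exists_finset N.gr x).choose_spec
  rw [show c x • x = ∑ g ∈ (exists_finset N.gr x).choose, c x • pr N.gr g x by rw [← Finset.smul_sum, hGs], map_sum]
  refine Finset.sum_eq_zero fun g hg => ?_
  rw [pr_smul_mem 𝒜 N.gr (pr_mem N.gr g x) (c x) n]
  have : B ≤ g := hB (Finset.mem_coe.2 (Finset.mem_biUnion.2 ⟨x, hx, hg⟩))
  rw [eq_zero_of_neg hpos (show n - g < 0 by omega) (pr_mem 𝒜 _ _), zero_smul]

/-- Graded Nakayama for one element of positive degree. -/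
theorem eq_zero_of_range_smul_eq_top (hpos : ∀ n : ℤ, n < 0 → 𝒜 n = ⊥) (Q : GrLC.GMod.{u} 𝒜)
    [Module.Finite R Q.carrier] {x : R} {t : ℤ} (ht : 0 < t) (hx : x ∈ 𝒜 t)
    (h : ∀ y : Q.carrier, ∃ v, x • v = y) (n : ℤ) : ∀ y ∈ Q.gr n, y = 0 := by
  obtain ⟨B, hB⟩ := exists_bot_bound hpos Q
  suffices key : ∀ (k : ℕ) (n : ℤ), n < B + k → ∀ y ∈ Q.gr n, y = 0 from key (n - B + 1).toNat n (by omega)
  intro k
  induction k with
  | zero => exact fun n hn y hy => hB n y (by simpa using hn) hy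
  | succ k ih =>
    intro n hn y hy
    obtain ⟨v, hv⟩ := h y
    rw [← pr_self Q.gr hy, ← hv, pr_smul 𝒜 Q.gr hx, ih (n - t) (by push_cast at hn; omega) _ (pr_mem Q.gr _ v),
      smul_zero]

theorem eq_zero_of_eventually {P : ℚ[X]} {n₀ : ℤ} (h : ∀ j : ℤ, n₀ ≤ j → P.eval (j : ℚ) = 0) : P = 0 := by
  refine eq_zero_of_infinite_isRoot P (Set.Infinite.mono ?_
    ((Set.Ici_infinite n₀).image (f := fun j : ℤ => (j : ℚ)) Int.cast_injective.injOn))
  rintro _ ⟨j, hj, rfl⟩
  exact h j hj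

variable [IsArtinianRing (GrLC.deg0 𝒜)]

/-- A Hilbert polynomial has degree less than the dimension. -/
theorem degree_lt_of_supportDim (hpos : ∀ n : ℤ, n < 0 → 𝒜 n = ⊥) : ∀ (D : ℕ) (N : GrLC.GMod.{u} 𝒜),
    Module.Finite R N.carrier → Module.supportDim R N.carrier ≤ (D : ℕ) → ∀ (P : ℚ[X]) (n₀ : ℤ),
    (∀ j, n₀ ≤ j → P.eval (j : ℚ) = hf N j) → P.degree < (D : WithBot ℕ) := by
  suffices key : ∀ (D : ℕ) (Q : GrLC.GMod.{u} 𝒜), Module.Finite R Q.carrier →
      GrLC.gam (posIdeal 𝒜).toIdeal Q.carrier = ⊥ →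
      Module.supportDim R Q.carrier ≤ (D : ℕ) → ∀ (P : ℚ[X]) (n₀ : ℤ),
      (∀ j, n₀ ≤ j → P.eval (j : ℚ) = hf Q j) → P.degree < (D : WithBot ℕ) by
    intro D N hN hD P n₀ hP
    let T₀ := GrLC.gam (posIdeal 𝒜).toIdeal N.carrier
    have hT₀ : T₀.IsHomogeneous N.gr := gam_isHomogeneous (posIdeal 𝒜)
    obtain ⟨B, hB⟩ := exists_piece_bound hpos N.gr
    refine key D (quotG 𝒜 (ℳ := N.gr) T₀ hT₀) (finite_quotG N T₀ hT₀) (gam_quot_gam _)
      ((Module.supportDim_le_of_surjective T₀.mkQ T₀.mkQ_surjective).trans hD) P (max n₀ B) fun j hj => ?_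
    rw [hP j (le_of_max_le_left hj), hf_add (subG 𝒜 (ℳ := N.gr) T₀ hT₀) N (quotG 𝒜 (ℳ := N.gr) T₀ hT₀) T₀.subtype
      T₀.mkQ (d := 0) (fun g m hm => by rw [add_zero]; exact hm)
      (fun g m hm => by rw [add_zero]; exact ⟨m, hm, rfl⟩) T₀.injective_subtype T₀.mkQ_surjective
      (T₀.ker_mkQ.trans T₀.range_subtype.symm) j, sub_zero]
    haveI : Subsingleton (GrLC.comp 𝒜 (subG 𝒜 (ℳ := N.gr) T₀ hT₀).gr j) := by
      refine ⟨fun u v => Subtype.ext (Subtype.ext ?_)⟩
      exact (hB j _ (le_of_max_le_right hj) u.2 u.1.2).trans (hB j _ (le_of_max_le_right hj) v.2 v.1.2).symm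
    rw [show hf (subG 𝒜 (ℳ := N.gr) T₀ hT₀) j = 0 from qlen_subsingleton _, zero_add]
  intro D
  induction D with
  | zero =>
    intro Q hQ hgam hD P n₀ hP
    obtain ⟨t, x, ht, hx, hxr⟩ := exists_pos_regular hpos hgam
    have hsub : Subsingleton (QuotSMulTop x Q.carrier) := by
      rw [← Module.supportDim_eq_bot_iff_subsingleton (R := R)]
      have h1 := (Module.supportDim_quotSMulTop_succ_le_of_notMem_minimalPrimes
        (fun _ => hxr.notMem_of_mem_minimalPrimes)).trans hD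
      revert h1
      generalize Module.supportDim R (QuotSMulTop x Q.carrier) = w
      rcases w with _ | _ | w <;> intro h1
      · rfl
      · exact absurd h1 (by simp)
      · exact absurd (WithBot.coe_le_coe.1 h1) (by simp)
    have hsurj : ∀ y : Q.carrier, ∃ v, x • v = y := fun y => by
      have hy : y ∈ x • (⊤ : Submodule R Q.carrier) :=
        (Submodule.Quotient.mk_eq_zero _).1 (Subsingleton.elim (Submodule.Quotient.mk y) 0)
      obtain ⟨v, -, hv⟩ := (Submodule.mem_smul_pointwise_iff_exists _ _ _).1 hy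
      exact ⟨v, hv⟩
    rw [eq_zero_of_eventually (P := P) (n₀ := n₀) fun j hj => ?_]
    · simp
    · haveI : Subsingleton (GrLC.comp 𝒜 Q.gr j) := ⟨fun u v => Subtype.ext
        ((eq_zero_of_range_smul_eq_top hpos Q ht hx hsurj j _ u.2).trans
          (eq_zero_of_range_smul_eq_top hpos Q ht hx hsurj j _ v.2).symm)⟩
      rw [hP j hj]
      exact qlen_subsingleton _
  | succ D ih =>
    intro Q hQ hgam hD P n₀ hP
    obtain ⟨t, x, ht, hx, hxr⟩ := exists_pos_regular hpos hgam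
    have hxQ : GrLC.IsGrHomDeg Q.gr Q.gr (x • (LinearMap.id : Q.carrier →ₗ[R] Q.carrier)) t := fun g m hm => by
      rw [add_comm]; exact smul_mem 𝒜 Q.gr hx hm
    let S₀ := LinearMap.range (x • (LinearMap.id : Q.carrier →ₗ[R] Q.carrier))
    let S := quotG 𝒜 (ℳ := Q.gr) S₀ (range_isHomogeneous_deg hxQ)
    haveI : Module.Finite R S.carrier := finite_quotG Q S₀ _
    have hfS : ∀ j, hf Q j = hf Q (j - t) + hf S j := fun j =>
      hf_add Q Q S _ S₀.mkQ hxQ (fun g m hm => by rw [add_zero]; exact ⟨m, hm, rfl⟩) hxr S₀.mkQ_surjective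
        S₀.ker_mkQ j
    have hSx : S₀ = x • (⊤ : Submodule R Q.carrier) := by
      ext z
      rw [Submodule.mem_smul_pointwise_iff_exists]
      exact ⟨fun ⟨v, hv⟩ => ⟨v, Submodule.mem_top, hv⟩, fun ⟨v, _, hv⟩ => ⟨v, hv⟩⟩
    have hSd : Module.supportDim R S.carrier ≤ (D : ℕ) := by
      have h1 := (Module.supportDim_quotSMulTop_succ_le_of_notMem_minimalPrimes
        (fun _ => hxr.notMem_of_mem_minimalPrimes)).trans hD
      have h2 : Module.supportDim R (Q.carrier ⧸ S₀) = Module.supportDim R (QuotSMulTop x Q.carrier) :=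
        Module.supportDim_eq_of_equiv (Submodule.quotEquivOfEq _ _ hSx)
      show Module.supportDim R (Q.carrier ⧸ S₀) ≤ _
      rw [h2]
      revert h1
      generalize Module.supportDim R (QuotSMulTop x Q.carrier) = w
      rcases w with _ | _ | w <;> intro h1
      · exact bot_le
      · exact absurd (WithBot.coe_le_coe.1 h1) (WithTop.coe_lt_top (D + 1)).not_ge
      · refine WithBot.coe_le_coe.2 (WithTop.coe_le_coe.2 ?_)
        have h3 : w + 1 ≤ D + 1 := WithTop.coe_le_coe.1 (WithBot.coe_le_coe.1 h1)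
        exact Nat.le_of_succ_le_succ h3
    let T₀ := GrLC.gam (posIdeal 𝒜).toIdeal S.carrier
    have hT₀ : T₀.IsHomogeneous S.gr := gam_isHomogeneous (posIdeal 𝒜)
    obtain ⟨B, hB⟩ := exists_piece_bound hpos S.gr
    have h3 : (P - Polynomial.taylor (-(t : ℚ)) P).degree < (D : WithBot ℕ) := by
      refine ih (quotG 𝒜 (ℳ := S.gr) T₀ hT₀) (finite_quotG S T₀ hT₀) (gam_quot_gam _)
        ((Module.supportDim_le_of_surjective T₀.mkQ T₀.mkQ_surjective).trans hSd) _ (max (n₀ + t) B) fun j hj => ?_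
      have h4 := hf_add (subG 𝒜 (ℳ := S.gr) T₀ hT₀) S (quotG 𝒜 (ℳ := S.gr) T₀ hT₀) T₀.subtype
        T₀.mkQ (d := 0) (fun g m hm => by rw [add_zero]; exact hm)
        (fun g m hm => by rw [add_zero]; exact ⟨m, hm, rfl⟩) T₀.injective_subtype T₀.mkQ_surjective
        (T₀.ker_mkQ.trans T₀.range_subtype.symm) j
      haveI : Subsingleton (GrLC.comp 𝒜 (subG 𝒜 (ℳ := S.gr) T₀ hT₀).gr j) := by
        refine ⟨fun u v => Subtype.ext (Subtype.ext ?_)⟩
        exact (hB j _ (le_of_max_le_right hj) u.2 u.1.2).trans (hB j _ (le_of_max_le_right hj) v.2 v.1.2).symm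
      rw [show hf (subG 𝒜 (ℳ := S.gr) T₀ hT₀) (j - 0) = 0 by rw [sub_zero]; exact qlen_subsingleton _,
        zero_add] at h4
      have hj' := le_of_max_le_left hj
      rw [← h4, eval_sub, taylor_eval, hP j (by omega), hfS j, ← sub_eq_add_neg, ← Int.cast_sub,
        hP (j - t) (by omega)]
      ring
    by_contra hlt
    rw [not_lt] at hlt
    have hne : P ≠ 0 := fun h => by rw [h, degree_zero] at hlt; simp at hlt
    have hnd : D + 1 ≤ P.natDegree := by
      rw [degree_eq_natDegree hne] at hlt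
      exact_mod_cast hlt
    obtain ⟨s, hs⟩ : ∃ s, P.natDegree = s + 1 := ⟨P.natDegree - 1, by omega⟩
    have h5 : (P - Polynomial.taylor (-(t : ℚ)) P).coeff s = (t : ℚ) * (s + 1 : ℕ) * P.leadingCoeff := by
      rw [coeff_sub, taylor_coeff, eval_eq_sum_range' (n := 2)]
      · simp only [Finset.sum_range_succ, Finset.sum_range_zero, zero_add, hasseDeriv_coeff, pow_zero,
          Nat.choose_self, Nat.cast_one, pow_one, mul_one]
        rw [show (1 + s).choose s = s + 1 by rw [add_comm, Nat.choose_succ_self_right],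
          show (1 + s : ℕ) = s + 1 by omega, leadingCoeff, hs]
        ring
      · have := natDegree_hasseDeriv_le P s
        omega
    have h6 : (P - Polynomial.taylor (-(t : ℚ)) P).coeff s = 0 :=
      coeff_eq_zero_of_degree_lt (h3.trans_le (by exact_mod_cast (by omega : D ≤ s)))
    rw [h5] at h6
    have ht' : (t : ℚ) ≠ 0 := by exact_mod_cast ht.ne'
    exact mul_ne_zero (mul_ne_zero ht' (Nat.cast_ne_zero.2 s.succ_ne_zero)) (leadingCoeff_ne_zero.2 hne) h6

/-- Standard graded rings have Hilbert polynomials. -/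
theorem exists_hilbertPoly_self (hpos : ∀ n : ℤ, n < 0 → 𝒜 n = ⊥)
    (hstd : (posIdeal 𝒜).toIdeal = Ideal.span ((𝒜 1 : AddSubgroup R) : Set R)) :
    ∃ (P : ℚ[X]) (n₀ : ℤ), ∀ j, n₀ ≤ j → P.eval (j : ℚ) = hf (GrLC.GMod.of 𝒜 R 𝒜) j := by
  classical
  obtain ⟨s, hs, hspan⟩ := (Submodule.fg_span_iff_fg_span_finset_subset _).1
    (IsNoetherian.noetherian (Ideal.span ((𝒜 1 : AddSubgroup R) : Set R)))
  let L := s.equivFin.symm
  let G : ℕ → Type u := fun n => GrLC.comp 𝒜 𝒜 (n : ℤ)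
  let x : Fin s.card → ∀ n, G n →ₗ[GrLC.deg0 𝒜] G (n + 1) := fun i n =>
    (((L i).1 • (LinearMap.id : R →ₗ[R] R)).restrictScalars (GrLC.deg0 𝒜)).restrict fun y hy => by
      show (L i).1 * y ∈ 𝒜 ((n + 1 : ℕ) : ℤ)
      rw [show ((n + 1 : ℕ) : ℤ) = 1 + n by push_cast; ring]
      exact SetLike.mul_mem_graded (hs (L i).2) hy
  haveI : Module.Finite R (GrLC.GMod.of 𝒜 R 𝒜).carrier := inferInstanceAs (Module.Finite R R)
  have hfin : ∀ n, Module.length (GrLC.deg0 𝒜) (G n) ≠ ⊤ := fun n => by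
    haveI := isNoetherian_comp (GrLC.GMod.of 𝒜 R 𝒜) (n : ℤ)
    haveI := isArtinian_comp (GrLC.GMod.of 𝒜 R 𝒜) (n : ℤ)
    exact Module.length_ne_top (R := GrLC.deg0 𝒜) (M := GrLC.comp 𝒜 (GrLC.GMod.of 𝒜 R 𝒜).gr (n : ℤ))
  have hclosed : ∀ (U : CommAlgDim.StableFam G x) (j : ℕ) (r : R), r ∈ 𝒜 (j : ℤ) → ∀ (n : ℕ) (y : G n), y ∈ U.1 n →
      ∃ w ∈ U.1 (j + n), (w : R) = r * (y : R) := by
    intro U j
    induction j with
    | zero =>
      intro r hr n y hy
      rw [zero_add]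
      exact ⟨(⟨r, hr⟩ : GrLC.deg0 𝒜) • y, (U.1 n).smul_mem _ hy, rfl⟩
    | succ j ih =>
      intro r hr n y hy
      have hrs : r ∈ Submodule.span R (s : Set R) := by
        refine hspan.le (hstd.le (mem_posIdeal ?_ hr))
        exact_mod_cast j.succ_pos
      obtain ⟨c, -, hc⟩ := Submodule.mem_span_finset.1 hrs
      have hterm : ∀ g : s, ∃ w ∈ U.1 (j + 1 + n), (w : R) = pr 𝒜 (j : ℤ) (c g) * g.1 * (y : R) := by
        intro g
        obtain ⟨w, hw, hwe⟩ := ih (pr 𝒜 (j : ℤ) (c g)) (pr_mem 𝒜 _ _) n y hy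
        have h1 : x (L.symm g) (j + n) w ∈ U.1 (j + n + 1) := U.2 (L.symm g) (j + n) hw
        rw [show j + 1 + n = j + n + 1 by omega]
        refine ⟨_, h1, ?_⟩
        show (L (L.symm g)).1 * (w : R) = _
        rw [Equiv.apply_symm_apply, hwe]
        ring
      choose w hw hwe using hterm
      refine ⟨∑ g, w g, sum_mem fun g _ => hw g, ?_⟩
      rw [AddSubmonoidClass.coe_finsetSum]
      simp only [hwe]
      rw [← Finset.sum_mul]
      congr 1
      conv_rhs => rw [← pr_self 𝒜 hr, ← hc, map_sum]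
      rw [← Finset.sum_coe_sort s]
      refine Finset.sum_congr rfl fun g _ => ?_
      rw [pr_smul_mem 𝒜 𝒜 (hs g.2) (c g) _, smul_eq_mul]
      congr 3
      push_cast; ring
  let f : CommAlgDim.StableFam G x → Ideal R := fun U =>
    Ideal.span (⋃ n, Subtype.val '' (U.1 n : Set (G n)))
  have hpiece : ∀ (U : CommAlgDim.StableFam G x) (n : ℕ) (y : G n), (y : R) ∈ f U → y ∈ U.1 n := by
    intro U n y hy
    have key : ∀ z ∈ f U, ∀ c : R, ∃ w ∈ U.1 n, pr 𝒜 (n : ℤ) (c • z) = (w : R) := by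
      intro z hz
      induction hz using Submodule.span_induction with
      | mem z hz =>
        obtain ⟨i, v, hv, rfl⟩ := Set.mem_iUnion.1 hz
        intro c
        rw [pr_smul_mem 𝒜 𝒜 v.2 c]
        rcases le_or_gt (i : ℤ) n with hin | hin
        · obtain ⟨j, rfl⟩ : ∃ j : ℕ, n = j + i := ⟨n - i, by omega⟩
          obtain ⟨w, hw, hwe⟩ := hclosed U j (pr 𝒜 (((j + i : ℕ) : ℤ) - i) c)
            (by rw [show ((j + i : ℕ) : ℤ) - i = j by push_cast; ring]; exact pr_mem 𝒜 _ _) i v hv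
          exact ⟨w, hw, hwe.symm⟩
        · exact ⟨0, zero_mem _, (by
            rw [eq_zero_of_neg hpos (show (n : ℤ) - i < 0 by omega) (pr_mem 𝒜 _ _), zero_smul]
            rfl)⟩
      | zero => exact fun c => ⟨0, zero_mem _, by rw [smul_zero, map_zero]; rfl⟩
      | add a b _ _ ha hb =>
        intro c
        obtain ⟨v, hv, hv'⟩ := ha c
        obtain ⟨w, hw, hw'⟩ := hb c
        exact ⟨v + w, add_mem hv hw, by rw [smul_add, map_add, hv', hw']; rfl⟩
      | smul c' a _ ha => exact fun c => by rw [← mul_smul]; exact ha _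
    obtain ⟨w, hw, hwe⟩ := key _ hy 1
    rw [one_smul, pr_self 𝒜 y.2] at hwe
    rwa [show y = w from Subtype.ext hwe]
  have hmono : StrictMono f := Monotone.strictMono_of_injective
    (fun U V h => Ideal.span_mono (Set.iUnion_mono fun n => Set.image_mono (h n)))
    fun U V h => Subtype.ext (funext fun n => le_antisymm
      (fun y hy => hpiece V n y (h ▸ Ideal.subset_span (Set.mem_iUnion.2 ⟨n, y, hy, rfl⟩)))
      (fun y hy => hpiece U n y (h ▸ Ideal.subset_span (Set.mem_iUnion.2 ⟨n, y, hy, rfl⟩))))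
  obtain ⟨P, -, -, hP⟩ := CommAlgDim.exists_hilbertPoly s.card G x
    (fun i j n g => Subtype.ext (mul_left_comm (L i).1 (L j).1 (g : R))) hfin hmono.wellFoundedGT
  obtain ⟨N, hN⟩ := Filter.eventually_atTop.1 hP
  refine ⟨P, (N : ℤ), fun j hj => ?_⟩
  obtain ⟨k, rfl⟩ : ∃ k : ℕ, j = (k : ℤ) := ⟨j.toNat, by omega⟩
  rw [Int.cast_natCast, ← hN k (by exact_mod_cast hj)]
  rfl

end GrModLib
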