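import Groth.Agent.GrModLib.Dual
import Groth.Agent.GrModLib.BassSES
import Groth.Agent.GrModLib.BassHull
import Groth.Agent.GrModLib.CMLib
import Groth.Agent.GrModLib.HilbertPoly
import Groth.Agent.LocCohLib.CohDim

/-! Bass numbers of *canonical modules. -/

set_option autoImplicit false
universe u

open DirectSum CategoryTheory IsLocalRing
open scoped Pointwise

namespace GrModLib

section Length

/-- Length does not change along a ring map which is surjective on the scalars acting. -/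
theorem length_eq_of_smul_eq {R A : Type u} [CommRing R] [CommRing A] [Algebra R A] (T : Type u) [AddCommGroup T]
    [Module R T] [Module A T] [IsScalarTower R A T] (h : ∀ a : A, ∃ r : R, ∀ t : T, a • t = r • t) :
    Module.length A T = Module.length R T := by
  let o : Submodule A T ≃o Submodule R T :=
    { toFun := fun P => P.restrictScalars R
      invFun := fun P =>
        { P.toAddSubmonoid with
          smul_mem' := fun a t ht => by
            obtain ⟨r, hr⟩ := h a
            rw [hr t]; exact P.smul_mem r ht }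
      left_inv := fun P => rfl
      right_inv := fun P => rfl
      map_rel_iff' := Iff.rfl }
  apply WithBot.coe_injective
  rw [Module.coe_length, Module.coe_length, Order.krullDim_eq_of_orderIso o]

variable {R : Type u} [CommRing R] [IsNoetherianRing R]

/-- An injective map reaching all killed elements. -/
theorem length_tors_congr (J : Ideal R) {A B : Type u} [AddCommGroup A] [Module R A] [AddCommGroup B] [Module R B]
    (f : A →ₗ[R] B) (hf : Function.Injective f) (h : ∀ b ∈ tors J B, ∃ a, f a = b) :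
    Module.length R (tors J A) = Module.length R (tors J B) := by
  refine (LinearEquiv.ofBijective (f.restrict (p := tors J A) (q := tors J B) fun a ha => (mem_tors J).2 fun r hr => by
    rw [← map_smul, (mem_tors J).1 ha r hr, map_zero]) ⟨fun a b hab => Subtype.ext (hf (congrArg Subtype.val hab)),
    fun b => ?_⟩).length_eq
  obtain ⟨a, ha⟩ := h b b.2
  exact ⟨⟨a, (mem_tors J).2 fun r hr => hf (by rw [map_smul, ha, map_zero, (mem_tors J).1 b.2 r hr])⟩, Subtype.ext ha⟩

/-- The zeroth Bass number at a maximal ideal. -/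
theorem bassNum_zero_eq_length_tors (q : Ideal R) [hq : q.IsMaximal] (N : Type u) [AddCommGroup N] [Module R N] :
    GrLC.bassNum q N 0 = Module.length R (tors q N) := by
  let A := Localization.AtPrime q
  let J := q.map (algebraMap R A)
  have hJ : J = maximalIdeal A := IsLocalization.AtPrime.map_eq_maximalIdeal q A
  let c : ResidueField A ≃ₗ[A] A ⧸ J :=
    (LinearEquiv.refl A _ : ResidueField A ≃ₗ[A] A ⧸ maximalIdeal A).trans (Submodule.quotEquivOfEq _ _ hJ.symm)
  let L := LocalizedModule q.primeCompl N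
  show Module.length A (Abelian.Ext.{u} (ModuleCat.of A (ResidueField A)) (ModuleCat.of A L) 0) = _
  rw [((extCongrLeft c (ModuleCat.of A L) 0).symm.trans (torsExt0 J L).symm).length_eq]
  have hinv : ∀ t, t ∉ q → ∃ u : R, u * t - 1 ∈ q := fun t ht => by
    obtain ⟨y, i, hi, hyi⟩ := hq.exists_inv ht
    exact ⟨y, by rw [← hyi, show y * t - (y * t + i) = -i by ring]; exact neg_mem hi⟩
  have hcancel : ∀ (t : R) (x : N), t ∉ q → x ∈ tors q N → t • x = 0 → x = 0 := fun t x ht hx h0 => by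
    obtain ⟨u, hu⟩ := hinv t ht
    have h1 := (mem_tors q).1 hx _ hu
    rw [sub_smul, mul_smul, h0, smul_zero, zero_sub, one_smul, neg_eq_zero] at h1
    exact h1
  have hmem : ∀ x ∈ tors q N, LocalizedModule.mkLinearMap q.primeCompl N x ∈ (tors J L).restrictScalars R :=
    fun x hx => (tors_localized q.primeCompl q x 1).2 ⟨1, one_mem _, by rwa [one_smul]⟩
  let f : tors q N →ₗ[R] (tors J L).restrictScalars R :=
    (LocalizedModule.mkLinearMap q.primeCompl N).restrict hmem
  have hf : Function.Bijective f := by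
    refine ⟨(injective_iff_map_eq_zero f).2 fun x hx => ?_, fun y => ?_⟩
    · have h1 : LocalizedModule.mk (x : N) (1 : q.primeCompl) = LocalizedModule.mk 0 1 :=
        (congrArg Subtype.val hx).trans (LocalizedModule.zero_mk 1).symm
      obtain ⟨t, ht⟩ := LocalizedModule.mk_eq.1 h1
      simp only [one_smul, smul_zero, Submonoid.smul_def] at ht
      exact Subtype.ext (hcancel t x t.2 x.2 ht)
    · obtain ⟨y, hy⟩ := y
      induction y using LocalizedModule.induction_on with
      | h x s =>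
        obtain ⟨t, ht, htx⟩ := (tors_localized q.primeCompl q x s).1 hy
        obtain ⟨u, hu⟩ := hinv (t * s) (hq.isPrime.mul_notMem ht s.2)
        refine ⟨⟨u • t • x, Submodule.smul_mem _ u htx⟩, Subtype.ext ?_⟩
        show LocalizedModule.mk (u • t • x) (1 : q.primeCompl) = LocalizedModule.mk x s
        rw [LocalizedModule.mk_eq]
        refine ⟨⟨t, ht⟩, ?_⟩
        simp only [one_smul, Submonoid.smul_def]
        have h1 := (mem_tors q).1 htx _ hu
        rw [sub_smul, one_smul, sub_eq_zero] at h1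
        rw [← mul_smul] at h1
        simp only [← mul_smul]
        rw [← h1]
        congr 1
        ring
  rw [(LinearEquiv.ofBijective f hf).length_eq]
  refine length_eq_of_smul_eq (R := R) (A := A) (tors J L) fun a => ?_
  obtain ⟨⟨r, s⟩, rfl⟩ : ∃ p : R × q.primeCompl, Localization.mk p.1 p.2 = a := by
    induction a using Localization.induction_on with
    | H p => exact ⟨p, rfl⟩
  obtain ⟨u, hu⟩ := hinv s s.2
  refine ⟨r * u, fun y => ?_⟩
  have hd : Localization.mk r s - algebraMap R A (r * u) ∈ J := by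
    rw [show Localization.mk r s = IsLocalization.mk' A r s by rw [Localization.mk_eq_mk'],
      show (IsLocalization.mk' A r s : A) - algebraMap R A (r * u) = IsLocalization.mk' A (r - r * u * s) s by
        rw [eq_comm, IsLocalization.mk'_eq_iff_eq_mul, sub_mul, IsLocalization.mk'_spec, map_sub, map_mul _ (r * u)],
      IsLocalization.mk'_mem_map_algebraMap_iff]
    refine ⟨1, one_mem _, ?_⟩
    rw [one_mul, show r - r * u * s = -(r * (u * s - 1)) by ring]
    exact neg_mem (Ideal.mul_mem_left _ r hu)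
  have h0 : (Localization.mk r s - algebraMap R A (r * u)) • (y : L) = 0 := (mem_tors J).1 y.2 _ hd
  rw [sub_smul, sub_eq_zero, algebraMap_smul] at h0
  exact Subtype.ext h0

end Length

section

variable {R : Type u} [CommRing R] [IsNoetherianRing R] {𝒜 : ℤ → AddSubgroup R} [GradedRing 𝒜]
variable {E' : Type u} [AddCommGroup E'] [Module R E'] {𝓔 : ℤ → AddSubgroup E'} [DirectSum.Decomposition 𝓔]
  [SetLike.GradedSMul 𝒜 𝓔] {e : (R ⧸ (posIdeal 𝒜).toIdeal) →ₗ[R] E'}

/-- The trivial resolution of a *injective module. -/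
noncomputable def resSelf (hI : GrLC.IsStarInj 𝒜 𝓔) : GrLC.StarInjRes 𝒜 𝓔 :=
  let Z : GrLC.GMod.{u} 𝒜 := subG 𝒜 (ℳ := 𝓔) ⊥ (bot_isHomogeneous 𝓔)
  let X : ℕ → GrLC.GMod.{u} 𝒜 := fun n => match n with
    | 0 => GrLC.GMod.of 𝒜 E' 𝓔
    | _ + 1 => Z
  { X := X, d := fun _ => 0, ε := LinearMap.id
    d_grHom := fun n g x _ => zero_mem _
    ε_grHom := fun g x hx => hx
    ε_injective := Function.injective_id
    exact_zero := by rw [LinearMap.ker_zero]; exact LinearMap.range_id.symm
    exact_succ := fun n => by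
      rw [LinearMap.ker_zero, LinearMap.range_zero]
      haveI : Subsingleton (X (n + 1)).carrier := inferInstanceAs (Subsingleton (⊥ : Submodule R E'))
      exact Subsingleton.elim _ _
    starInj := by
      rintro (_ | n)
      · exact hI
      · intro A B f _ _ g hg
        haveI : Subsingleton (X (n + 1)).carrier := inferInstanceAs (Subsingleton (⊥ : Submodule R E'))
        exact ⟨0, fun _ _ _ => zero_mem _, LinearMap.ext fun _ => Subsingleton.elim _ _⟩ }

/-- The Bass numbers of the hull of the residue field. -/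
theorem bassNum_hull (hpos : ∀ n : ℤ, n < 0 → 𝒜 n = ⊥) (h0 : IsField (GrLC.deg0 𝒜))
    (he : GrLC.IsStarInjHull 𝒜 (GrLC.quotGr 𝒜 (posIdeal 𝒜)) 𝓔 e) [(posIdeal 𝒜).toIdeal.IsMaximal] (i : ℕ) :
    GrLC.bassNum (posIdeal 𝒜).toIdeal E' i = (Nat.choose 0 i : ℕ∞) := by
  let F := resSelf (𝒜 := 𝒜) he.starInj
  let q := (posIdeal 𝒜).toIdeal
  cases i with
  | zero =>
    have h1 : e 1 ∈ torsZ q (fun n => (F.X n).carrier) F.d 0 :=
      ⟨(mem_tors q).2 fun r hr => smul_range_eq_zero hr 1, rfl⟩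
    rw [bassNum_eq_card F q (posIdeal 𝒜).isHomogeneous 0 PUnit.{u+1} (fun _ => ⟨e 1, h1⟩) ?_ ?_]
    · simp
    · intro c hc k
      rw [torsB, Submodule.mem_bot, Finsupp.linearCombination_unique] at hc
      have h2 : e (c default • (1 : R ⧸ q)) = 0 := (map_smul e _ _).trans hc
      refine Ideal.Quotient.eq_zero_iff_mem.1 ?_
      rw [show k = default from Subsingleton.elim _ _]
      have := he.injective (h2.trans (map_zero e).symm)
      rwa [Algebra.smul_def, mul_one] at this
    · intro y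
      obtain ⟨x, hx⟩ := mem_range_of_tors hpos h0 he ((mem_tors q).1 y.2.1)
      obtain ⟨r, rfl⟩ := Ideal.Quotient.mk_surjective x
      refine ⟨1, one_mem _, Finsupp.single PUnit.unit r, ?_⟩
      rw [Finsupp.linearCombination_single, one_smul, torsB, Submodule.mem_bot, sub_eq_zero, ← hx]
      show e (Ideal.Quotient.mk q r) = r • e 1
      rw [← map_smul, Algebra.smul_def, mul_one]
      rfl
  | succ i =>
    haveI : Subsingleton (F.X (i + 1)).carrier := inferInstanceAs (Subsingleton (⊥ : Submodule R E'))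
    rw [bassNum_eq_card F q (posIdeal 𝒜).isHomogeneous (i + 1) PEmpty.{u+1} PEmpty.elim ?_ ?_]
    · simp
    · exact fun _ _ k => k.elim
    · exact fun y => ⟨1, one_mem _, 0, by rw [Subsingleton.elim (_ - _) 0]; exact zero_mem _⟩

omit [DirectSum.Decomposition 𝓔] [SetLike.GradedSMul 𝒜 𝓔] in
/-- Products of a homogeneous ideal with a graded module. -/
theorem smul_top_isHomogeneous (I : HomogeneousIdeal 𝒜) (X : GrLC.GMod.{u} 𝒜) :
    (I.toIdeal • (⊤ : Submodule R X.carrier)).IsHomogeneous X.gr := by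
  intro g z hz
  show pr X.gr g z ∈ _
  refine Submodule.smul_induction_on hz (fun r hr x hx => ?_) (fun a b ha hb => by rw [map_add]; exact add_mem ha hb)
  · clear hx
    induction x using induction X.gr with
    | h0 => rw [smul_zero, map_zero]; exact zero_mem _
    | hmem j v hv =>
      rw [pr_smul_mem 𝒜 X.gr hv]
      exact Submodule.smul_mem_smul (I.isHomogeneous _ hr) trivial
    | hadd a b ha hb => rw [smul_add, map_add]; exact add_mem ha hb

/-- Killed elements of the dual count generators. -/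
theorem length_tors_dual (hpos : ∀ n : ℤ, n < 0 → 𝒜 n = ⊥) (h0 : IsField (GrLC.deg0 𝒜))
    (he : GrLC.IsStarInjHull 𝒜 (GrLC.quotGr 𝒜 (posIdeal 𝒜)) 𝓔 e) [hmax : (posIdeal 𝒜).toIdeal.IsMaximal]
    (C : GrLC.GMod.{u} 𝒜) [Module.Finite R C.carrier] :
    Module.length R (tors (posIdeal 𝒜).toIdeal (C.carrier →ₗ[R] E')) =
      (Module.finrank (R ⧸ (posIdeal 𝒜).toIdeal)
        (TensorProduct R (R ⧸ (posIdeal 𝒜).toIdeal) C.carrier) : ℕ∞) := by
  let q := (posIdeal 𝒜).toIdeal
  let P := q • (⊤ : Submodule R C.carrier)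
  let Q := quotG 𝒜 (ℳ := C.gr) P (smul_top_isHomogeneous _ C)
  haveI : Module.Finite R Q.carrier := finite_quotG C P _
  have hkill : ∀ r ∈ q, ∀ x : Q.carrier, r • x = 0 := fun r hr (x : C.carrier ⧸ P) => by
    obtain ⟨v, rfl⟩ := P.mkQ_surjective x
    refine (P.mkQ.map_smul r v).symm.trans ?_
    exact (Submodule.Quotient.mk_eq_zero P).2 (Submodule.smul_mem_smul hr trivial)
  have hQ : GrLC.gam q Q.carrier = ⊤ := eq_top_iff.2 fun x _ => ⟨1, fun r hr => hkill r (by rwa [pow_one] at hr) x⟩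
  let L := LinearMap.lcomp R E' P.mkQ
  have hrange : ∀ χ : C.carrier →ₗ[R] E', χ ∈ tors q (C.carrier →ₗ[R] E') → P ≤ LinearMap.ker χ := fun χ hχ =>
    Submodule.smul_le.2 fun r hr v _ => by
      rw [LinearMap.mem_ker, map_smul]
      exact LinearMap.congr_fun ((mem_tors q).1 hχ r hr) v
  rw [← length_tors_congr q L (LinearMap.lcomp_injective_of_surjective _ P.mkQ_surjective)
    (fun χ hχ => ⟨P.liftQ χ (hrange χ hχ), LinearMap.ext fun v => rfl⟩)]
  have htop : tors q (Q.carrier →ₗ[R] E') = ⊤ := eq_top_iff.2 fun χ _ => (mem_tors q).2 fun r hr =>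
    LinearMap.ext fun x => by rw [LinearMap.smul_apply, LinearMap.zero_apply, ← map_smul, hkill r hr, map_zero]
  show Module.length R (tors q (Q.carrier →ₗ[R] E')) = _
  rw [htop, Module.length_top, (length_dual hpos h0 he Q hQ).1]
  show Module.length R (C.carrier ⧸ P) = _
  rw [← (TensorProduct.quotTensorEquivQuotSMul C.carrier q).length_eq,
    Module.length_eq_of_surjective (R := R ⧸ q) Ideal.Quotient.mk_surjective]
  letI := Ideal.Quotient.field q
  exact Module.length_eq_finrank _ _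

/-- Duality is exact at a regular element: Bass numbers of the dual. -/
theorem bassNum_dual_step (he : GrLC.IsStarInjHull 𝒜 (GrLC.quotGr 𝒜 (posIdeal 𝒜)) 𝓔 e)
    [(posIdeal 𝒜).toIdeal.IsMaximal] (N : GrLC.GMod.{u} 𝒜) [Module.Finite R N.carrier] {x : R} {k : ℤ}
    (hx : x ∈ 𝒜 k) (hxm : x ∈ (posIdeal 𝒜).toIdeal) (hxr : IsSMulRegular N.carrier x)
    {Q : Type u} [AddCommGroup Q] [Module R Q] (π : N.carrier →ₗ[R] Q) (hπ : Function.Surjective π)
    (hker : LinearMap.ker π = LinearMap.range (x • (LinearMap.id : N.carrier →ₗ[R] N.carrier))) (s : ℕ)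
    (hD : ∀ i, GrLC.bassNum (posIdeal 𝒜).toIdeal (N.carrier →ₗ[R] E') i = (Nat.choose s i : ℕ∞)) (i : ℕ) :
    GrLC.bassNum (posIdeal 𝒜).toIdeal (Q →ₗ[R] E') i = (Nat.choose (s + 1) i : ℕ∞) := by
  have hf : GrLC.IsGrHomDeg N.gr N.gr (x • (LinearMap.id : N.carrier →ₗ[R] N.carrier)) k := fun g v hv => by
    rw [add_comm]; exact smul_mem 𝒜 N.gr hx hv
  have hmul : (x • LinearMap.id : (N.carrier →ₗ[R] E') →ₗ[R] (N.carrier →ₗ[R] E')) =
      LinearMap.lcomp R E' (x • (LinearMap.id : N.carrier →ₗ[R] N.carrier)) :=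
    LinearMap.ext fun χ => LinearMap.ext fun v => (map_smul χ x v).symm
  obtain ⟨h1, h2⟩ := bassNum_kerSMul (posIdeal 𝒜).toIdeal hxm (LinearMap.lcomp R E' π)
    (LinearMap.lcomp_injective_of_surjective _ hπ) (by rw [hmul]; exact lcomp_surjective he N N _ hf hxr) (by
      rw [hmul]
      intro χ
      refine ⟨fun h => ?_, ?_⟩
      · have hk : LinearMap.ker π ≤ LinearMap.ker χ := by
          rw [hker]; rintro _ ⟨v, rfl⟩; exact LinearMap.mem_ker.2 (LinearMap.congr_fun h v)
        refine ⟨(LinearMap.ker π).liftQ χ hk ∘ₗ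
          (π.quotKerEquivOfSurjective hπ).symm.toLinearMap, LinearMap.ext fun v => ?_⟩
        show (LinearMap.ker π).liftQ χ hk ((π.quotKerEquivOfSurjective hπ).symm (π v)) = χ v
        rw [show (π.quotKerEquivOfSurjective hπ).symm (π v) = Submodule.Quotient.mk v from
          (LinearEquiv.symm_apply_eq _).2 rfl]
        rfl
      · rintro ⟨h, rfl⟩
        refine LinearMap.ext fun v => ?_
        show h (π ((x • (LinearMap.id : N.carrier →ₗ[R] N.carrier)) v)) = 0
        rw [show π ((x • (LinearMap.id : N.carrier →ₗ[R] N.carrier)) v) = 0 from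
          LinearMap.mem_ker.1 (hker.ge ⟨v, rfl⟩), map_zero])
  cases i with
  | zero => rw [h1, hD 0, Nat.choose_zero_right, Nat.choose_zero_right]
  | succ i => rw [h2 i, hD i, hD (i + 1), Nat.choose_succ_succ, Nat.cast_add]

/-- A module with zero dimensional support is torsion. -/
theorem gam_eq_top_of_supportDim (hpos : ∀ n : ℤ, n < 0 → 𝒜 n = ⊥) (N : GrLC.GMod.{u} 𝒜)
    [Module.Finite R N.carrier] (hN : Module.supportDim R N.carrier ≤ (0 : ℕ)) :
    GrLC.gam (posIdeal 𝒜).toIdeal N.carrier = ⊤ := by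
  let T := GrLC.gam (posIdeal 𝒜).toIdeal N.carrier
  have hT : T.IsHomogeneous N.gr := gam_isHomogeneous (posIdeal 𝒜)
  let Q := quotG 𝒜 (ℳ := N.gr) T hT
  haveI : Module.Finite R Q.carrier := finite_quotG N T hT
  obtain ⟨t, x, ht, hx, hxr⟩ := exists_pos_regular hpos (M := N.carrier ⧸ T) (gam_quot_gam _)
  have hsub : Subsingleton (QuotSMulTop x (N.carrier ⧸ T)) := by
    rw [← Module.supportDim_eq_bot_iff_subsingleton (R := R)]
    have h1 := (Module.supportDim_quotSMulTop_succ_le_of_notMem_minimalPrimes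
      (fun _ => hxr.notMem_of_mem_minimalPrimes)).trans
      ((Module.supportDim_le_of_surjective T.mkQ T.mkQ_surjective).trans hN)
    revert h1
    generalize Module.supportDim R (QuotSMulTop x (N.carrier ⧸ T)) = w
    rcases w with _ | _ | w <;> intro h1
    · rfl
    · exact absurd h1 (by simp)
    · exact absurd (WithBot.coe_le_coe.1 h1) (by simp)
  have hsurj : ∀ y : N.carrier ⧸ T, ∃ v, x • v = y := fun y => by
    have hy : y ∈ x • (⊤ : Submodule R (N.carrier ⧸ T)) :=
      (Submodule.Quotient.mk_eq_zero _).1 (Subsingleton.elim (Submodule.Quotient.mk y) 0)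
    obtain ⟨v, -, hv⟩ := (Submodule.mem_smul_pointwise_iff_exists _ _ _).1 hy
    exact ⟨v, hv⟩
  refine eq_top_iff.2 fun v _ => ?_
  obtain ⟨s, -, hs⟩ := exists_finset N.gr v
  rw [← hs]
  exact sum_mem fun g _ => (Submodule.Quotient.mk_eq_zero T).1
    (eq_zero_of_range_smul_eq_top hpos Q ht hx hsurj g (T.mkQ (pr N.gr g v)) ⟨_, pr_mem N.gr g v, rfl⟩)

/-- Torsion modules are their own local cohomology. -/
theorem nonempty_equiv_H_zero (N : GrLC.GMod.{u} 𝒜) (E : GrLC.StarInjRes 𝒜 N.gr) {a : HomogeneousIdeal 𝒜}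
    (hN : GrLC.gam a.toIdeal N.carrier = ⊤) : Nonempty (N.carrier ≃ₗ[R] E.H a 0) := by
  have hmem : ∀ y, E.ε y ∈ E.cocyc a 0 := fun y =>
    ⟨map_gam a E.ε (hN.ge Submodule.mem_top), LinearMap.congr_fun (d_comp_ε E) y⟩
  refine ⟨LinearEquiv.ofBijective (E.toH a 0 ∘ₗ E.ε.codRestrict (E.cocyc a 0) hmem) ⟨?_, fun w => ?_⟩⟩
  · refine (injective_iff_map_eq_zero _).2 fun y hy => ?_
    have h1 : E.ε y ∈ E.cobdy a 0 := (Submodule.Quotient.mk_eq_zero ((E.cobdy a 0).comap (E.cocyc a 0).subtype)).1 hy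
    exact E.ε_injective (((Submodule.mem_bot R).1 h1).trans (map_zero _).symm)
  · obtain ⟨z, rfl⟩ := Submodule.mkQ_surjective _ w
    obtain ⟨y, hy⟩ := E.exact_zero.le z.2.2
    exact ⟨y, congrArg (E.toH a 0) (Subtype.ext hy)⟩

/-- Vanishing in every degree kills everything. -/
theorem H_eq_zero_of_van (N : GrLC.GMod.{u} 𝒜) (E : GrLC.StarInjRes 𝒜 N.gr) {a : HomogeneousIdeal 𝒜} {i : ℕ}
    (h : ∀ m, Van a N.gr i m) (z : E.H a i) : z = 0 := by
  letI := (Hgr_isInternal E a i).chooseDecomposition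
  induction z using induction (E.Hgr a i) with
  | h0 => rfl
  | hmem g y hy => exact h g E y hy
  | hadd y y' h1 h2 => rw [h1, h2, add_zero]

/-- The base case: a torsion module is the dual of its dual. -/
theorem nonempty_bidual (hpos : ∀ n : ℤ, n < 0 → 𝒜 n = ⊥) (h0 : IsField (GrLC.deg0 𝒜))
    (he : GrLC.IsStarInjHull 𝒜 (GrLC.quotGr 𝒜 (posIdeal 𝒜)) 𝓔 e) (N C : GrLC.GMod.{u} 𝒜)
    [Module.Finite R N.carrier] [Module.Finite R C.carrier]
    (hN : GrLC.gam (posIdeal 𝒜).toIdeal N.carrier = ⊤) (Φ : (C.carrier →ₗ[R] E') ≃ₗ[R] N.carrier) :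
    Nonempty (C.carrier ≃ₗ[R] (N.carrier →ₗ[R] E')) := by
  obtain ⟨t, ht⟩ := exists_pow_smul_eq_zero hN
  have hC : GrLC.gam (posIdeal 𝒜).toIdeal C.carrier = ⊤ := eq_top_iff.2 fun c _ => ⟨t, fun r hr => by
    by_contra hne
    obtain ⟨χ, hχ⟩ := exists_hom_ne_zero hpos h0 he C hne
    refine hχ ?_
    rw [map_smul]
    have h1 : r • χ = 0 := Φ.injective (by rw [map_smul, map_zero, ht r hr])
    exact LinearMap.congr_fun h1 c⟩
  let β : C.carrier →ₗ[R] (N.carrier →ₗ[R] E') := (LinearMap.id (R := R) (M := C.carrier →ₗ[R] E') ∘ₗ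
    Φ.symm.toLinearMap).flip
  have hβ : Function.Injective β := (injective_iff_map_eq_zero β).2 fun c hc => by
    by_contra hne
    obtain ⟨χ, hχ⟩ := exists_hom_ne_zero hpos h0 he C hne
    refine hχ ?_
    have h1 := LinearMap.congr_fun hc (Φ χ)
    rwa [show β c (Φ χ) = Φ.symm (Φ χ) c from rfl, LinearEquiv.symm_apply_apply] at h1
  obtain ⟨hN1, -⟩ := length_dual hpos h0 he N hN
  obtain ⟨hC1, hC2⟩ := length_dual hpos h0 he C hC
  have hlen : Module.length R (N.carrier →ₗ[R] E') = Module.length R C.carrier := by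
    rw [hN1, ← hC1, Φ.length_eq]
  have h3 := Module.length_eq_add_of_exact β (LinearMap.range β).mkQ hβ (Submodule.mkQ_surjective _)
    (LinearMap.exact_map_mkQ_range β)
  rw [hlen] at h3
  have h4 : Module.length R ((N.carrier →ₗ[R] E') ⧸ LinearMap.range β) = 0 :=
    WithTop.add_left_cancel hC2 (h3.symm.trans (add_zero _).symm)
  have h5 : LinearMap.range β = ⊤ :=
    Submodule.Quotient.subsingleton_iff.1 (Module.length_eq_zero_iff.1 h4)
  exact ⟨LinearEquiv.ofBijective β ⟨hβ, LinearMap.range_eq_top.1 h5⟩⟩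

/-- The inductive step: dividing by a homogeneous regular element. -/
theorem canon_step (hpos : ∀ n : ℤ, n < 0 → 𝒜 n = ⊥) (h0 : IsField (GrLC.deg0 𝒜))
    (he : GrLC.IsStarInjHull 𝒜 (GrLC.quotGr 𝒜 (posIdeal 𝒜)) 𝓔 e) {d : ℕ} (N C : GrLC.GMod.{u} 𝒜)
    [hNf : Module.Finite R N.carrier] [hCf : Module.Finite R C.carrier] (E : GrLC.StarInjRes 𝒜 N.gr)
    (hvan : ∀ j, j < d + 1 → ∀ m, Van (posIdeal 𝒜) N.gr j m)
    (hdim : Module.supportDim R N.carrier ≤ ((d + 1 : ℕ) : WithBot ℕ∞))
    (Φ : (C.carrier →ₗ[R] E') ≃ₗ[R] E.H (posIdeal 𝒜) (d + 1)) :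
    ∃ (k : ℤ) (x : R) (Q C' : GrLC.GMod.{u} 𝒜) (π : N.carrier →ₗ[R] Q.carrier) (ρ : C.carrier →ₗ[R] C'.carrier)
      (F : GrLC.StarInjRes 𝒜 Q.gr),
      0 < k ∧ x ∈ 𝒜 k ∧ x ∈ (posIdeal 𝒜).toIdeal ∧ IsSMulRegular N.carrier x ∧ IsSMulRegular C.carrier x ∧
      GrLC.IsGrHom N.gr Q.gr π ∧ Function.Surjective π ∧
      LinearMap.ker π = LinearMap.range (x • (LinearMap.id : N.carrier →ₗ[R] N.carrier)) ∧
      GrLC.IsGrHom C.gr C'.gr ρ ∧ Function.Surjective ρ ∧
      LinearMap.ker ρ = LinearMap.range (x • (LinearMap.id : C.carrier →ₗ[R] C.carrier)) ∧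
      Module.Finite R Q.carrier ∧ Module.Finite R C'.carrier ∧
      (∀ j, j < d → ∀ m, Van (posIdeal 𝒜) Q.gr j m) ∧ Module.supportDim R Q.carrier ≤ ((d : ℕ) : WithBot ℕ∞) ∧
      Nonempty ((C'.carrier →ₗ[R] E') ≃ₗ[R] F.H (posIdeal 𝒜) d) := by
  let q := (posIdeal 𝒜).toIdeal
  have hgam : GrLC.gam q N.carrier = ⊥ := eq_bot_iff.2 fun y hy => by
    refine (Submodule.mem_bot R).2 (pr_ext N.gr fun g => ?_)
    rw [map_zero]
    exact eq_zero_of_van_zero (hvan 0 (Nat.succ_pos d) g) (pr_mem N.gr g y)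
      (gam_isHomogeneous (ℳ := N.gr) (posIdeal 𝒜) g hy)
  obtain ⟨k, x, hk, hx, hxr⟩ := exists_pos_regular hpos hgam
  have hxm : x ∈ q := mem_posIdeal hk hx
  have hxN : GrLC.IsGrHomDeg N.gr N.gr (x • (LinearMap.id : N.carrier →ₗ[R] N.carrier)) k := fun g v hv => by
    rw [add_comm]; exact smul_mem 𝒜 N.gr hx hv
  let S := LinearMap.range (x • (LinearMap.id : N.carrier →ₗ[R] N.carrier))
  let Q := quotG 𝒜 (ℳ := N.gr) S (range_isHomogeneous_deg hxN)
  haveI : Module.Finite R Q.carrier := finite_quotG N S _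
  have hπ : GrLC.IsGrHomDeg N.gr Q.gr S.mkQ 0 := fun g v hv => by rw [add_zero]; exact ⟨v, hv, rfl⟩
  have hvQ : ∀ j, j < d → ∀ m, Van (posIdeal 𝒜) Q.gr j m :=
    (end_step (a := posIdeal 𝒜) hpos N Q hx hxm hxr S.mkQ (fun g v hv => ⟨v, hv, rfl⟩) S.mkQ_surjective
      S.ker_mkQ hvan).1
  have hdimQ : Module.supportDim R Q.carrier ≤ (d : ℕ) := by
    have hSx : S = x • (⊤ : Submodule R N.carrier) := by
      ext z
      rw [Submodule.mem_smul_pointwise_iff_exists]
      exact ⟨fun ⟨v, hv⟩ => ⟨v, Submodule.mem_top, hv⟩, fun ⟨v, _, hv⟩ => ⟨v, hv⟩⟩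
    have h1 := (Module.supportDim_quotSMulTop_succ_le_of_notMem_minimalPrimes
      (fun _ => hxr.notMem_of_mem_minimalPrimes)).trans hdim
    have h2 : Module.supportDim R (N.carrier ⧸ S) = Module.supportDim R (QuotSMulTop x N.carrier) :=
      Module.supportDim_eq_of_equiv (Submodule.quotEquivOfEq _ _ hSx)
    show Module.supportDim R (N.carrier ⧸ S) ≤ _
    rw [h2]
    revert h1
    generalize Module.supportDim R (QuotSMulTop x N.carrier) = w
    rcases w with _ | _ | w <;> intro h1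
    · exact bot_le
    · exact absurd (WithBot.coe_le_coe.1 h1) (WithTop.coe_lt_top (d + 1)).not_ge
    · refine WithBot.coe_le_coe.2 (WithTop.coe_le_coe.2 ?_)
      exact Nat.le_of_succ_le_succ (WithTop.coe_le_coe.1 (WithBot.coe_le_coe.1 h1))
  obtain ⟨F⟩ := nonempty_resG Q
  obtain ⟨δ, hδ, -, hle⟩ := exists_lesG N N Q (x • (LinearMap.id : N.carrier →ₗ[R] N.carrier)) S.mkQ hxN hπ hxr
    S.mkQ_surjective S.ker_mkQ E E F (posIdeal 𝒜)
  have hHx : ∀ z : E.H (posIdeal 𝒜) (d + 1),
      Hmap E E (posIdeal 𝒜) (x • (LinearMap.id : N.carrier →ₗ[R] N.carrier)) k hxN (d + 1) z = x • z := fun z => by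
    rw [Hmap_smul E (posIdeal 𝒜) x hxN hx]; rfl
  have hδinj : Function.Injective (δ d) := (injective_iff_map_eq_zero _).2 fun z hz => by
    obtain ⟨y, rfl⟩ := ((hle d).2.1 z).1 hz
    rw [H_eq_zero_of_van N E (hvan d (Nat.lt_succ_self d)) y, map_zero]
  haveI hFtop : Subsingleton (F.H (posIdeal 𝒜) (d + 1)) := by
    obtain ⟨eH⟩ := nonempty_H_equiv F (posIdeal 𝒜) (d + 1)
    haveI := LocCohLib.subsingleton_H_of_supportDim_lt (I := q) (d + 1) Q.carrier
      (hdimQ.trans_lt (by exact_mod_cast d.lt_succ_self))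
    exact eH.toEquiv.subsingleton
  have hxsurj : ∀ z : E.H (posIdeal 𝒜) (d + 1), ∃ w, x • w = z := fun z => by
    obtain ⟨w, hw⟩ := ((hle (d + 1)).1 z).1 (Subsingleton.elim _ _)
    exact ⟨w, (hHx w).symm.trans hw⟩
  have hxC : IsSMulRegular C.carrier x := isSMulRegular_iff_right_eq_zero_of_smul.2 fun c hc => by
    by_contra hne
    obtain ⟨χ, hχ⟩ := exists_hom_ne_zero hpos h0 he C hne
    obtain ⟨w, hw⟩ := hxsurj (Φ χ)
    refine hχ ?_
    rw [show χ = x • Φ.symm w from Φ.injective (by rw [map_smul, LinearEquiv.apply_symm_apply, hw]),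
      LinearMap.smul_apply, ← map_smul, hc, map_zero]
  have hxC' : GrLC.IsGrHomDeg C.gr C.gr (x • (LinearMap.id : C.carrier →ₗ[R] C.carrier)) k := fun g v hv => by
    rw [add_comm]; exact smul_mem 𝒜 C.gr hx hv
  let T := LinearMap.range (x • (LinearMap.id : C.carrier →ₗ[R] C.carrier))
  let C' := quotG 𝒜 (ℳ := C.gr) T (range_isHomogeneous_deg hxC')
  haveI : Module.Finite R C'.carrier := finite_quotG C T _
  let L : (C'.carrier →ₗ[R] E') →ₗ[R] (C.carrier →ₗ[R] E') := LinearMap.lcomp R E' T.mkQ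
  have hLinj : Function.Injective L := LinearMap.lcomp_injective_of_surjective _ T.mkQ_surjective
  let G := Φ.toLinearMap ∘ₗ L
  have hGr : ∀ χ, G χ ∈ LinearMap.range (δ d) := fun χ => by
    refine ((hle d).2.2 _).1 ?_
    rw [hHx]
    show x • Φ (L χ) = 0
    rw [← map_smul, show x • L χ = 0 from LinearMap.ext fun v => ?_, map_zero]
    show x • χ (T.mkQ v) = 0
    refine (map_smul χ x (T.mkQ v)).symm.trans ?_
    exact (congrArg χ ((T.mkQ.map_smul x v).symm.trans ((Submodule.Quotient.mk_eq_zero T).2 ⟨v, rfl⟩))).trans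
      (map_zero χ)
  let δ' := LinearEquiv.ofInjective (δ d) hδinj
  let Φ' : (C'.carrier →ₗ[R] E') ≃ₗ[R] F.H (posIdeal 𝒜) d :=
    (LinearEquiv.ofBijective (G.codRestrict (LinearMap.range (δ d)) hGr)
      ⟨fun a b h => hLinj (Φ.injective (congrArg Subtype.val h)), fun z => by
        obtain ⟨w, hw⟩ := z.2
        have h1 : x • Φ.symm z.1 = 0 := Φ.injective (by
          rw [map_smul, LinearEquiv.apply_symm_apply, map_zero, ← hHx]
          exact ((hle d).2.2 _).2 ⟨w, hw⟩)
        have hk : T ≤ LinearMap.ker (Φ.symm z.1) := by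
          rintro _ ⟨v, rfl⟩
          show Φ.symm z.1 (x • v) = 0
          rw [map_smul]
          exact LinearMap.congr_fun h1 v
        refine ⟨T.liftQ (Φ.symm z.1) hk, Subtype.ext ?_⟩
        exact (congrArg Φ (T.liftQ_mkQ (Φ.symm z.1) hk)).trans (Φ.apply_symm_apply _)⟩).trans δ'.symm
  exact ⟨k, x, Q, C', S.mkQ, T.mkQ, F, hk, hx, hxm, hxr, hxC, fun g v hv => ⟨v, hv, rfl⟩, S.mkQ_surjective,
    S.ker_mkQ, fun g v hv => ⟨v, hv, rfl⟩, T.mkQ_surjective, T.ker_mkQ, inferInstance, inferInstance, hvQ, hdimQ,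
    ⟨Φ'⟩⟩

/-- The Bass numbers of a module whose dual is the top local cohomology of a Cohen–Macaulay module. -/
theorem canon_bassNum (hpos : ∀ n : ℤ, n < 0 → 𝒜 n = ⊥) (h0 : IsField (GrLC.deg0 𝒜))
    (he : GrLC.IsStarInjHull 𝒜 (GrLC.quotGr 𝒜 (posIdeal 𝒜)) 𝓔 e) [hmax : (posIdeal 𝒜).toIdeal.IsMaximal] :
    ∀ (d : ℕ) (N C : GrLC.GMod.{u} 𝒜), Module.Finite R N.carrier → Module.Finite R C.carrier →
      ∀ (E : GrLC.StarInjRes 𝒜 N.gr) (s : ℕ), (∀ j, j < d → ∀ m, Van (posIdeal 𝒜) N.gr j m) →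
      Module.supportDim R N.carrier ≤ (d : ℕ) →
      (∀ i, GrLC.bassNum (posIdeal 𝒜).toIdeal (N.carrier →ₗ[R] E') i = (Nat.choose s i : ℕ∞)) →
      ((C.carrier →ₗ[R] E') ≃ₗ[R] E.H (posIdeal 𝒜) d) →
      (∀ i, GrLC.bassNum (posIdeal 𝒜).toIdeal C.carrier i = if d ≤ i then (Nat.choose s (i - d) : ℕ∞) else 0) ∧
      (∀ j, j < d → GrLC.bassNum (posIdeal 𝒜).toIdeal N.carrier j = 0) ∧
      GrLC.bassNum (posIdeal 𝒜).toIdeal N.carrier d =
        Module.length R (tors (posIdeal 𝒜).toIdeal (C.carrier →ₗ[R] E')) := by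
  let q := (posIdeal 𝒜).toIdeal
  intro d
  induction d with
  | zero =>
    intro N C hNf hCf E s _ hdim hD Φ
    have hN := gam_eq_top_of_supportDim hpos N hdim
    obtain ⟨ω⟩ := nonempty_equiv_H_zero N E hN
    let Φ' := Φ.trans ω.symm
    obtain ⟨b⟩ := nonempty_bidual hpos h0 he N C hN Φ'
    refine ⟨fun i => ?_, fun j hj => absurd hj (Nat.not_lt_zero j), ?_⟩
    · rw [bassNum_congr q b i, hD i, if_pos (Nat.zero_le i), Nat.sub_zero]
    · rw [bassNum_zero_eq_length_tors q N.carrier]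
      exact (length_tors_congr q Φ'.toLinearMap Φ'.injective fun b _ => Φ'.surjective b).symm
  | succ d ih =>
    intro N C hNf hCf E s hvan hdim hD Φ
    obtain ⟨k, x, Q, C', π, ρ, F, hk, hx, hxm, hxr, hxC, -, hπs, hπk, -, hρs, hρk, hQf, hC'f, hvQ, hdimQ, ⟨Φ'⟩⟩ :=
      canon_step hpos h0 he (d := d) N C E hvan hdim Φ
    obtain ⟨hC', hN', htop⟩ := ih Q C' hQf hC'f F (s + 1) hvQ hdimQ
      (fun i => bassNum_dual_step he N hx hxm hxr π hπs hπk s hD i) Φ'
    have hCq : ∀ i, GrLC.bassNum q C'.carrier i = GrLC.bassNum q C.carrier i + GrLC.bassNum q C.carrier (i + 1) :=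
      bassNum_quot q hxm ρ hxC hρs (LinearMap.exact_iff.2 hρk)
    have hNq : ∀ i, GrLC.bassNum q Q.carrier i = GrLC.bassNum q N.carrier i + GrLC.bassNum q N.carrier (i + 1) :=
      bassNum_quot q hxm π hxr hπs (LinearMap.exact_iff.2 hπk)
    let L : (C'.carrier →ₗ[R] E') →ₗ[R] (C.carrier →ₗ[R] E') := LinearMap.lcomp R E' ρ
    have hLinj : Function.Injective L := LinearMap.lcomp_injective_of_surjective _ hρs
    have hNz : ∀ j, j < d + 1 → GrLC.bassNum q N.carrier j = 0 := by
      intro j hj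
      cases j with
      | zero => exact bassNum_zero_of_regular q hxm hxr
      | succ j =>
        have h1 := hNq j
        rw [hN' j (by omega)] at h1
        exact (add_eq_zero.1 h1.symm).2
    refine ⟨fun i => ?_, hNz, ?_⟩
    · induction i with
      | zero => rw [if_neg (by omega)]; exact bassNum_zero_of_regular q hxm hxC
      | succ i ihi =>
        have h1 := hCq i
        rw [hC' i, ihi] at h1
        rcases lt_trichotomy i d with hid | hid | hid
        · rw [if_neg (by omega), if_neg (by omega), zero_add] at h1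
          rw [if_neg (by omega), ← h1]
        · subst hid
          rw [if_pos le_rfl, if_neg (by omega), Nat.sub_self, zero_add, Nat.choose_zero_right] at h1
          rw [if_pos le_rfl, Nat.sub_self, Nat.choose_zero_right, ← h1]
        · obtain ⟨c, rfl⟩ : ∃ c, i = d + 1 + c := ⟨i - (d + 1), by omega⟩
          rw [if_pos (by omega), if_pos (by omega), show d + 1 + c - d = c + 1 by omega,
            show d + 1 + c - (d + 1) = c by omega, Nat.choose_succ_succ, Nat.cast_add] at h1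
          rw [if_pos (by omega), show d + 1 + c + 1 - (d + 1) = c + 1 by omega]
          exact (WithTop.add_left_cancel (ENat.natCast_ne_top _) h1).symm
    · have h1 := hNq d
      rw [hNz d (Nat.lt_succ_self d), zero_add] at h1
      rw [← h1, htop]
      exact length_tors_congr q L hLinj fun χ hχ => by
        have hk : LinearMap.ker ρ ≤ LinearMap.ker χ := by
          rw [hρk]
          rintro _ ⟨v, rfl⟩
          show χ (x • v) = 0
          rw [map_smul]
          exact LinearMap.congr_fun ((mem_tors q).1 hχ x hxm) v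
        refine ⟨(LinearMap.ker ρ).liftQ χ hk ∘ₗ (ρ.quotKerEquivOfSurjective hρs).symm.toLinearMap,
          LinearMap.ext fun v => ?_⟩
        show (LinearMap.ker ρ).liftQ χ hk ((ρ.quotKerEquivOfSurjective hρs).symm (ρ v)) = χ v
        rw [show (ρ.quotKerEquivOfSurjective hρs).symm (ρ v) = Submodule.Quotient.mk v from
          (LinearEquiv.symm_apply_eq _).2 rfl]
        rfl

end

end GrModLib
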