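import Groth.Agent.GrModLib.CanonMain
import Groth.Agent.CommAlgDim.DepthBounds
import Groth.Agent.GorLib.Basic
import Mathlib.RingTheory.LocalProperties.InjectiveDimension

/-! Cohen–Macaulayness and finite injective dimension from Bass numbers. -/

set_option autoImplicit false
universe u

open DirectSum CategoryTheory IsLocalRing

namespace GrModLib

section Local

variable {A : Type u} [CommRing A] [IsLocalRing A] [IsNoetherianRing A]

/-- Vanishing of `Ext` of the residue field gives regular sequences. -/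
theorem hasSeqIn_of_length_ext : ∀ (n : ℕ) (M : Type u) [AddCommGroup M] [Module A M] [Module.Finite A M],
    (∀ i, i < n → Module.length A (Abelian.Ext.{u} (ModuleCat.of A (ResidueField A)) (ModuleCat.of A M) i) = 0) →
      CommAlgDim.HasSeqIn (maximalIdeal A) M n := by
  intro n
  induction n with
  | zero => exact fun M _ _ _ _ => CommAlgDim.hasSeqIn_zero _
  | succ n ih =>
    intro M _ _ _ h
    obtain ⟨x, hx, hreg⟩ := CommAlgDim.exists_isSMulRegular_mem (M := M) (I := maximalIdeal A) fun p hp hle => by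
      obtain rfl : p = maximalIdeal A := le_antisymm (le_maximalIdeal hp.isPrime.ne_top) hle
      obtain ⟨-, f, hf⟩ := (isAssociatedPrime_iff_exists_injective_linearMap _ _).1 hp
      haveI := Module.length_eq_zero_iff.1 (h 0 n.succ_pos)
      let f' : ModuleCat.of A (ResidueField A) ⟶ ModuleCat.of A M :=
        ModuleCat.ofHom (f ∘ₗ (LinearEquiv.refl A _ : ResidueField A ≃ₗ[A] A ⧸ maximalIdeal A).toLinearMap)
      have h0 : f' = 0 := (Abelian.Ext.mk₀_bijective _ _).1 (Subsingleton.elim _ _)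
      have h1 : f (Ideal.Quotient.mk (maximalIdeal A) 1) = 0 := by
        have := LinearMap.congr_fun (ModuleCat.hom_ext_iff.1 h0) (Ideal.Quotient.mk (maximalIdeal A) 1)
        exact this
      exact one_ne_zero (α := A ⧸ maximalIdeal A) (hf (h1.trans (map_zero f).symm))
    refine CommAlgDim.hasSeqIn_succ_of_cons hx hreg (ih (QuotSMulTop x M) fun i hi => ?_)
    rw [length_ext_quot hx (Submodule.mkQ _) hreg (Submodule.mkQ_surjective _) ?_ i, h i (by omega),
      h (i + 1) (by omega), add_zero]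
    intro z
    rw [Submodule.mkQ_apply, Submodule.Quotient.mk_eq_zero, Submodule.mem_smul_pointwise_iff_exists]
    exact ⟨fun ⟨v, _, hv⟩ => ⟨v, hv⟩, fun ⟨v, hv⟩ => ⟨v, Submodule.mem_top, hv⟩⟩

/-- Cohen–Macaulay modules of maximal dimension. -/
theorem isCM_of_length_ext {n : ℕ} (M : Type u) [AddCommGroup M] [Module A M] [Module.Finite A M] [Nontrivial M]
    (hd : ringKrullDim A ≤ (n : WithBot ℕ∞))
    (h : ∀ i, i < n → Module.length A (Abelian.Ext.{u} (ModuleCat.of A (ResidueField A)) (ModuleCat.of A M) i) = 0) :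
    LocCoh.IsCohenMacaulayModule A M := by
  obtain ⟨P, hP⟩ := associatedPrimes.nonempty A M
  haveI := hP.isPrime
  have hPd : ringKrullDim (A ⧸ P) ≤ Module.supportDim A M := by
    rw [Module.supportDim_eq_ringKrullDim_quotient_annihilator]
    refine ringKrullDim_le_of_surjective (Ideal.Quotient.factor ?_) (Ideal.Quotient.factor_surjective _)
    obtain ⟨-, f, hf⟩ := (isAssociatedPrime_iff_exists_injective_linearMap _ _).1 hP
    intro a ha
    refine Ideal.Quotient.eq_zero_iff_mem.1 (hf ?_)
    rw [map_zero, show (Ideal.Quotient.mk P a) = a • (1 : A ⧸ P) by rw [Algebra.smul_def, mul_one]; rfl, map_smul]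
    exact Module.mem_annihilator.1 ha _
  have hge : (n : ℕ∞) ≤ LocCoh.depth A M := (CommAlgDim.le_depth_iff n).2 (hasSeqIn_of_length_ext n M h)
  have hdim : Module.supportDim A M ≤ (n : WithBot ℕ∞) := (Module.supportDim_le_ringKrullDim A M).trans hd
  have hle : LocCoh.depth A M ≤ (n : ℕ∞) := by
    by_contra hlt
    have h1 : ((n + 1 : ℕ) : ℕ∞) ≤ LocCoh.depth A M := by
      rw [Nat.cast_add_one]; exact Order.add_one_le_of_lt (lt_of_not_ge hlt)
    have h2 := ((CommAlgDim.depth_le_ringKrullDim_quotient hP ((CommAlgDim.le_depth_iff _).1 h1)).trans hPd).trans hdim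
    have h3 : n + 1 ≤ n := by exact_mod_cast h2
    omega
  show Module.supportDim A M = ((LocCoh.depth A M : ℕ∞) : WithBot ℕ∞)
  rw [le_antisymm hle hge]
  refine le_antisymm hdim ?_
  exact (CommAlgDim.depth_le_ringKrullDim_quotient hP (hasSeqIn_of_length_ext n M h)).trans hPd

end Local

variable {R : Type u} [CommRing R] [IsNoetherianRing R] {𝒜 : ℤ → AddSubgroup R} [GradedRing 𝒜]

/-- Bass numbers at homogeneous primes vanish beyond the injective dimension at the irrelevant ideal. -/
theorem bassNum_eq_zero_of_idlt (hpos : ∀ n : ℤ, n < 0 → 𝒜 n = ⊥) (h0 : IsField (GrLC.deg0 𝒜))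
    [hmax : (posIdeal 𝒜).toIdeal.IsMaximal] (C : GrLC.GMod.{u} 𝒜) {K : ℕ}
    (hK : GorLib.IDLT (Localization.AtPrime (posIdeal 𝒜).toIdeal)
      (LocalizedModule (posIdeal 𝒜).toIdeal.primeCompl C.carrier) (K + 1))
    (q : Ideal R) [hq : q.IsPrime] (hqh : q.IsHomogeneous 𝒜) (i : ℕ) (hi : K + 1 ≤ i) :
    GrLC.bassNum q C.carrier i = 0 := by
  obtain ⟨E⟩ := nonempty_resG C
  let X : ℕ → Type u := fun n => (E.X n).carrier
  let S := (posIdeal 𝒜).toIdeal.primeCompl
  let A := Localization S
  let J := q.map (algebraMap R A)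
  obtain ⟨eq'⟩ := nonempty_quot_equiv S q
  obtain ⟨e1⟩ := nonempty_equiv_ext J i (LocalizedModule S C.carrier) (fun n => LocalizedModule S (X n)) (locD S E.d)
    (LocalizedModule.map S E.ε) (LocalizedModule.map_injective S _ E.ε_injective)
    (LinearMap.exact_iff.1 (LocalizedModule.map_exact S _ _ (LinearMap.exact_iff.2 E.exact_zero)))
    (fun n => LinearMap.exact_iff.1 (LocalizedModule.map_exact S _ _ (LinearMap.exact_iff.2 (E.exact_succ n))))
    (fun n k => by
      let Q := quotG 𝒜 (ℳ := 𝒜) q hqh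
      haveI : Module.Finite R Q.carrier := inferInstanceAs (Module.Finite R (R ⧸ q))
      haveI h' : Subsingleton (Abelian.Ext.{u} (ModuleCat.of A (LocalizedModule S (R ⧸ q)))
        (ModuleCat.of A (LocalizedModule S (X n))) (k + 1)) :=
        subsingleton_ext_localized (E.starInj n) S k Q.carrier Q.gr
      exact (extCongrLeft eq' (ModuleCat.of A (LocalizedModule S (X n))) (k + 1)).symm.injective.subsingleton)
  haveI hExt : Subsingleton (Abelian.Ext.{u} (ModuleCat.of A (A ⧸ J))
      (ModuleCat.of A (LocalizedModule S C.carrier)) i) :=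
    @HasInjectiveDimensionLT.subsingleton _ _ _ _ _ (K + 1) hK i hi _
  have hsub := e1.toEquiv.subsingleton
  have hB : ∀ y ∈ torsZ q X E.d i, y ∈ torsB q X E.d i := by
    have hZ : (torsZ q X E.d i).IsHomogeneous (E.X i).gr :=
      inf_isHomogeneous _ (tors_isHomogeneous _ hqh) (ker_isHomogeneous (E.d_grHom i))
    have hB : (torsB q X E.d i).IsHomogeneous (E.X i).gr := by
      cases i with
      | zero => exact bot_isHomogeneous _
      | succ i => exact map_isHomogeneous (E.d_grHom i) (tors_isHomogeneous _ hqh)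
    intro y hy
    obtain ⟨s, -, hs⟩ := exists_finset (E.X i).gr y
    rw [← hs]
    refine sum_mem fun g _ => ?_
    have hyg : pr (E.X i).gr g y ∈ torsZ q X E.d i := hZ g hy
    have hmem := (mem_torsZ_localized S q E.d (pr (E.X i).gr g y) (1 : S)).2
      ⟨1, one_mem _, by rwa [one_smul]⟩
    have h1 := (Submodule.Quotient.mk_eq_zero _).1
      (@Subsingleton.elim _ hsub (Submodule.Quotient.mk (⟨_, hmem⟩ : torsZ J _ (locD S E.d) i)) 0)
    obtain ⟨t, ht, htB⟩ := (mem_torsB_localized S q E.d (pr (E.X i).gr g y) (1 : S)).1 h1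
    have h2 : pr 𝒜 0 t • pr (E.X i).gr g y ∈ torsB q X E.d i := by
      have := hB g htB
      change pr (E.X i).gr g (t • pr (E.X i).gr g y) ∈ _ at this
      rwa [pr_smul_mem 𝒜 (E.X i).gr (pr_mem (E.X i).gr g y) t g, sub_self] at this
    obtain ⟨u, -, hu⟩ := deg0_inv h0 (pr_mem 𝒜 0 t) fun h => ht (by
      have := mk_eq_mk_pr hpos t
      rwa [h, sub_zero] at this)
    rw [show pr (E.X i).gr g y = u • pr 𝒜 0 t • pr (E.X i).gr g y by rw [← mul_smul, hu, one_smul]]
    exact Submodule.smul_mem _ u h2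
  rw [bassNum_eq_card E q hqh i PEmpty.{u+1} PEmpty.elim (fun _ _ k => k.elim) (fun y => ⟨1, one_mem _, 0, by
    rw [one_smul, map_zero, sub_zero]; exact hB y y.2⟩)]
  simp

/-- Finite injective dimension from the irrelevant ideal. -/
theorem idlt_of_local (hpos : ∀ n : ℤ, n < 0 → 𝒜 n = ⊥) (h0 : IsField (GrLC.deg0 𝒜))
    [hmax : (posIdeal 𝒜).toIdeal.IsMaximal] (C : GrLC.GMod.{u} 𝒜) [Module.Finite R C.carrier] {n : ℕ}
    (hn : ringKrullDim R ≤ (n : WithBot ℕ∞))
    (hK : GorLib.IDLT (Localization.AtPrime (posIdeal 𝒜).toIdeal)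
      (LocalizedModule (posIdeal 𝒜).toIdeal.primeCompl C.carrier) (n + 1)) :
    GorLib.IDLT R C.carrier (n + n + 1) := by
  refine (ModuleCat.hasInjectiveDimensionLE_iff_forall_maximalSpectrum (n + n) (ModuleCat.of R C.carrier)).2
    fun m => ?_
  let P := m.1
  haveI := m.2
  haveI : IsLocalizedModule P.primeCompl ((ModuleCat.of R C.carrier).localizedModuleMkLinearMap P.primeCompl) :=
    ModuleCat.localizedModule_isLocalizedModule (R := R) (ModuleCat.of R C.carrier) P.primeCompl
  let ψ : LocalizedModule P.primeCompl C.carrier ≃ₗ[Localization.AtPrime P]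
      ((ModuleCat.of R C.carrier).localizedModule P.primeCompl) :=
    LinearEquiv.extendScalarsOfIsLocalization P.primeCompl (Localization.AtPrime P)
      (IsLocalizedModule.linearEquiv P.primeCompl (LocalizedModule.mkLinearMap P.primeCompl C.carrier)
        ((ModuleCat.of R C.carrier).localizedModuleMkLinearMap P.primeCompl))
  refine GorLib.idlt_of_equiv ψ (GorLib.hasInjectiveDimensionLT_of_residueField fun i hi => ?_)
  let q := (Ideal.homogeneousCore 𝒜 P).toIdeal
  haveI hq : q.IsPrime := Ideal.IsPrime.homogeneousCore (inferInstance : P.IsPrime)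
  obtain ⟨d, hd, hdn⟩ : ∃ d : ℕ, (P.map (Ideal.Quotient.mk q)).height = d ∧ d ≤ n := by
    haveI : (P.map (Ideal.Quotient.mk q)).IsPrime := Ideal.map_isPrime_of_surjective Ideal.Quotient.mk_surjective
      (by rw [Ideal.mk_ker]; exact Ideal.toIdeal_homogeneousCore_le 𝒜 P)
    have h1 : ((P.map (Ideal.Quotient.mk q)).height : WithBot ℕ∞) ≤ (n : WithBot ℕ∞) :=
      ((Ideal.height_le_ringKrullDim_of_ne_top (Ideal.IsPrime.ne_top inferInstance)).trans
        (ringKrullDim_quotient_le q)).trans hn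
    have h2 : (P.map (Ideal.Quotient.mk q)).height ≤ (n : ℕ∞) := by exact_mod_cast h1
    obtain ⟨d, hd⟩ := ENat.ne_top_iff_exists.1 (ne_top_of_le_ne_top (ENat.natCast_ne_top n) h2)
    exact ⟨d, hd.symm, by rw [← hd] at h2; exact_mod_cast h2⟩
  obtain ⟨-, hshift⟩ := bassNum_eq C.gr P q (Ideal.homogeneousCore 𝒜 P).isHomogeneous
    (Ideal.toIdeal_homogeneousCore_le 𝒜 P) notMem_of_notMem_core d hd
  have h1 := hshift (i - d)
  rw [Nat.sub_add_cancel (by omega), bassNum_eq_zero_of_idlt hpos h0 C hK q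
    (Ideal.homogeneousCore 𝒜 P).isHomogeneous (i - d) (by omega)] at h1
  exact Module.length_eq_zero_iff.1 h1

end GrModLib
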