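import Groth.Agent.GrModLib.Cyclic
import Groth.Agent.GrModLib.Bridge

/-! Degrees of *canonical modules. -/

set_option autoImplicit false
universe u

open DirectSum

namespace GrModLib

section Bass

variable {R : Type u} [CommRing R]

/-- Bass numbers along a regular sequence in the prime. -/
theorem bassNum_of_regular (q : Ideal R) [q.IsPrime] : ∀ (rs : List R) (M : Type u) [AddCommGroup M] [Module R M],
    RingTheory.Sequence.IsWeaklyRegular M rs → (∀ r ∈ rs, r ∈ q) →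
    (∀ j, j < rs.length → GrLC.bassNum q M j = 0) ∧
      GrLC.bassNum q M rs.length = GrLC.bassNum q (M ⧸ (Ideal.ofList rs • (⊤ : Submodule R M))) 0
  | [], M, _, _, _, _ => by
    refine ⟨fun j hj => absurd hj (Nat.not_lt_zero j), ?_⟩
    exact bassNum_congr q (Submodule.quotEquivOfEqBot _ (by rw [Ideal.ofList_nil, Submodule.bot_smul])).symm 0
  | x :: t, M, _, _, hreg, hmem => by
    rw [RingTheory.Sequence.isWeaklyRegular_cons_iff] at hreg
    obtain ⟨hx, ht⟩ := hreg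
    have hxm := hmem x (List.mem_cons_self ..)
    obtain ⟨h1, h2⟩ := bassNum_of_regular q t (QuotSMulTop x M) ht fun r hr => hmem r (List.mem_cons_of_mem _ hr)
    have hexact : Function.Exact (x • LinearMap.id : M →ₗ[R] M)
        ((LinearMap.range (x • LinearMap.id : M →ₗ[R] M)).mkQ) := LinearMap.exact_iff.2 (Submodule.ker_mkQ _)
    let eq' : (M ⧸ LinearMap.range (x • LinearMap.id : M →ₗ[R] M)) ≃ₗ[R] QuotSMulTop x M :=
      Submodule.quotEquivOfEq _ _ (by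
        ext z
        rw [Submodule.mem_smul_pointwise_iff_exists]
        exact ⟨fun ⟨v, hv⟩ => ⟨v, Submodule.mem_top, hv⟩, fun ⟨v, _, hv⟩ => ⟨v, hv⟩⟩)
    have hq : ∀ i, GrLC.bassNum q (QuotSMulTop x M) i = GrLC.bassNum q M i + GrLC.bassNum q M (i + 1) := fun i =>
      (bassNum_congr q eq' i).symm.trans (bassNum_quot q hxm _ hx (Submodule.mkQ_surjective _) hexact i)
    have hlow : ∀ j, j < t.length + 1 → GrLC.bassNum q M j = 0 := by
      intro j hj
      cases j with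
      | zero => exact bassNum_zero_of_regular q hxm hx
      | succ j => exact (add_eq_zero.1 ((hq j).symm.trans (h1 j (by omega)))).2
    refine ⟨hlow, ?_⟩
    have h3 := hq t.length
    rw [hlow t.length (by omega), zero_add] at h3
    rw [List.length_cons, ← h3]
    exact h2.trans (bassNum_congr q (Submodule.quotOfListConsSMulTopEquivQuotSMulTopInner M x t) 0).symm

end Bass

section Hull

variable {ι : Type} [AddCommGroup ι] [DecidableEq ι] {R : Type u} [CommRing R] {σ : Type u} [SetLike σ R]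
  [AddSubgroupClass σ R] {𝒜 : ι → σ} [GradedRing 𝒜]

/-- A graded module over the underlying grading. -/
theorem gradedSMul_toAdd {E' : Type u} [AddCommGroup E'] [Module R E'] (𝓔 : ι → AddSubgroup E')
    [SetLike.GradedSMul 𝒜 𝓔] : SetLike.GradedSMul (toAdd 𝒜) 𝓔 :=
  ⟨fun {_ _ _ _} hr hm => SetLike.GradedSMul.smul_mem (A := 𝒜) (B := 𝓔) hr hm⟩

/-- Hulls over the underlying grading. -/
theorem isStarInjHull_toAdd {E' : Type u} [AddCommGroup E'] [Module R E'] (𝓔 : ι → AddSubgroup E')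
    [DirectSum.Decomposition 𝓔] [SetLike.GradedSMul 𝒜 𝓔] [SetLike.GradedSMul (toAdd 𝒜) 𝓔]
    (m : HomogeneousIdeal 𝒜) {e : (R ⧸ m.toIdeal) →ₗ[R] E'}
    (he : GrLC.IsStarInjHull 𝒜 (GrLC.quotGr 𝒜 m) 𝓔 e) :
    GrLC.IsStarInjHull (toAdd 𝒜) (GrLC.quotGr (toAdd 𝒜) (toAddIdeal m)) 𝓔 e :=
  { injective := he.injective
    grHom := fun g x hx => he.grHom g x hx
    essential := he.essential
    starInj := fun A B f hf hfi g hg => he.starInj (GModOfAdd A) (GModOfAdd B) f hf hfi g hg }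

end Hull

variable {R : Type u} [CommRing R] [IsNoetherianRing R] {𝒜 : ℤ → AddSubgroup R} [GradedRing 𝒜]
variable {E' : Type u} [AddCommGroup E'] [Module R E'] {𝓔 : ℤ → AddSubgroup E'} [DirectSum.Decomposition 𝓔]
  [SetLike.GradedSMul 𝒜 𝓔] {e : (R ⧸ (posIdeal 𝒜).toIdeal) →ₗ[R] E'}

/-- A nonzero piece of the *canonical module is seen in local cohomology. -/
theorem exists_Hgr_ne_zero (hpos : ∀ n : ℤ, n < 0 → 𝒜 n = ⊥) (h0 : IsField (GrLC.deg0 𝒜))
    (he : GrLC.IsStarInjHull 𝒜 (GrLC.quotGr 𝒜 (posIdeal 𝒜)) 𝓔 e) (C : GrLC.GMod.{u} 𝒜)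
    {H : Type u} [AddCommGroup H] [Module R H] (ℋ : ℤ → AddSubgroup H) (φ : (C.carrier →ₗ[R] E') ≃ₗ[R] H)
    (hφ : GrLC.IsGrHom (fun d => (GrLC.homDeg 𝒜 C.gr 𝓔 d).toAddSubgroup) ℋ φ.toLinearMap)
    {g : ℤ} {v : C.carrier} (hv : v ∈ C.gr g) (hne : v ≠ 0) : ∃ y ∈ ℋ (-g), y ≠ 0 := by
  obtain ⟨χ, hχ, hχv⟩ := exists_hom_deg_ne_zero hpos h0 he C hv hne
  exact ⟨φ χ, hφ (-g) χ hχ, fun h => hχv (by rw [φ.injective (h.trans (map_zero φ).symm), LinearMap.zero_apply])⟩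

/-- A nonzero class comes from a nonzero piece of the *canonical module. -/
theorem exists_piece_ne_zero (hpos : ∀ n : ℤ, n < 0 → 𝒜 n = ⊥)
    (he : GrLC.IsStarInjHull 𝒜 (GrLC.quotGr 𝒜 (posIdeal 𝒜)) 𝓔 e) (C : GrLC.GMod.{u} 𝒜) [Module.Finite R C.carrier]
    {H : Type u} [AddCommGroup H] [Module R H] (ℋ : ℤ → AddSubgroup H) (hℋ : DirectSum.IsInternal ℋ)
    (φ : (C.carrier →ₗ[R] E') ≃ₗ[R] H)
    (hφ : GrLC.IsGrHom (fun d => (GrLC.homDeg 𝒜 C.gr 𝓔 d).toAddSubgroup) ℋ φ.toLinearMap)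
    {g : ℤ} {y : H} (hy : y ∈ ℋ g) (hne : y ≠ 0) : ∃ v ∈ C.gr (-g), v ≠ 0 := by
  letI := hℋ.chooseDecomposition
  by_contra hcon
  push Not at hcon
  obtain ⟨D, f, hf, hsum⟩ := exists_hom_components (𝓔 := 𝓔) C (φ.symm y)
  refine hne ?_
  rw [← pr_self ℋ hy, ← φ.apply_symm_apply y, hsum, map_sum, map_sum]
  refine Finset.sum_eq_zero fun d _ => ?_
  by_cases hd : d = g
  · subst hd
    rw [eq_zero_of_restrict hpos he C (hf d) (fun v hv => by rw [hcon v hv, map_zero]), map_zero, map_zero]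
  · exact pr_ne ℋ (hφ d (f d) (hf d)) hd

end GrModLib
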