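import Groth.Agent.GrModLib.BassSES

/-! Shifting `Ext` by a regular element killing the first argument. -/

set_option autoImplicit false
universe u

open CategoryTheory

namespace GrModLib

variable {R : Type u} [CommRing R] {M N Q : Type u} [AddCommGroup M] [Module R M] [AddCommGroup N] [Module R N]
  [AddCommGroup Q] [Module R Q] {x : R}

/-- Elements killing the first argument kill `Ext`. -/
theorem smul_ext_of_kill (hM : ∀ m : M, x • m = 0) {Z : ModuleCat.{u} R} {i : ℕ}
    (α : Abelian.Ext.{u} (ModuleCat.of R M) Z i) : x • α = 0 := by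
  have h0 : x • 𝟙 (ModuleCat.of R M) = 0 := ModuleCat.hom_ext (LinearMap.ext hM)
  have h1 : (Abelian.Ext.mk₀ (x • 𝟙 (ModuleCat.of R M))).comp α (zero_add i) = x • α := by
    rw [Abelian.Ext.mk₀_smul, Abelian.Ext.smul_comp, Abelian.Ext.mk₀_id_comp]
  rw [← h1, h0, Abelian.Ext.mk₀_zero, Abelian.Ext.zero_comp]

theorem subsingleton_ext_zero (hM : ∀ m : M, x • m = 0) (hx : IsSMulRegular N x) :
    Subsingleton (Abelian.Ext.{u} (ModuleCat.of R M) (ModuleCat.of R N) 0) := by
  haveI : Subsingleton (M →ₗ[R] N) := subsingleton_of_forall_eq 0 fun f => LinearMap.ext fun m =>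
    hx.right_eq_zero_of_smul (by rw [← map_smul, hM, map_zero])
  exact (Abelian.Ext.addEquiv₀.trans ModuleCat.homAddEquiv).subsingleton

/-- The connecting map of multiplication by a regular element killing the first argument. -/
theorem exists_ext_shift (hM : ∀ m : M, x • m = 0) (g : N →ₗ[R] Q) (hx : IsSMulRegular N x)
    (hg : Function.Surjective g)
    (hker : LinearMap.ker g = LinearMap.range (x • (LinearMap.id : N →ₗ[R] N))) (p : ℕ) :
    ∃ δ : Abelian.Ext.{u} (ModuleCat.of R M) (ModuleCat.of R Q) p →ₗ[R]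
        Abelian.Ext.{u} (ModuleCat.of R M) (ModuleCat.of R N) (p + 1),
      Function.Surjective δ ∧
        (Subsingleton (Abelian.Ext.{u} (ModuleCat.of R M) (ModuleCat.of R N) p) → Function.Injective δ) := by
  let X := ModuleCat.of R M
  let f : N →ₗ[R] N := x • LinearMap.id
  have hex : Function.Exact f g := LinearMap.exact_iff.2 hker
  let S := ShortComplex.moduleCatMk f g hex.linearMap_comp_eq_zero
  have hS : S.ShortExact :=
    { exact := (ShortComplex.ShortExact.moduleCat_exact_iff_function_exact _).2 hex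
      mono_f := (ModuleCat.mono_iff_injective _).2 hx
      epi_g := (ModuleCat.epi_iff_surjective _).2 hg }
  let δ : Abelian.Ext.{u} X (ModuleCat.of R Q) p →ₗ[R] Abelian.Ext.{u} X (ModuleCat.of R N) (p + 1) :=
    hS.extClass.postcompOfLinear R X rfl
  refine ⟨δ, fun α => Abelian.Ext.covariant_sequence_exact₁ X hS α ?_ rfl, fun h => ?_⟩
  · show α.comp (Abelian.Ext.mk₀ (ModuleCat.ofHom f)) (add_zero _) = 0
    rw [show ModuleCat.ofHom f = x • 𝟙 (ModuleCat.of R N) from rfl, Abelian.Ext.mk₀_smul,
      Abelian.Ext.comp_smul, Abelian.Ext.comp_mk₀_id, smul_ext_of_kill hM]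
  · refine (injective_iff_map_eq_zero δ).2 fun β hβ => ?_
    obtain ⟨α, rfl⟩ := Abelian.Ext.covariant_sequence_exact₃ X hS β rfl hβ
    rw [show α = 0 from Subsingleton.elim (α := Abelian.Ext.{u} X (ModuleCat.of R N) p) _ _]
    exact Abelian.Ext.zero_comp ..

end GrModLib
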