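import Groth.Agent.GrModLib.GorTop
import Groth.Agent.SMTLib.CMQuot
import Groth.Agent.S0345

/-! A *local Cohen–Macaulay graded ring with *injective top local cohomology is Gorenstein. -/

set_option autoImplicit false
universe u

open DirectSum CategoryTheory IsLocalRing

namespace GrModLib

theorem eq_zero_of_one_add {R : Type u} [CommRing R] {a : Ideal R} {M : Type u} [AddCommGroup M] [Module R M]
    {x : M} (hx : x ∈ GrLC.gam a M) {c : R} (hc : c - 1 ∈ a) (hcx : c • x = 0) : x = 0 := by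
  obtain ⟨k, hk⟩ := hx
  have h : ∀ j : ℕ, (1 - c) ^ j • x = x := fun j => by
    induction j with
    | zero => rw [pow_zero, one_smul]
    | succ j ih => rw [pow_succ, mul_smul, sub_smul, one_smul, hcx, sub_zero, ih]
  rw [← h k]
  exact hk _ (Ideal.pow_mem_pow (by rw [← neg_sub]; exact neg_mem hc) k)

/-- The local ring at `q` as a module over itself. -/
noncomputable def locSelfEquiv {R : Type u} [CommRing R] (q : Ideal R) [q.IsPrime] :
    LocalizedModule q.primeCompl R ≃ₗ[Localization.AtPrime q] Localization.AtPrime q :=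
  LinearEquiv.extendScalarsOfIsLocalization q.primeCompl (Localization.AtPrime q)
    (IsLocalizedModule.linearEquiv q.primeCompl (LocalizedModule.mkLinearMap q.primeCompl R)
      (Algebra.linearMap R (Localization.AtPrime q)))

theorem bassNum_eq_zero_of_gorensteinLocal {R : Type u} [CommRing R] (q : Ideal R) [q.IsPrime]
    (hG : LocCoh.IsGorensteinLocalRing (Localization.AtPrime q)) {n : ℕ} (hn : q.height ≤ n) {i : ℕ} (hi : n < i) :
    GrLC.bassNum q R i = 0 := by
  haveI := hG
  have hd : ringKrullDim (Localization.AtPrime q) ≤ ((n : ℕ) : WithBot ℕ∞) := by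
    rw [IsLocalization.AtPrime.ringKrullDim_eq_height q (Localization.AtPrime q)]
    exact_mod_cast hn
  haveI h : GorLib.IDLT (Localization.AtPrime q) (Localization.AtPrime q) (n + 1) := GorLib.idlt_of_dim_le hd
  show Module.length _ (Abelian.Ext.{u} (ModuleCat.of _ (ResidueField (Localization.AtPrime q)))
    (ModuleCat.of _ (LocalizedModule q.primeCompl R)) i) = _
  rw [length_ext_congr_right (locSelfEquiv q) i]
  refine Module.length_eq_zero_iff.2 ?_
  exact @HasInjectiveDimensionLT.subsingleton _ _ _ _ _ (n + 1) h i hi _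

theorem bassNum_eq_zero_of_cohenMacaulay {R : Type u} [CommRing R] [hR : LocCoh.IsCohenMacaulayRing R]
    (q : Ideal R) [q.IsPrime] {n : ℕ} (hn : q.height = n) {i : ℕ} (hi : i < n) : GrLC.bassNum q R i = 0 := by
  let A := Localization.AtPrime q
  haveI := hR.isCohenMacaulayLocalRing_localization q
  obtain ⟨rs, hrs, hd⟩ := SMTLib.isCM_of_isCohenMacaulayLocalRing A
  have hlen : rs.length = n := by
    rw [IsLocalization.AtPrime.ringKrullDim_eq_height q A, hn] at hd
    exact_mod_cast hd.symm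
  show Module.length A (Abelian.Ext.{u} (ModuleCat.of A (ResidueField A))
    (ModuleCat.of A (LocalizedModule q.primeCompl R)) i) = _
  rw [length_ext_congr_right (locSelfEquiv q) i]
  exact (length_ext_of_regular rs A hrs.toIsWeaklyRegular
    (CommAlgDim.mem_maximalIdeal_of_isRegular hrs)).1 i (by omega)

variable {ι : Type} [AddCommGroup ι] [DecidableEq ι] [Module.Free ℤ ι] [Module.Finite ℤ ι] {R : Type u}
  [CommRing R] [IsNoetherianRing R] {𝒜 : ι → AddSubgroup R} [GradedRing 𝒜] {m : HomogeneousIdeal 𝒜}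

/-- Vanishing above the height. -/
theorem H_eq_zero_of_height_lt (hm : IsCoatom m) [m.toIdeal.IsPrime] {M : Type u} [AddCommGroup M] [Module R M]
    {ℳ : ι → AddSubgroup M} [DirectSum.Decomposition ℳ] [SetLike.GradedSMul 𝒜 ℳ] (E : GrLC.StarInjRes 𝒜 ℳ)
    {i : ℕ} (hi : m.toIdeal.height < i) (x : E.H m i) : x = 0 := by
  let S := m.toIdeal.primeCompl
  obtain ⟨e⟩ := nonempty_H_equiv E m i
  haveI : Subsingleton (LocCoh.H (m.toIdeal.map (algebraMap R (Localization S))) i (LocalizedModule S M)) := by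
    haveI : IsNoetherianRing (Localization S) := IsLocalization.isNoetherianRing S _ inferInstance
    refine LocCohLib.subsingleton_H_of_supportDim_lt i _
      (lt_of_le_of_lt (Module.supportDim_le_ringKrullDim _ _) ?_)
    rw [show ringKrullDim (Localization S) = m.toIdeal.height from
      IsLocalization.AtPrime.ringKrullDim_eq_height m.toIdeal (Localization.AtPrime m.toIdeal)]
    exact_mod_cast hi
  haveI hsub : Subsingleton (LocalizedModule S (LocCoh.H m.toIdeal i M)) :=
    (LocCohLib.locLcEquiv S M i).injective.subsingleton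
  induction x using induction (E.Hgr m i) with
  | h0 => rfl
  | hadd a b ha hb => rw [ha, hb, add_zero]
  | hmem g y hy =>
    obtain ⟨s, hs, hsy⟩ := LocalizedModule.subsingleton_iff.1 hsub (e y)
    have hsy' : s • y = 0 := e.injective (by rw [map_smul, map_zero, hsy])
    obtain ⟨t, -, ht⟩ := exists_finset 𝒜 s
    obtain ⟨h, hh⟩ : ∃ h, pr 𝒜 h s ∉ m.toIdeal := by
      by_contra hall
      push Not at hall
      exact hs (ht ▸ sum_mem fun h _ => hall h)
    have h1 : pr 𝒜 h s • y = 0 := by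
      have := pr_smul_mem 𝒜 (E.Hgr m i) hy s (h + g)
      rw [hsy', map_zero, add_sub_cancel_right] at this
      exact this.symm
    obtain ⟨b, hb⟩ := exists_inv_mod_of_coatom hm (pr_mem 𝒜 h s) hh
    refine eq_zero_of_one_add (a := m.toIdeal) ?_ hb (by rw [mul_smul, h1, smul_zero])
    obtain ⟨z, -, rfl⟩ := hy
    exact map_gam m (E.toH m i) (show z ∈ GrLC.gam m.toIdeal (E.cocyc m i) from by
      obtain ⟨k, hk⟩ := z.2.1
      exact ⟨k, fun r hr => Subtype.ext (hk r hr)⟩)

/-- The local ring at `m` is Gorenstein. -/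
theorem gorensteinLocal_of_van (hm : IsCoatom m) [m.toIdeal.IsPrime] {n : ℕ}
    (hn : m.toIdeal.height = n) (hvan : ∀ j < n, ∀ g, Van m 𝒜 j g) (I : GrLC.StarInjRes 𝒜 𝒜) (Y : GrLC.GMod.{u} 𝒜)
    (φ : I.H m n ≃ₗ[R] Y.carrier) (hY : GrLC.IsStarInj 𝒜 Y.gr)
    (hφ : GrLC.IsGrHom (I.Hgr m n) Y.gr φ.toLinearMap) :
    LocCoh.IsGorensteinLocalRing (Localization.AtPrime m.toIdeal) := by
  obtain ⟨X, hess⟩ := exists_minimal_res (𝒜 := 𝒜) (M := R) 𝒜
  have htors : ∀ j, (∀ y ∈ tors m.toIdeal (X.X j).carrier, y = 0) → ∀ x ∈ GrLC.gam m.toIdeal (X.X j).carrier, x = 0 :=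
    fun j hj x hx => by
      by_contra hx0
      obtain ⟨r, hr, hr0⟩ := exists_tors_ne_zero m.toIdeal hx hx0
      exact hr0 (hj _ hr)
  have hlow : ∀ j, j < n → ∀ x ∈ GrLC.gam m.toIdeal (X.X j).carrier, x = 0 := by
    intro j
    induction j using Nat.strong_induction_on with
    | _ j ih =>
    intro hj
    refine htors j fun y hy => ?_
    have hyc : y ∈ X.cocyc m j :=
      ⟨⟨1, fun r hr => (mem_tors _).1 hy r (by rwa [pow_one] at hr)⟩, d_eq_zero_of_tors X hess hm j hy⟩
    have hH : ∀ z : X.H m j, z = 0 := fun z => by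
      induction z using induction (X.Hgr m j) with
      | h0 => rfl
      | hmem g w hw => exact hvan j hj g X w hw
      | hadd a b ha hb => rw [ha, hb, add_zero]
    have h0 := (Submodule.Quotient.mk_eq_zero _).1 (hH (X.toH m j ⟨y, hyc⟩))
    cases j with
    | zero => exact (Submodule.mem_bot R).1 h0
    | succ k =>
      obtain ⟨x, hx, hxy⟩ := h0
      rw [← show X.d k x = y from hxy, ih k (by omega) (by omega) x hx, map_zero]
  have hcob : X.cobdy m n = ⊥ := by
    cases n with
    | zero => rfl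
    | succ n =>
      rw [eq_bot_iff]
      rintro _ ⟨x, hx, rfl⟩
      rw [Submodule.mem_bot, hlow n (by omega) x hx, map_zero]
  have hdn : ∀ x ∈ GrLC.gam m.toIdeal (X.X n).carrier, X.d n x = 0 := by
    obtain ⟨c, hc, -⟩ := exists_compare m X I n
    let G := GrLC.gam m.toIdeal (X.X n).carrier
    let Z := X.cocyc m n
    let GG : GrLC.GMod.{u} 𝒜 := subG 𝒜 G (gam_isHomogeneous (ℳ := (X.X n).gr) m)
    let ZG : GrLC.GMod.{u} 𝒜 := subG 𝒜 Z (cocyc_isHomogeneous X m n)
    let ψ : ZG.carrier →ₗ[R] Y.carrier := φ.toLinearMap ∘ₗ c.toLinearMap ∘ₗ X.toH m n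
    have hψ : GrLC.IsGrHom ZG.gr Y.gr ψ := fun g z hz => hφ g _ (hc g _ ⟨z, hz, rfl⟩)
    have hψb : Function.Bijective ψ := by
      refine (φ.bijective.comp c.bijective).comp
        (⟨fun (a b : Z) h => ?_, Submodule.mkQ_surjective _⟩ : Function.Bijective (X.toH m n))
      have h1 := (Submodule.Quotient.eq _).1 h
      rw [hcob] at h1
      exact sub_eq_zero.1 (Subtype.ext ((Submodule.mem_bot R).1 h1))
    let Ψ := LinearEquiv.ofBijective ψ hψb
    have hZI : GrLC.IsStarInj 𝒜 ZG.gr := by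
      refine starInj_of_equiv hY Ψ.symm fun g y hy => ?_
      obtain ⟨x, rfl⟩ := Ψ.surjective y
      show Ψ.symm (Ψ x) ∈ ZG.gr g
      rw [Ψ.symm_apply_apply]
      have h1 : ψ (pr ZG.gr g x) = ψ x := by rw [map_pr hψ]; exact pr_self Y.gr hy
      exact hψb.1 h1 ▸ pr_mem ZG.gr g x
    let i : ZG.carrier →ₗ[R] GG.carrier := Submodule.inclusion (inf_le_left : Z ≤ G)
    have hi : GrLC.IsStarEss ZG.gr GG.gr i := isStarEss_of (fun a b h => Subtype.ext (congrArg (fun w : G => w.1) h))
      (fun g z hz => hz) fun g x hx hx0 => by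
        obtain ⟨r, hr, hr0⟩ := exists_tors_ne_zero m.toIdeal x.2 fun h => hx0 (Subtype.ext h)
        have hrG : r • (x : G).1 ∈ G := G.smul_mem r x.2
        exact ⟨r, ⟨⟨_, hrG, d_eq_zero_of_tors X hess hm n hr⟩, rfl⟩, fun h => hr0 (congrArg (fun w : G => w.1) h)⟩
    intro x hx
    obtain ⟨z, hz⟩ := surjective_of_starEss hZI GG.gr hi (⟨x, hx⟩ : G)
    rw [← show (z : Z).1 = x from congrArg (fun w : G => w.1) hz]
    exact (z : Z).2.2
  have hhigh : ∀ j, n < j → ∀ x ∈ GrLC.gam m.toIdeal (X.X j).carrier, x = 0 := by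
    intro j
    induction j with
    | zero => intro h; omega
    | succ j ih =>
      intro hj
      refine htors (j + 1) fun y hy => ?_
      have hyc : y ∈ X.cocyc m (j + 1) :=
        ⟨⟨1, fun r hr => (mem_tors _).1 hy r (by rwa [pow_one] at hr)⟩, d_eq_zero_of_tors X hess hm (j + 1) hy⟩
      have h0 := H_eq_zero_of_height_lt hm X (i := j + 1) (by rw [hn]; exact_mod_cast hj) (X.toH m (j + 1) ⟨y, hyc⟩)
      obtain ⟨x, hx, hxy⟩ := (Submodule.Quotient.mk_eq_zero _).1 h0
      rw [← show X.d j x = y from hxy]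
      rcases Nat.lt_succ_iff_lt_or_eq.1 hj with h | rfl
      · rw [ih h x hx, map_zero]
      · exact hdn x hx
  refine GorLib.gorenstein_of_idlt (n := n + 1) (GorLib.idlt_of_equiv (locSelfEquiv m.toIdeal)
    (GorLib.hasInjectiveDimensionLT_of_residueField fun i hi =>
      (Module.length_eq_zero_iff (R := Localization.AtPrime m.toIdeal)).1 ?_))
  show GrLC.bassNum m.toIdeal R i = 0
  obtain ⟨κ, v, -, hvt, hind, -, hcard⟩ := exists_socle_basis X hess hm i
  rw [hcard, ENat.card_eq_zero_iff_empty]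
  refine ⟨fun k => toIdeal_ne_top_of_coatom hm ((Ideal.eq_top_iff_one _).2 ?_)⟩
  have hv0 : v k = 0 := hhigh i (by omega) _ ⟨1, fun r hr => (mem_tors _).1 (hvt k) r (by rwa [pow_one] at hr)⟩
  have := hind (Finsupp.single k 1) (by rw [Finsupp.linearCombination_single, hv0, smul_zero]) k
  rwa [Finsupp.single_eq_same] at this

/-- The local ring at `m` of a Cohen–Macaulay ring is Gorenstein. -/
theorem gorensteinLocal_of_starInj [LocCoh.IsCohenMacaulayRing R] (hm : IsCoatom m) [m.toIdeal.IsPrime] {n : ℕ}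
    (hn : m.toIdeal.height = n) (I : GrLC.StarInjRes 𝒜 𝒜) (Y : GrLC.GMod.{u} 𝒜) (φ : I.H m n ≃ₗ[R] Y.carrier)
    (hY : GrLC.IsStarInj 𝒜 Y.gr) (hφ : GrLC.IsGrHom (I.Hgr m n) Y.gr φ.toLinearMap) :
    LocCoh.IsGorensteinLocalRing (Localization.AtPrime m.toIdeal) := by
  refine gorensteinLocal_of_van hm hn (fun j hj g => ?_) I Y φ hY hφ
  obtain ⟨X, hess⟩ := exists_minimal_res (𝒜 := 𝒜) (M := R) 𝒜
  obtain ⟨κ, v, -, -, -, hgen, hcard⟩ := exists_socle_basis X hess hm j
  rw [bassNum_eq_zero_of_cohenMacaulay m.toIdeal hn hj] at hcard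
  haveI : IsEmpty κ := (ENat.card_eq_zero_iff_empty κ).1 hcard.symm
  refine (van_iff X j g).2 fun w hw => ?_
  obtain ⟨z, -, rfl⟩ := hw
  suffices hz : z.1 = 0 by rw [show z = 0 from Subtype.ext hz, map_zero]
  by_contra hz0
  obtain ⟨r, hr, hr0⟩ := exists_tors_ne_zero m.toIdeal z.2.1 hz0
  have := hgen hr
  rw [Set.range_eq_empty, Submodule.span_empty, Submodule.mem_bot] at this
  exact hr0 this

omit [DecidableEq ι] [Module.Free ℤ ι] [Module.Finite ℤ ι] [IsNoetherianRing R] in
theorem gorensteinLocal_congr {a b : Ideal R} [a.IsPrime] [b.IsPrime] (h : a = b)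
    (hG : LocCoh.IsGorensteinLocalRing (Localization.AtPrime a)) :
    LocCoh.IsGorensteinLocalRing (Localization.AtPrime b) := by
  subst h
  exact hG

/-- Gorenstein at the *maximal ideal suffices. -/
theorem gorensteinRing_of_starLocal (hm : GrLC.IsStarLocal 𝒜 m) [m.toIdeal.IsPrime]
    (hle : ∀ J : HomogeneousIdeal 𝒜, J ≠ ⊤ → J ≤ m) {n : ℕ} (hn : m.toIdeal.height = n)
    (hG : LocCoh.IsGorensteinLocalRing (Localization.AtPrime m.toIdeal)) : LocCoh.IsGorensteinRing R := by
  let A := Localization.AtPrime m.toIdeal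
  haveI := hG
  haveI : IsNoetherianRing A := IsLocalization.isNoetherianRing m.toIdeal.primeCompl _ inferInstance
  have hA : LocCoh.IsGorensteinRing A := ((Groth.Agent.S0345.result A).1 ⟨n + 1, GorLib.idlt_of_dim_le (by
    rw [IsLocalization.AtPrime.ringKrullDim_eq_height m.toIdeal A, hn]; rfl)⟩).1
  obtain ⟨l, hl⟩ := exists_linearOrder ι
  obtain rfl : ‹DecidableEq ι› = l.toDecidableEq := Subsingleton.elim _ _
  let _ := l
  have := hl
  refine ⟨fun p _ => ?_⟩
  let q := (Ideal.homogeneousCore 𝒜 p).toIdeal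
  haveI hq : q.IsPrime := Ideal.IsPrime.homogeneousCore (inferInstance : p.IsPrime)
  have hqm : q ≤ m.toIdeal := hle _ fun h => hq.ne_top (congrArg HomogeneousIdeal.toIdeal h)
  let Q := q.map (algebraMap R A)
  have hdis : Disjoint (m.toIdeal.primeCompl : Set R) q := Set.disjoint_left.2 fun x hx hxq => hx (hqm hxq)
  haveI : Q.IsPrime := IsLocalization.isPrime_of_isPrime_disjoint _ A q hq hdis
  have hQ : Q.comap (algebraMap R A) = q := IsLocalization.comap_map_of_isPrime_disjoint _ A hq hdis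
  have hGq : LocCoh.IsGorensteinLocalRing (Localization.AtPrime q) := by
    haveI := hA.isGorensteinLocalRing_localization Q
    have h1 : LocCoh.IsGorensteinLocalRing (Localization.AtPrime (Q.comap (algebraMap R A))) :=
      GorLib.gorenstein_of_ringEquiv
        (IsLocalization.localizationLocalizationAtPrimeIsoLocalization m.toIdeal.primeCompl Q).toRingEquiv
        inferInstance
    exact gorensteinLocal_congr hQ h1
  obtain ⟨d, hd⟩ := ENat.ne_top_iff_exists.1 (Ideal.height_ne_top (I := p.map (Ideal.Quotient.mk q))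
    (Ideal.map_isPrime_of_surjective Ideal.Quotient.mk_surjective
      (by rw [Ideal.mk_ker]; exact Ideal.toIdeal_homogeneousCore_le 𝒜 p)).ne_top)
  refine GorLib.gorenstein_of_idlt (n := n + d + 1) (GorLib.idlt_of_equiv (locSelfEquiv p)
    (GorLib.hasInjectiveDimensionLT_of_residueField fun i hi =>
      (Module.length_eq_zero_iff (R := Localization.AtPrime p)).1 ?_))
  show GrLC.bassNum p R i = 0
  have h := (bassNum_eq (𝒜 := 𝒜) 𝒜 p q (Ideal.homogeneousCore 𝒜 p).isHomogeneous
    (Ideal.toIdeal_homogeneousCore_le 𝒜 p) notMem_of_notMem_core d hd.symm).2 (i - d)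
  rw [Nat.sub_add_cancel (by omega)] at h
  rw [h]
  exact bassNum_eq_zero_of_gorensteinLocal q hGq ((Ideal.height_mono hqm).trans hn.le) (by omega)

end GrModLib
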