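import Groth.Agent.GrModLib.Canon
import Groth.Agent.GrModLib.CanonRees
import Groth.Agent.GrModLib.GorCrit
import Groth.Agent.CommAlgDim.DepthBounds

/-! Cutting a *canonical module by a regular sequence inside a given homogeneous ideal. -/

set_option autoImplicit false
universe u

open DirectSum CategoryTheory Pointwise

namespace GrModLib

variable {R : Type u} [CommRing R] [IsNoetherianRing R] {𝒜 : ℤ → AddSubgroup R} [GradedRing 𝒜]

/-- Homogeneous prime avoidance inside an ideal of positive degrees. -/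
theorem exists_pos_notMem_le (hpos : ∀ n : ℤ, n < 0 → 𝒜 n = ⊥) {S : Set (Ideal R)} (hfin : S.Finite)
    (hprime : ∀ p ∈ S, p.IsPrime) (J : HomogeneousIdeal 𝒜) (hJ : J ≤ posIdeal 𝒜)
    (hP : ∀ p ∈ S, ¬ J.toIdeal ≤ p) :
    ∃ (n : ℤ) (x : R), 0 < n ∧ x ∈ 𝒜 n ∧ x ∈ J.toIdeal ∧ ∀ p ∈ S, x ∉ p := by
  classical
  let core : Ideal R → Ideal R := fun p => (p.homogeneousCore 𝒜).toIdeal
  have hcle : ∀ p, core p ≤ p := fun p => Ideal.toIdeal_homogeneousCore_le 𝒜 p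
  let T : Finset (Ideal R) := hfin.toFinset.image core
  let s : Finset (Ideal R) := T.filter fun P => ∀ Q ∈ T, P ≤ Q → Q ≤ P
  have hsprop : ∀ P ∈ s, P.IsPrime ∧ P.IsHomogeneous 𝒜 ∧ ¬ J.toIdeal ≤ P := by
    intro P hPs
    obtain ⟨p, hp, rfl⟩ := Finset.mem_image.1 (Finset.mem_filter.1 hPs).1
    have hp' := hfin.mem_toFinset.1 hp
    exact ⟨(hprime p hp').homogeneousCore, (p.homogeneousCore 𝒜).isHomogeneous,
      fun h => hP p hp' (h.trans (hcle p))⟩
  have hanti : ∀ P ∈ s, ∀ Q ∈ s, P ≤ Q → P = Q := fun P hP Q hQ h =>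
    le_antisymm h ((Finset.mem_filter.1 hP).2 Q (Finset.mem_filter.1 hQ).1 h)
  have hpe : ∀ P ∈ s, ∃ (n : ℤ) (e : R), 0 < n ∧ e ∈ 𝒜 n ∧ e ∈ J.toIdeal ∧ e ∉ P ∧ ∀ Q ∈ s, Q ≠ P → e ∈ Q := by
    intro P hPs
    obtain ⟨hPp, -, hPi⟩ := hsprop P hPs
    obtain ⟨n₀, u, hun, hui, huP⟩ := exists_homogeneous_notMem J.isHomogeneous hPi
    have hn₀ : 0 < n₀ := by
      by_contra h
      rcases lt_or_eq_of_le (not_lt.1 h) with h' | h'
      · exact huP ((eq_zero_of_neg hpos h' hun) ▸ P.zero_mem)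
      · subst h'
        have hz := pr_zero_posIdeal hpos
        exact huP ((pr_self 𝒜 hun).symm.trans (hz u (hJ hui)) ▸ P.zero_mem)
    choose! n e he heI heP using fun Q (hQ : Q ∈ s.erase P) => exists_homogeneous_notMem
      (hsprop Q (Finset.mem_of_mem_erase hQ)).2.1
      (fun h => Finset.ne_of_mem_erase hQ (hanti Q (Finset.mem_of_mem_erase hQ) P hPs h))
    have hn : ∀ Q ∈ s.erase P, 0 ≤ n Q := fun Q hQ => by
      by_contra h
      exact heP Q hQ ((eq_zero_of_neg hpos (not_le.1 h) (he Q hQ)) ▸ P.zero_mem)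
    refine ⟨n₀ + ∑ Q ∈ s.erase P, n Q, u * ∏ Q ∈ s.erase P, e Q, by
        have := Finset.sum_nonneg hn
        omega, SetLike.mul_mem_graded hun (SetLike.prod_mem_graded 𝒜 _ _ he), Ideal.mul_mem_right _ _ hui, ?_,
        fun Q hQ hQP => ?_⟩
    · intro h
      rcases hPp.mem_or_mem h with h | h
      · exact huP h
      · haveI := hPp
        obtain ⟨Q, hQ, hQe⟩ := Ideal.IsPrime.prod_mem_iff.1 h
        exact heP Q hQ hQe
    · exact Ideal.mul_mem_left _ _ (Ideal.mem_of_dvd _ (Finset.dvd_prod_of_mem e (Finset.mem_erase.2 ⟨hQP, hQ⟩))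
        (heI Q (Finset.mem_erase.2 ⟨hQP, hQ⟩)))
  choose! n e hn he heJ heP heQ using hpe
  let L : ℕ := ∏ P ∈ s, (n P).toNat
  have hnN : ∀ P ∈ s, 0 < (n P).toNat := fun P hP => by have := hn P hP; omega
  have hL : 0 < L := Finset.prod_pos hnN
  have hdeg : ∀ P ∈ s, e P ^ (L / (n P).toNat) ∈ 𝒜 (L : ℤ) := fun P hP => by
    have h1 := SetLike.pow_mem_graded (L / (n P).toNat) (he P hP)
    have h2 : (L / (n P).toNat) • n P = (L : ℤ) := by
      have h3 : ((L / (n P).toNat * (n P).toNat : ℕ) : ℤ) = L :=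
        congrArg Nat.cast (Nat.div_mul_cancel (Finset.dvd_prod_of_mem (fun P => (n P).toNat) hP))
      rw [Nat.cast_mul, Int.toNat_of_nonneg (hn P hP).le] at h3
      rw [nsmul_eq_mul]; exact h3
    rwa [h2] at h1
  refine ⟨L, ∑ P ∈ s, e P ^ (L / (n P).toNat), by exact_mod_cast hL, AddSubgroup.sum_mem _ hdeg,
    Ideal.sum_mem _ fun P hP => Ideal.pow_mem_of_mem _ (heJ P hP) _
      (Nat.div_pos (Nat.le_of_dvd hL (Finset.dvd_prod_of_mem (fun P => (n P).toNat) hP)) (hnN P hP)), ?_⟩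
  intro p hp h
  obtain ⟨P, hPle, hPmax⟩ := T.exists_le_maximal (Finset.mem_image_of_mem core (hfin.mem_toFinset.2 hp))
  have hPs : P ∈ s := Finset.mem_filter.2 ⟨hPmax.prop, fun Q hQ hPQ => hPmax.le_of_ge hQ hPQ⟩
  have hhom : (∑ Q ∈ s, e Q ^ (L / (n Q).toNat)) ∈ core p := by
    exact Ideal.mem_homogeneousCore_of_homogeneous_of_mem ⟨(L : ℤ), AddSubgroup.sum_mem _ hdeg⟩ h
  have h' := hPle hhom
  rw [← Finset.add_sum_erase _ _ hPs] at h'
  have h2 : (∑ Q ∈ s.erase P, e Q ^ (L / (n Q).toNat)) ∈ P := Ideal.sum_mem _ fun Q hQ =>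
    Ideal.pow_mem_of_mem _ (heQ Q (Finset.mem_of_mem_erase hQ) P hPs (Finset.ne_of_mem_erase hQ).symm) _
      (Nat.div_pos (Nat.le_of_dvd hL (Finset.dvd_prod_of_mem (fun P => (n P).toNat) (Finset.mem_of_mem_erase hQ)))
        (hnN Q (Finset.mem_of_mem_erase hQ)))
  exact heP P hPs ((hsprop P hPs).1.mem_of_pow_mem _ ((Ideal.add_mem_iff_left _ h2).1 h'))

/-- The depth of the localisation at the irrelevant ideal forces regular elements in small ideals. -/
theorem exists_regular_of_depth (hpos : ∀ n : ℤ, n < 0 → 𝒜 n = ⊥) (h0 : IsField (GrLC.deg0 𝒜))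
    [(posIdeal 𝒜).toIdeal.IsPrime] (J : HomogeneousIdeal 𝒜) (hJ : J ≤ posIdeal 𝒜) {d' : ℕ}
    (hJdim : ringKrullDim (R ⧸ J.toIdeal) ≤ (d' : ℕ)) (N : GrLC.GMod.{u} 𝒜) [Module.Finite R N.carrier] {d : ℕ}
    (hd : d' < d) (hdepth : CommAlgDim.HasSeqIn (IsLocalRing.maximalIdeal (Localization.AtPrime (posIdeal 𝒜).toIdeal))
      (LocalizedModule (posIdeal 𝒜).toIdeal.primeCompl N.carrier) d) :
    ∃ (k : ℤ) (x : R), 0 < k ∧ x ∈ 𝒜 k ∧ x ∈ J.toIdeal ∧ IsSMulRegular N.carrier x := by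
  let s := (posIdeal 𝒜).toIdeal
  have hkill : ∀ (g : ℤ) (m : N.carrier), m ∈ N.gr g → (∀ r ∈ J.toIdeal, r • m = 0) → m = 0 := by
    intro g m hm hJm
    by_contra hne
    obtain ⟨g', v, q, -, hv, hqp, hqv, hle⟩ := exists_prime_annihilator (𝒜 := 𝒜) N.gr hm hne
    haveI := hqp
    have hJq : J.toIdeal ≤ q.toIdeal := fun r hr =>
      hle ((Submodule.mem_annihilator_span_singleton _ _).2 (hJm r hr))
    have hqs : q.toIdeal ≤ s := le_of_starLocal (isStarLocal_posIdeal hpos h0) q fun h =>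
      hqp.ne_top (by rw [h]; rfl)
    have hass : q.toIdeal ∈ associatedPrimes R N.carrier :=
      (isAssociatedPrime_iff (R := R) (I := q.toIdeal) (M := N.carrier)).2 ⟨hqp, v, by
        ext r
        rw [Submodule.mem_colon_singleton, Submodule.mem_bot, ← hqv, Submodule.mem_annihilator_span_singleton]⟩
    let B := Localization.AtPrime s
    let Q := q.toIdeal.map (algebraMap R B)
    have hQc : Q.comap (algebraMap R B) = q.toIdeal := IsLocalization.comap_map_of_isPrime_disjoint s.primeCompl B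
      hqp (Set.disjoint_left.2 fun a ha hb => ha (hqs hb))
    have hQass : Q ∈ associatedPrimes B (LocalizedModule s.primeCompl N.carrier) :=
      Module.associatedPrimes.mem_associatedPrimes_of_comap_mem_associatedPrimes_of_isLocalizedModule s.primeCompl
        (LocalizedModule.mkLinearMap s.primeCompl N.carrier) Q (hQc.symm ▸ hass)
    have h1 : (d : WithBot ℕ∞) ≤ ringKrullDim (B ⧸ Q) :=
      CommAlgDim.depth_le_ringKrullDim_quotient hQass hdepth
    haveI : (s.map (Ideal.Quotient.mk q.toIdeal)).IsPrime :=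
      Ideal.map_isPrime_of_surjective Ideal.Quotient.mk_surjective (by rwa [Ideal.mk_ker])
    have h2 := h1.trans ((CommAlgDim.ringKrullDim_quotient_map_le q.toIdeal s hqs).trans
      (Ideal.height_le_ringKrullDim_of_isPrime.trans ((ringKrullDim_le_of_surjective (Ideal.Quotient.factor hJq)
        (Ideal.Quotient.factor_surjective _)).trans hJdim)))
    exact absurd (show d ≤ d' by exact_mod_cast h2) (not_le.2 hd)
  obtain ⟨k, x, hk, hx, hxJ, hnot⟩ := exists_pos_notMem_le hpos (associatedPrimes.finite R N.carrier)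
    (fun p hp => IsAssociatedPrime.isPrime hp) J hJ fun p hp hle => by
      obtain ⟨hpp, v, hv⟩ := (isAssociatedPrime_iff (R := R) (I := p) (M := N.carrier)).1 hp
      refine hpp.ne_top ((Ideal.eq_top_iff_one _).2 ?_)
      rw [hv, Submodule.mem_colon_singleton, Submodule.mem_bot, one_smul]
      refine pr_ext N.gr fun g => ?_
      rw [map_zero]
      refine hkill g _ (pr_mem N.gr g v) fun r hr => ?_
      obtain ⟨t, -, ht⟩ := exists_finset 𝒜 r
      rw [← ht, Finset.sum_smul]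
      refine Finset.sum_eq_zero fun i _ => ?_
      have hrv : pr 𝒜 i r • v = 0 := by
        have h1 := hle (J.isHomogeneous i hr)
        rw [hv, Submodule.mem_colon_singleton, Submodule.mem_bot] at h1
        exact h1
      have h1 := pr_smul_add 𝒜 N.gr (pr_mem 𝒜 i r) g v
      rw [hrv, map_zero] at h1
      exact h1.symm
  exact ⟨k, x, hk, hx, hxJ, isSMulRegular_of_notMem hnot⟩

/-- Dividing by a given homogeneous regular element, keeping track of degrees. -/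
theorem canon_step_at (hpos : ∀ n : ℤ, n < 0 → 𝒜 n = ⊥) (h0 : IsField (GrLC.deg0 𝒜)) (E : GrLC.GMod.{u} 𝒜)
    {e : (R ⧸ (posIdeal 𝒜).toIdeal) →ₗ[R] E.carrier}
    (he : GrLC.IsStarInjHull 𝒜 (GrLC.quotGr 𝒜 (posIdeal 𝒜)) E.gr e) {d : ℕ} (N C : GrLC.GMod.{u} 𝒜)
    [hNf : Module.Finite R N.carrier] [hCf : Module.Finite R C.carrier] (I : GrLC.StarInjRes 𝒜 N.gr)
    (hvan : ∀ j, j < d + 1 → ∀ m, Van (posIdeal 𝒜) N.gr j m)
    (hdim : Module.supportDim R N.carrier ≤ ((d + 1 : ℕ) : WithBot ℕ∞)) (c : ℤ)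
    (Φ : (C.carrier →ₗ[R] E.carrier) ≃ₗ[R] I.H (posIdeal 𝒜) (d + 1))
    (hΦ : ∀ (g : ℤ) (χ : C.carrier →ₗ[R] E.carrier), GrLC.IsGrHomDeg C.gr E.gr χ g →
      Φ χ ∈ I.Hgr (posIdeal 𝒜) (d + 1) (g + c))
    {k : ℤ} {x : R} (hx : x ∈ 𝒜 k) (hxm : x ∈ (posIdeal 𝒜).toIdeal) (hxr : IsSMulRegular N.carrier x) :
    ∃ (Q C' : GrLC.GMod.{u} 𝒜) (π : N.carrier →ₗ[R] Q.carrier) (ρ : C.carrier →ₗ[R] C'.carrier)
      (F : GrLC.StarInjRes 𝒜 Q.gr) (Φ' : (C'.carrier →ₗ[R] E.carrier) ≃ₗ[R] F.H (posIdeal 𝒜) d),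
      IsSMulRegular C.carrier x ∧ GrLC.IsGrHom N.gr Q.gr π ∧ Function.Surjective π ∧
      LinearMap.ker π = LinearMap.range (x • (LinearMap.id : N.carrier →ₗ[R] N.carrier)) ∧
      Function.Surjective ρ ∧
      LinearMap.ker ρ = LinearMap.range (x • (LinearMap.id : C.carrier →ₗ[R] C.carrier)) ∧
      Module.Finite R Q.carrier ∧ Module.Finite R C'.carrier ∧
      (∀ j, j < d → ∀ m, Van (posIdeal 𝒜) Q.gr j m) ∧ Module.supportDim R Q.carrier ≤ ((d : ℕ) : WithBot ℕ∞) ∧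
      ∀ (g : ℤ) (χ : C'.carrier →ₗ[R] E.carrier), GrLC.IsGrHomDeg C'.gr E.gr χ g →
        Φ' χ ∈ F.Hgr (posIdeal 𝒜) d (g + (c + k)) := by
  let q := (posIdeal 𝒜).toIdeal
  have hxN : GrLC.IsGrHomDeg N.gr N.gr (x • (LinearMap.id : N.carrier →ₗ[R] N.carrier)) k := fun g v hv => by
    rw [add_comm]; exact smul_mem 𝒜 N.gr hx hv
  let S := LinearMap.range (x • (LinearMap.id : N.carrier →ₗ[R] N.carrier))
  let Q := quotG 𝒜 (ℳ := N.gr) S (range_isHomogeneous_deg hxN)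
  haveI : Module.Finite R Q.carrier := finite_quotG N S _
  have hπ : GrLC.IsGrHomDeg N.gr Q.gr S.mkQ 0 := fun g v hv => by rw [add_zero]; exact ⟨v, hv, rfl⟩
  have hvQ : ∀ j, j < d → ∀ m, Van (posIdeal 𝒜) Q.gr j m :=
    (end_step (a := posIdeal 𝒜) hpos N Q hx hxm hxr S.mkQ (fun g v hv => ⟨v, hv, rfl⟩) S.mkQ_surjective
      S.ker_mkQ hvan).1
  have hdimQ : Module.supportDim R Q.carrier ≤ (d : ℕ) := by
    have hSx : S = x • (⊤ : Submodule R N.carrier) := by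
      ext z
      rw [Submodule.mem_smul_pointwise_iff_exists]
      exact ⟨fun ⟨v, hv⟩ => ⟨v, Submodule.mem_top, hv⟩, fun ⟨v, _, hv⟩ => ⟨v, hv⟩⟩
    have h1 := (Module.supportDim_quotSMulTop_succ_le_of_notMem_minimalPrimes
      (fun _ => hxr.notMem_of_mem_minimalPrimes)).trans hdim
    have h2 : Module.supportDim R (N.carrier ⧸ S) = Module.supportDim R (QuotSMulTop x N.carrier) :=
      Module.supportDim_eq_of_equiv (Submodule.quotEquivOfEq _ _ hSx)
    show Module.supportDim R (N.carrier ⧸ S) ≤ _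
    rw [h2]
    revert h1
    generalize Module.supportDim R (QuotSMulTop x N.carrier) = w
    rcases w with _ | _ | w <;> intro h1
    · exact bot_le
    · exact absurd (WithBot.coe_le_coe.1 h1) (WithTop.coe_lt_top (d + 1)).not_ge
    · refine WithBot.coe_le_coe.2 (WithTop.coe_le_coe.2 ?_)
      exact Nat.le_of_succ_le_succ (WithTop.coe_le_coe.1 (WithBot.coe_le_coe.1 h1))
  obtain ⟨F⟩ := nonempty_resG Q
  obtain ⟨δ, hδ, -, hle⟩ := exists_lesG N N Q (x • (LinearMap.id : N.carrier →ₗ[R] N.carrier)) S.mkQ hxN hπ hxr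
    S.mkQ_surjective S.ker_mkQ I I F (posIdeal 𝒜)
  have hHx : ∀ z : I.H (posIdeal 𝒜) (d + 1),
      Hmap I I (posIdeal 𝒜) (x • (LinearMap.id : N.carrier →ₗ[R] N.carrier)) k hxN (d + 1) z = x • z := fun z => by
    rw [Hmap_smul I (posIdeal 𝒜) x hxN hx]; rfl
  have hδinj : Function.Injective (δ d) := (injective_iff_map_eq_zero _).2 fun z hz => by
    obtain ⟨y, rfl⟩ := ((hle d).2.1 z).1 hz
    rw [H_eq_zero_of_van N I (hvan d (Nat.lt_succ_self d)) y, map_zero]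
  haveI hFtop : Subsingleton (F.H (posIdeal 𝒜) (d + 1)) := by
    obtain ⟨eH⟩ := nonempty_H_equiv F (posIdeal 𝒜) (d + 1)
    haveI := LocCohLib.subsingleton_H_of_supportDim_lt (I := q) (d + 1) Q.carrier
      (hdimQ.trans_lt (by exact_mod_cast d.lt_succ_self))
    exact eH.toEquiv.subsingleton
  have hxsurj : ∀ z : I.H (posIdeal 𝒜) (d + 1), ∃ w, x • w = z := fun z => by
    obtain ⟨w, hw⟩ := ((hle (d + 1)).1 z).1 (Subsingleton.elim _ _)
    exact ⟨w, (hHx w).symm.trans hw⟩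
  have hxC : IsSMulRegular C.carrier x := isSMulRegular_iff_right_eq_zero_of_smul.2 fun c hc => by
    by_contra hne
    obtain ⟨χ, hχ⟩ := exists_hom_ne_zero hpos h0 he C hne
    obtain ⟨w, hw⟩ := hxsurj (Φ χ)
    refine hχ ?_
    rw [show χ = x • Φ.symm w from Φ.injective (by rw [map_smul, LinearEquiv.apply_symm_apply, hw]),
      LinearMap.smul_apply, ← map_smul, hc, map_zero]
  have hxC' : GrLC.IsGrHomDeg C.gr C.gr (x • (LinearMap.id : C.carrier →ₗ[R] C.carrier)) k := fun g v hv => by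
    rw [add_comm]; exact smul_mem 𝒜 C.gr hx hv
  let T := LinearMap.range (x • (LinearMap.id : C.carrier →ₗ[R] C.carrier))
  let C' := quotG 𝒜 (ℳ := C.gr) T (range_isHomogeneous_deg hxC')
  haveI : Module.Finite R C'.carrier := finite_quotG C T _
  let L : (C'.carrier →ₗ[R] E.carrier) →ₗ[R] (C.carrier →ₗ[R] E.carrier) := LinearMap.lcomp R E.carrier T.mkQ
  have hLinj : Function.Injective L := LinearMap.lcomp_injective_of_surjective _ T.mkQ_surjective
  let G := Φ.toLinearMap ∘ₗ L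
  have hGr : ∀ χ, G χ ∈ LinearMap.range (δ d) := fun χ => by
    refine ((hle d).2.2 _).1 ?_
    rw [hHx]
    show x • Φ (L χ) = 0
    rw [← map_smul, show x • L χ = 0 from LinearMap.ext fun v => ?_, map_zero]
    show x • χ (T.mkQ v) = 0
    refine (map_smul χ x (T.mkQ v)).symm.trans ?_
    exact (congrArg χ ((T.mkQ.map_smul x v).symm.trans ((Submodule.Quotient.mk_eq_zero T).2 ⟨v, rfl⟩))).trans
      (map_zero χ)
  let δ' := LinearEquiv.ofInjective (δ d) hδinj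
  let Φ' : (C'.carrier →ₗ[R] E.carrier) ≃ₗ[R] F.H (posIdeal 𝒜) d :=
    (LinearEquiv.ofBijective (G.codRestrict (LinearMap.range (δ d)) hGr)
      ⟨fun a b h => hLinj (Φ.injective (congrArg Subtype.val h)), fun z => by
        obtain ⟨w, hw⟩ := z.2
        have h1 : x • Φ.symm z.1 = 0 := Φ.injective (by
          rw [map_smul, LinearEquiv.apply_symm_apply, map_zero, ← hHx]
          exact ((hle d).2.2 _).2 ⟨w, hw⟩)
        have hk : T ≤ LinearMap.ker (Φ.symm z.1) := by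
          rintro _ ⟨v, rfl⟩
          show Φ.symm z.1 (x • v) = 0
          rw [map_smul]
          exact LinearMap.congr_fun h1 v
        refine ⟨T.liftQ (Φ.symm z.1) hk, Subtype.ext ?_⟩
        exact (congrArg Φ (T.liftQ_mkQ (Φ.symm z.1) hk)).trans (Φ.apply_symm_apply _)⟩).trans δ'.symm
  refine ⟨Q, C', S.mkQ, T.mkQ, F, Φ', hxC, fun g v hv => ⟨v, hv, rfl⟩, S.mkQ_surjective, S.ker_mkQ,
    T.mkQ_surjective, T.ker_mkQ, inferInstance, inferInstance, hvQ, hdimQ, fun g χ hχ => ?_⟩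
  have hLχ : GrLC.IsGrHomDeg C.gr E.gr (L χ) g := fun j v hv => hχ j _ ⟨v, hv, rfl⟩
  obtain ⟨w, hw, hwe⟩ := preimage_homogeneous (hδ d) (g := g + (c + k)) (y := G χ)
    (by rw [show g + (c + k) + -(k + 0) = g + c by ring]; exact hΦ g _ hLχ) (hGr χ)
  have h1 : δ d (Φ' χ) = G χ := congrArg Subtype.val (δ'.apply_symm_apply ⟨G χ, hGr χ⟩)
  rwa [show Φ' χ = w from hδinj (h1.trans hwe.symm)]

/-- Depth after dividing by a regular element. -/
theorem hasSeqIn_step [(posIdeal 𝒜).toIdeal.IsPrime] (N Q : GrLC.GMod.{u} 𝒜) [Module.Finite R N.carrier] {x : R}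
    (hxm : x ∈ (posIdeal 𝒜).toIdeal) (hxr : IsSMulRegular N.carrier x) (π : N.carrier →ₗ[R] Q.carrier)
    (hπ : Function.Surjective π)
    (hker : LinearMap.ker π = LinearMap.range (x • (LinearMap.id : N.carrier →ₗ[R] N.carrier))) {d : ℕ}
    (h : CommAlgDim.HasSeqIn (IsLocalRing.maximalIdeal (Localization.AtPrime (posIdeal 𝒜).toIdeal))
      (LocalizedModule (posIdeal 𝒜).toIdeal.primeCompl N.carrier) (d + 1)) :
    CommAlgDim.HasSeqIn (IsLocalRing.maximalIdeal (Localization.AtPrime (posIdeal 𝒜).toIdeal))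
      (LocalizedModule (posIdeal 𝒜).toIdeal.primeCompl Q.carrier) d := by
  let S := (posIdeal 𝒜).toIdeal.primeCompl
  let B := Localization.AtPrime (posIdeal 𝒜).toIdeal
  have hreg : IsSMulRegular (LocalizedModule S N.carrier) (algebraMap R B x) := by
    have h1 := LocalizedModule.map_injective S (x • LinearMap.id : N.carrier →ₗ[R] N.carrier) (fun a b h => hxr h)
    rw [localized_smul_id] at h1
    exact h1
  have hSx : x • (⊤ : Submodule R N.carrier) = LinearMap.ker π := by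
    rw [hker]
    ext z
    rw [Submodule.mem_smul_pointwise_iff_exists]
    exact ⟨fun ⟨v, _, hv⟩ => ⟨v, hv⟩, fun ⟨v, hv⟩ => ⟨v, Submodule.mem_top, hv⟩⟩
  let ε : QuotSMulTop x N.carrier ≃ₗ[R] Q.carrier :=
    (Submodule.quotEquivOfEq _ _ hSx).trans (π.quotKerEquivOfSurjective hπ)
  let a := LocalizedModule.map S ε.toLinearMap
  have ha : Function.Bijective a := ⟨LocalizedModule.map_injective S _ ε.injective,
    LocalizedModule.map_surjective S _ ε.surjective⟩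
  obtain ⟨e⟩ := CommAlgDim.exists_quot_equiv (M := N.carrier) (posIdeal 𝒜).toIdeal x
  exact CommAlgDim.HasSeqIn.congr (e.symm.trans (LinearEquiv.ofBijective a ha))
    (CommAlgDim.HasSeqIn.quotSMulTop ((IsLocalization.AtPrime.to_map_mem_maximal_iff B _ x).2 hxm) hreg h)

/-- Cutting down to a cyclic module of the right dimension, shifting `Ext`. -/
theorem exists_descent (hpos : ∀ n : ℤ, n < 0 → 𝒜 n = ⊥) (h0 : IsField (GrLC.deg0 𝒜))
    [(posIdeal 𝒜).toIdeal.IsPrime] (E : GrLC.GMod.{u} 𝒜) {e : (R ⧸ (posIdeal 𝒜).toIdeal) →ₗ[R] E.carrier}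
    (he : GrLC.IsStarInjHull 𝒜 (GrLC.quotGr 𝒜 (posIdeal 𝒜)) E.gr e)
    (J : HomogeneousIdeal 𝒜) (hJ : J ≤ posIdeal 𝒜) {n' : ℕ} (hJdim : ringKrullDim (R ⧸ J.toIdeal) ≤ (n' : ℕ))
    (M : Type u) [AddCommGroup M] [Module R M] (hM : ∀ r ∈ J.toIdeal, ∀ m : M, r • m = 0) :
    ∀ (t : ℕ) (N C : GrLC.GMod.{u} 𝒜), Module.Finite R N.carrier → Module.Finite R C.carrier →
      ∀ (I : GrLC.StarInjRes 𝒜 N.gr) (g₀ : N.carrier), g₀ ∈ N.gr 0 → (∀ y, ∃ r : R, r • g₀ = y) →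
      (∀ r : R, r • g₀ = 0 → r ∈ J.toIdeal) → (∀ j, j < n' + t → ∀ m, Van (posIdeal 𝒜) N.gr j m) →
      Module.supportDim R N.carrier ≤ ((n' + t : ℕ) : WithBot ℕ∞) →
      CommAlgDim.HasSeqIn (IsLocalRing.maximalIdeal (Localization.AtPrime (posIdeal 𝒜).toIdeal))
        (LocalizedModule (posIdeal 𝒜).toIdeal.primeCompl N.carrier) (n' + t) →
      ∀ (c : ℤ) (Φ : (C.carrier →ₗ[R] E.carrier) ≃ₗ[R] I.H (posIdeal 𝒜) (n' + t)),
      (∀ (g : ℤ) (χ : C.carrier →ₗ[R] E.carrier), GrLC.IsGrHomDeg C.gr E.gr χ g →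
        Φ χ ∈ I.Hgr (posIdeal 𝒜) (n' + t) (g + c)) →
      (∀ i, i < t → Subsingleton (Abelian.Ext.{u} (ModuleCat.of R M) (ModuleCat.of R C.carrier) i)) ∧
      ∃ (N₀ C₀ : GrLC.GMod.{u} 𝒜) (F : GrLC.StarInjRes 𝒜 N₀.gr) (g₁ : N₀.carrier) (c₀ : ℤ)
        (Φ₀ : (C₀.carrier →ₗ[R] E.carrier) ≃ₗ[R] F.H (posIdeal 𝒜) n'),
        Module.Finite R N₀.carrier ∧ Module.Finite R C₀.carrier ∧ g₁ ∈ N₀.gr 0 ∧
        (∀ y, ∃ r : R, r • g₁ = y) ∧ (∀ r : R, r • g₁ = 0 → r ∈ J.toIdeal) ∧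
        Module.supportDim R N₀.carrier ≤ (n' : ℕ) ∧
        (∀ (g : ℤ) (χ : C₀.carrier →ₗ[R] E.carrier), GrLC.IsGrHomDeg C₀.gr E.gr χ g →
          Φ₀ χ ∈ F.Hgr (posIdeal 𝒜) n' (g + c₀)) ∧
        Nonempty ((M →ₗ[R] C₀.carrier) ≃ₗ[R] Abelian.Ext.{u} (ModuleCat.of R M) (ModuleCat.of R C.carrier) t) := by
  intro t
  induction t with
  | zero =>
    intro N C hNf hCf I g₀ hg₀ hgen hann hvan hdim _ c Φ hΦ
    exact ⟨fun i hi => absurd hi (Nat.not_lt_zero i), N, C, I, g₀, c, Φ, hNf, hCf, hg₀, hgen, hann, hdim, hΦ,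
      ⟨((ModuleCat.homLinearEquiv (S := R) (M := ModuleCat.of R M) (N := ModuleCat.of R C.carrier)).symm).trans
        (Abelian.Ext.linearEquiv₀ (R := R) (X := ModuleCat.of R M) (Y := ModuleCat.of R C.carrier)).symm⟩⟩
  | succ t ih =>
    intro N C hNf hCf I g₀ hg₀ hgen hann hvan hdim hdepth c Φ hΦ
    obtain ⟨k, x, -, hx, hxJ, hxr⟩ := exists_regular_of_depth hpos h0 J hJ hJdim N
      (show n' < n' + (t + 1) by omega) hdepth
    obtain ⟨Q, C', π, ρ, F, Φ', hxC, hπd, hπs, hπk, hρs, hρk, hQf, hC'f, hvQ, hdimQ, hΦ'⟩ :=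
      canon_step_at hpos h0 E he (d := n' + t) N C I hvan hdim c Φ hΦ hx (hJ hxJ) hxr
    obtain ⟨hlow, N₀, C₀, F₀, g₁, c₀, Φ₀, h1, h2, h3, h4, h5, h6, h7, ⟨ω⟩⟩ :=
      ih Q C' hQf hC'f F (π g₀) (hπd 0 g₀ hg₀)
        (fun y => by
          obtain ⟨z, rfl⟩ := hπs y
          obtain ⟨r, rfl⟩ := hgen z
          exact ⟨r, (map_smul π r g₀).symm⟩)
        (fun r hr => by
          rw [← map_smul, ← LinearMap.mem_ker, hπk] at hr
          obtain ⟨y, hy⟩ := hr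
          obtain ⟨s, rfl⟩ := hgen y
          have h1 : (r - x * s) • g₀ = 0 := by
            rw [sub_smul, mul_smul]
            exact sub_eq_zero.2 hy.symm
          have h2 := J.toIdeal.add_mem (hann _ h1) (J.toIdeal.mul_mem_right s hxJ)
          rwa [sub_add_cancel] at h2)
        hvQ hdimQ (hasSeqIn_step N Q (hJ hxJ) hxr π hπs hπk hdepth) (c + k) Φ' hΦ'
    have hM' : ∀ m : M, x • m = 0 := hM x hxJ
    have hz := subsingleton_ext_zero hM' hxC
    have hlow' : ∀ i, i < t + 1 → Subsingleton (Abelian.Ext.{u} (ModuleCat.of R M) (ModuleCat.of R C.carrier) i) := by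
      intro i hi
      cases i with
      | zero => exact hz
      | succ i =>
        obtain ⟨δ, hδs, -⟩ := exists_ext_shift hM' ρ hxC hρs hρk i
        haveI := hlow i (by omega)
        exact hδs.subsingleton
    obtain ⟨δ, hδs, hδi⟩ := exists_ext_shift hM' ρ hxC hρs hρk t
    exact ⟨hlow', N₀, C₀, F₀, g₁, c₀, Φ₀, h1, h2, h3, h4, h5, h6, h7,
      ⟨ω.trans (LinearEquiv.ofBijective δ ⟨hδi (hlow' t (Nat.lt_succ_self t)), hδs⟩)⟩⟩

end GrModLib
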