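import Groth.Agent.GrModLib.CanonFinite
import Groth.Agent.GrModLib.CanonSeq
import Groth.Agent.CommAlgDim.Integral
import Groth.Prelude.Def_CAlg

/-! The *canonical module of a finite algebra as an `Ext`. -/

set_option autoImplicit false
universe u

open DirectSum CategoryTheory

namespace GrModLib

variable {R : Type u} [CommRing R] [LocCoh.IsCohenMacaulayRing R] {𝒜 : ℤ → AddSubgroup R} [GradedRing 𝒜]
  {S : Type u} [CommRing S] [IsNoetherianRing S] [Algebra R S] [Module.Finite R S] {𝒜' : ℤ → AddSubgroup S}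
  [GradedRing 𝒜']

/-- The canonical module of a finite algebra over a Cohen–Macaulay ring. -/
theorem exists_canon_ext (hpos : ∀ n : ℤ, n < 0 → 𝒜 n = ⊥) (h0 : IsField (GrLC.deg0 𝒜)) (E : GrLC.GMod.{u} 𝒜)
    {e : (R ⧸ (posIdeal 𝒜).toIdeal) →ₗ[R] E.carrier}
    (he : GrLC.IsStarInjHull 𝒜 (GrLC.quotGr 𝒜 (posIdeal 𝒜)) E.gr e) (C : GrLC.GMod.{u} 𝒜) {n : ℕ}
    (hn : ringKrullDim R = n) (I : GrLC.StarInjRes 𝒜 𝒜)
    (hC : GrLC.IsStarCanonical 𝒜 C.gr E.gr (posIdeal 𝒜) n I)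
    (hf : ∀ j, (𝒜 j).map (algebraMap R S : R →+ S) ≤ 𝒜' j)
    (hf0 : (𝒜 0).map (algebraMap R S : R →+ S) = 𝒜' 0)
    (hpos' : ∀ n : ℤ, n < 0 → 𝒜' n = ⊥) (h0' : IsField (GrLC.deg0 𝒜')) (E'' : GrLC.GMod.{u} 𝒜')
    {e' : (S ⧸ (posIdeal 𝒜').toIdeal) →ₗ[S] E''.carrier}
    (he' : GrLC.IsStarInjHull 𝒜' (GrLC.quotGr 𝒜' (posIdeal 𝒜')) E''.gr e') (C' : GrLC.GMod.{u} 𝒜') {n' : ℕ}
    (hn' : ringKrullDim S = n') (I' : GrLC.StarInjRes 𝒜' 𝒜')
    (hC' : GrLC.IsStarCanonical 𝒜' C'.gr E''.gr (posIdeal 𝒜') n' I') :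
    Nonempty ((restrG hf C').carrier ≃ₗ[R]
      Abelian.Ext.{u} (ModuleCat.of R S) (ModuleCat.of R C.carrier) (n - n')) := by
  haveI : Nontrivial S := by
    by_contra h
    haveI := not_nontrivial_iff_subsingleton.1 h
    rw [ringKrullDim_eq_bot_of_subsingleton] at hn'
    exact WithBot.bot_ne_natCast n' hn'
  obtain ⟨hCf, φC, hφC⟩ := hC
  obtain ⟨hCf', φC', hφC'⟩ := hC'
  have hm := isStarLocal_posIdeal (𝒜 := 𝒜) hpos h0
  haveI hmax := isMaximal_of_starLocal hpos hm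
  haveI : (posIdeal 𝒜).toIdeal.IsPrime := hmax.isPrime
  -- the kernel
  let J : HomogeneousIdeal 𝒜 := ⟨RingHom.ker (algebraMap R S), fun g r hr => by
    show algebraMap R S (pr 𝒜 g r) = 0
    have h1 : algebraMap R S (pr 𝒜 g r) = pr 𝒜' g (algebraMap R S r) := by
      clear hr
      induction r using induction 𝒜 with
      | h0 => simp
      | hadd a b ha hb => simp [ha, hb]
      | hmem j a ha =>
        have hmem : algebraMap R S a ∈ 𝒜' j := hf j ⟨a, ha, rfl⟩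
        by_cases h : j = g
        · subst h; rw [pr_self 𝒜 ha, pr_self 𝒜' hmem]
        · rw [pr_ne 𝒜 ha h, map_zero, pr_ne 𝒜' hmem h]
    rw [h1, RingHom.mem_ker.1 hr, map_zero]⟩
  have hJ : J ≤ posIdeal 𝒜 := le_of_starLocal hm J fun h => by
    have h1 : (1 : R) ∈ J.toIdeal := by rw [h]; exact Submodule.mem_top
    exact one_ne_zero ((map_one (algebraMap R S)).symm.trans (RingHom.mem_ker.1 h1))
  -- dimensions
  letI : Algebra (R ⧸ J.toIdeal) S := (RingHom.kerLift (algebraMap R S)).toAlgebra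
  haveI : IsScalarTower R (R ⧸ J.toIdeal) S := IsScalarTower.of_algebraMap_eq fun r => rfl
  haveI : Module.Finite (R ⧸ J.toIdeal) S := Module.Finite.of_restrictScalars_finite R (R ⧸ J.toIdeal) S
  have hJdim : ringKrullDim (R ⧸ J.toIdeal) = (n' : ℕ) := (CommAlgDim.ringKrullDim_eq_of_integral (R ⧸ J.toIdeal) S
    (RingHom.kerLift_injective (algebraMap R S))).symm.trans hn'
  have hle : n' ≤ n := by
    have h1 := ringKrullDim_le_of_surjective (Ideal.Quotient.mk J.toIdeal) Ideal.Quotient.mk_surjective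
    rw [hJdim, hn] at h1
    exact_mod_cast h1
  obtain ⟨t, rfl⟩ := Nat.exists_eq_add_of_le hle
  rw [Nat.add_sub_cancel_left]
  -- depth at the irrelevant ideal
  let B := Localization.AtPrime (posIdeal 𝒜).toIdeal
  haveI : LocCoh.IsCohenMacaulayLocalRing B :=
    LocCoh.IsCohenMacaulayRing.isCohenMacaulayLocalRing_localization _
  have hdB : (LocCoh.depth B B : WithBot ℕ∞) = ((n' + t : ℕ) : WithBot ℕ∞) := by
    rw [← LocCoh.IsCohenMacaulayLocalRing.supportDim_eq_depth, Module.supportDim_self_eq_ringKrullDim,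
      IsLocalization.AtPrime.ringKrullDim_eq_height (posIdeal 𝒜).toIdeal B, ← ringKrullDim_eq_height hpos hm, hn]
  have hdepth := CommAlgDim.HasSeqIn.congr (locSelfEquiv (posIdeal 𝒜).toIdeal).symm
    ((CommAlgDim.le_depth_iff (R := B) (M := B) (n' + t)).1 (by
      have h1 : LocCoh.depth B B = ((n' + t : ℕ) : ℕ∞) := by exact_mod_cast hdB
      exact h1.ge))
  let N := GrLC.GMod.of 𝒜 R 𝒜
  haveI hNf : Module.Finite R N.carrier := inferInstanceAs (Module.Finite R R)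
  obtain ⟨-, N₀, C₀, F, g₁, c₀, Φ₀, h1, h2, h3, h4, h5, h6, h7, ⟨ω⟩⟩ :=
    exists_descent hpos h0 E he J hJ hJdim.le S (fun r hr s => by
      rw [Algebra.smul_def, RingHom.mem_ker.1 hr, zero_mul]) t N C hNf hCf I (1 : R) (SetLike.one_mem_graded 𝒜)
      (fun (y : R) => ⟨y, mul_one y⟩) (fun r (hr : r * 1 = 0) => by
        have h1 : r = 0 := (mul_one r).symm.trans hr
        rw [h1]; exact zero_mem _)
      (fun j hj m => van_below_dim hpos hm hn j hj m) ((Module.supportDim_le_ringKrullDim R R).trans hn.le)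
      hdepth 0 φC (fun g χ hχ => by rw [add_zero]; exact hφC g χ hχ)
  haveI := h1
  haveI := h2
  haveI := hCf'
  obtain ⟨ν⟩ := exists_finite_equiv hf E E'' C₀ hpos h0 he hpos' h0' hf0 he' N₀ h3 h4
    (fun r hr => RingHom.mem_ker.1 (h5 r hr)) h6 F c₀ Φ₀ h7 C' I' φC' hφC'
  exact ⟨ν.trans ω⟩

end GrModLib
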