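import Groth.Agent.GrModLib.Canon

/-! Top graded local cohomology of modules over a cyclic module, by generators and relations. -/

set_option autoImplicit false
universe u

open DirectSum

namespace GrModLib

section Additive

variable {ι : Type} [AddCommGroup ι] [DecidableEq ι] {R : Type u} [CommRing R] {𝒜 : ι → AddSubgroup R}
  [GradedRing 𝒜] {X Y : GrLC.GMod.{u} 𝒜} (E : GrLC.StarInjRes 𝒜 X.gr) (F : GrLC.StarInjRes 𝒜 Y.gr)
  (a : HomogeneousIdeal 𝒜)

theorem Hmap_zero {d : ι} (h : GrLC.IsGrHomDeg X.gr Y.gr (0 : X.carrier →ₗ[R] Y.carrier) d) (i : ℕ) :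
    Hmap E F a (0 : X.carrier →ₗ[R] Y.carrier) d h i = 0 := by
  let φ : ResMap E F (0 : X.carrier →ₗ[R] Y.carrier) d :=
    { φ := fun n => 0
      deg := fun n => IsGrHomDeg.zero d
      comm_ε := by rw [LinearMap.zero_comp, LinearMap.comp_zero]
      comm_d := fun n => by rw [LinearMap.zero_comp, LinearMap.comp_zero] }
  rw [Hmap_eq E F a h φ]
  exact Submodule.linearMap_qext _ (LinearMap.ext fun z => rfl)

theorem Hmap_add {f g : X.carrier →ₗ[R] Y.carrier} {d : ι} (hf : GrLC.IsGrHomDeg X.gr Y.gr f d)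
    (hg : GrLC.IsGrHomDeg X.gr Y.gr g d) (h : GrLC.IsGrHomDeg X.gr Y.gr (f + g) d) (i : ℕ) :
    Hmap E F a (f + g) d h i = Hmap E F a f d hf i + Hmap E F a g d hg i := by
  obtain ⟨φ⟩ := nonempty_resMap E F f d hf
  obtain ⟨ψ⟩ := nonempty_resMap E F g d hg
  let χ : ResMap E F (f + g) d :=
    { φ := fun n => φ.φ n + ψ.φ n
      deg := fun n j m hm => add_mem (φ.deg n j m hm) (ψ.deg n j m hm)
      comm_ε := by rw [LinearMap.add_comp, φ.comm_ε, ψ.comm_ε, LinearMap.comp_add]
      comm_d := fun n => by rw [LinearMap.add_comp, φ.comm_d, ψ.comm_d, LinearMap.comp_add] }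
  rw [Hmap_eq E F a h χ, Hmap_eq E F a hf φ, Hmap_eq E F a hg ψ]
  exact Submodule.linearMap_qext _ (LinearMap.ext fun z => rfl)

theorem Hmap_sum {K : Type} (s : Finset K) (f : K → (X.carrier →ₗ[R] Y.carrier)) {d : ι}
    (hf : ∀ k, GrLC.IsGrHomDeg X.gr Y.gr (f k) d) (h : GrLC.IsGrHomDeg X.gr Y.gr (∑ k ∈ s, f k) d) (i : ℕ) :
    Hmap E F a (∑ k ∈ s, f k) d h i = ∑ k ∈ s, Hmap E F a (f k) d (hf k) i := by
  classical
  induction s using Finset.induction with
  | empty =>
    rw [Hmap_congr E F a h (IsGrHomDeg.zero d) Finset.sum_empty rfl, Finset.sum_empty]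
    exact Hmap_zero E F a _ i
  | insert k s hk ih =>
    have hs : GrLC.IsGrHomDeg X.gr Y.gr (∑ k ∈ s, f k) d := fun j m hm => by
      rw [LinearMap.sum_apply]; exact sum_mem fun k _ => hf k j m hm
    rw [Hmap_congr E F a h (fun j m hm => add_mem (hf k j m hm) (hs j m hm)) (Finset.sum_insert hk) rfl,
      Finset.sum_insert hk, ← ih hs]
    exact Hmap_add E F a (hf k) hs _ i

/-- The pieces of a finite sum of shifts. -/
def piGr (N : GrLC.GMod.{u} 𝒜) {k : ℕ} (d : Fin k → ι) : ι → AddSubgroup (Fin k → N.carrier) :=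
  fun g => AddSubgroup.pi Set.univ fun j => N.gr (g - d j)

theorem piGr_isInternal (N : GrLC.GMod.{u} 𝒜) {k : ℕ} (d : Fin k → ι) : DirectSum.IsInternal (piGr N d) := by
  classical
  refine isInternal_of_pr _ (fun g =>
    { toFun := fun v j => pr N.gr (g - d j) (v j), map_zero' := funext fun j => map_zero _,
      map_add' := fun u v => funext fun j => map_add (pr N.gr (g - d j)) (u j) (v j) })
    (fun g v hv => funext fun j => pr_self N.gr (hv j (Set.mem_univ j)))
    (fun g i v hv h => funext fun j => pr_ne N.gr (hv j (Set.mem_univ j)) fun e => h (sub_left_injective e))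
    fun v => ?_
  rw [← Finset.univ_sum_single v]
  refine sum_mem fun j _ => ?_
  obtain ⟨s, -, hs⟩ := exists_finset N.gr (v j)
  rw [← hs, ← AddMonoidHom.single_apply, map_sum]
  refine sum_mem fun g _ => le_iSup (piGr N d) (g + d j) fun i _ => ?_
  by_cases hi : i = j
  · subst hi
    show AddMonoidHom.single (fun _ => N.carrier) i (pr N.gr g (v i)) i ∈ N.gr (g + d i - d i)
    rw [AddMonoidHom.single_apply, Pi.single_eq_same, add_sub_cancel_right]
    exact pr_mem N.gr g _
  · show AddMonoidHom.single (fun _ => N.carrier) j (pr N.gr g (v j)) i ∈ N.gr (g + d j - d i)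
    rw [AddMonoidHom.single_apply, Pi.single_eq_of_ne hi]
    exact zero_mem _

/-- A finite sum of shifts of a graded module. -/
noncomputable def piG (N : GrLC.GMod.{u} 𝒜) {k : ℕ} (d : Fin k → ι) : GrLC.GMod.{u} 𝒜 :=
  letI := (piGr_isInternal N d).chooseDecomposition
  haveI : SetLike.GradedSMul 𝒜 (piGr N d) := ⟨fun {h g r v} hr hv j _ => by
    show r • v j ∈ N.gr (h + g - d j)
    rw [add_sub_assoc]
    exact smul_mem 𝒜 N.gr hr (hv j (Set.mem_univ j))⟩
  { carrier := Fin k → N.carrier, gr := piGr N d }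

end Additive

variable {R : Type u} [CommRing R] [IsNoetherianRing R] {𝒜 : ℤ → AddSubgroup R} [GradedRing 𝒜]

/-- A map out of a cyclic module. -/
theorem exists_cyclicMap (N X : GrLC.GMod.{u} 𝒜) {g₀ : N.carrier} (hg₀ : g₀ ∈ N.gr 0)
    (hgen : ∀ y, ∃ r : R, r • g₀ = y) {i : ℤ} {s : X.carrier} (hs : s ∈ X.gr i)
    (hk : ∀ r : R, r • g₀ = 0 → r • s = 0) :
    ∃ f : N.carrier →ₗ[R] X.carrier, GrLC.IsGrHomDeg N.gr X.gr f i ∧ ∀ r : R, f (r • g₀) = r • s := by
  choose ρ hρ using hgen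
  have hwd : ∀ r r' : R, r • g₀ = r' • g₀ → r • s = r' • s := fun r r' h =>
    sub_eq_zero.1 (by rw [← sub_smul]; exact hk _ (by rw [sub_smul, h, sub_self]))
  let f : N.carrier →ₗ[R] X.carrier :=
    { toFun := fun y => ρ y • s
      map_add' := fun y z => by
        rw [← add_smul]
        exact hwd _ _ (by rw [hρ, add_smul, hρ, hρ])
      map_smul' := fun r y => by
        rw [RingHom.id_apply, ← mul_smul]
        exact hwd _ _ (by rw [hρ, mul_smul, hρ]) }
  refine ⟨f, fun g y hy => ?_, fun r => hwd _ _ (hρ _)⟩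
  show ρ y • s ∈ _
  have h1 : pr 𝒜 g (ρ y) • g₀ = y := by
    have h2 := pr_smul_mem 𝒜 N.gr hg₀ (ρ y) g
    rw [hρ, pr_self N.gr hy, sub_zero] at h2
    exact h2.symm
  rw [hwd (ρ y) (pr 𝒜 g (ρ y)) (by rw [hρ, h1])]
  exact smul_mem 𝒜 X.gr (pr_mem 𝒜 g _) hs

/-- Generators of a graded module give a homogeneous cover by a sum of shifts of a cyclic one. -/
theorem exists_cover (N X : GrLC.GMod.{u} 𝒜) {g₀ : N.carrier} (hg₀ : g₀ ∈ N.gr 0)
    (hgen : ∀ y, ∃ r : R, r • g₀ = y) (hk : ∀ r : R, r • g₀ = 0 → ∀ x : X.carrier, r • x = 0) {k : ℕ}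
    (d : Fin k → ℤ) (m : Fin k → X.carrier) (hm : ∀ j, m j ∈ X.gr (d j))
    (hspan : Submodule.span R (Set.range m) = ⊤) :
    ∃ π : (piG N d).carrier →ₗ[R] X.carrier, GrLC.IsGrHomDeg (piG N d).gr X.gr π 0 ∧ Function.Surjective π ∧
      ∀ v : Fin k → R, π (fun j => v j • g₀) = ∑ j, v j • m j := by
  choose f hf hfr using fun j => exists_cyclicMap N X hg₀ hgen (hm j) (fun r hr => hk r hr (m j))
  let π : (Fin k → N.carrier) →ₗ[R] X.carrier := ∑ j, f j ∘ₗ LinearMap.proj j
  have hπ : ∀ v : Fin k → N.carrier, π v = ∑ j, f j (v j) := fun v => by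
    simp only [π, LinearMap.sum_apply, LinearMap.comp_apply, LinearMap.proj_apply]
  have hπr : ∀ v : Fin k → R, π (fun j => v j • g₀) = ∑ j, v j • m j := fun v => by
    rw [hπ]
    exact Finset.sum_congr rfl fun j _ => hfr j (v j)
  refine ⟨π, fun g v hv => ?_, fun x => ?_, hπr⟩
  · show π v ∈ _
    rw [hπ]
    refine sum_mem fun j _ => ?_
    have := hf j _ (v j) (hv j (Set.mem_univ j))
    rwa [sub_add_cancel, ← add_zero g] at this
  · obtain ⟨v, hv⟩ := (Submodule.mem_span_range_iff_exists_fun R).1 (hspan.ge (Submodule.mem_top (x := x)))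
    exact ⟨fun j => v j • g₀, (hπr v).trans hv⟩

/-- The inclusion of a summand. -/
noncomputable def piSingle (N : GrLC.GMod.{u} 𝒜) {k : ℕ} (d : Fin k → ℤ) (j : Fin k) :
    N.carrier →ₗ[R] (piG N d).carrier := LinearMap.single R (fun _ : Fin k => N.carrier) j

/-- The projection to a summand. -/
noncomputable def piProj (N : GrLC.GMod.{u} 𝒜) {k : ℕ} (d : Fin k → ℤ) (j : Fin k) :
    (piG N d).carrier →ₗ[R] N.carrier := LinearMap.proj (R := R) (φ := fun _ : Fin k => N.carrier) j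

theorem piProj_single (N : GrLC.GMod.{u} 𝒜) {k : ℕ} (d : Fin k → ℤ) (i j : Fin k) :
    piProj N d j ∘ₗ piSingle N d i = if i = j then LinearMap.id else 0 := by
  classical
  refine LinearMap.ext fun y => ?_
  show (Pi.single i y : Fin k → N.carrier) j = _
  split_ifs with h
  · subst h; rw [Pi.single_eq_same]; rfl
  · rw [Pi.single_eq_of_ne (Ne.symm h)]; rfl

theorem sum_piSingle_piProj (N : GrLC.GMod.{u} 𝒜) {k : ℕ} (d : Fin k → ℤ) :
    ∑ j, piSingle N d j ∘ₗ piProj N d j = LinearMap.id := by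
  classical
  refine LinearMap.ext fun v => ?_
  rw [LinearMap.sum_apply]
  exact Finset.univ_sum_single v

theorem single_deg (N : GrLC.GMod.{u} 𝒜) {k : ℕ} (d : Fin k → ℤ) (j : Fin k) :
    GrLC.IsGrHomDeg N.gr (piG N d).gr (piSingle N d j) (d j) := fun g y hy => by
  intro i _
  show (Pi.single j y : Fin k → N.carrier) i ∈ N.gr (g + d j - d i)
  by_cases h : i = j
  · subst h; rw [Pi.single_eq_same, add_sub_cancel_right]; exact hy
  · rw [Pi.single_eq_of_ne h]; exact zero_mem _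

theorem proj_deg (N : GrLC.GMod.{u} 𝒜) {k : ℕ} (d : Fin k → ℤ) (j : Fin k) :
    GrLC.IsGrHomDeg (piG N d).gr N.gr ((piProj N d j)) (-(d j)) := fun g v hv => by
  rw [← sub_eq_add_neg]
  exact hv j (Set.mem_univ j)

theorem finite_piG (N : GrLC.GMod.{u} 𝒜) [Module.Finite R N.carrier] {k : ℕ} (d : Fin k → ℤ) :
    Module.Finite R (piG N d).carrier := inferInstanceAs (Module.Finite R (Fin k → N.carrier))

/-- Vanishing above the dimension for modules annihilated with `N`. -/
theorem subsingleton_H_top (N K : GrLC.GMod.{u} 𝒜) [Module.Finite R N.carrier] [Module.Finite R K.carrier] {p : ℕ}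
    (hdim : Module.supportDim R N.carrier ≤ (p : ℕ))
    (hann : ∀ r : R, (∀ y : N.carrier, r • y = 0) → ∀ z : K.carrier, r • z = 0) (a : HomogeneousIdeal 𝒜)
    (E : GrLC.StarInjRes 𝒜 K.gr) : Subsingleton (E.H a (p + 1)) := by
  obtain ⟨e⟩ := nonempty_H_equiv E a (p + 1)
  have h1 : Module.supportDim R K.carrier ≤ (p : ℕ) := by
    refine le_trans ?_ hdim
    rw [Module.supportDim_eq_ringKrullDim_quotient_annihilator,
      Module.supportDim_eq_ringKrullDim_quotient_annihilator]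
    exact ringKrullDim_le_of_surjective (Ideal.Quotient.factor fun r hr => Module.mem_annihilator.2
      (hann r (Module.mem_annihilator.1 hr))) (Ideal.Quotient.factor_surjective _)
  haveI := LocCohLib.subsingleton_H_of_supportDim_lt (I := a.toIdeal) (p + 1) K.carrier
    (h1.trans_lt (by exact_mod_cast p.lt_succ_self))
  exact e.toEquiv.subsingleton

/-- Top cohomology is spanned by the images of the generators. -/
theorem Htop_surj (N X : GrLC.GMod.{u} 𝒜) [Module.Finite R N.carrier] {g₀ : N.carrier} (hg₀ : g₀ ∈ N.gr 0)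
    (hgen : ∀ y, ∃ r : R, r • g₀ = y) (hk : ∀ r : R, r • g₀ = 0 → ∀ x : X.carrier, r • x = 0) {p : ℕ}
    (hdim : Module.supportDim R N.carrier ≤ (p : ℕ)) (a : HomogeneousIdeal 𝒜)
    (I : GrLC.StarInjRes 𝒜 N.gr) (F : GrLC.StarInjRes 𝒜 X.gr) {k : ℕ}
    (d : Fin k → ℤ) (m : Fin k → X.carrier) (hm : ∀ j, m j ∈ X.gr (d j))
    (hspan : Submodule.span R (Set.range m) = ⊤) (P : Fin k → (N.carrier →ₗ[R] X.carrier))
    (hP : ∀ j, GrLC.IsGrHomDeg N.gr X.gr (P j) (d j)) (hPr : ∀ j (r : R), P j (r • g₀) = r • m j)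
    (y : F.H a p) : ∃ η : Fin k → I.H a p, y = ∑ j, Hmap I F a (P j) (d j) (hP j) p (η j) := by
  classical
  let S := piG N d
  haveI hSf : Module.Finite R S.carrier := finite_piG N d
  obtain ⟨π, hπ, hπs, hπr⟩ := exists_cover N X hg₀ hgen hk d m hm hspan
  let K := subG 𝒜 (ℳ := S.gr) (LinearMap.ker π) (ker_isHomogeneous_deg hπ)
  haveI : Module.Finite R K.carrier := finite_subG S _ _
  obtain ⟨G⟩ := nonempty_resG S
  obtain ⟨EK⟩ := nonempty_resG K
  have hsub : GrLC.IsGrHomDeg K.gr S.gr (LinearMap.ker π).subtype 0 := fun g v hv => by rw [add_zero]; exact hv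
  obtain ⟨δ, -, -, hle⟩ := exists_lesG K S X (LinearMap.ker π).subtype π hsub hπ
    (Submodule.subtype_injective _) hπs (Submodule.range_subtype _).symm EK G F a
  haveI := subsingleton_H_top N K hdim (fun r hr z => Subtype.ext (funext fun j => hr _)) a EK
  obtain ⟨w, rfl⟩ := ((hle p).2.1 y).1 (Subsingleton.elim _ _)
  refine ⟨fun j => Hmap G I a ((piProj N d j)) (-(d j)) (proj_deg N d j) p w, ?_⟩
  have hc : ∀ j, GrLC.IsGrHomDeg S.gr S.gr
      ((piSingle N d j) ∘ₗ (piProj N d j)) 0 := fun j => by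
    have := IsGrHomDeg.comp (proj_deg N d j) (single_deg N d j)
    rwa [neg_add_cancel] at this
  have hsum : GrLC.IsGrHomDeg S.gr S.gr
      (∑ j, (piSingle N d j) ∘ₗ (piProj N d j)) 0 := fun g v hv => by
    rw [LinearMap.sum_apply]; exact sum_mem fun j _ => hc j g v hv
  have hone : w = Hmap G G a (∑ j, (piSingle N d j) ∘ₗ (piProj N d j)) 0
      hsum p w := by
    rw [Hmap_congr G G a hsum id_deg (sum_piSingle_piProj N d) rfl, Hmap_id]
    rfl
  conv_lhs => rw [hone]
  rw [Hmap_sum G G a _ _ hc hsum p, LinearMap.sum_apply, map_sum]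
  refine Finset.sum_congr rfl fun j _ => ?_
  have hP' : π ∘ₗ piSingle N d j = P j := LinearMap.ext fun v => by
    obtain ⟨r, rfl⟩ := hgen v
    show π (piSingle N d j (r • g₀)) = _
    have h1 : piSingle N d j (r • g₀) =
        fun i => (Pi.single j r : Fin k → R) i • g₀ := funext fun i => by
      show (Pi.single j (r • g₀) : Fin k → N.carrier) i = _
      by_cases h : i = j
      · subst h; rw [Pi.single_eq_same, Pi.single_eq_same]
      · rw [Pi.single_eq_of_ne h, Pi.single_eq_of_ne h, zero_smul]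
    rw [h1, hπr, hPr, Finset.sum_eq_single j (fun i _ h => by rw [Pi.single_eq_of_ne h, zero_smul])
      (fun h => absurd (Finset.mem_univ j) h), Pi.single_eq_same]
  rw [Hmap_congr G G a (hc j) (IsGrHomDeg.comp (proj_deg N d j) (single_deg N d j)) rfl (neg_add_cancel _).symm,
    Hmap_comp G I G a (proj_deg N d j) (single_deg N d j), LinearMap.comp_apply,
    ← LinearMap.comp_apply (g := Hmap I G a _ _ _ p) (f := Hmap G F a π 0 hπ p) (x := Hmap G I a _ _ _ p w),
    ← Hmap_comp I G F a (single_deg N d j) hπ,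
    Hmap_congr I F a _ (hP j) hP' (add_zero _)]

/-- Relations between the images of the generators. -/
theorem Htop_rel (N X : GrLC.GMod.{u} 𝒜) [Module.Finite R N.carrier] {g₀ : N.carrier} (hg₀ : g₀ ∈ N.gr 0)
    (hgen : ∀ y, ∃ r : R, r • g₀ = y) (hk : ∀ r : R, r • g₀ = 0 → ∀ x : X.carrier, r • x = 0) {p : ℕ}
    (hdim : Module.supportDim R N.carrier ≤ (p : ℕ)) (a : HomogeneousIdeal 𝒜)
    (I : GrLC.StarInjRes 𝒜 N.gr) (F : GrLC.StarInjRes 𝒜 X.gr) {k : ℕ}
    (d : Fin k → ℤ) (m : Fin k → X.carrier) (hm : ∀ j, m j ∈ X.gr (d j))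
    (hspan : Submodule.span R (Set.range m) = ⊤) (P : Fin k → (N.carrier →ₗ[R] X.carrier))
    (hP : ∀ j, GrLC.IsGrHomDeg N.gr X.gr (P j) (d j)) (hPr : ∀ j (r : R), P j (r • g₀) = r • m j)
    (η : Fin k → I.H a p) (hη : ∑ j, Hmap I F a (P j) (d j) (hP j) p (η j) = 0) :
    ∃ (L : ℕ) (rel : Fin L → Fin k → R) (θ : Fin L → I.H a p),
      (∀ j, η j = ∑ l, rel l j • θ l) ∧ ∀ l, ∑ j, rel l j • m j = 0 := by
  classical
  let S := piG N d
  haveI hSf : Module.Finite R S.carrier := finite_piG N d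
  obtain ⟨π, hπ, hπs, hπr⟩ := exists_cover N X hg₀ hgen hk d m hm hspan
  let K := subG 𝒜 (ℳ := S.gr) (LinearMap.ker π) (ker_isHomogeneous_deg hπ)
  haveI : Module.Finite R K.carrier := finite_subG S _ _
  obtain ⟨G⟩ := nonempty_resG S
  obtain ⟨EK⟩ := nonempty_resG K
  have hsub : GrLC.IsGrHomDeg K.gr S.gr (LinearMap.ker π).subtype 0 := fun g v hv => by rw [add_zero]; exact hv
  obtain ⟨δ, -, -, hle⟩ := exists_lesG K S X (LinearMap.ker π).subtype π hsub hπ
    (Submodule.subtype_injective _) hπs (Submodule.range_subtype _).symm EK G F a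
  have hP' : ∀ j, π ∘ₗ piSingle N d j = P j := fun j => LinearMap.ext fun v => by
    obtain ⟨r, rfl⟩ := hgen v
    show π (piSingle N d j (r • g₀)) = _
    have h1 : piSingle N d j (r • g₀) =
        fun i => (Pi.single j r : Fin k → R) i • g₀ := funext fun i => by
      show (Pi.single j (r • g₀) : Fin k → N.carrier) i = _
      by_cases h : i = j
      · subst h; rw [Pi.single_eq_same, Pi.single_eq_same]
      · rw [Pi.single_eq_of_ne h, Pi.single_eq_of_ne h, zero_smul]
    rw [h1, hπr, hPr, Finset.sum_eq_single j (fun i _ h => by rw [Pi.single_eq_of_ne h, zero_smul])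
      (fun h => absurd (Finset.mem_univ j) h), Pi.single_eq_same]
  let w : G.H a p := ∑ i, Hmap I G a (piSingle N d i) (d i) (single_deg N d i) p (η i)
  have hwπ : Hmap G F a π 0 hπ p w = 0 := by
    rw [map_sum, ← hη]
    refine Finset.sum_congr rfl fun i _ => ?_
    rw [← Hmap_congr I F a (IsGrHomDeg.comp (single_deg N d i) hπ) (hP i) (hP' i) (add_zero _),
      Hmap_comp I G F a (single_deg N d i) hπ]
    rfl
  obtain ⟨z, hz⟩ := ((hle p).1 w).1 hwπ
  have hkK : ∀ r : R, r • g₀ = 0 → ∀ v : K.carrier, r • v = 0 := fun r hr v => Subtype.ext (funext fun j => by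
    show r • (v.1 j) = 0
    obtain ⟨t, ht⟩ := hgen (v.1 j)
    rw [← ht, smul_comm, hr, smul_zero])
  obtain ⟨L, e, v, hv, hvspan⟩ := exists_homogeneous_generators 𝒜 K.gr (top_isHomogeneous K.gr)
    (Module.Finite.fg_top (R := R) (M := K.carrier))
  choose Q hQ hQr using fun l => exists_cyclicMap N K hg₀ hgen (hv l) (fun r hr => hkK r hr (v l))
  obtain ⟨θ, hθ⟩ := Htop_surj N K hg₀ hgen hkK hdim a I EK e v hv hvspan Q hQ hQr z
  have hrel : ∀ l j, ∃ r ∈ 𝒜 (e l - d j), r • g₀ = (v l).1 j := fun l j => by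
    obtain ⟨r, hr⟩ := hgen ((v l).1 j)
    refine ⟨pr 𝒜 (e l - d j) r, pr_mem 𝒜 _ r, ?_⟩
    have h2 := pr_smul_mem 𝒜 N.gr hg₀ r (e l - d j)
    have hvj : (v l).1 j ∈ N.gr (e l - d j) := hv l j (Set.mem_univ j)
    rw [hr, pr_self N.gr hvj, sub_zero] at h2
    exact h2.symm
  choose rel hrel hrelg using hrel
  refine ⟨L, rel, θ, fun j => ?_, fun l => ?_⟩
  · have hjw : Hmap G I a ((piProj N d j)) (-(d j)) (proj_deg N d j) p w = η j := by
      rw [map_sum]
      have hval : ∀ i, Hmap G I a ((piProj N d j)) (-(d j)) (proj_deg N d j) p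
          (Hmap I G a (piSingle N d i) (d i) (single_deg N d i) p (η i)) =
          if i = j then η j else 0 := fun i => by
        rw [← LinearMap.comp_apply, ← Hmap_comp I G I a (single_deg N d i) (proj_deg N d j)]
        split_ifs with h
        · subst h
          rw [Hmap_congr I I a _ id_deg (by rw [piProj_single, if_pos rfl]) (add_neg_cancel _), Hmap_id]
          rfl
        · rw [Hmap_congr I I a _ (IsGrHomDeg.zero _) (by
            rw [piProj_single, if_neg h]) rfl, Hmap_zero I I a]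
          rfl
      rw [Finset.sum_congr rfl fun i _ => hval i, Finset.sum_ite_eq' Finset.univ j, if_pos (Finset.mem_univ j)]
    rw [← hjw, ← hz, hθ, map_sum, map_sum]
    refine Finset.sum_congr rfl fun l _ => ?_
    rw [← LinearMap.comp_apply, ← Hmap_comp EK G I a hsub (proj_deg N d j), ← LinearMap.comp_apply,
      ← Hmap_comp I EK I a (hQ l) (IsGrHomDeg.comp hsub (proj_deg N d j))]
    have hdeg : GrLC.IsGrHomDeg N.gr N.gr (rel l j • (LinearMap.id : N.carrier →ₗ[R] N.carrier)) (e l - d j) :=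
      fun g y hy => by rw [add_comm]; exact smul_mem 𝒜 N.gr (hrel l j) hy
    rw [Hmap_congr I I a _ hdeg (LinearMap.ext fun y => by
      obtain ⟨r, rfl⟩ := hgen y
      show (Q l (r • g₀)).1 j = rel l j • (r • g₀)
      rw [hQr, smul_comm, hrelg]
      rfl) (by ring), Hmap_smul I a (rel l j) hdeg (hrel l j)]
    rfl
  · rw [← hπr, show (fun j => rel l j • g₀) = (v l).1 from funext (hrelg l)]
    exact (v l).2

end GrModLib
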