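import Groth.Agent.GrModLib.VerGor
import Groth.Agent.GrModLib.Canon
import Groth.Agent.GrModLib.CanonDeg

/-! The *canonical module of a Veronese subring. -/

set_option autoImplicit false
universe u

open DirectSum

namespace GrModLib

section Over

variable {R : Type u} [CommRing R] [IsNoetherianRing R] {𝒜 : ℤ → AddSubgroup R} [GradedRing 𝒜]

/-- A homogeneous element comes from a homogeneous map. -/
theorem deg_of_mem (C : GrLC.GMod.{u} 𝒜) [Module.Finite R C.carrier] (E : GrLC.GMod.{u} 𝒜)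
    (H : GrLC.GMod.{u} 𝒜) (φ : (C.carrier →ₗ[R] E.carrier) ≃ₗ[R] H.carrier)
    (hφ : GrLC.IsGrHom (fun d => (GrLC.homDeg 𝒜 C.gr E.gr d).toAddSubgroup) H.gr φ.toLinearMap)
    {g : ℤ} {χ : C.carrier →ₗ[R] E.carrier} (h : φ χ ∈ H.gr g) : GrLC.IsGrHomDeg C.gr E.gr χ g := by
  classical
  obtain ⟨D, f, hf, hsum⟩ := exists_hom_components (𝓔 := E.gr) C χ
  have h1 : φ χ = φ (if g ∈ D then f g else 0) := by
    rw [← pr_self H.gr h, hsum, map_sum, map_sum]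
    rw [Finset.sum_congr rfl (g := fun d => if d = g then φ (f d) else 0) (fun d _ => by
      split_ifs with hd
      · subst hd; exact pr_self H.gr (hφ d (f d) (hf d))
      · exact pr_ne H.gr (hφ d (f d) (hf d)) hd), Finset.sum_ite_eq' D g]
    split_ifs
    · rfl
    · rw [map_zero]
  rw [φ.injective h1]
  split_ifs
  · exact hf g
  · exact IsGrHomDeg.zero g

/-- Reflexivity of one piece. -/
theorem exists_eval (hpos : ∀ n : ℤ, n < 0 → 𝒜 n = ⊥) (h0 : IsField (GrLC.deg0 𝒜)) (E : GrLC.GMod.{u} 𝒜)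
    {e : (R ⧸ (posIdeal 𝒜).toIdeal) →ₗ[R] E.carrier}
    (he : GrLC.IsStarInjHull 𝒜 (GrLC.quotGr 𝒜 (posIdeal 𝒜)) E.gr e) (C : GrLC.GMod.{u} 𝒜)
    [Module.Finite R C.carrier] (i : ℤ)
    (Λ : GrLC.homDeg 𝒜 C.gr E.gr (-i) →ₗ[GrLC.deg0 𝒜] GrLC.comp 𝒜 E.gr 0) :
    ∃ c ∈ C.gr i, ∀ χ : GrLC.homDeg 𝒜 C.gr E.gr (-i), χ.1 c = (Λ χ).1 := by
  letI := h0.toField
  let V := GrLC.comp 𝒜 C.gr i
  let K := GrLC.comp 𝒜 E.gr 0
  let D := GrLC.homDeg 𝒜 C.gr E.gr (-i)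
  haveI : IsNoetherian (GrLC.deg0 𝒜) V := isNoetherian_comp C i
  have he1 : e 1 ∈ K := hull_mem_zero hpos he 1
  let u : GrLC.deg0 𝒜 →ₗ[GrLC.deg0 𝒜] K := LinearMap.toSpanSingleton _ _ ⟨e 1, he1⟩
  have hu : Function.Surjective u := fun y => by
    obtain ⟨z, hz⟩ := mem_range_of_deg_zero hpos h0 he y.2
    obtain ⟨t, rfl⟩ := Ideal.Quotient.mk_surjective z
    refine ⟨⟨pr 𝒜 0 t, pr_mem 𝒜 0 t⟩, Subtype.ext ?_⟩
    show pr 𝒜 0 t • e 1 = y.1
    rw [← hz, ← map_smul]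
    refine congrArg e ((Ideal.Quotient.eq).2 ?_)
    show pr 𝒜 0 t * 1 - t ∈ (posIdeal 𝒜).toIdeal
    rw [mul_one, ← neg_sub]
    exact neg_mem (mk_eq_mk_pr hpos t)
  haveI : Module.Finite (GrLC.deg0 𝒜) K := Module.Finite.of_surjective u hu
  have hK : Module.finrank (GrLC.deg0 𝒜) K = 1 :=
    finrank_eq_one ⟨e 1, he1⟩ (fun h => hull_one_ne_zero hpos h0 he (congrArg Subtype.val h)) fun w => hu w
  have hval : ∀ (χ : D) (v : V), χ.1 v.1 ∈ E.gr 0 := fun χ v => by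
    have h2 := χ.2 i v.1 v.2
    rwa [add_neg_cancel] at h2
  let res : D →ₗ[GrLC.deg0 𝒜] (V →ₗ[GrLC.deg0 𝒜] K) :=
    LinearMap.mk₂ _ (fun χ v => (⟨χ.1 v.1, hval χ v⟩ : K))
      (fun χ χ' v => Subtype.ext rfl) (fun c χ v => Subtype.ext rfl)
      (fun χ v v' => Subtype.ext (map_add χ.1 v.1 v'.1)) (fun c χ v => Subtype.ext (map_smul χ.1 (c : R) v.1))
  have hres : Function.Bijective res := by
    refine ⟨(injective_iff_map_eq_zero res).2 fun χ hχ => Subtype.ext (eq_zero_of_restrict hpos he C χ.2 fun v hv => ?_),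
      fun f => ?_⟩
    · rw [neg_neg] at hv
      exact congrArg Subtype.val (LinearMap.congr_fun hχ ⟨v, hv⟩)
    · have hneg : ∀ (l : ℤ) (w : C.carrier), w ∈ C.gr (- -l) → w ∈ C.gr l := fun l w hw => by rwa [neg_neg] at hw
      let ψ : GrLC.comp 𝒜 C.gr (- -i) →ₗ[GrLC.deg0 𝒜] GrLC.comp 𝒜 E.gr 0 :=
        { toFun := fun v => f ⟨v.1, hneg i v.1 v.2⟩
          map_add' := fun v w => (congrArg f (Subtype.ext rfl)).trans
            (map_add f (⟨v.1, hneg i v.1 v.2⟩ : V) ⟨w.1, hneg i w.1 w.2⟩)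
          map_smul' := fun c v => (congrArg f (Subtype.ext rfl)).trans (map_smul f c (⟨v.1, hneg i v.1 v.2⟩ : V)) }
      obtain ⟨χ, hχ, hχv⟩ := exists_hom_deg hpos h0 he C (-i) ψ
      exact ⟨⟨χ, hχ⟩, LinearMap.ext fun v => Subtype.ext (hχv ⟨v.1, by
        show v.1 ∈ C.gr (- -i)
        rw [neg_neg]; exact v.2⟩)⟩
  let re := LinearEquiv.ofBijective res hres
  haveI : Module.Finite (GrLC.deg0 𝒜) D := Module.Finite.equiv re.symm
  let ev : V →ₗ[GrLC.deg0 𝒜] (D →ₗ[GrLC.deg0 𝒜] K) := res.flip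
  have hev : Function.Injective ev := (injective_iff_map_eq_zero ev).2 fun v hv => by
    by_contra hne
    obtain ⟨χ, hχ, hχv⟩ := exists_hom_deg_ne_zero hpos h0 he C v.2 fun h => hne (Subtype.ext h)
    exact hχv (congrArg Subtype.val (LinearMap.congr_fun hv (⟨χ, hχ⟩ : D)))
  have hdim : Module.finrank (GrLC.deg0 𝒜) V = Module.finrank (GrLC.deg0 𝒜) (D →ₗ[GrLC.deg0 𝒜] K) := by
    rw [Module.finrank_linearMap, re.finrank_eq, Module.finrank_linearMap, hK, mul_one, mul_one]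
  obtain ⟨c, hc⟩ := (LinearMap.injective_iff_surjective_of_finrank_eq_finrank hdim).1 hev Λ
  exact ⟨c.1, c.2, fun χ => congrArg Subtype.val (LinearMap.congr_fun hc χ)⟩

end Over

variable {R : Type u} [CommRing R] [IsNoetherianRing R] {𝒜 : ℤ → AddSubgroup R} [GradedRing 𝒜]
  {R' : Type u} [CommRing R'] {𝒜' : ℤ → AddSubgroup R'} [GradedRing 𝒜'] {φ : R' →+* R} {q : ℕ}

/-- The *canonical module of the Veronese subring. -/
theorem exists_verCanon (hV : IsVer 𝒜 𝒜' φ q) (hpos : ∀ n : ℤ, n < 0 → 𝒜 n = ⊥) (h0 : IsField (GrLC.deg0 𝒜))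
    (E : GrLC.GMod.{u} 𝒜) {e : (R ⧸ (posIdeal 𝒜).toIdeal) →ₗ[R] E.carrier}
    (he : GrLC.IsStarInjHull 𝒜 (GrLC.quotGr 𝒜 (posIdeal 𝒜)) E.gr e)
    (E'' : GrLC.GMod.{u} 𝒜') {e' : (R' ⧸ (posIdeal 𝒜').toIdeal) →ₗ[R'] E''.carrier}
    (he' : GrLC.IsStarInjHull 𝒜' (GrLC.quotGr 𝒜' (posIdeal 𝒜')) E''.gr e')
    (C : GrLC.GMod.{u} 𝒜) [Module.Finite R C.carrier] (C' : GrLC.GMod.{u} 𝒜') [Module.Finite R' C'.carrier]
    (H : GrLC.GMod.{u} 𝒜) (H' : GrLC.GMod.{u} 𝒜') (Φ : H'.carrier →+ H.carrier) (hΦi : Function.Injective Φ)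
    (hΦs : ∀ (r : R') x, Φ (r • x) = φ r • Φ x) (hΦj : ∀ j : ℤ, (H'.gr j).map Φ = H.gr (j * q))
    (φC : (C.carrier →ₗ[R] E.carrier) ≃ₗ[R] H.carrier)
    (hφC : GrLC.IsGrHom (fun d => (GrLC.homDeg 𝒜 C.gr E.gr d).toAddSubgroup) H.gr φC.toLinearMap)
    (φC' : (C'.carrier →ₗ[R'] E''.carrier) ≃ₗ[R'] H'.carrier)
    (hφC' : GrLC.IsGrHom (fun d => (GrLC.homDeg 𝒜' C'.gr E''.gr d).toAddSubgroup) H'.gr φC'.toLinearMap) :
    ∃ g : C'.carrier →ₛₗ[φ] C.carrier,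
      Function.Injective g ∧ ∀ j : ℤ, (C'.gr j).map (g : C'.carrier →+ C.carrier) = C.gr (j * q) := by
  classical
  haveI := hV.isNoetherianRing
  have hpos' := hV.hpos' hpos
  have h0' := hV.isField' h0
  obtain ⟨κ, hκ⟩ := exists_verHull_equiv hV hpos h0 he he'
  let θ : (C'.carrier →ₗ[R'] E''.carrier) →+ (C.carrier →ₗ[R] E.carrier) :=
    φC.symm.toLinearMap.toAddMonoidHom.comp (Φ.comp φC'.toLinearMap.toAddMonoidHom)
  have hθs : ∀ (r : R') f, θ (r • f) = φ r • θ f := fun r f => by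
    show φC.symm (Φ (φC' (r • f))) = φ r • φC.symm (Φ (φC' f))
    rw [map_smul φC', hΦs, map_smul φC.symm]
  have hθi : Function.Injective θ := φC.symm.injective.comp (hΦi.comp φC'.injective)
  have hθdeg : ∀ (d : ℤ) f, GrLC.IsGrHomDeg C'.gr E''.gr f d → GrLC.IsGrHomDeg C.gr E.gr (θ f) (d * q) :=
    fun d f hf => deg_of_mem C E H φC hφC (by
      show φC (φC.symm (Φ (φC' f))) ∈ _
      rw [φC.apply_symm_apply]
      exact (hΦj d).le ⟨_, hφC' d f hf, rfl⟩)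
  have hθsurj : ∀ (d : ℤ) χ, GrLC.IsGrHomDeg C.gr E.gr χ (d * q) →
      ∃ f, GrLC.IsGrHomDeg C'.gr E''.gr f d ∧ θ f = χ := fun d χ hχ => by
    obtain ⟨x, hx, hxe⟩ := (hΦj d).ge (hφC _ χ hχ)
    refine ⟨φC'.symm x, deg_of_mem C' E'' H' φC' hφC' (by rw [φC'.apply_symm_apply]; exact hx), ?_⟩
    show φC.symm (Φ (φC' (φC'.symm x))) = χ
    rw [φC'.apply_symm_apply, hxe]
    exact φC.symm_apply_apply χ
  let τ : E''.carrier →+ E.carrier := (vInc hV E).comp κ.symm.toLinearMap.toAddMonoidHom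
  have hτs : ∀ (r : R') y, τ (r • y) = φ r • τ y := fun r y => by
    show vInc hV E (κ.symm (r • y)) = φ r • vInc hV E (κ.symm y)
    rw [map_smul, vInc_smul]
  have hτi : Function.Injective τ := (vInc_injective hV).comp κ.symm.injective
  have hτ0 : ∀ y ∈ E''.gr 0, τ y ∈ E.gr 0 := fun y hy => by
    obtain ⟨w, hw, hwe⟩ := preimage_homogeneous (isGrHomDeg_zero_iff.2 hκ) (g := 0) (y := y)
      (by rwa [add_zero]) (κ.surjective _)
    show vInc hV E (κ.symm y) ∈ E.gr 0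
    rw [← hwe]
    show vInc hV E (κ.symm (κ w)) ∈ E.gr 0
    rw [κ.symm_apply_apply]
    have := (mem_verG_gr hV).1 hw
    rwa [zero_mul] at this
  have hτsurj : ∀ y ∈ E.gr 0, ∃ z ∈ E''.gr 0, τ z = y := fun y hy => by
    refine ⟨κ (verProj hV E y), hκ 0 _ (verProj_mem hV (by rwa [zero_mul])), ?_⟩
    show vInc hV E (κ.symm (κ (verProj hV E y))) = y
    rw [κ.symm_apply_apply, vInc_verProj, prDvd_of_mem hy, if_pos (dvd_zero _)]
  let Rel : ℤ → C'.carrier → C.carrier → Prop := fun j c' c =>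
    c ∈ C.gr (j * q) ∧ ∀ f, GrLC.IsGrHomDeg C'.gr E''.gr f (-j) → τ (f c') = θ f c
  have huniq : ∀ j c' c₁ c₂, Rel j c' c₁ → Rel j c' c₂ → c₁ = c₂ := fun j c' c₁ c₂ h1 h2 => by
    by_contra hne
    obtain ⟨χ, hχ, hχv⟩ := exists_hom_deg_ne_zero hpos h0 he C (sub_mem h1.1 h2.1) (sub_ne_zero.2 hne)
    obtain ⟨f, hf, rfl⟩ := hθsurj (-j) χ (by rwa [neg_mul])
    exact hχv (by rw [map_sub, ← h1.2 f hf, ← h2.2 f hf, sub_self])
  have hfc : ∀ (j : ℤ) (f : C'.carrier →ₗ[R'] E''.carrier), GrLC.IsGrHomDeg C'.gr E''.gr f (-j) → ∀ c' ∈ C'.gr j, f c' ∈ E''.gr 0 :=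
    fun j f hf c' hc' => by
      have h := hf j c' hc'
      rwa [add_neg_cancel] at h
  obtain ⟨ε, hε⟩ := hV.bijective_deg0
  have hex : ∀ (j : ℤ) (c' : C'.gr j), ∃ c, Rel j c'.1 c := fun j c' => by
    have hpre : ∀ χ : GrLC.homDeg 𝒜 C.gr E.gr (-(j * q)), ∃ f, GrLC.IsGrHomDeg C'.gr E''.gr f (-j) ∧ θ f = χ.1 :=
      fun χ => hθsurj (-j) χ.1 (by rw [neg_mul]; exact χ.2)
    choose F hF hFθ using hpre
    let Λ : GrLC.homDeg 𝒜 C.gr E.gr (-(j * q)) →ₗ[GrLC.deg0 𝒜] GrLC.comp 𝒜 E.gr 0 :=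
      { toFun := fun χ => ⟨τ (F χ c'.1), hτ0 _ (hfc j _ (hF χ) _ c'.2)⟩
        map_add' := fun χ χ' => Subtype.ext (by
          show τ (F (χ + χ') c'.1) = τ (F χ c'.1) + τ (F χ' c'.1)
          rw [← map_add, show F (χ + χ') = F χ + F χ' from hθi (by rw [hFθ, map_add, hFθ, hFθ]; rfl)]
          rfl)
        map_smul' := fun a χ => Subtype.ext (by
          obtain ⟨a', rfl⟩ := ε.surjective a
          show τ (F (ε a' • χ) c'.1) = ((ε a' : R)) • τ (F χ c'.1)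
          rw [hε, ← hτs, show F (ε a' • χ) = (a' : R') • F χ from hθi (by rw [hFθ, hθs, hFθ, ← hε]; rfl)]
          rfl) }
    obtain ⟨c, hc, hcΛ⟩ := exists_eval hpos h0 E he C (j * q) Λ
    refine ⟨c, hc, fun f hf => ?_⟩
    let χ : GrLC.homDeg 𝒜 C.gr E.gr (-(j * q)) := ⟨θ f, by
      have := hθdeg (-j) f hf
      rwa [neg_mul] at this⟩
    refine Eq.trans ?_ (hcΛ χ).symm
    show τ (f c'.1) = τ (F χ c'.1)
    rw [show F χ = f from hθi (hFθ χ)]
  choose G hG using hex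
  let g₀ : C'.carrier →+ C.carrier :=
    (DirectSum.toAddMonoid fun j =>
      AddMonoidHom.mk' (G j) fun a b => huniq j _ _ _ (hG j (a + b))
        ⟨add_mem (hG j a).1 (hG j b).1, fun f hf => by
          rw [AddSubgroup.coe_add, map_add f, map_add τ, (hG j a).2 f hf, (hG j b).2 f hf, map_add]⟩).comp
      (DirectSum.decomposeAddEquiv C'.gr).toAddMonoidHom
  have hg₀ : ∀ (j : ℤ) (c' : C'.carrier) (h : c' ∈ C'.gr j), g₀ c' = G j ⟨c', h⟩ := fun j c' h => by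
    show DirectSum.toAddMonoid _ (DirectSum.decompose C'.gr c') = _
    rw [DirectSum.decompose_of_mem C'.gr h, DirectSum.toAddMonoid_of]
    rfl
  have hsmul : ∀ (r : R') (c' : C'.carrier), g₀ (r • c') = φ r • g₀ c' := fun r c' => by
    induction r using induction 𝒜' with
    | h0 => rw [zero_smul, map_zero φ, zero_smul, map_zero]
    | hadd a b ha hb => rw [add_smul, map_add g₀, ha, hb, map_add φ, add_smul]
    | hmem i r hr =>
      induction c' using induction C'.gr with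
      | h0 => rw [smul_zero, map_zero, smul_zero]
      | hadd a b ha hb => rw [smul_add, map_add, ha, hb, map_add, smul_add]
      | hmem j c' hc' =>
        rw [hg₀ _ _ (smul_mem 𝒜' C'.gr hr hc'), hg₀ j c' hc']
        refine huniq (i + j) _ _ _ (hG _ _) ⟨?_, fun f hf => ?_⟩
        · rw [add_mul]
          exact smul_mem 𝒜 C.gr (hV.mem_iff.1 hr) (hG j _).1
        · have hrf : GrLC.IsGrHomDeg C'.gr E''.gr (r • f) (-j) := fun l m hm => by
            have h1 := smul_mem 𝒜' E''.gr hr (hf l m hm)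
            rwa [show i + (l + -(i + j)) = l + -j by ring] at h1
          show τ (f (r • c')) = θ f (φ r • G j ⟨c', hc'⟩)
          rw [map_smul f, ← LinearMap.smul_apply, (hG j ⟨c', hc'⟩).2 _ hrf, hθs, LinearMap.smul_apply, map_smul (θ f)]
  let g : C'.carrier →ₛₗ[φ] C.carrier := { toFun := g₀, map_add' := map_add g₀, map_smul' := hsmul }
  refine ⟨g, (injective_iff_map_eq_zero g).2 fun c' hc' => pr_ext C'.gr fun j => ?_, fun j => le_antisymm ?_ fun c hc => ?_⟩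
  · have hcomm : ∀ x : C'.carrier, g₀ (pr C'.gr j x) = pr C.gr (j * q) (g₀ x) := fun x => by
      induction x using induction C'.gr with
      | h0 => simp
      | hadd a b ha hb => rw [map_add, map_add, map_add, ha, hb, map_add]
      | hmem l x hx =>
        have hgx : g₀ x ∈ C.gr (l * q) := by rw [hg₀ l x hx]; exact (hG l _).1
        by_cases h : l = j
        · subst h; rw [pr_self C'.gr hx, pr_self C.gr hgx]
        · rw [pr_ne C'.gr hx h, pr_ne C.gr hgx fun e => h (hV.mul_right_inj e), map_zero]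
    rw [map_zero]
    by_contra hne
    obtain ⟨f, hf, hfv⟩ := exists_hom_deg_ne_zero hpos' h0' he' C' (pr_mem C'.gr j c') hne
    have hz : G j ⟨_, pr_mem C'.gr j c'⟩ = 0 := by
      rw [← hg₀ j _ (pr_mem C'.gr j c'), hcomm, show g₀ c' = 0 from hc', map_zero]
    have h1 := (hG j ⟨_, pr_mem C'.gr j c'⟩).2 f hf
    rw [hz, map_zero] at h1
    exact hfv (hτi (h1.trans (map_zero τ).symm))
  · rintro _ ⟨c', hc', rfl⟩
    show g₀ c' ∈ _
    rw [hg₀ j c' hc']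
    exact (hG j _).1
  · have hval : ∀ f : GrLC.homDeg 𝒜' C'.gr E''.gr (-j), θ f.1 c ∈ E.gr 0 := fun f => by
      have h := hθdeg (-j) f.1 f.2 _ c hc
      rwa [neg_mul, add_neg_cancel] at h
    choose T hT hTτ using fun f => hτsurj _ (hval f)
    let Λ : GrLC.homDeg 𝒜' C'.gr E''.gr (-j) →ₗ[GrLC.deg0 𝒜'] GrLC.comp 𝒜' E''.gr 0 :=
      { toFun := fun f => ⟨T f, hT f⟩
        map_add' := fun f f' => Subtype.ext (hτi (by
          show τ (T (f + f')) = τ (T f + T f')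
          rw [map_add, hTτ, hTτ, hTτ, Submodule.coe_add, map_add, LinearMap.add_apply]))
        map_smul' := fun a f => Subtype.ext (hτi (by
          show τ (T (a • f)) = τ ((a : R') • T f)
          rw [hτs, hTτ, hTτ, show (a • f).1 = (a : R') • f.1 from rfl, hθs, LinearMap.smul_apply])) }
    obtain ⟨c', hc', hcΛ⟩ := exists_eval hpos' h0' E'' he' C' j Λ
    refine ⟨c', hc', ?_⟩
    show g₀ c' = c
    rw [hg₀ j c' hc']
    refine huniq j c' _ _ (hG j _) ⟨hc, fun f hf => ?_⟩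
    rw [hcΛ ⟨f, hf⟩]
    exact hTτ ⟨f, hf⟩

end GrModLib
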