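import Groth.Agent.GrModLib.CanonRestr
import Groth.Agent.GrModLib.CanonTop
import Groth.Agent.GrModLib.VerCanon

/-! The *canonical module of a finite algebra, in the case of equal dimensions. -/

set_option autoImplicit false
set_option maxHeartbeats 800000
universe u

open DirectSum

namespace GrModLib

variable {R : Type u} [CommRing R] [IsNoetherianRing R] {𝒜 : ℤ → AddSubgroup R} [GradedRing 𝒜]
  {S : Type u} [CommRing S] [IsNoetherianRing S] [Algebra R S] [Module.Finite R S] {𝒜' : ℤ → AddSubgroup S}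
  [GradedRing 𝒜'] (hf : ∀ j, (𝒜 j).map (algebraMap R S : R →+ S) ≤ 𝒜' j)
  (E : GrLC.GMod.{u} 𝒜) {e : (R ⧸ (posIdeal 𝒜).toIdeal) →ₗ[R] E.carrier}
  (E'' : GrLC.GMod.{u} 𝒜') {e' : (S ⧸ (posIdeal 𝒜').toIdeal) →ₗ[S] E''.carrier}

omit [Module.Finite R S] in
/-- The degree zero parts of the two hulls of the residue field. -/
theorem exists_socle_map (hpos : ∀ n : ℤ, n < 0 → 𝒜 n = ⊥) (h0 : IsField (GrLC.deg0 𝒜))
    (hpos' : ∀ n : ℤ, n < 0 → 𝒜' n = ⊥) (h0' : IsField (GrLC.deg0 𝒜'))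
    (hf' : ∀ j, (𝒜 j).map (algebraMap R S : R →+ S) ≤ 𝒜' j)
    (hf0 : (𝒜 0).map (algebraMap R S : R →+ S) = 𝒜' 0)
    (he : GrLC.IsStarInjHull 𝒜 (GrLC.quotGr 𝒜 (posIdeal 𝒜)) E.gr e)
    (he' : GrLC.IsStarInjHull 𝒜' (GrLC.quotGr 𝒜' (posIdeal 𝒜')) E''.gr e') :
    ∃ ε₀ : E''.carrier →+ E.carrier, (∀ y, ε₀ y ∈ E.gr 0) ∧
      (∀ (a : GrLC.deg0 𝒜) y, ε₀ (algebraMap R S (a : R) • y) = (a : R) • ε₀ y) ∧
      (∀ y ∈ E''.gr 0, ε₀ y = 0 → y = 0) ∧ ∀ z ∈ E.gr 0, ∃ y ∈ E''.gr 0, ε₀ y = z := by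
  have he1 : e 1 ∈ E.gr 0 := hull_mem_zero hpos he 1
  have he1' : e' 1 ∈ E''.gr 0 := hull_mem_zero hpos' he' 1
  have hf0mem : ∀ a : GrLC.deg0 𝒜, algebraMap R S (a : R) ∈ 𝒜' 0 := fun a => hf' 0 ⟨a, a.2, rfl⟩
  let u : GrLC.deg0 𝒜 →+ E.gr 0 :=
    AddMonoidHom.mk' (fun a => ⟨(a : R) • e 1, by
      have := smul_mem 𝒜 E.gr a.2 he1
      rwa [add_zero] at this⟩) fun a b => Subtype.ext (add_smul (a : R) b (e 1))
  let u' : GrLC.deg0 𝒜 →+ E''.gr 0 :=
    AddMonoidHom.mk' (fun a => ⟨algebraMap R S (a : R) • e' 1, by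
      have := smul_mem 𝒜' E''.gr (hf0mem a) he1'
      rwa [add_zero] at this⟩) fun a b => Subtype.ext (by
        show algebraMap R S ((a : R) + b) • e' 1 = _
        rw [map_add, add_smul]
        rfl)
  have hnz : (1 : S) ≠ 0 := fun h => hull_one_ne_zero hpos' h0' he' (by
    rw [← one_smul S (e' 1), h, zero_smul])
  have hunit : ∀ a : GrLC.deg0 𝒜, a ≠ 0 → ∃ b : GrLC.deg0 𝒜, (a : R) * (b : R) = 1 := fun a ha => by
    obtain ⟨b, hb⟩ := h0.mul_inv_cancel ha
    exact ⟨b, congrArg Subtype.val hb⟩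
  have hu : Function.Bijective u := by
    refine ⟨(injective_iff_map_eq_zero u).2 fun a ha => ?_, fun y => ?_⟩
    · by_contra hne
      obtain ⟨b, hb⟩ := hunit a hne
      refine hull_one_ne_zero hpos h0 he ?_
      rw [← one_smul R (e 1), ← hb, mul_comm, mul_smul, show (a : R) • e 1 = 0 from congrArg Subtype.val ha,
        smul_zero]
    · obtain ⟨z, hz⟩ := mem_range_of_deg_zero hpos h0 he y.2
      obtain ⟨t, rfl⟩ := Ideal.Quotient.mk_surjective z
      refine ⟨⟨pr 𝒜 0 t, pr_mem 𝒜 0 t⟩, Subtype.ext ?_⟩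
      show pr 𝒜 0 t • e 1 = y.1
      rw [← hz, ← map_smul]
      refine congrArg e ((Ideal.Quotient.eq).2 ?_)
      show pr 𝒜 0 t * 1 - t ∈ (posIdeal 𝒜).toIdeal
      rw [mul_one, ← neg_sub]
      exact neg_mem (mk_eq_mk_pr hpos t)
  have hu' : Function.Bijective u' := by
    refine ⟨(injective_iff_map_eq_zero u').2 fun a ha => ?_, fun y => ?_⟩
    · by_contra hne
      obtain ⟨b, hb⟩ := hunit a hne
      refine hull_one_ne_zero hpos' h0' he' ?_
      rw [← one_smul S (e' 1), show (1 : S) = algebraMap R S (b : R) * algebraMap R S (a : R) by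
        rw [← map_mul, mul_comm, hb, map_one], mul_smul,
        show algebraMap R S (a : R) • e' 1 = 0 from congrArg Subtype.val ha, smul_zero]
    · obtain ⟨z, hz⟩ := mem_range_of_deg_zero hpos' h0' he' y.2
      obtain ⟨t, rfl⟩ := Ideal.Quotient.mk_surjective z
      obtain ⟨a, ha, hat⟩ : pr 𝒜' 0 t ∈ (𝒜 0).map (algebraMap R S : R →+ S) := hf0 ▸ pr_mem 𝒜' 0 t
      refine ⟨⟨a, ha⟩, Subtype.ext ?_⟩
      show algebraMap R S a • e' 1 = y.1
      rw [show algebraMap R S a = pr 𝒜' 0 t from hat, ← hz, ← map_smul]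
      refine congrArg e' ((Ideal.Quotient.eq).2 ?_)
      show pr 𝒜' 0 t * 1 - t ∈ (posIdeal 𝒜').toIdeal
      rw [mul_one, ← neg_sub]
      exact neg_mem (mk_eq_mk_pr hpos' t)
  let ε : E''.gr 0 ≃+ E.gr 0 := (AddEquiv.ofBijective u' hu').symm.trans (AddEquiv.ofBijective u hu)
  let ε₀ : E''.carrier →+ E.carrier :=
    AddMonoidHom.mk' (fun y => (ε ⟨pr E''.gr 0 y, pr_mem E''.gr 0 y⟩ : E.carrier)) fun y z => by
      rw [← AddSubgroup.coe_add, ← map_add ε]
      exact congrArg (fun w => ((ε w : E.gr 0) : E.carrier)) (Subtype.ext (map_add _ y z))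
  have hεu : ∀ a : GrLC.deg0 𝒜, ε₀ (u' a : E''.carrier) = (u a : E.carrier) := fun a => by
    show ((ε ⟨_, _⟩ : E.gr 0) : E.carrier) = _
    refine congrArg Subtype.val ?_
    show ε ⟨pr E''.gr 0 (u' a : E''.carrier), _⟩ = u a
    rw [show (⟨pr E''.gr 0 (u' a : E''.carrier), pr_mem E''.gr 0 _⟩ : E''.gr 0) = u' a from
      Subtype.ext (pr_self E''.gr (u' a).2)]
    show AddEquiv.ofBijective u hu ((AddEquiv.ofBijective u' hu').symm (u' a)) = u a
    rw [show (AddEquiv.ofBijective u' hu').symm (u' a) = a from (AddEquiv.ofBijective u' hu').symm_apply_apply a]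
    rfl
  have hε₀0 : ∀ y, ε₀ y = ε₀ (pr E''.gr 0 y) := fun y => by
    show ((ε ⟨_, _⟩ : E.gr 0) : E.carrier) = ((ε ⟨_, _⟩ : E.gr 0) : E.carrier)
    exact congrArg (fun w => ((ε w : E.gr 0) : E.carrier))
      (Subtype.ext (pr_self E''.gr (pr_mem E''.gr 0 y)).symm)
  refine ⟨ε₀, fun y => SetLike.coe_mem _, fun a y => ?_, fun y hy h => ?_, fun z hz => ?_⟩
  · obtain ⟨b, hb⟩ := hu'.2 ⟨pr E''.gr 0 y, pr_mem E''.gr 0 y⟩
    rw [hε₀0, hε₀0 y, show pr E''.gr 0 y = (u' b : E''.carrier) from (congrArg Subtype.val hb).symm, hεu]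
    have h1 := pr_smul_add 𝒜' E''.gr (hf0mem a) 0 y
    rw [add_zero] at h1
    rw [h1, show pr E''.gr 0 y = (u' b : E''.carrier) from (congrArg Subtype.val hb).symm,
      show algebraMap R S (a : R) • (u' b : E''.carrier) = (u' (a * b) : E''.carrier) by
        show algebraMap R S (a : R) • algebraMap R S (b : R) • e' 1 = algebraMap R S ((a : R) * b) • e' 1
        rw [map_mul, mul_smul], hεu]
    exact mul_smul (a : R) (b : R) (e 1)
  · obtain ⟨b, hb⟩ := hu'.2 ⟨y, hy⟩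
    rw [show y = (u' b : E''.carrier) from (congrArg Subtype.val hb).symm, hεu] at h
    rw [show y = (u' b : E''.carrier) from (congrArg Subtype.val hb).symm, (injective_iff_map_eq_zero u).1 hu.1 b (Subtype.ext h)]
    exact congrArg Subtype.val (map_zero u')
  · obtain ⟨b, hb⟩ := hu.2 ⟨z, hz⟩
    exact ⟨_, (u' b).2, (hεu b).trans (congrArg Subtype.val hb)⟩

variable (C : GrLC.GMod.{u} 𝒜) [Module.Finite R C.carrier]

omit [IsNoetherianRing S] [Module.Finite R S] in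
/-- The pairing between two duals. -/
theorem exists_pairing (hpos : ∀ n : ℤ, n < 0 → 𝒜 n = ⊥) (h0 : IsField (GrLC.deg0 𝒜))
    (he : GrLC.IsStarInjHull 𝒜 (GrLC.quotGr 𝒜 (posIdeal 𝒜)) E.gr e) (C' : GrLC.GMod.{u} 𝒜')
    (ε₀ : E''.carrier →+ E.carrier) (hε0 : ∀ y, ε₀ y ∈ E.gr 0)
    (hεs : ∀ (a : GrLC.deg0 𝒜) y, ε₀ (algebraMap R S (a : R) • y) = (a : R) • ε₀ y) (c : ℤ)
    (T : (algG hf).carrier → (C.carrier →ₗ[R] E.carrier) → (C'.carrier →ₗ[S] E''.carrier))
    (hTs : ∀ (i : ℤ) (s s' : (algG hf).carrier), s ∈ (algG hf).gr i → s' ∈ (algG hf).gr i →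
      ∀ χ, T (s + s') χ = T s χ + T s' χ)
    (hTr : ∀ (h i : ℤ) (r : R) (s : (algG hf).carrier), r ∈ 𝒜 h → s ∈ (algG hf).gr i →
      ∀ χ, T (r • s) χ = T s (r • χ))
    (hTa : ∀ (i : ℤ) (s : (algG hf).carrier), s ∈ (algG hf).gr i → ∀ χ χ', T s (χ + χ') = T s χ + T s χ')
    (hTm : ∀ (i : ℤ) (s : (algG hf).carrier), s ∈ (algG hf).gr i →
      ∀ (r : R) χ, T s (r • χ) = algebraMap R S r • T s χ) :
    ∃ M : (restrG hf C').carrier →ₗ[R] ((algG hf).carrier →ₗ[R] C.carrier),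
      ∀ (i j : ℤ) (s : (algG hf).carrier) (c' : C'.carrier), s ∈ (algG hf).gr i → c' ∈ C'.gr j →
        M c' s ∈ C.gr (i + j + c) ∧
        ∀ χ : C.carrier →ₗ[R] E.carrier, GrLC.IsGrHomDeg C.gr E.gr χ (-(i + j + c)) →
          χ (M c' s) = ε₀ (T s χ c') := by
  classical
  let X := algG hf
  let Rel : ℤ → ℤ → X.carrier → C'.carrier → C.carrier → Prop := fun i j s c' v =>
    v ∈ C.gr (i + j + c) ∧ ∀ χ : C.carrier →ₗ[R] E.carrier,
      GrLC.IsGrHomDeg C.gr E.gr χ (-(i + j + c)) → χ v = ε₀ (T s χ c')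
  have huniq : ∀ i j s c' v v', Rel i j s c' v → Rel i j s c' v' → v = v' := fun i j s c' v v' h h' => by
    by_contra hne
    obtain ⟨χ, hχ, hχv⟩ := exists_hom_deg_ne_zero hpos h0 he C (sub_mem h.1 h'.1) (sub_ne_zero.2 hne)
    exact hχv (by rw [map_sub, h.2 χ hχ, h'.2 χ hχ, sub_self])
  have hex : ∀ (i j : ℤ) (s : X.gr i) (c' : C'.gr j), ∃ v, Rel i j s.1 c'.1 v := fun i j s c' => by
    let Λ : GrLC.homDeg 𝒜 C.gr E.gr (-(i + j + c)) →ₗ[GrLC.deg0 𝒜] GrLC.comp 𝒜 E.gr 0 :=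
      { toFun := fun χ => ⟨ε₀ (T s.1 χ.1 c'.1), hε0 _⟩
        map_add' := fun χ χ' => Subtype.ext (by
          show ε₀ (T s.1 (χ.1 + χ'.1) c'.1) = ε₀ (T s.1 χ.1 c'.1) + ε₀ (T s.1 χ'.1 c'.1)
          rw [hTa i _ s.2, LinearMap.add_apply, map_add])
        map_smul' := fun a χ => Subtype.ext (by
          show ε₀ (T s.1 ((a : R) • χ.1) c'.1) = (a : R) • ε₀ (T s.1 χ.1 c'.1)
          rw [hTm i _ s.2, LinearMap.smul_apply, hεs]) }
    obtain ⟨v, hv, hvΛ⟩ := exists_eval hpos h0 E he C (i + j + c) Λ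
    exact ⟨v, hv, fun χ hχ => hvΛ ⟨χ, hχ⟩⟩
  choose G hG using hex
  -- linear in the ring variable
  let inner : ∀ j : ℤ, C'.gr j → (X.carrier →+ C.carrier) := fun j c' =>
    (DirectSum.toAddMonoid fun i => AddMonoidHom.mk' (fun s => G i j s c') fun s s' =>
      huniq i j _ _ _ _ (hG i j (s + s') c') ⟨add_mem (hG i j s c').1 (hG i j s' c').1, fun χ hχ => by
        rw [map_add χ, (hG i j s c').2 χ hχ, (hG i j s' c').2 χ hχ, AddSubgroup.coe_add, hTs i _ _ s.2 s'.2,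
          LinearMap.add_apply, map_add ε₀]⟩).comp (DirectSum.decomposeAddEquiv X.gr).toAddMonoidHom
  have hinner : ∀ i j (s : X.carrier) (hs : s ∈ X.gr i) (c' : C'.gr j), inner j c' s = G i j ⟨s, hs⟩ c' :=
    fun i j s hs c' => by
      show DirectSum.toAddMonoid _ (DirectSum.decompose X.gr s) = _
      rw [DirectSum.decompose_of_mem X.gr hs, DirectSum.toAddMonoid_of]
      rfl
  let innerL : ∀ j : ℤ, C'.gr j → (X.carrier →ₗ[R] C.carrier) := fun j c' =>
    linearOf 𝒜 X.gr (inner j c') fun h r hr i s hs => by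
      rw [hinner _ j _ (smul_mem 𝒜 X.gr hr hs) c', hinner i j s hs c']
      refine huniq (h + i) j _ _ _ _ (hG (h + i) j _ c') ⟨?_, fun χ hχ => ?_⟩
      · rw [show h + i + j + c = h + (i + j + c) by ring]
        exact smul_mem 𝒜 C.gr hr (hG i j _ c').1
      · have hrχ : GrLC.IsGrHomDeg C.gr E.gr (r • χ) (-(i + j + c)) := fun l m hm => by
          have h1 := smul_mem 𝒜 E.gr hr (hχ l m hm)
          rwa [show h + (l + -(h + i + j + c)) = l + -(i + j + c) by ring] at h1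
        show χ (r • G i j ⟨s, hs⟩ c') = ε₀ (T (r • s) χ c'.1)
        rw [map_smul χ, ← LinearMap.smul_apply, (hG i j _ c').2 _ hrχ, hTr h i r s hr hs]
  have hinnerL : ∀ i j (s : X.carrier) (hs : s ∈ X.gr i) (c' : C'.gr j), innerL j c' s = G i j ⟨s, hs⟩ c' := hinner
  let CR := restrG hf C'
  let outer : CR.carrier →+ (X.carrier →ₗ[R] C.carrier) :=
    (DirectSum.toAddMonoid fun j => AddMonoidHom.mk' (innerL j) fun a b => LinearMap.ext fun s => by
      induction s using induction X.gr with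
      | h0 => rw [map_zero, map_zero]
      | hadd s s' hs hs' => rw [map_add, map_add, hs, hs']
      | hmem i s hs =>
        rw [LinearMap.add_apply, hinnerL i j s hs, hinnerL i j s hs, hinnerL i j s hs]
        exact huniq i j _ _ _ _ (hG i j ⟨s, hs⟩ (a + b)) ⟨add_mem (hG i j _ a).1 (hG i j _ b).1, fun χ hχ => by
          rw [map_add χ, (hG i j _ a).2 χ hχ, (hG i j _ b).2 χ hχ, AddSubgroup.coe_add, map_add (T s χ),
            map_add ε₀]⟩).comp (DirectSum.decomposeAddEquiv C'.gr).toAddMonoidHom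
  have houter : ∀ j (c' : C'.carrier) (h : c' ∈ C'.gr j), outer c' = innerL j ⟨c', h⟩ := fun j c' h => by
    show DirectSum.toAddMonoid _ (DirectSum.decompose C'.gr c') = _
    rw [DirectSum.decompose_of_mem C'.gr h, DirectSum.toAddMonoid_of]
    rfl
  refine ⟨linearOf 𝒜 CR.gr outer fun h r hr j c' hc' => LinearMap.ext fun s => ?_, fun i j s c' hs hc' => ?_⟩
  · have hrc : r • c' ∈ C'.gr (h + j) := smul_mem 𝒜 CR.gr hr hc'
    induction s using induction X.gr with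
    | h0 => rw [map_zero, map_zero]
    | hadd s s' hs hs' => rw [map_add, map_add, hs, hs']
    | hmem i s hs =>
      rw [houter _ _ hrc, houter j c' hc', hinnerL i _ s hs, LinearMap.smul_apply, hinnerL i j s hs]
      refine huniq i (h + j) _ _ _ _ (hG i (h + j) _ _) ⟨?_, fun χ hχ => ?_⟩
      · rw [show i + (h + j) + c = h + (i + j + c) by ring]
        exact smul_mem 𝒜 C.gr hr (hG i j _ _).1
      · have hrχ : GrLC.IsGrHomDeg C.gr E.gr (r • χ) (-(i + j + c)) := fun l m hm => by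
          have h1 := smul_mem 𝒜 E.gr hr (hχ l m hm)
          rwa [show h + (l + -(i + (h + j) + c)) = l + -(i + j + c) by ring] at h1
        show χ (r • G i j _ _) = ε₀ (T s χ (algebraMap R S r • (id c' : C'.carrier)))
        rw [map_smul χ, ← LinearMap.smul_apply, (hG i j _ _).2 _ hrχ, hTm i s hs, LinearMap.smul_apply,
          map_smul (T s χ)]
        rfl
  · rw [linearOf_apply, houter j c' hc', hinnerL i j s hs]
    exact hG i j _ _

/-- The *canonical module of a finite algebra of the same dimension. -/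
theorem exists_finite_equiv (hpos : ∀ n : ℤ, n < 0 → 𝒜 n = ⊥) (h0 : IsField (GrLC.deg0 𝒜))
    (he : GrLC.IsStarInjHull 𝒜 (GrLC.quotGr 𝒜 (posIdeal 𝒜)) E.gr e)
    (hpos' : ∀ n : ℤ, n < 0 → 𝒜' n = ⊥) (h0' : IsField (GrLC.deg0 𝒜'))
    (hf0 : (𝒜 0).map (algebraMap R S : R →+ S) = 𝒜' 0)
    (he' : GrLC.IsStarInjHull 𝒜' (GrLC.quotGr 𝒜' (posIdeal 𝒜')) E''.gr e')
    (N : GrLC.GMod.{u} 𝒜) [Module.Finite R N.carrier] {g₀ : N.carrier} (hg₀ : g₀ ∈ N.gr 0)
    (hgen : ∀ y, ∃ r : R, r • g₀ = y) (hann : ∀ r : R, r • g₀ = 0 → algebraMap R S r = 0) {p : ℕ}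
    (hdim : Module.supportDim R N.carrier ≤ (p : ℕ)) (I : GrLC.StarInjRes 𝒜 N.gr) (c : ℤ)
    (Φ : (C.carrier →ₗ[R] E.carrier) ≃ₗ[R] I.H (posIdeal 𝒜) p)
    (hΦ : ∀ (g : ℤ) (χ : C.carrier →ₗ[R] E.carrier), GrLC.IsGrHomDeg C.gr E.gr χ g →
      Φ χ ∈ I.Hgr (posIdeal 𝒜) p (g + c))
    (C' : GrLC.GMod.{u} 𝒜') [Module.Finite S C'.carrier] (I' : GrLC.StarInjRes 𝒜' 𝒜')
    (φC' : (C'.carrier →ₗ[S] E''.carrier) ≃ₗ[S] I'.H (posIdeal 𝒜') p)
    (hφC' : GrLC.IsGrHom (fun d => (GrLC.homDeg 𝒜' C'.gr E''.gr d).toAddSubgroup) (I'.Hgr (posIdeal 𝒜') p)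
      φC'.toLinearMap) :
    Nonempty ((restrG hf C').carrier ≃ₗ[R] ((algG hf).carrier →ₗ[R] C.carrier)) := by
  classical
  let X := algG hf
  haveI hXf : Module.Finite R X.carrier := inferInstanceAs (Module.Finite R S)
  let a := posIdeal 𝒜
  obtain ⟨ε₀, hε0, hεs, hεi, hεsu⟩ := exists_socle_map E E'' hpos h0 hpos' h0' hf hf0 he he'
  obtain ⟨F⟩ := nonempty_resG X
  obtain ⟨Θ, hΘs, hΘd, hΘd'⟩ := exists_restrH hf F I' p
  -- the comparison Ψ
  let Ψ : (C'.carrier →ₗ[S] E''.carrier) ≃+ F.H a p := φC'.toAddEquiv.trans Θ.symm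
  have hΨs : ∀ (r : R) f, Ψ (algebraMap R S r • f) = r • Ψ f := fun r f => Θ.injective (by
    show Θ (Θ.symm (φC' (algebraMap R S r • f))) = Θ (r • Θ.symm (φC' f))
    rw [hΘs, Θ.apply_symm_apply, Θ.apply_symm_apply, map_smul])
  have hΨd : ∀ g f, GrLC.IsGrHomDeg C'.gr E''.gr f g → Ψ f ∈ F.Hgr a p g := fun g f h => hΘd' g _ (hφC' g f h)
  have hΨd' : ∀ g y, y ∈ F.Hgr a p g → GrLC.IsGrHomDeg C'.gr E''.gr (Ψ.symm y) g := fun g y hy =>
    deg_of_mem C' E'' (GrLC.GMod.of 𝒜' (I'.H (posIdeal 𝒜') p) (I'.Hgr (posIdeal 𝒜') p)) φC' hφC' (by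
      show φC' (φC'.symm (Θ y)) ∈ _
      rw [φC'.apply_symm_apply]
      exact hΘd g y hy)
  have hΨsr : ∀ (r : R) y, Ψ.symm (r • y) = algebraMap R S r • Ψ.symm y := fun r y => Ψ.injective (by
    rw [hΨs, Ψ.apply_symm_apply, Ψ.apply_symm_apply])
  have hΦd' : ∀ g y, y ∈ I.Hgr a p (g + c) → GrLC.IsGrHomDeg C.gr E.gr (Φ.symm y) g := fun g y hy =>
    deg_of_mem C E (shiftG 𝒜 (I.Hgr a p) c) Φ hΦ (by
      show Φ (Φ.symm y) ∈ _
      rw [Φ.apply_symm_apply]
      exact hy)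
  -- the maps attached to elements of S
  have hkill : ∀ r : R, r • g₀ = 0 → ∀ x : X.carrier, r • x = 0 := fun r hr (x : S) => by
    show r • x = 0
    rw [Algebra.smul_def, hann r hr, zero_mul]
  have hι : ∀ s : X.carrier, ∃ f : N.carrier →ₗ[R] X.carrier, ∀ r : R, f (r • g₀) = r • s := fun s => by
    have h : ∀ i : ℤ, ∃ f : N.carrier →ₗ[R] X.carrier, ∀ r : R, f (r • g₀) = r • pr X.gr i s := fun i => by
      obtain ⟨f, -, hfr⟩ := exists_cyclicMap N X hg₀ hgen (pr_mem X.gr i s) (fun r hr => hkill r hr _)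
      exact ⟨f, hfr⟩
    choose f hfr using h
    obtain ⟨t, -, ht⟩ := exists_finset X.gr s
    refine ⟨∑ i ∈ t, f i, fun r => ?_⟩
    rw [LinearMap.sum_apply, Finset.sum_congr rfl (fun i _ => hfr i r), ← Finset.smul_sum, ht]
  choose ι hιr using hι
  have hιd : ∀ i s, s ∈ X.gr i → GrLC.IsGrHomDeg N.gr X.gr (ι s) i := fun i s hs => by
    obtain ⟨f, hf', hfr⟩ := exists_cyclicMap N X hg₀ hgen hs (fun r hr => hkill r hr s)
    rw [show ι s = f from LinearMap.ext fun y => by obtain ⟨r, rfl⟩ := hgen y; rw [hιr, hfr]]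
    exact hf'
  let P : X.carrier → (I.H a p →ₗ[R] F.H a p) := fun s =>
    if h : ∃ i, s ∈ X.gr i then Hmap I F a (ι s) h.choose (hιd _ s h.choose_spec) p else 0
  have hιeq : ∀ s s' : X.carrier, s = s' → ι s = ι s' := fun s s' h => by rw [h]
  have hP : ∀ i s (hs : s ∈ X.gr i), P s = Hmap I F a (ι s) i (hιd i s hs) p := fun i s hs => by
    have h : ∃ i, s ∈ X.gr i := ⟨i, hs⟩
    show (if h : ∃ i, s ∈ X.gr i then Hmap I F a (ι s) h.choose (hιd _ s h.choose_spec) p else 0) = _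
    rw [dif_pos h]
    by_cases hs0 : s = 0
    · have hz : ι s = 0 := LinearMap.ext fun y => by
        obtain ⟨r, rfl⟩ := hgen y
        rw [hιr, hs0, smul_zero]
        rfl
      rw [Hmap_congr I F a _ (IsGrHomDeg.zero h.choose) hz rfl, Hmap_zero I F a,
        Hmap_congr I F a (hιd i s hs) (IsGrHomDeg.zero i) hz rfl, Hmap_zero I F a]
    · refine Hmap_congr I F a _ _ rfl ?_ p
      by_contra hne
      exact hs0 ((pr_self X.gr h.choose_spec).symm.trans (pr_ne X.gr hs (Ne.symm hne)))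
  let T : X.carrier → (C.carrier →ₗ[R] E.carrier) → (C'.carrier →ₗ[S] E''.carrier) := fun s χ =>
    Ψ.symm (P s (Φ χ))
  have hTr : ∀ (h i : ℤ) (r : R) (s : X.carrier), r ∈ 𝒜 h → s ∈ X.gr i → ∀ χ, T (r • s) χ = T s (r • χ) := by
    intro h i r s hr hs χ
    have hrd : GrLC.IsGrHomDeg N.gr N.gr (r • (LinearMap.id : N.carrier →ₗ[R] N.carrier)) h :=
      fun g y hy => by rw [add_comm]; exact smul_mem 𝒜 N.gr hr hy
    show Ψ.symm (P (r • s) (Φ χ)) = Ψ.symm (P s (Φ (r • χ)))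
    rw [map_smul Φ, hP (h + i) _ (smul_mem 𝒜 X.gr hr hs), hP i s hs,
      Hmap_congr I F a _ (IsGrHomDeg.comp hrd (hιd i s hs)) (LinearMap.ext fun y => by
        obtain ⟨t, rfl⟩ := hgen y
        show ι (r • s) (t • g₀) = ι s (r • (t • g₀))
        rw [hιr, ← mul_smul r t g₀, hιr, ← mul_smul, mul_comm]) rfl,
      Hmap_comp I I F a hrd (hιd i s hs), Hmap_smul I a r hrd hr]
    rfl
  obtain ⟨M, hM⟩ := exists_pairing hf E E'' C hpos h0 he C' ε₀ hε0 hεs c T
    (fun i s s' hs hs' χ => by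
      show Ψ.symm (P (s + s') (Φ χ)) = Ψ.symm (P s (Φ χ)) + Ψ.symm (P s' (Φ χ))
      rw [← map_add Ψ.symm, hP i _ (add_mem hs hs'), hP i s hs, hP i s' hs',
        Hmap_congr I F a (f' := ι s + ι s') _ (fun g y hy => add_mem (hιd i s hs g y hy) (hιd i s' hs' g y hy))
          (LinearMap.ext fun y => by
            obtain ⟨r, rfl⟩ := hgen y
            show ι (s + s') (r • g₀) = ι s (r • g₀) + ι s' (r • g₀)
            rw [hιr, hιr, hιr, smul_add]) rfl,
        Hmap_add I F a (hιd i s hs) (hιd i s' hs'), LinearMap.add_apply])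
    hTr
    (fun i s _ χ χ' => by
      show Ψ.symm (P s (Φ (χ + χ'))) = Ψ.symm (P s (Φ χ)) + Ψ.symm (P s (Φ χ'))
      rw [map_add Φ, map_add (P s), map_add Ψ.symm])
    (fun i s _ r χ => by
      show Ψ.symm (P s (Φ (r • χ))) = algebraMap R S r • Ψ.symm (P s (Φ χ))
      rw [map_smul Φ, map_smul (P s), hΨsr])
  -- generators
  obtain ⟨k, d, m, hm, hspan⟩ := exists_homogeneous_generators 𝒜 X.gr (top_isHomogeneous X.gr)
    (Module.Finite.fg_top (R := R) (M := X.carrier))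
  have hPd : ∀ l, GrLC.IsGrHomDeg N.gr X.gr (ι (m l)) (d l) := fun l => hιd _ _ (hm l)
  have hrep : ∀ (g : ℤ) (f : C'.carrier →ₗ[S] E''.carrier), GrLC.IsGrHomDeg C'.gr E''.gr f g →
      ∃ η : Fin k → I.H a p, (∀ l, η l ∈ I.Hgr a p (g - d l)) ∧ Ψ f = ∑ l, P (m l) (η l) := by
    intro g f hfd
    obtain ⟨η, hη⟩ := Htop_surj N X hg₀ hgen hkill hdim a I F d m hm hspan (fun l => ι (m l)) hPd
      (fun l r => hιr (m l) r) (Ψ f)
    refine ⟨fun l => pr (I.Hgr a p) (g - d l) (η l), fun l => pr_mem _ _ _, ?_⟩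
    rw [← pr_self (F.Hgr a p) (hΨd g f hfd), hη, map_sum]
    refine Finset.sum_congr rfl fun l _ => ?_
    rw [hP _ _ (hm l), map_pr_deg (Hmap_deg I F a (hPd l) p), sub_add_cancel]
  let val : (X.carrier →ₗ[R] C.carrier) → (Fin k → I.H a p) → E.carrier := fun h η =>
    ∑ l, Φ.symm (η l) (h (m l))
  have hval : ∀ h η η', ∑ l, P (m l) (η l) = ∑ l, P (m l) (η' l) → val h η = val h η' := by
    intro h η η' heq
    have h0' : ∑ l, P (m l) (η l - η' l) = 0 := by
      simp only [map_sub, Finset.sum_sub_distrib, heq, sub_self]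
    obtain ⟨L, rel, θ, hθ, hrel⟩ := Htop_rel N X hg₀ hgen hkill hdim a I F d m hm hspan (fun l => ι (m l)) hPd
      (fun l r => hιr (m l) r) (fun l => η l - η' l) (by
        rw [← h0']; exact Finset.sum_congr rfl fun l _ => by rw [hP _ _ (hm l)])
    refine sub_eq_zero.1 ?_
    show (∑ l, Φ.symm (η l) (h (m l))) - ∑ l, Φ.symm (η' l) (h (m l)) = 0
    rw [← Finset.sum_sub_distrib, Finset.sum_congr rfl (g := fun l => ∑ q, Φ.symm (θ q) (h (rel q l • m l)))
      (fun l _ => by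
        rw [← LinearMap.sub_apply, ← map_sub, hθ l, map_sum, LinearMap.sum_apply]
        exact Finset.sum_congr rfl fun q _ => by
          rw [map_smul Φ.symm, LinearMap.smul_apply, map_smul h, map_smul (Φ.symm (θ q))]),
      Finset.sum_comm]
    refine Finset.sum_eq_zero fun q _ => ?_
    rw [← map_sum (Φ.symm (θ q)), ← map_sum h, hrel q, map_zero, map_zero]
  -- the value of the pairing on generators
  have hMdeg : ∀ i j (s : X.carrier) (c' : C'.carrier), s ∈ X.gr i → c' ∈ C'.gr j → M c' s ∈ C.gr (i + j + c) :=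
    fun i j s c' hs hc' => (hM i j s c' hs hc').1
  refine ⟨LinearEquiv.ofBijective M ⟨(injective_iff_map_eq_zero M).2 fun x hx => ?_, fun h => ?_⟩⟩
  · refine pr_ext (restrG hf C').gr fun j => ?_
    rw [map_zero]
    have hxj : pr (restrG hf C').gr j x ∈ C'.gr j := pr_mem (restrG hf C').gr j x
    have hMz : ∀ i (s : X.carrier), s ∈ X.gr i → M (pr (restrG hf C').gr j x) s = 0 := fun i s hs => by
      have hdeg : GrLC.IsGrHomDeg (restrG hf C').gr C.gr (M.flip s) (i + c) := fun l v hv => by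
        rw [show l + (i + c) = i + l + c by ring]
        exact hMdeg i l s v hs hv
      have h1 := map_pr_deg hdeg j x
      rw [LinearMap.flip_apply, LinearMap.flip_apply, hx, LinearMap.zero_apply, map_zero] at h1
      exact h1
    by_contra hne
    obtain ⟨f, hfd, hfv⟩ := exists_hom_deg_ne_zero hpos' h0' he' C' hxj hne
    obtain ⟨η, hηd, hη⟩ := hrep (-j) f hfd
    refine hfv (hεi _ (by
      have := hfd j _ hxj
      rwa [add_neg_cancel] at this) ?_)
    rw [← Ψ.symm_apply_apply f, hη, map_sum, LinearMap.sum_apply, map_sum]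
    refine Finset.sum_eq_zero fun l _ => ?_
    have hχ : GrLC.IsGrHomDeg C.gr E.gr (Φ.symm (η l)) (-(d l + j + c)) := hΦd' _ _ (by
      rw [show -(d l + j + c) + c = -j - d l by ring]; exact hηd l)
    rw [show Ψ.symm (P (m l) (η l)) = T (m l) (Φ.symm (η l)) by
      show _ = Ψ.symm (P (m l) (Φ (Φ.symm (η l))))
      rw [Φ.apply_symm_apply]]
    rw [← (hM (d l) j (m l) _ (hm l) hxj).2 _ hχ, hMz (d l) (m l) (hm l), map_zero]
  · obtain ⟨D, hc, hhd, hsum⟩ := exists_hom_components (𝓔 := C.gr) X h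
    suffices hh : ∀ δ (h : X.carrier →ₗ[R] C.carrier), GrLC.IsGrHomDeg X.gr C.gr h δ → h ∈ LinearMap.range M by
      obtain ⟨x, hx⟩ : h ∈ LinearMap.range M := hsum ▸ sum_mem fun δ _ => hh δ _ (hhd δ)
      exact ⟨x, hx⟩
    intro δ h hhδ
    let j := δ - c
    have hvd : ∀ (η : Fin k → I.H a p), (∀ l, η l ∈ I.Hgr a p (-j - d l)) → val h η ∈ E.gr 0 := fun η hη =>
      sum_mem fun l _ => by
        have h1 := hΦd' (-(d l + δ)) (η l) (by
          rw [show -(d l + δ) + c = -j - d l by simp only [j]; ring]; exact hη l) _ _ (hhδ _ _ (hm l))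
        rwa [show d l + δ + -(d l + δ) = 0 by ring] at h1
    choose rep hrepd hrepe using fun f : GrLC.homDeg 𝒜' C'.gr E''.gr (-j) => hrep (-j) f.1 f.2
    choose W hW hWe using fun f => hεsu (val h (rep f)) (hvd _ (hrepd f))
    have hWadd : ∀ f f', W (f + f') = W f + W f' := fun f f' => sub_eq_zero.1 (hεi _
      (sub_mem (hW _) (add_mem (hW _) (hW _))) (by
        rw [map_sub, map_add, hWe, hWe, hWe, sub_eq_zero]
        refine (hval h (rep (f + f')) (rep f + rep f') ?_).trans ?_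
        · rw [← hrepe]
          show Ψ (f.1 + f'.1) = ∑ l, P (m l) (rep f l + rep f' l)
          simp only [map_add, Finset.sum_add_distrib, hrepe]
        · show ∑ l, Φ.symm (rep f l + rep f' l) (h (m l)) = _
          simp only [map_add, LinearMap.add_apply, Finset.sum_add_distrib]
          rfl))
    let Λ : GrLC.homDeg 𝒜' C'.gr E''.gr (-j) →ₗ[GrLC.deg0 𝒜'] GrLC.comp 𝒜' E''.gr 0 :=
      { toFun := fun f => ⟨W f, hW f⟩
        map_add' := fun f f' => Subtype.ext (hWadd f f')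
        map_smul' := fun b f => Subtype.ext (by
          show W (b • f) = (b : S) • W f
          obtain ⟨b₀, hb₀, hb⟩ : (b : S) ∈ (𝒜 0).map (algebraMap R S : R →+ S) := hf0 ▸ b.2
          have hb' : algebraMap R S b₀ = (b : S) := hb
          refine sub_eq_zero.1 (hεi _ (sub_mem (hW _) (by
            have := smul_mem 𝒜' E''.gr b.2 (hW f)
            rwa [add_zero] at this)) ?_)
          rw [map_sub, sub_eq_zero, hWe, ← hb', hεs ⟨b₀, hb₀⟩, hWe]
          refine (hval h (rep (b • f)) (fun l => b₀ • rep f l) ?_).trans ?_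
          · rw [← hrepe]
            show Ψ ((b : S) • f.1) = ∑ l, P (m l) (b₀ • rep f l)
            rw [← hb', hΨs, hrepe, Finset.smul_sum]
            exact Finset.sum_congr rfl fun l _ => (map_smul (P (m l)) b₀ _).symm
          · show ∑ l, Φ.symm (b₀ • rep f l) (h (m l)) = b₀ • ∑ l, Φ.symm (rep f l) (h (m l))
            simp only [map_smul, LinearMap.smul_apply, Finset.smul_sum]) }
    obtain ⟨c', hc', hcΛ⟩ := exists_eval hpos' h0' E'' he' C' j Λ
    refine ⟨c', LinearMap.ext fun s => ?_⟩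
    induction s using induction X.gr with
    | h0 => rw [map_zero, map_zero]
    | hadd s s' hs hs' => rw [map_add, map_add, hs, hs']
    | hmem i s hs =>
      by_contra hne
      have hhs : h s ∈ C.gr (i + j + c) := by
        rw [show i + j + c = i + δ by simp only [j]; ring]; exact hhδ i s hs
      obtain ⟨χ, hχ, hχv⟩ := exists_hom_deg_ne_zero hpos h0 he C (sub_mem (hMdeg i j s c' hs hc') hhs)
        (sub_ne_zero.2 hne)
      refine hχv ?_
      rw [map_sub, sub_eq_zero, (hM i j s c' hs hc').2 χ hχ]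
      have hTd : GrLC.IsGrHomDeg C'.gr E''.gr (T s χ) (-j) := hΨd' _ _ (by
        rw [hP i s hs]
        have := Hmap_deg I F a (hιd i s hs) p _ _ (hΦ _ χ hχ)
        rwa [show -(i + j + c) + c + i = -j by ring] at this)
      rw [show T s χ c' = W ⟨T s χ, hTd⟩ from hcΛ ⟨T s χ, hTd⟩, hWe]
      obtain ⟨coef, hcoef⟩ := (Submodule.mem_span_range_iff_exists_fun R).1 (hspan.ge (Submodule.mem_top (x := s)))
      have hs' : s = ∑ l, pr 𝒜 (i - d l) (coef l) • m l := by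
        rw [← pr_self X.gr hs, ← hcoef, map_sum]
        exact Finset.sum_congr rfl fun l _ => pr_smul_mem 𝒜 X.gr (hm l) _ _
      have hrd : ∀ l, GrLC.IsGrHomDeg N.gr N.gr
          (pr 𝒜 (i - d l) (coef l) • (LinearMap.id : N.carrier →ₗ[R] N.carrier)) (i - d l) := fun l g y hy => by
        rw [add_comm]; exact smul_mem 𝒜 N.gr (pr_mem 𝒜 _ _) hy
      have hterm : ∀ l, GrLC.IsGrHomDeg N.gr X.gr
          (ι (m l) ∘ₗ (pr 𝒜 (i - d l) (coef l) • (LinearMap.id : N.carrier →ₗ[R] N.carrier))) i := fun l => by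
        have := IsGrHomDeg.comp (hrd l) (hPd l)
        rwa [sub_add_cancel] at this
      refine (hval h _ (fun l => pr 𝒜 (i - d l) (coef l) • Φ χ) ?_).trans ?_
      · rw [← hrepe]
        show Ψ (Ψ.symm (P s (Φ χ))) = _
        rw [Ψ.apply_symm_apply, hP i s hs,
          Hmap_congr I F a _ (show GrLC.IsGrHomDeg N.gr X.gr (∑ l, ι (m l) ∘ₗ (pr 𝒜 (i - d l) (coef l) •
            (LinearMap.id : N.carrier →ₗ[R] N.carrier))) i from fun g y hy => by
              rw [LinearMap.sum_apply]; exact sum_mem fun l _ => hterm l g y hy)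
            (LinearMap.ext fun y => by
              obtain ⟨t, rfl⟩ := hgen y
              rw [hιr, LinearMap.sum_apply]
              conv_lhs => rw [hs']
              rw [Finset.smul_sum]
              refine Finset.sum_congr rfl fun l _ => ?_
              show t • pr 𝒜 (i - d l) (coef l) • m l = ι (m l) (pr 𝒜 (i - d l) (coef l) • (t • g₀))
              rw [← mul_smul (pr 𝒜 (i - d l) (coef l)) t g₀, hιr, ← mul_smul, mul_comm]) rfl,
          Hmap_sum I F a _ _ hterm, LinearMap.sum_apply]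
        refine Finset.sum_congr rfl fun l _ => ?_
        rw [hP _ _ (hm l), Hmap_congr I F a (hterm l) (IsGrHomDeg.comp (hrd l) (hPd l)) rfl (sub_add_cancel _ _).symm,
          Hmap_comp I I F a (hrd l) (hPd l), Hmap_smul I a _ (hrd l) (pr_mem 𝒜 _ _)]
        rfl
      · show ∑ l, Φ.symm (pr 𝒜 (i - d l) (coef l) • Φ χ) (h (m l)) = _
        conv_rhs => rw [hs']
        rw [map_sum h, map_sum χ]
        refine Finset.sum_congr rfl fun l _ => ?_
        rw [map_smul Φ.symm, Φ.symm_apply_apply, LinearMap.smul_apply, map_smul h, map_smul χ]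

end GrModLib
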