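import Groth.Agent.GrModLib.Canon
import Groth.Prelude.Def_CAlg

/-! The *canonical module of a Cohen–Macaulay ring graded over a field. -/

set_option autoImplicit false
universe u

open DirectSum

namespace GrModLib

variable {R : Type u} [CommRing R] [LocCoh.IsCohenMacaulayRing R] {𝒜 : ℤ → AddSubgroup R} [GradedRing 𝒜]
variable {E' : Type u} [AddCommGroup E'] [Module R E'] {𝓔 : ℤ → AddSubgroup E'} [DirectSum.Decomposition 𝓔]
  [SetLike.GradedSMul 𝒜 𝓔]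

/-- Bass numbers of the *canonical module, and the type of the ring. -/
theorem canon_data (hpos : ∀ n : ℤ, n < 0 → 𝒜 n = ⊥) (h0 : IsField (GrLC.deg0 𝒜))
    {e : (R ⧸ (posIdeal 𝒜).toIdeal) →ₗ[R] E'}
    (he : GrLC.IsStarInjHull 𝒜 (GrLC.quotGr 𝒜 (posIdeal 𝒜)) 𝓔 e) [(posIdeal 𝒜).toIdeal.IsMaximal]
    {n : ℕ} (hn : ringKrullDim R = n) (I : GrLC.StarInjRes 𝒜 𝒜) (C : GrLC.GMod.{u} 𝒜)
    (hC : GrLC.IsStarCanonical 𝒜 C.gr 𝓔 (posIdeal 𝒜) n I) :
    (∀ i, GrLC.bassNum (posIdeal 𝒜).toIdeal C.carrier i = if i = n then 1 else 0) ∧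
      (∀ j, j < n → GrLC.bassNum (posIdeal 𝒜).toIdeal R j = 0) ∧
      GrLC.bassNum (posIdeal 𝒜).toIdeal R n =
        (Module.finrank (R ⧸ (posIdeal 𝒜).toIdeal)
          (TensorProduct R (R ⧸ (posIdeal 𝒜).toIdeal) C.carrier) : ℕ∞) := by
  obtain ⟨hfin, φ, -⟩ := hC
  let N : GrLC.GMod.{u} 𝒜 := GrLC.GMod.of 𝒜 R 𝒜
  haveI hNf : Module.Finite R N.carrier := inferInstanceAs (Module.Finite R R)
  have hD : ∀ i, GrLC.bassNum (posIdeal 𝒜).toIdeal (N.carrier →ₗ[R] E') i = (Nat.choose 0 i : ℕ∞) := fun i =>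
    (bassNum_congr (posIdeal 𝒜).toIdeal (LinearMap.ringLmapEquivSelf R R E') i).trans (bassNum_hull hpos h0 he i)
  obtain ⟨h1, h2, h3⟩ := canon_bassNum hpos h0 he n N C hNf hfin I 0
    (fun j hj m => van_below_dim hpos (isStarLocal_posIdeal hpos h0) hn j hj m)
    ((Module.supportDim_le_ringKrullDim R R).trans hn.le) hD φ
  refine ⟨fun i => ?_, h2, h3.trans (length_tors_dual hpos h0 he C)⟩
  rw [h1 i]
  rcases lt_trichotomy i n with h | h | h
  · rw [if_neg (by omega), if_neg (by omega)]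
  · rw [if_pos h.ge, if_pos h, h, Nat.sub_self, Nat.choose_zero_right, Nat.cast_one]
  · rw [if_pos (by omega), if_neg (by omega), Nat.choose_eq_zero_of_lt (by omega), Nat.cast_zero]

end GrModLib
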