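import Groth.Agent.GrModLib.Veronese

/-! Local cohomology of Veronese submodules. -/

set_option autoImplicit false
universe u

open DirectSum

namespace GrModLib

variable {R : Type u} [CommRing R] [IsNoetherianRing R] {𝒜 : ℤ → AddSubgroup R} [GradedRing 𝒜]
  {R' : Type u} [CommRing R'] {𝒜' : ℤ → AddSubgroup R'} [GradedRing 𝒜'] {φ : R' →+* R} {q : ℕ}

omit [IsNoetherianRing R] in
theorem prDvd_mem {X : GrLC.GMod.{u} 𝒜} {P : Submodule R X.carrier} (hP : P.IsHomogeneous X.gr) {x : X.carrier}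
    (hx : x ∈ P) : prDvd (q := q) X x ∈ P := by
  classical
  obtain ⟨s, -, hs⟩ := exists_finset X.gr x
  rw [← hs, map_sum]
  refine sum_mem fun g _ => ?_
  rw [prDvd_of_mem (pr_mem X.gr g x)]
  split_ifs
  · exact hP g hx
  · exact zero_mem _

/-- The graded local cohomology of a Veronese submodule is the Veronese of the graded local cohomology. -/
theorem exists_verH (hV : IsVer 𝒜 𝒜' φ q) (N : GrLC.GMod.{u} 𝒜) (A : GrLC.GMod.{u} 𝒜')
    (g : A.carrier →ₛₗ[φ] N.carrier) (hg : Function.Injective g)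
    (hgdeg : ∀ j : ℤ, (A.gr j).map (g : A.carrier →+ N.carrier) = N.gr (j * q))
    (E : GrLC.StarInjRes 𝒜 N.gr) (F : GrLC.StarInjRes 𝒜' A.gr) (p : ℕ) :
    ∃ Φ : F.H (posIdeal 𝒜') p →+ E.H (posIdeal 𝒜) p, Function.Injective Φ ∧
      (∀ (r : R') x, Φ (r • x) = φ r • Φ x) ∧
      ∀ j : ℤ, (F.Hgr (posIdeal 𝒜') p j).map Φ = E.Hgr (posIdeal 𝒜) p (j * q) := by
  haveI := hV.isNoetherianRing
  let a' := posIdeal 𝒜'
  let a := posIdeal 𝒜
  have hgmem : ∀ (j : ℤ) x, x ∈ A.gr j → g x ∈ N.gr (j * q) := fun j x hx => hgdeg j ▸ ⟨x, hx, rfl⟩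
  have hgfix : ∀ x, prDvd (q := q) N (g x) = g x := fun x => by
    induction x using induction A.gr with
    | h0 => simp
    | hadd s t hs ht => rw [map_add, map_add, hs, ht]
    | hmem j m hm => rw [prDvd_of_mem (hgmem j m hm), if_pos (dvd_mul_left _ _)]
  have hgsurj : ∀ y, ∃ x, g x = prDvd (q := q) N y := fun y => by
    induction y using induction N.gr with
    | h0 => exact ⟨0, by simp⟩
    | hadd s t hs ht =>
      obtain ⟨u, hu⟩ := hs
      obtain ⟨v, hv⟩ := ht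
      exact ⟨u + v, by rw [map_add, map_add, hu, hv]⟩
    | hmem i m hm =>
      rw [prDvd_of_mem hm]
      split_ifs with h
      · obtain ⟨j, rfl⟩ := h
        obtain ⟨x, -, hx⟩ : m ∈ (A.gr j).map (g : A.carrier →+ N.carrier) := by rw [hgdeg, mul_comm]; exact hm
        exact ⟨x, hx⟩
      · exact ⟨0, map_zero g⟩
  let Y : ℕ → GrLC.GMod.{u} 𝒜' := fun n => verG hV (E.X n)
  let D : ∀ n, (Y n).carrier →ₗ[R'] (Y (n + 1)).carrier := fun n => verMap hV (E.d n) (E.d_grHom n)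
  let ε : A.carrier →ₗ[R'] (Y 0).carrier :=
    { toFun := fun x => verProj hV (E.X 0) (E.ε (g x))
      map_add' := fun x y => by rw [map_add, map_add, map_add]
      map_smul' := fun r x => by rw [map_smulₛₗ, map_smul, verProj_smul]; rfl }
  have hεinc : ∀ x, vInc hV (E.X 0) (ε x) = E.ε (g x) := fun x => by
    show prDvd (q := q) (E.X 0) (E.ε (g x)) = E.ε (g x)
    rw [← map_prDvd E.ε E.ε_grHom, hgfix]
  have hεi : Function.Injective ε := fun x y h => hg (E.ε_injective (by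
    rw [← hεinc, ← hεinc, h]))
  have hεd : GrLC.IsGrHom A.gr (Y 0).gr ε := fun j x hx =>
    verProj_mem hV (E.ε_grHom _ _ (hgmem j x hx))
  have h0 : LinearMap.ker (D 0) = LinearMap.range ε := by
    refine le_antisymm (fun v hv => ?_) ?_
    · have h1 : vInc hV (E.X 0) v ∈ LinearMap.ker (E.d 0) := by
        rw [LinearMap.mem_ker, ← vInc_verMap hV (E.d 0) (E.d_grHom 0), LinearMap.mem_ker.1 hv, map_zero]
      obtain ⟨y, hy⟩ := E.exact_zero.le h1
      obtain ⟨x, hx⟩ := hgsurj y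
      refine ⟨x, vInc_injective hV ?_⟩
      rw [hεinc, hx, map_prDvd E.ε E.ε_grHom, hy, ← vInc_verProj hV, verProj_vInc]
    · rintro _ ⟨x, rfl⟩
      refine vInc_injective hV ?_
      rw [vInc_verMap, hεinc, map_zero]
      exact LinearMap.congr_fun (d_comp_ε E) (g x)
  obtain ⟨ψ, hψs, hψk, hψd⟩ := exists_coresolution a' p A F Y D ε (fun n => verMap_grHom hV _ _) hεd hεi h0
    (fun n => verMap_ker hV _ _ _ _ (E.exact_succ n)) (fun n i m => van_verG_of_starInj hV (E.starInj n) i m)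
  let Z := acCocyc a'.toIdeal (fun n => (Y n).carrier) D p
  have hZmem : ∀ z : Z, vInc hV (E.X p) z.1 ∈ E.cocyc a p := fun z =>
    ⟨(mem_gam_verG hV z.1).1 z.2.1, LinearMap.mem_ker.2 (by
      rw [← vInc_verMap hV (E.d p) (E.d_grHom p), show D p z.1 = 0 from z.2.2, map_zero])⟩
  let χ : Z → E.H a p := fun z => E.toH a p ⟨vInc hV (E.X p) z.1, hZmem z⟩
  have hχadd : ∀ z w, χ (z + w) = χ z + χ w := fun z w => by
    rw [← map_add]
    exact congrArg (E.toH a p) (Subtype.ext (map_add (vInc hV (E.X p)) z.1 w.1))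
  have hker : ∀ z, ψ z = 0 ↔ χ z = 0 := fun z => by
    have h1 : ψ z = 0 ↔ z.1 ∈ acCobdy a'.toIdeal (fun n => (Y n).carrier) D p :=
      ⟨fun h => hψk.le h, fun h => hψk.ge h⟩
    have h2 : χ z = 0 ↔ vInc hV (E.X p) z.1 ∈ E.cobdy a p :=
      Submodule.Quotient.mk_eq_zero ((E.cobdy a p).comap (E.cocyc a p).subtype)
    rw [h1, h2]
    obtain ⟨v, hv⟩ := z
    clear h1 h2 hZmem χ hχadd hψd hψk hψs ψ
    cases p with
    | zero =>
      show v ∈ (⊥ : Submodule R' (Y 0).carrier) ↔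
        vInc hV (E.X 0) v ∈ (⊥ : Submodule R (E.X 0).carrier)
      rw [Submodule.mem_bot, Submodule.mem_bot]
      exact ⟨fun h => by rw [h, map_zero], fun h => vInc_injective hV (h.trans (map_zero _).symm)⟩
    | succ p =>
      constructor
      · rintro ⟨w, hw, rfl⟩
        exact ⟨_, (mem_gam_verG hV w).1 hw, rfl⟩
      · rintro ⟨y, hy, hyv⟩
        refine ⟨verProj hV (E.X p) y, (mem_gam_verG hV _).2 ?_, ?_⟩
        · exact prDvd_mem (gam_isHomogeneous (ℳ := (E.X p).gr) (posIdeal 𝒜)) hy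
        · show verMap hV (E.d p) (E.d_grHom p) _ = v
          rw [verMap_verProj, hyv, verProj_vInc]
  have hfib : ∀ z w, ψ z = ψ w → χ z = χ w := fun z w h => by
    have h1 := (hker (z - w)).1 (by rw [map_sub, h, sub_self])
    have h2 := hχadd (z - w) w
    rw [sub_add_cancel, h1, zero_add] at h2
    exact h2
  let Φ : F.H a' p →+ E.H a p :=
    AddMonoidHom.mk' (fun x => χ (Function.surjInv hψs x)) fun x y => by
      rw [← hχadd]
      exact hfib _ _ (by rw [map_add, Function.surjInv_eq hψs, Function.surjInv_eq hψs, Function.surjInv_eq hψs])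
  have hΦψ : ∀ z, Φ (ψ z) = χ z := fun z => hfib _ _ (Function.surjInv_eq hψs _)
  refine ⟨Φ, (injective_iff_map_eq_zero Φ).2 fun x hx => ?_, fun r x => ?_, fun j => ?_⟩
  · obtain ⟨z, rfl⟩ := hψs x
    rw [hΦψ] at hx
    exact (hker z).2 hx
  · obtain ⟨z, rfl⟩ := hψs x
    rw [← map_smul ψ, hΦψ, hΦψ, ← map_smul (E.toH a p)]
    exact congrArg (E.toH a p) (Subtype.ext (vInc_smul hV r z.1))
  refine le_antisymm ?_ fun x hx => ?_
  · rintro _ ⟨x, hx, rfl⟩
    obtain ⟨z, rfl⟩ := hψs x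
    let ZG := subG 𝒜' Z (inf_isHomogeneous _ (gam_isHomogeneous (ℳ := (Y p).gr) a')
      (ker_isHomogeneous (verMap_grHom hV (E.d p) (E.d_grHom p))))
    let ψ' : ZG.carrier →ₗ[R'] F.H a' p := ψ
    have hψ' : GrLC.IsGrHom ZG.gr (F.Hgr a' p) ψ' := fun i w hw => hψd i w hw
    obtain ⟨w, hw, hwz⟩ := preimage_homogeneous (isGrHomDeg_zero_iff.2 hψ') (g := j) (y := ψ z)
      (by rw [add_zero]; exact hx) ⟨z, rfl⟩
    rw [← hwz]
    show Φ (ψ (w : Z)) ∈ _
    rw [hΦψ]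
    exact ⟨⟨vInc hV (E.X p) (w : Z).1, hZmem w⟩, (mem_verG_gr hV).1 hw, rfl⟩
  · obtain ⟨z, hz, rfl⟩ := hx
    obtain ⟨v, hv, hvz⟩ := exists_vInc_of_mem hV hz
    have hvZ : v ∈ Z := ⟨(mem_gam_verG hV v).2 (hvz ▸ z.2.1), LinearMap.mem_ker.2 (vInc_injective hV (by
      rw [vInc_verMap, map_zero, hvz]; exact z.2.2))⟩
    exact ⟨ψ ⟨v, hvZ⟩, hψd j _ hv, (hΦψ _).trans (congrArg (E.toH a p) (Subtype.ext hvz))⟩

end GrModLib
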