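import Groth.Agent.GrModLib.Coresolution
import Groth.Agent.GrModLib.VerLC
import Groth.Agent.LocCohLib.BaseChange

/-! Graded local cohomology under a finite homogeneous change of rings. -/

set_option autoImplicit false
universe u

open DirectSum

namespace GrModLib

variable {R : Type u} [CommRing R] [IsNoetherianRing R] {𝒜 : ℤ → AddSubgroup R} [GradedRing 𝒜]
  {S : Type u} [CommRing S] [IsNoetherianRing S] [Algebra R S] {𝒜' : ℤ → AddSubgroup S} [GradedRing 𝒜']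

/-- A graded module over `S` seen over `R`. -/
noncomputable def restrG (hf : ∀ j, (𝒜 j).map (algebraMap R S : R →+ S) ≤ 𝒜' j) (X : GrLC.GMod.{u} 𝒜') :
    GrLC.GMod.{u} 𝒜 :=
  letI : Module R X.carrier := Module.compHom X.carrier (algebraMap R S)
  haveI : SetLike.GradedSMul 𝒜 X.gr := ⟨fun {h g r x} hr hx => smul_mem 𝒜' X.gr (hf h ⟨r, hr, rfl⟩) hx⟩
  { carrier := X.carrier, gr := X.gr }

/-- The ring `S` as a graded module over `R`. -/
noncomputable def algG (hf : ∀ j, (𝒜 j).map (algebraMap R S : R →+ S) ≤ 𝒜' j) : GrLC.GMod.{u} 𝒜 :=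
  haveI : SetLike.GradedSMul 𝒜 𝒜' := ⟨fun {h g r x} hr hx => by
    show r • x ∈ 𝒜' (h + g)
    rw [Algebra.smul_def]
    exact SetLike.mul_mem_graded (hf h ⟨r, hr, rfl⟩) hx⟩
  { carrier := S, gr := 𝒜' }

variable (hf : ∀ j, (𝒜 j).map (algebraMap R S : R →+ S) ≤ 𝒜' j)

include hf

omit [IsNoetherianRing R] [IsNoetherianRing S] in
theorem map_posIdeal_le : (posIdeal 𝒜).toIdeal.map (algebraMap R S) ≤ (posIdeal 𝒜').toIdeal := by
  rw [posIdeal_toIdeal, Ideal.map_span, Ideal.span_le]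
  rintro _ ⟨r, hr, rfl⟩
  simp only [Set.mem_iUnion] at hr
  obtain ⟨j, hj, hrj⟩ := hr
  exact mem_posIdeal (Set.mem_Ioi.1 hj) (hf j ⟨r, hrj, rfl⟩)

omit [IsNoetherianRing R] [IsNoetherianRing S] in
theorem map_posIdeal_isHomogeneous : ((posIdeal 𝒜).toIdeal.map (algebraMap R S)).IsHomogeneous 𝒜' := by
  rw [posIdeal_toIdeal, Ideal.map_span]
  refine Ideal.homogeneous_span 𝒜' _ ?_
  rintro _ ⟨r, hr, rfl⟩
  simp only [Set.mem_iUnion] at hr
  obtain ⟨j, -, hrj⟩ := hr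
  exact ⟨_, hf j ⟨r, hrj, rfl⟩⟩

omit [IsNoetherianRing R] [IsNoetherianRing S] in
theorem posIdeal_le_radical_map [Module.Finite R S] :
    (posIdeal 𝒜').toIdeal ≤ ((posIdeal 𝒜).toIdeal.map (algebraMap R S)).radical := by
  obtain ⟨k, e, s, hs, hspan⟩ := exists_homogeneous_generators 𝒜 (algG hf).gr (top_isHomogeneous (algG hf).gr)
    (Module.Finite.fg_top (R := R) (M := S))
  obtain ⟨D, hD⟩ : ∃ D : ℕ, ∀ j, e j < (D : ℤ) := by
    refine ⟨(Finset.univ.sup fun j => (e j).toNat) + 1, fun j => ?_⟩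
    have := Finset.le_sup (f := fun j => (e j).toNat) (Finset.mem_univ j)
    have := Int.self_le_toNat (e j)
    omega
  rw [posIdeal_toIdeal 𝒜', Ideal.span_le]
  intro x hx
  simp only [Set.mem_iUnion] at hx
  obtain ⟨i, hi, hxi⟩ := hx
  have hi' : 0 < i := hi
  refine ⟨D + 1, ?_⟩
  have hxp : x ^ (D + 1) ∈ 𝒜' (((D + 1 : ℕ) : ℤ) * i) := by
    have := SetLike.pow_mem_graded (D + 1) hxi
    rwa [nsmul_eq_mul] at this
  obtain ⟨r, hr⟩ := (Submodule.mem_span_range_iff_exists_fun R).1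
    (hspan.ge (Submodule.mem_top (x := (x ^ (D + 1) : S))))
  rw [← pr_self (algG hf).gr hxp, ← hr, map_sum]
  refine sum_mem fun j _ => ?_
  rw [pr_smul_mem 𝒜 (algG hf).gr (hs j)]
  refine Set.mem_of_eq_of_mem (Algebra.smul_def (A := S) (pr 𝒜 (((D + 1 : ℕ) : ℤ) * i - e j) (r j)) (s j)) ?_
  refine Ideal.mul_mem_right _ _ (Ideal.mem_map_of_mem _ (mem_posIdeal ?_ (pr_mem 𝒜 _ _)))
  have := hD j
  push_cast
  nlinarith

omit [IsNoetherianRing R] in
theorem mem_gam_restrG [Module.Finite R S] (X : GrLC.GMod.{u} 𝒜') (v : (restrG hf X).carrier) :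
    v ∈ GrLC.gam (posIdeal 𝒜).toIdeal (restrG hf X).carrier ↔
      (v : X.carrier) ∈ GrLC.gam (posIdeal 𝒜').toIdeal X.carrier := by
  constructor
  · rintro ⟨k, hk⟩
    obtain ⟨N, hN⟩ := Ideal.exists_pow_le_of_le_radical_of_fg (posIdeal_le_radical_map hf)
      (IsNoetherian.noetherian _)
    refine ⟨N * k, fun r hr => ?_⟩
    have hle : ((posIdeal 𝒜').toIdeal) ^ (N * k) ≤ ((posIdeal 𝒜).toIdeal ^ k).map (algebraMap R S) := by
      rw [pow_mul, Ideal.map_pow]
      exact Ideal.pow_right_mono hN k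
    have : r ∈ (Submodule.span S ({v} : Set X.carrier)).annihilator := by
      refine (hle.trans ?_) hr
      rw [Ideal.map_le_iff_le_comap]
      intro s hs
      exact (Submodule.mem_annihilator_span_singleton (R := S) (M := X.carrier) v _).2 (hk s hs)
    exact (Submodule.mem_annihilator_span_singleton (R := S) (M := X.carrier) v _).1 this
  · rintro ⟨k, hk⟩
    refine ⟨k, fun r hr => ?_⟩
    refine (show r • v = (algebraMap R S r • (id v : X.carrier) : X.carrier) from rfl).trans (hk _ ?_)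
    have h1 : algebraMap R S r ∈ ((posIdeal 𝒜).toIdeal ^ k).map (algebraMap R S) := Ideal.mem_map_of_mem _ hr
    rw [Ideal.map_pow] at h1
    exact Ideal.pow_right_mono (map_posIdeal_le hf) k h1

/-- Modules *injective over `S` are acyclic over `R`. -/
theorem van_restrG_of_starInj (X : GrLC.GMod.{u} 𝒜') (hX : GrLC.IsStarInj 𝒜' X.gr) (i : ℕ) (m : ℤ) :
    Van (posIdeal 𝒜) (restrG hf X).gr (i + 1) m := by
  refine van_of_subsingleton_H ?_ m
  letI : Module R X.carrier := Module.compHom X.carrier (algebraMap R S)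
  haveI := LocCohLib.tower_compHom (R := R) (R' := S) X.carrier
  let I := (posIdeal 𝒜).toIdeal
  haveI h1 : Subsingleton (LocCoh.H (I.map (algebraMap R S)) (i + 1) X.carrier) :=
    subsingleton_H hX ⟨I.map (algebraMap R S), map_posIdeal_isHomogeneous hf⟩ (i + 1) (Nat.le_add_left 1 i)
  obtain ⟨e, -⟩ := LocCohLib.exists_addEquiv_restrict (R := R) (R' := S) I X.carrier (i + 1)
  exact e.symm.injective.subsingleton

/-- Graded local cohomology of a finite graded algebra over either ring. -/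
theorem exists_restrH [Module.Finite R S] (F : GrLC.StarInjRes 𝒜 (algG hf).gr) (I' : GrLC.StarInjRes 𝒜' 𝒜')
    (p : ℕ) :
    ∃ Θ : F.H (posIdeal 𝒜) p ≃+ I'.H (posIdeal 𝒜') p,
      (∀ (r : R) x, Θ (r • x) = algebraMap R S r • Θ x) ∧
      (∀ g x, x ∈ F.Hgr (posIdeal 𝒜) p g → Θ x ∈ I'.Hgr (posIdeal 𝒜') p g) ∧
      ∀ g y, y ∈ I'.Hgr (posIdeal 𝒜') p g → Θ.symm y ∈ F.Hgr (posIdeal 𝒜) p g := by
  let a := posIdeal 𝒜
  let a' := posIdeal 𝒜'
  let Y : ℕ → GrLC.GMod.{u} 𝒜 := fun n => restrG hf (I'.X n)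
  let D : ∀ n, (Y n).carrier →ₗ[R] (Y (n + 1)).carrier := fun n =>
    { toFun := fun x => I'.d n x
      map_add' := map_add (I'.d n)
      map_smul' := fun r (x : (I'.X n).carrier) => map_smul (I'.d n) (algebraMap R S r) x }
  let ε : (algG hf).carrier →ₗ[R] (Y 0).carrier :=
    { toFun := fun x => I'.ε x
      map_add' := map_add I'.ε
      map_smul' := fun r (x : S) => by
        have h1 : r • x = algebraMap R S r • x := Algebra.smul_def r x
        exact (congrArg I'.ε h1).trans (map_smul I'.ε (algebraMap R S r) x) }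
  have hD' : ∀ n, GrLC.IsGrHom (Y n).gr (Y (n + 1)).gr (D n) := fun n g x hx => I'.d_grHom n g x hx
  obtain ⟨ψ, hψs, hψk, hψd⟩ := exists_coresolution a p (algG hf) F Y D ε hD'
    (fun g x hx => I'.ε_grHom g x hx) I'.ε_injective
    (SetLike.ext fun x => SetLike.ext_iff.1 I'.exact_zero x)
    (fun n => SetLike.ext fun x => SetLike.ext_iff.1 (I'.exact_succ n) x)
    (fun n i m => van_restrG_of_starInj hf _ (I'.starInj n) i m)
  let Z := acCocyc a.toIdeal (fun n => (Y n).carrier) D p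
  have hmem : ∀ z : Z, (z.1 : (I'.X p).carrier) ∈ I'.cocyc a' p := fun z =>
    ⟨(mem_gam_restrG hf _ z.1).1 z.2.1, z.2.2⟩
  let χ : Z →+ I'.H a' p :=
    AddMonoidHom.mk' (fun z => I'.toH a' p ⟨z.1, hmem z⟩) fun z w => by
      rw [← map_add]
      rfl
  have hχsmul : ∀ (r : R) (z : Z), χ (r • z) = algebraMap R S r • χ z := fun r z => by
    show I'.toH a' p _ = algebraMap R S r • I'.toH a' p _
    rw [← map_smul]
    rfl
  have hcob : ∀ v : (Y p).carrier, v ∈ acCobdy a.toIdeal (fun n => (Y n).carrier) D p ↔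
      (v : (I'.X p).carrier) ∈ I'.cobdy a' p := by
    intro v
    clear hψd hψk hψs ψ Z hmem χ hχsmul
    cases p with
    | zero => exact Iff.rfl
    | succ p =>
      constructor
      · rintro ⟨w, hw, rfl⟩
        exact ⟨w, (mem_gam_restrG hf _ w).1 hw, rfl⟩
      · rintro ⟨w, hw, hwv⟩
        exact ⟨w, (mem_gam_restrG hf _ w).2 hw, hwv⟩
  have hker : ∀ z, ψ z = 0 ↔ χ z = 0 := fun z => by
    have h1 : ψ z = 0 ↔ z.1 ∈ acCobdy a.toIdeal (fun n => (Y n).carrier) D p :=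
      ⟨fun h => hψk.le h, fun h => hψk.ge h⟩
    have h2 : χ z = 0 ↔ (z.1 : (I'.X p).carrier) ∈ I'.cobdy a' p :=
      Submodule.Quotient.mk_eq_zero ((I'.cobdy a' p).comap (I'.cocyc a' p).subtype)
    rw [h1, h2]
    exact hcob z.1
  have hfib : ∀ z w, ψ z = ψ w → χ z = χ w := fun z w h => by
    have h1 := (hker (z - w)).1 (by rw [map_sub, h, sub_self])
    rwa [map_sub, sub_eq_zero] at h1
  let Φ : F.H a p →+ I'.H a' p :=
    AddMonoidHom.mk' (fun x => χ (Function.surjInv hψs x)) fun x y => by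
      rw [← map_add]
      exact hfib _ _ (by rw [map_add, Function.surjInv_eq hψs, Function.surjInv_eq hψs, Function.surjInv_eq hψs])
  have hΦψ : ∀ z, Φ (ψ z) = χ z := fun z => hfib _ _ (Function.surjInv_eq hψs _)
  have hΦb : Function.Bijective Φ := by
    refine ⟨(injective_iff_map_eq_zero Φ).2 fun x hx => ?_, fun y => ?_⟩
    · obtain ⟨z, rfl⟩ := hψs x
      rw [hΦψ] at hx
      exact (hker z).2 hx
    · obtain ⟨v, rfl⟩ := Submodule.mkQ_surjective _ y
      exact ⟨ψ ⟨v.1, (mem_gam_restrG hf _ _).2 v.2.1, v.2.2⟩, hΦψ _⟩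
  refine ⟨AddEquiv.ofBijective Φ hΦb, fun r x => ?_, fun g x hx => ?_, fun g y hy => ?_⟩
  · obtain ⟨z, rfl⟩ := hψs x
    show Φ (r • ψ z) = _ • Φ (ψ z)
    rw [← map_smul ψ, hΦψ, hΦψ, hχsmul]
  · obtain ⟨z, rfl⟩ := hψs x
    let ZG := subG 𝒜 Z (inf_isHomogeneous _ (gam_isHomogeneous (ℳ := (Y p).gr) a)
      (ker_isHomogeneous (hD' p)))
    let ψ' : ZG.carrier →ₗ[R] F.H a p := ψ
    have hψ' : GrLC.IsGrHom ZG.gr (F.Hgr a p) ψ' := fun i w hw => hψd i w hw
    obtain ⟨w, hw, hwz⟩ := preimage_homogeneous (isGrHomDeg_zero_iff.2 hψ') (g := g) (y := ψ z)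
      (by rwa [add_zero]) ⟨z, rfl⟩
    show Φ (ψ z) ∈ _
    rw [← hwz]
    show Φ (ψ w) ∈ _
    rw [hΦψ]
    exact ⟨⟨w.1, hmem w⟩, hw, rfl⟩
  · obtain ⟨v, hv, rfl⟩ := hy
    let z : Z := ⟨v.1, (mem_gam_restrG hf _ _).2 v.2.1, v.2.2⟩
    have h1 : (AddEquiv.ofBijective Φ hΦb).symm (I'.toH a' p v) = ψ z := by
      rw [AddEquiv.symm_apply_eq]
      exact (hΦψ z).symm
    rw [h1]
    exact hψd g z hv

end GrModLib
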