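import Groth.Agent.GrModLib.Basic

/-! The right adjoint of forgetting the grading, and enough *injectives. -/

set_option autoImplicit false
universe u

open DirectSum

namespace GrModLib

variable {ι : Type} [AddCommGroup ι] [DecidableEq ι] {R : Type u} [CommRing R]
  (𝒜 : ι → AddSubgroup R) [GradedRing 𝒜] (N : Type u) [AddCommGroup N] [Module R N]

/-- Action of a homogeneous element. -/
noncomputable def actFun (h : ι) (r : R) : (ι →₀ N) →+ (ι →₀ N) :=
  (Finsupp.mapDomain.addMonoidHom (M := N) (h + ·)).comp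
    (Finsupp.mapRange.addMonoidHom (DistribMulAction.toAddMonoidHom N r))

omit [DecidableEq ι] in
theorem actFun_single (h g : ι) (r : R) (x : N) :
    actFun N h r (Finsupp.single g x) = Finsupp.single (h + g) (r • x) := by
  simp [actFun]

/-- Action of homogeneous elements. -/
noncomputable def act (h : ι) : 𝒜 h →+ AddMonoid.End (ι →₀ N) where
  toFun r := actFun (R := R) N h (r : R)
  map_zero' := Finsupp.addHom_ext fun g x => by
    show actFun N h ((0 : 𝒜 h) : R) (Finsupp.single g x) = 0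
    rw [actFun_single, ZeroMemClass.coe_zero, zero_smul, Finsupp.single_zero]
  map_add' r s := Finsupp.addHom_ext fun g x => by
    show actFun N h ((r + s : 𝒜 h) : R) (Finsupp.single g x) =
      actFun N h (r : R) (Finsupp.single g x) + actFun N h (s : R) (Finsupp.single g x)
    simp only [actFun_single, AddSubgroup.coe_add, add_smul, Finsupp.single_add]

theorem act_single (h g : ι) (r : 𝒜 h) (x : N) :
    act 𝒜 N h r (Finsupp.single g x) = Finsupp.single (h + g) ((r : R) • x) :=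
  actFun_single (R := R) N h g (r : R) x

/-- The twisted action. -/
noncomputable def actHom : R →+* AddMonoid.End (ι →₀ N) :=
  (DirectSum.toSemiring (act 𝒜 N) (Finsupp.addHom_ext fun g x => by
      show act 𝒜 N 0 _ (Finsupp.single g x) = Finsupp.single g x
      rw [act_single, zero_add]; exact congrArg _ (one_smul R x))
    (fun {i j} a b => Finsupp.addHom_ext fun g x => by
      show act 𝒜 N (i + j) _ (Finsupp.single g x) = act 𝒜 N i a (act 𝒜 N j b (Finsupp.single g x))
      rw [act_single, act_single, act_single, add_assoc]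
      exact congrArg _ (mul_smul (a : R) (b : R) x))).comp (DirectSum.decomposeRingEquiv 𝒜).toRingHom

theorem actHom_single {h : ι} {r : R} (hr : r ∈ 𝒜 h) (g : ι) (x : N) :
    actHom 𝒜 N r (Finsupp.single g x) = Finsupp.single (h + g) (r • x) := by
  have h1 : actHom 𝒜 N r = act 𝒜 N h ⟨r, hr⟩ := by
    rw [actHom, RingHom.comp_apply, RingEquiv.toRingHom_eq_coe, RingEquiv.coe_toRingHom,
      show DirectSum.decomposeRingEquiv 𝒜 r = DirectSum.of _ h ⟨r, hr⟩ from decompose_of_mem 𝒜 hr,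
      DirectSum.toSemiring_of]
  rw [h1, act_single]

/-- The cofree graded module on `N`. -/
def Cofree (_𝒜 : ι → AddSubgroup R) (N : Type u) [AddCommGroup N] : Type u := ι →₀ N

noncomputable instance : AddCommGroup (Cofree 𝒜 N) := inferInstanceAs (AddCommGroup (ι →₀ N))

noncomputable instance : Module R (Cofree 𝒜 N) := Module.compHom (ι →₀ N) (actHom 𝒜 N)

/-- A homogeneous element. -/
noncomputable def single (g : ι) : N →+ Cofree 𝒜 N := Finsupp.singleAddHom g

/-- The coefficient. -/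
noncomputable def coeff (g : ι) : Cofree 𝒜 N →+ N := Finsupp.applyAddHom g

theorem smul_single {h : ι} {r : R} (hr : r ∈ 𝒜 h) (g : ι) (x : N) :
    r • single 𝒜 N g x = single 𝒜 N (h + g) (r • x) :=
  actHom_single 𝒜 N hr g x

omit [GradedRing 𝒜] [Module R N] in
theorem cofree_induction {P : Cofree 𝒜 N → Prop} (h0 : P 0) (hs : ∀ g x, P (single 𝒜 N g x))
    (hadd : ∀ a b, P a → P b → P (a + b)) (f : Cofree 𝒜 N) : P f :=
  Finsupp.induction_linear (motive := P) f h0 hadd hs

/-- Summing up. -/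
noncomputable def total : Cofree 𝒜 N →ₗ[R] N where
  toFun := Finsupp.liftAddHom (fun _ : ι => AddMonoidHom.id N)
  map_add' := map_add (Finsupp.liftAddHom (α := ι) (fun _ => AddMonoidHom.id N))
  map_smul' r f := by
    rw [RingHom.id_apply]
    induction r using induction 𝒜 with
    | h0 =>
      rw [zero_smul, zero_smul]
      exact map_zero (Finsupp.liftAddHom (α := ι) (fun _ => AddMonoidHom.id N))
    | hmem h a ha =>
      induction f using cofree_induction 𝒜 N with
      | h0 =>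
        rw [smul_zero]
        exact (map_zero (Finsupp.liftAddHom (α := ι) (fun _ => AddMonoidHom.id N))).trans
          ((congrArg (a • ·) (map_zero (Finsupp.liftAddHom (α := ι) (fun _ => AddMonoidHom.id N)))).trans
            (smul_zero a)).symm
      | hs g x =>
        rw [smul_single 𝒜 N ha]
        exact (Finsupp.liftAddHom_apply_single _ _ _).trans
          (congrArg (a • ·) (Finsupp.liftAddHom_apply_single (fun _ => AddMonoidHom.id N) g x)).symm
      | hadd u v hu hv =>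
        rw [smul_add]
        refine (map_add (Finsupp.liftAddHom (α := ι) (fun _ => AddMonoidHom.id N)) _ _).trans ?_
        rw [hu, hv, ← smul_add]
        exact congrArg _ (map_add (Finsupp.liftAddHom (α := ι) (fun _ => AddMonoidHom.id N)) u v).symm
    | hadd a b ha hb =>
      rw [add_smul, add_smul]
      refine (map_add (Finsupp.liftAddHom (α := ι) (fun _ => AddMonoidHom.id N)) _ _).trans ?_
      rw [ha, hb]

theorem total_single (g : ι) (x : N) : total 𝒜 N (single 𝒜 N g x) = x :=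
  Finsupp.liftAddHom_apply_single _ _ _

/-- The pieces. -/
noncomputable def cofreeGr : ι → AddSubgroup (Cofree 𝒜 N) := fun g => (single 𝒜 N g).range

omit [GradedRing 𝒜] [Module R N] in
theorem cofreeGr_isInternal : DirectSum.IsInternal (cofreeGr 𝒜 N) := by
  refine isInternal_of_pr _ (fun g => (single 𝒜 N g).comp (coeff 𝒜 N g)) ?_ ?_ fun f => ?_
  · rintro g _ ⟨x, rfl⟩
    exact congrArg (single 𝒜 N g) Finsupp.single_eq_same
  · rintro g j _ ⟨x, rfl⟩ h
    show single 𝒜 N g (coeff 𝒜 N g (single 𝒜 N j x)) = 0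
    rw [show coeff 𝒜 N g (single 𝒜 N j x) = 0 from Finsupp.single_eq_of_ne (Ne.symm h), map_zero]
  · induction f using cofree_induction 𝒜 N with
    | h0 => exact zero_mem _
    | hs g x => exact le_iSup (cofreeGr 𝒜 N) g ⟨x, rfl⟩
    | hadd a b ha hb => exact add_mem ha hb

noncomputable instance : DirectSum.Decomposition (cofreeGr 𝒜 N) := (cofreeGr_isInternal 𝒜 N).chooseDecomposition

instance : SetLike.GradedSMul 𝒜 (cofreeGr 𝒜 N) :=
  ⟨fun {h g r m} hr ⟨x, hx⟩ => ⟨r • x, by rw [← hx, smul_single 𝒜 N hr]; rfl⟩⟩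

/-- The cofree graded module, bundled. -/
noncomputable def cofreeG : GrLC.GMod.{u} 𝒜 := { carrier := Cofree 𝒜 N, gr := cofreeGr 𝒜 N }

variable {N} {M : Type u} [AddCommGroup M] [Module R M] (ℳ : ι → AddSubgroup M) [DirectSum.Decomposition ℳ]

/-- The adjoint of a linear map, as an additive map. -/
noncomputable def lift₀ (φ : M →ₗ[R] N) : M →+ Cofree 𝒜 N :=
  (DirectSum.toAddMonoid fun g => ((single 𝒜 N g).comp φ.toAddMonoidHom).comp (ℳ g).subtype).comp
    (decomposeAddEquiv ℳ).toAddMonoidHom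

omit [GradedRing 𝒜] in
theorem lift₀_of_mem (φ : M →ₗ[R] N) {g : ι} {m : M} (hm : m ∈ ℳ g) : lift₀ 𝒜 ℳ φ m = single 𝒜 N g (φ m) := by
  show DirectSum.toAddMonoid _ (decompose ℳ m) = _
  rw [decompose_of_mem ℳ hm, DirectSum.toAddMonoid_of]
  rfl

variable [SetLike.GradedSMul 𝒜 ℳ]

/-- The adjoint of a linear map. -/
noncomputable def lift (φ : M →ₗ[R] N) : M →ₗ[R] Cofree 𝒜 N :=
  linearOf 𝒜 ℳ (lift₀ 𝒜 ℳ φ) fun h r hr g m hm => by
    rw [lift₀_of_mem 𝒜 ℳ φ (smul_mem 𝒜 ℳ hr hm), lift₀_of_mem 𝒜 ℳ φ hm, map_smul, smul_single 𝒜 N hr]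

theorem lift_of_mem (φ : M →ₗ[R] N) {g : ι} {m : M} (hm : m ∈ ℳ g) : lift 𝒜 ℳ φ m = single 𝒜 N g (φ m) :=
  lift₀_of_mem 𝒜 ℳ φ hm

theorem lift_grHom (φ : M →ₗ[R] N) : GrLC.IsGrHom ℳ (cofreeGr 𝒜 N) (lift 𝒜 ℳ φ) := fun _ m hm =>
  ⟨φ m, (lift_of_mem 𝒜 ℳ φ hm).symm⟩

theorem total_lift (φ : M →ₗ[R] N) : total 𝒜 N ∘ₗ lift 𝒜 ℳ φ = φ :=
  hom_ext ℳ fun g m hm => by rw [LinearMap.comp_apply, lift_of_mem 𝒜 ℳ φ hm, total_single]

theorem lift_injective (φ : M →ₗ[R] N) (hφ : Function.Injective φ) : Function.Injective (lift 𝒜 ℳ φ) :=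
  injective_of_homogeneous (lift_grHom 𝒜 ℳ φ) fun g m hm h => by
    rw [lift_of_mem 𝒜 ℳ φ hm] at h
    exact hφ ((Finsupp.single_eq_zero.1 h).trans (map_zero φ).symm)

omit [SetLike.GradedSMul 𝒜 ℳ] in
theorem grHom_ext {f f' : M →ₗ[R] Cofree 𝒜 N} (hf : GrLC.IsGrHom ℳ (cofreeGr 𝒜 N) f)
    (hf' : GrLC.IsGrHom ℳ (cofreeGr 𝒜 N) f') (h : total 𝒜 N ∘ₗ f = total 𝒜 N ∘ₗ f') : f = f' := by
  refine hom_ext ℳ fun g m hm => ?_
  obtain ⟨x, hx⟩ := hf g m hm
  obtain ⟨y, hy⟩ := hf' g m hm
  have h1 := LinearMap.congr_fun h m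
  simp only [LinearMap.comp_apply, ← hx, ← hy, total_single] at h1
  rw [← hx, ← hy, h1]

variable (N)

/-- The cofree module on an injective module is *injective. -/
theorem isStarInj_cofree [Module.Injective R N] : GrLC.IsStarInj 𝒜 (cofreeGr 𝒜 N) := by
  intro A B f hf hfi g hg
  obtain ⟨χ, hχ⟩ := Module.Injective.out f hfi (total 𝒜 N ∘ₗ g)
  refine ⟨lift 𝒜 B.gr χ, lift_grHom 𝒜 B.gr χ, grHom_ext 𝒜 A.gr
    (fun j m hm => lift_grHom 𝒜 B.gr χ j (f m) (hf j m hm)) hg ?_⟩
  rw [← LinearMap.comp_assoc, total_lift]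
  exact LinearMap.ext hχ

end GrModLib
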