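import Groth.Agent.GrModLib.LES
import Groth.Agent.LocCohLib.CohDim

/-! Vanishing of single pieces of graded local cohomology. -/

set_option autoImplicit false
universe u

open DirectSum

namespace GrModLib

variable {ι : Type} [AddCommGroup ι] [DecidableEq ι] {R : Type u} [CommRing R]
  {𝒜 : ι → AddSubgroup R} [GradedRing 𝒜]
  {M : Type u} [AddCommGroup M] [Module R M]

/-- The degree `m` piece of the `q`-th graded local cohomology vanishes, for every resolution. -/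
def Van (a : HomogeneousIdeal 𝒜) (ℳ : ι → AddSubgroup M) [DirectSum.Decomposition ℳ]
    [SetLike.GradedSMul 𝒜 ℳ] (q : ℕ) (m : ι) : Prop :=
  ∀ (E : GrLC.StarInjRes 𝒜 ℳ) (x : E.H a q), x ∈ E.Hgr a q m → x = 0

variable {ℳ : ι → AddSubgroup M} [DirectSum.Decomposition ℳ] [SetLike.GradedSMul 𝒜 ℳ]
  {a : HomogeneousIdeal 𝒜}

theorem Hcomp_eq_bot_iff (E : GrLC.StarInjRes 𝒜 ℳ) (q : ℕ) (m : ι) :
    E.Hcomp a q m = ⊥ ↔ ∀ x ∈ E.Hgr a q m, x = 0 := Submodule.eq_bot_iff _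

theorem van_iff (E : GrLC.StarInjRes 𝒜 ℳ) (q : ℕ) (m : ι) : Van a ℳ q m ↔ ∀ x ∈ E.Hgr a q m, x = 0 := by
  refine ⟨fun h => h E, fun h F x hx => (Hmap_id_bijective F E a q).1 ?_⟩
  have h1 := Hmap_deg F E a id_deg q m x hx
  rw [add_zero] at h1
  rw [h _ h1, map_zero]

theorem van_iff_Hcomp (E : GrLC.StarInjRes 𝒜 ℳ) (q : ℕ) (m : ι) : Van a ℳ q m ↔ E.Hcomp a q m = ⊥ := by
  rw [Hcomp_eq_bot_iff, van_iff E]

theorem van_of_subsingleton_H [IsNoetherianRing R] {q : ℕ} (h : Subsingleton (LocCoh.H a.toIdeal q M)) (m : ι) :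
    Van a ℳ q m := fun E x _ => by
  obtain ⟨e⟩ := nonempty_H_equiv E a q
  exact e.injective (Subsingleton.elim _ _)

theorem van_of_torsion [IsNoetherianRing R] (hM : GrLC.gam a.toIdeal M = ⊤) {q : ℕ} (hq : 1 ≤ q) (m : ι) :
    Van a ℳ q m :=
  van_of_subsingleton_H (LocCohLib.subsingleton_H_of_torsion a.toIdeal M
    (fun x => hM.ge (Submodule.mem_top : x ∈ (⊤ : Submodule R M))) q hq) m

theorem van_of_subsingleton [IsNoetherianRing R] [Subsingleton M] (q : ℕ) (m : ι) : Van a ℳ q m :=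
  van_of_subsingleton_H (LocCohLib.subsingleton_H_of_subsingleton M q) m

omit [DirectSum.Decomposition ℳ] in
/-- Torsion elements are classes in degree zero. -/
theorem eq_zero_of_van_zero [DirectSum.Decomposition ℳ] {m : ι} (h : Van a ℳ 0 m) {y : M} (hy : y ∈ ℳ m)
    (hyt : y ∈ GrLC.gam a.toIdeal M) : y = 0 := by
  obtain ⟨E⟩ := nonempty_starInjRes (𝒜 := 𝒜) ℳ
  have hz : E.ε y ∈ E.cocyc a 0 := ⟨map_gam a E.ε hyt, LinearMap.congr_fun (d_comp_ε E) y⟩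
  have h0 : E.ε y ∈ E.cobdy a 0 :=
    (Submodule.Quotient.mk_eq_zero ((E.cobdy a 0).comap (E.cocyc a 0).subtype)).1
      (h E _ ⟨⟨E.ε y, hz⟩, E.ε_grHom m y hy, rfl⟩)
  exact E.ε_injective (((Submodule.mem_bot R).1 h0).trans (map_zero _).symm)

section SES

variable {M₁ M₂ M₃ : Type u} [AddCommGroup M₁] [Module R M₁] [AddCommGroup M₂] [Module R M₂]
  [AddCommGroup M₃] [Module R M₃]
  {ℳ₁ : ι → AddSubgroup M₁} [DirectSum.Decomposition ℳ₁] [SetLike.GradedSMul 𝒜 ℳ₁]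
  {ℳ₂ : ι → AddSubgroup M₂} [DirectSum.Decomposition ℳ₂] [SetLike.GradedSMul 𝒜 ℳ₂]
  {ℳ₃ : ι → AddSubgroup M₃} [DirectSum.Decomposition ℳ₃] [SetLike.GradedSMul 𝒜 ℳ₃]
  {f : M₁ →ₗ[R] M₂} {g : M₂ →ₗ[R] M₃} {d e : ι}

theorem van_mid (hf : GrLC.IsGrHomDeg ℳ₁ ℳ₂ f d) (hg : GrLC.IsGrHomDeg ℳ₂ ℳ₃ g e)
    (hfi : Function.Injective f) (hgs : Function.Surjective g) (hex : LinearMap.ker g = LinearMap.range f)
    {q : ℕ} {m m₁ m₃ : ι} (e₁ : m₁ + d = m) (e₃ : m + e = m₃) (h1 : Van a ℳ₁ q m₁) (h3 : Van a ℳ₃ q m₃) :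
    Van a ℳ₂ q m := fun E x hx => by
  obtain ⟨E₁⟩ := nonempty_starInjRes (𝒜 := 𝒜) ℳ₁
  obtain ⟨E₃⟩ := nonempty_starInjRes (𝒜 := 𝒜) ℳ₃
  obtain ⟨δ, -, -, hle⟩ := exists_les hf hg hfi hgs hex E₁ E E₃ a
  subst e₁ e₃
  have h0 := h3 E₃ _ (Hmap_deg E E₃ a hg q _ x hx)
  obtain ⟨w, hw, rfl⟩ := preimage_homogeneous (Hmap_deg E₁ E a hf q) hx (((hle q).1 x).1 h0)
  rw [h1 E₁ w hw, map_zero]

theorem van_right (hf : GrLC.IsGrHomDeg ℳ₁ ℳ₂ f d) (hg : GrLC.IsGrHomDeg ℳ₂ ℳ₃ g e)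
    (hfi : Function.Injective f) (hgs : Function.Surjective g) (hex : LinearMap.ker g = LinearMap.range f)
    {q : ℕ} {m m₁ m₃ : ι} (e₁ : m₁ + d = m) (e₃ : m + e = m₃) (h2 : Van a ℳ₂ q m) (h1 : Van a ℳ₁ (q + 1) m₁) :
    Van a ℳ₃ q m₃ := fun E x hx => by
  obtain ⟨E₁⟩ := nonempty_starInjRes (𝒜 := 𝒜) ℳ₁
  obtain ⟨E₂⟩ := nonempty_starInjRes (𝒜 := 𝒜) ℳ₂
  obtain ⟨δ, hδ, -, hle⟩ := exists_les hf hg hfi hgs hex E₁ E₂ E a
  subst e₁ e₃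
  have hd := hδ q _ x hx
  rw [show m₁ + d + e + -(d + e) = m₁ by abel] at hd
  obtain ⟨w, hw, rfl⟩ := preimage_homogeneous (Hmap_deg E₂ E a hg q) hx (((hle q).2.1 x).1 (h1 E₁ _ hd))
  rw [h2 E₂ w hw, map_zero]

theorem van_left (hf : GrLC.IsGrHomDeg ℳ₁ ℳ₂ f d) (hg : GrLC.IsGrHomDeg ℳ₂ ℳ₃ g e)
    (hfi : Function.Injective f) (hgs : Function.Surjective g) (hex : LinearMap.ker g = LinearMap.range f)
    {q : ℕ} {m m₁ m₃ : ι} (e₁ : m₁ + d = m) (e₃ : m + e = m₃) (h3 : Van a ℳ₃ q m₃) (h2 : Van a ℳ₂ (q + 1) m) :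
    Van a ℳ₁ (q + 1) m₁ := fun E x hx => by
  obtain ⟨E₃⟩ := nonempty_starInjRes (𝒜 := 𝒜) ℳ₃
  obtain ⟨E₂⟩ := nonempty_starInjRes (𝒜 := 𝒜) ℳ₂
  obtain ⟨δ, hδ, -, hle⟩ := exists_les hf hg hfi hgs hex E E₂ E₃ a
  subst e₁ e₃
  have h0 := h2 E₂ _ (Hmap_deg E E₂ a hf (q + 1) _ x hx)
  rw [show m₁ = (m₁ + d + e) + -(d + e) by abel] at hx
  obtain ⟨w, hw, rfl⟩ := preimage_homogeneous (hδ q) hx (((hle q).2.2 x).1 h0)
  rw [h3 E₃ w hw, map_zero]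

end SES

/-- Resolutions of bundled modules. -/
theorem nonempty_resG (N : GrLC.GMod.{u} 𝒜) : Nonempty (GrLC.StarInjRes 𝒜 N.gr) := nonempty_starInjRes N.gr

/-- The long exact sequence for bundled modules. -/
theorem exists_lesG (A B C : GrLC.GMod.{u} 𝒜) (f : A.carrier →ₗ[R] B.carrier) (g : B.carrier →ₗ[R] C.carrier)
    {d e : ι} (hf : GrLC.IsGrHomDeg A.gr B.gr f d) (hg : GrLC.IsGrHomDeg B.gr C.gr g e)
    (hfi : Function.Injective f) (hgs : Function.Surjective g) (hex : LinearMap.ker g = LinearMap.range f)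
    (E₁ : GrLC.StarInjRes 𝒜 A.gr) (E₂ : GrLC.StarInjRes 𝒜 B.gr) (E₃ : GrLC.StarInjRes 𝒜 C.gr)
    (a : HomogeneousIdeal 𝒜) :
    ∃ δ : ∀ i, E₃.H a i →ₗ[R] E₁.H a (i + 1),
      (∀ i, GrLC.IsGrHomDeg (E₃.Hgr a i) (E₁.Hgr a (i + 1)) (δ i) (-(d + e))) ∧
      Function.Injective (Hmap E₁ E₂ a f d hf 0) ∧
      ∀ i, Function.Exact (Hmap E₁ E₂ a f d hf i) (Hmap E₂ E₃ a g e hg i) ∧
        Function.Exact (Hmap E₂ E₃ a g e hg i) (δ i) ∧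
        Function.Exact (δ i) (Hmap E₁ E₂ a f d hf (i + 1)) :=
  exists_les hf hg hfi hgs hex E₁ E₂ E₃ a

/-- `van_mid` for bundled modules. -/
theorem van_midG (A B C : GrLC.GMod.{u} 𝒜) (f : A.carrier →ₗ[R] B.carrier) (g : B.carrier →ₗ[R] C.carrier)
    {d e : ι} (hf : GrLC.IsGrHomDeg A.gr B.gr f d) (hg : GrLC.IsGrHomDeg B.gr C.gr g e)
    (hfi : Function.Injective f) (hgs : Function.Surjective g) (hex : LinearMap.ker g = LinearMap.range f)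
    {q : ℕ} {m m₁ m₃ : ι} (e₁ : m₁ + d = m) (e₃ : m + e = m₃) (h1 : Van a A.gr q m₁) (h3 : Van a C.gr q m₃) :
    Van a B.gr q m :=
  van_mid hf hg hfi hgs hex e₁ e₃ h1 h3

/-- `van_right` for bundled modules. -/
theorem van_rightG (A B C : GrLC.GMod.{u} 𝒜) (f : A.carrier →ₗ[R] B.carrier) (g : B.carrier →ₗ[R] C.carrier)
    {d e : ι} (hf : GrLC.IsGrHomDeg A.gr B.gr f d) (hg : GrLC.IsGrHomDeg B.gr C.gr g e)
    (hfi : Function.Injective f) (hgs : Function.Surjective g) (hex : LinearMap.ker g = LinearMap.range f)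
    {q : ℕ} {m m₁ m₃ : ι} (e₁ : m₁ + d = m) (e₃ : m + e = m₃) (h2 : Van a B.gr q m) (h1 : Van a A.gr (q + 1) m₁) :
    Van a C.gr q m₃ :=
  van_right hf hg hfi hgs hex e₁ e₃ h2 h1

end GrModLib
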