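import Groth.Agent.GrModLib.Acyclic
import Groth.Agent.GrModLib.Van

/-! Acyclic coresolutions compute graded local cohomology, with degrees. -/

set_option autoImplicit false
universe u

open DirectSum

namespace GrModLib

variable {ι : Type} [AddCommGroup ι] [DecidableEq ι] {R : Type u} [CommRing R] {𝒜 : ι → AddSubgroup R}
  [GradedRing 𝒜] (a : HomogeneousIdeal 𝒜)

theorem eps_mem_cocyc {A : GrLC.GMod.{u} 𝒜} (F : GrLC.StarInjRes 𝒜 A.gr) {y : A.carrier}
    (hy : y ∈ GrLC.gam a.toIdeal A.carrier) : F.ε y ∈ F.cocyc a 0 :=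
  ⟨map_gam a F.ε hy, LinearMap.congr_fun (d_comp_ε F) y⟩

/-- Degree zero. -/
theorem exists_coresolution_zero (A : GrLC.GMod.{u} 𝒜) (F : GrLC.StarInjRes 𝒜 A.gr) (Y : ℕ → GrLC.GMod.{u} 𝒜)
    (D : ∀ n, (Y n).carrier →ₗ[R] (Y (n + 1)).carrier) (ε : A.carrier →ₗ[R] (Y 0).carrier)
    (hεd : GrLC.IsGrHom A.gr (Y 0).gr ε) (hε : Function.Injective ε) (h0 : LinearMap.ker (D 0) = LinearMap.range ε) :
    ∃ ψ : acCocyc a.toIdeal (fun n => (Y n).carrier) D 0 →ₗ[R] F.H a 0,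
      Function.Bijective ψ ∧
      (∀ z y (hy : y ∈ GrLC.gam a.toIdeal A.carrier), ε y = z.1 → ψ z = F.toH a 0 ⟨F.ε y, eps_mem_cocyc a F hy⟩) ∧
      ∀ g z, z.1 ∈ (Y 0).gr g → ψ z ∈ F.Hgr a 0 g := by
  let Z := acCocyc a.toIdeal (fun n => (Y n).carrier) D 0
  have hmem : ∀ z : Z, z.1 ∈ LinearMap.range ε := fun z => h0.le z.2.2
  let φ : Z →ₗ[R] A.carrier :=
    (LinearEquiv.ofInjective ε hε).symm.toLinearMap ∘ₗ (Z.subtype.codRestrict (LinearMap.range ε) hmem)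
  have hφ : ∀ z : Z, ε (φ z) = z.1 := fun z => by
    have := (LinearEquiv.ofInjective ε hε).apply_symm_apply (Z.subtype.codRestrict (LinearMap.range ε) hmem z)
    exact congrArg Subtype.val this
  have hgam : ∀ z : Z, φ z ∈ GrLC.gam a.toIdeal A.carrier := fun z => by
    obtain ⟨k, hk⟩ := z.2.1
    exact ⟨k, fun r hr => hε (by rw [map_smul, hφ, hk r hr, map_zero])⟩
  let w : Z →ₗ[R] F.cocyc a 0 := (F.ε ∘ₗ φ).codRestrict _ fun z => eps_mem_cocyc a F (hgam z)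
  refine ⟨F.toH a 0 ∘ₗ w, ⟨?_, fun x => ?_⟩, fun z y hy h => ?_, fun g z hz => ?_⟩
  · refine (injective_iff_map_eq_zero _).2 fun z hz => ?_
    have h1 : F.ε (φ z) ∈ F.cobdy a 0 := (Submodule.Quotient.mk_eq_zero ((F.cobdy a 0).comap (F.cocyc a 0).subtype)).1 hz
    have h2 : φ z = 0 := F.ε_injective (((Submodule.mem_bot R).1 h1).trans (map_zero _).symm)
    exact Subtype.ext (by rw [← hφ z, h2, map_zero]; rfl)
  · obtain ⟨v, rfl⟩ := Submodule.mkQ_surjective _ x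
    obtain ⟨y, hy⟩ := F.exact_zero.le v.2.2
    have hyg : y ∈ GrLC.gam a.toIdeal A.carrier := by
      obtain ⟨k, hk⟩ := v.2.1
      exact ⟨k, fun r hr => F.ε_injective (by rw [map_smul, hy, hk r hr, map_zero])⟩
    let z : Z := ⟨ε y, map_gam a ε hyg, h0.ge ⟨y, rfl⟩⟩
    refine ⟨z, congrArg (F.toH a 0) (Subtype.ext ?_)⟩
    show F.ε (φ z) = v.1
    rw [show φ z = y from hε (hφ z), hy]
  · refine congrArg (F.toH a 0) (Subtype.ext ?_)
    show F.ε (φ z) = F.ε y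
    rw [show φ z = y from hε ((hφ z).trans h.symm)]
  · refine ⟨w z, F.ε_grHom g _ ?_, rfl⟩
    have h1 : ε (pr A.gr g (φ z)) = ε (φ z) := by rw [map_pr hεd, hφ]; exact pr_self _ hz
    exact hε h1 ▸ pr_mem A.gr g (φ z)

variable [IsNoetherianRing R]

/-- Acyclic coresolutions compute graded local cohomology. -/
theorem exists_coresolution : ∀ (p : ℕ) (A : GrLC.GMod.{u} 𝒜) (F : GrLC.StarInjRes 𝒜 A.gr)
    (Y : ℕ → GrLC.GMod.{u} 𝒜) (D : ∀ n, (Y n).carrier →ₗ[R] (Y (n + 1)).carrier)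
    (ε : A.carrier →ₗ[R] (Y 0).carrier),
    (∀ n, GrLC.IsGrHom (Y n).gr (Y (n + 1)).gr (D n)) → GrLC.IsGrHom A.gr (Y 0).gr ε →
    Function.Injective ε → LinearMap.ker (D 0) = LinearMap.range ε →
    (∀ n, LinearMap.ker (D (n + 1)) = LinearMap.range (D n)) →
    (∀ n i m, Van a (Y n).gr (i + 1) m) →
    ∃ ψ : acCocyc a.toIdeal (fun n => (Y n).carrier) D p →ₗ[R] F.H a p,
      Function.Surjective ψ ∧
      LinearMap.ker ψ = (acCobdy a.toIdeal (fun n => (Y n).carrier) D p).comap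
        (acCocyc a.toIdeal (fun n => (Y n).carrier) D p).subtype ∧
      ∀ g z, z.1 ∈ (Y p).gr g → ψ z ∈ F.Hgr a p g := by
  intro p
  induction p with
  | zero =>
    intro A F Y D ε _ hεd hε h0 _ _
    obtain ⟨ψ, hψ, -, hdeg⟩ := exists_coresolution_zero a A F Y D ε hεd hε h0
    refine ⟨ψ, hψ.2, ?_, hdeg⟩
    rw [LinearMap.ker_eq_bot.2 hψ.1]
    exact (Submodule.ext fun z => by
      rw [Submodule.mem_bot]; exact ⟨fun h => by rw [h]; exact zero_mem _,
        fun h => Subtype.ext ((Submodule.mem_bot R).1 h)⟩)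
  | succ p ih =>
    intro A F Y D ε hD hεd hε h0 hs hac
    let C : GrLC.GMod.{u} 𝒜 := subG 𝒜 (LinearMap.ker (D 1)) (ker_isHomogeneous (hD 1))
    let q : (Y 0).carrier →ₗ[R] C.carrier := (D 0).codRestrict _ fun x => (hs 0).ge ⟨x, rfl⟩
    have hqd : GrLC.IsGrHom (Y 0).gr C.gr q := fun g x hx => hD 0 g x hx
    have hqs : Function.Surjective q := fun c => by
      obtain ⟨x, hx⟩ := (hs 0).le c.2
      exact ⟨x, Subtype.ext hx⟩
    have hqk : LinearMap.ker q = LinearMap.range ε := by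
      rw [← h0]; exact LinearMap.ker_codRestrict _ _ _
    obtain ⟨F₀⟩ := nonempty_resG (Y 0)
    obtain ⟨FC⟩ := nonempty_resG C
    have hε' := isGrHomDeg_zero_iff.2 hεd
    have hq' := isGrHomDeg_zero_iff.2 hqd
    obtain ⟨δ, hδd, -, hle⟩ := exists_lesG A (Y 0) C ε q hε' hq' hε hqs hqk F F₀ FC a
    have hδs : ∀ i, Function.Surjective (δ i) := fun i x =>
      ((hle i).2.2 x).1 (H_eq_zero_of_van' F₀ (fun m => hac 0 i m) _)
    let Y' : ℕ → GrLC.GMod.{u} 𝒜 := fun n => Y (n + 1)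
    let D' : ∀ n, (Y' n).carrier →ₗ[R] (Y' (n + 1)).carrier := fun n => D (n + 1)
    let i' : C.carrier →ₗ[R] (Y' 0).carrier := (LinearMap.ker (D 1)).subtype
    have h0' : LinearMap.ker (D' 0) = LinearMap.range i' := (Submodule.range_subtype _).symm
    obtain ⟨ψ, hψs, hψd, hψb⟩ : ∃ ψ : acCocyc a.toIdeal (fun n => (Y' n).carrier) D' p →ₗ[R] FC.H a p,
        Function.Surjective ψ ∧ (∀ g z, z.1 ∈ (Y' p).gr g → ψ z ∈ FC.Hgr a p g) ∧
        ∀ z, z.1 ∈ acCobdy a.toIdeal (fun n => (Y n).carrier) D (p + 1) ↔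
          ψ z ∈ LinearMap.range (Hmap F₀ FC a q 0 hq' p) := by
      cases p with
      | zero =>
        obtain ⟨ψ, hψ, hform, hdeg⟩ := exists_coresolution_zero a C FC Y' D' i' (fun g x hx => hx)
          (Submodule.subtype_injective _) h0'
        obtain ⟨Φ⟩ := nonempty_resMap F₀ FC q 0 hq'
        have hH : ∀ (y : (Y 0).carrier) (hyg : y ∈ GrLC.gam a.toIdeal (Y 0).carrier)
            (z : acCocyc a.toIdeal (fun n => (Y' n).carrier) D' 0), D 0 y = z.1 →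
            Hmap F₀ FC a q 0 hq' 0 (F₀.toH a 0 ⟨F₀.ε y, eps_mem_cocyc a F₀ hyg⟩) = ψ z := fun y hyg z hyz => by
          rw [Hmap_eq F₀ FC a hq' Φ, ResMap.H_toH, hform z (q y) (map_gam a q hyg) hyz]
          exact congrArg (FC.toH a 0) (Subtype.ext (LinearMap.congr_fun Φ.comm_ε y))
        refine ⟨ψ, hψ.2, hdeg, fun z => ⟨?_, ?_⟩⟩
        · rintro ⟨y, hy, hyz⟩
          exact ⟨_, hH y hy z hyz⟩
        · rintro ⟨w, hw⟩
          obtain ⟨v, rfl⟩ := Submodule.mkQ_surjective _ w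
          obtain ⟨y, hy⟩ := F₀.exact_zero.le v.2.2
          have hyg : y ∈ GrLC.gam a.toIdeal (Y 0).carrier := by
            obtain ⟨k, hk⟩ := v.2.1
            exact ⟨k, fun r hr => F₀.ε_injective (by rw [map_smul, hy, hk r hr, map_zero])⟩
          let z' : acCocyc a.toIdeal (fun n => (Y' n).carrier) D' 0 :=
            ⟨D 0 y, map_gam a (D 0) hyg, (q y).2⟩
          have h2 := hH y hyg z' rfl
          rw [show (⟨F₀.ε y, eps_mem_cocyc a F₀ hyg⟩ : F₀.cocyc a 0) = v from Subtype.ext hy] at h2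
          have h3 : z = z' := hψ.1 (hw.symm.trans h2)
          rw [h3]
          exact ⟨y, hyg, rfl⟩
      | succ p =>
        obtain ⟨ψ, hψs, hψk, hψd⟩ := ih C FC Y' D' i' (fun n => hD (n + 1)) (fun g x hx => hx)
          (Submodule.subtype_injective _) h0' (fun n => hs (n + 1)) (fun n => hac (n + 1))
        refine ⟨ψ, hψs, hψd, fun z => ⟨fun h => ⟨0, ?_⟩, fun ⟨w, hw⟩ => ?_⟩⟩
        · rw [map_zero]
          exact (LinearMap.mem_ker.1 (hψk.ge h)).symm
        · rw [H_eq_zero_of_van' F₀ (fun m => hac 0 p m) w, map_zero] at hw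
          exact hψk.le hw.symm
    refine ⟨(δ p).comp ψ, (hδs p).comp hψs, le_antisymm (fun z hz => (hψb z).2 (((hle p).2.1 _).1 hz))
      (fun z hz => ((hle p).2.1 _).2 ((hψb z).1 hz)), fun g z hz => ?_⟩
    have := hδd p g _ (hψd g z hz)
    rwa [add_zero, neg_zero, add_zero] at this
where
  H_eq_zero_of_van' {A : GrLC.GMod.{u} 𝒜} (E : GrLC.StarInjRes 𝒜 A.gr) {i : ℕ}
      (h : ∀ m, Van a A.gr (i + 1) m) (z : E.H a (i + 1)) : z = 0 := by
    letI := (Hgr_isInternal E a (i + 1)).chooseDecomposition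
    induction z using induction (E.Hgr a (i + 1)) with
    | h0 => rfl
    | hmem g y hy => exact h g E y hy
    | hadd y y' h1 h2 => rw [h1, h2, add_zero]

end GrModLib
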