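import Groth.Agent.GrModLib.CanonMain

/-! Cyclic *canonical modules. -/

set_option autoImplicit false
universe u

open DirectSum CategoryTheory IsLocalRing

namespace GrModLib

/-- Isomorphic modules have the same `Ext`. -/
theorem length_ext_congr_right {A : Type u} [CommRing A] {X M N : Type u} [AddCommGroup X] [Module A X]
    [AddCommGroup M] [Module A M] [AddCommGroup N] [Module A N] (e : M ≃ₗ[A] N) (i : ℕ) :
    Module.length A (Abelian.Ext.{u} (ModuleCat.of A X) (ModuleCat.of A M) i) =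
      Module.length A (Abelian.Ext.{u} (ModuleCat.of A X) (ModuleCat.of A N) i) := by
  let k := ModuleCat.of A X
  let u₁ := (Abelian.Ext.mk₀ e.toModuleIso.hom).postcompOfLinear A k (add_zero i)
  let u₂ := (Abelian.Ext.mk₀ e.toModuleIso.inv).postcompOfLinear A k (add_zero i)
  refine (LinearEquiv.ofLinear u₁ u₂ (LinearMap.ext fun α => ?_) (LinearMap.ext fun α => ?_)).length_eq
  · show (α.comp (Abelian.Ext.mk₀ e.toModuleIso.inv) (add_zero i)).comp _ (add_zero i) = α
    rw [Abelian.Ext.comp_assoc_of_second_deg_zero, Abelian.Ext.mk₀_comp_mk₀, Iso.inv_hom_id,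
      Abelian.Ext.comp_mk₀_id]
  · show (α.comp (Abelian.Ext.mk₀ e.toModuleIso.hom) (add_zero i)).comp _ (add_zero i) = α
    rw [Abelian.Ext.comp_assoc_of_second_deg_zero, Abelian.Ext.mk₀_comp_mk₀, Iso.hom_inv_id,
      Abelian.Ext.comp_mk₀_id]

variable {R : Type u} [CommRing R] [IsNoetherianRing R] {𝒜 : ℤ → AddSubgroup R} [GradedRing 𝒜]

/-- Graded Nakayama. -/
theorem eq_top_of_sup_smul (hpos : ∀ n : ℤ, n < 0 → 𝒜 n = ⊥) (C : GrLC.GMod.{u} 𝒜) [Module.Finite R C.carrier]
    (P : Submodule R C.carrier) (hP : P.IsHomogeneous C.gr)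
    (h : P ⊔ (posIdeal 𝒜).toIdeal • (⊤ : Submodule R C.carrier) = ⊤) : P = ⊤ := by
  obtain ⟨B, hB⟩ := exists_bot_bound hpos C
  have key : ∀ (k : ℕ) (n : ℤ), n < B + k → ∀ y ∈ C.gr n, y ∈ P := by
    intro k
    induction k with
    | zero => exact fun n hn y hy => by rw [hB n y (by simpa using hn) hy]; exact zero_mem _
    | succ k ih =>
      intro n hn y hy
      obtain ⟨p, hp, z, hz, hpz⟩ := Submodule.mem_sup.1 (h.ge (Submodule.mem_top : y ∈ ⊤))
      rw [← pr_self C.gr hy, ← hpz, map_add]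
      refine add_mem (hP n hp) ?_
      clear hpz
      refine Submodule.smul_induction_on hz (fun r hr x hx => ?_) (fun a b ha hb => by rw [map_add]; exact add_mem ha hb)
      clear hx
      induction x using induction C.gr with
      | h0 => rw [smul_zero, map_zero]; exact zero_mem _
      | hmem j v hv =>
        rw [pr_smul_mem 𝒜 C.gr hv]
        rcases lt_trichotomy (n - j) 0 with hj | hj | hj
        · rw [eq_zero_of_neg hpos hj (pr_mem 𝒜 _ r), zero_smul]; exact zero_mem _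
        · rw [hj, pr_zero_posIdeal hpos r hr, zero_smul]; exact zero_mem _
        · exact Submodule.smul_mem _ _ (ih j (by push_cast at hn; omega) v hv)
      | hadd a b ha hb => rw [smul_add, map_add]; exact add_mem ha hb
  refine eq_top_iff.2 fun y _ => ?_
  obtain ⟨s, -, hs⟩ := exists_finset C.gr y
  rw [← hs]
  exact sum_mem fun g _ => key (g - B + 1).toNat g (by omega) _ (pr_mem C.gr g y)

/-- One generator. -/
theorem exists_homogeneous_generator (hpos : ∀ n : ℤ, n < 0 → 𝒜 n = ⊥) [(posIdeal 𝒜).toIdeal.IsMaximal]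
    (C : GrLC.GMod.{u} 𝒜) [Module.Finite R C.carrier]
    (h1 : Module.finrank (R ⧸ (posIdeal 𝒜).toIdeal)
      (TensorProduct R (R ⧸ (posIdeal 𝒜).toIdeal) C.carrier) = 1) :
    ∃ (a : ℤ) (c : C.carrier), c ∈ C.gr a ∧ Function.Surjective (LinearMap.toSpanSingleton R C.carrier c) := by
  let q := (posIdeal 𝒜).toIdeal
  let P := q • (⊤ : Submodule R C.carrier)
  have hsimple : IsSimpleModule R (C.carrier ⧸ P) := by
    rw [← Module.length_eq_one_iff, ← (TensorProduct.quotTensorEquivQuotSMul C.carrier q).length_eq,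
      Module.length_eq_of_surjective (R := R ⧸ q) Ideal.Quotient.mk_surjective]
    letI := Ideal.Quotient.field q
    rw [Module.length_eq_finrank, h1, Nat.cast_one]
  haveI := hsimple
  haveI := IsSimpleModule.nontrivial R (C.carrier ⧸ P)
  obtain ⟨x, hx⟩ := exists_ne (0 : C.carrier ⧸ P)
  obtain ⟨v, rfl⟩ := P.mkQ_surjective x
  obtain ⟨a, ha⟩ : ∃ a, P.mkQ (pr C.gr a v) ≠ 0 := by
    by_contra hcon
    push Not at hcon
    refine hx ?_
    obtain ⟨s, -, hs⟩ := exists_finset C.gr v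
    rw [← hs, map_sum]
    exact Finset.sum_eq_zero fun g _ => hcon g
  refine ⟨a, pr C.gr a v, pr_mem C.gr a v, LinearMap.range_eq_top.1 ?_⟩
  rw [LinearMap.range_toSpanSingleton]
  refine eq_top_of_sup_smul hpos C _ (singleton_isHomogeneous 𝒜 C.gr (pr_mem C.gr a v)) (eq_top_iff.2 fun y _ => ?_)
  obtain ⟨r, hr⟩ := Submodule.mem_span_singleton.1 ((IsSimpleModule.span_singleton_eq_top R ha).ge
    (Submodule.mem_top : P.mkQ y ∈ ⊤))
  refine Submodule.mem_sup.2 ⟨r • pr C.gr a v, Submodule.smul_mem _ r (Submodule.mem_span_singleton_self _),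
    y - r • pr C.gr a v, (Submodule.Quotient.mk_eq_zero P).1 ?_, add_sub_cancel _ _⟩
  show P.mkQ (y - r • pr C.gr a v) = 0
  rw [map_sub, map_smul, hr, sub_self]

variable {E' : Type u} [AddCommGroup E'] [Module R E'] {𝓔 : ℤ → AddSubgroup E'} [DirectSum.Decomposition 𝓔]
  [SetLike.GradedSMul 𝒜 𝓔] {e : (R ⧸ (posIdeal 𝒜).toIdeal) →ₗ[R] E'}

/-- A homogeneous surjection onto a module whose dual is the top local cohomology is injective. -/
theorem injective_of_surjective_canon (hpos : ∀ n : ℤ, n < 0 → 𝒜 n = ⊥) (h0 : IsField (GrLC.deg0 𝒜))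
    (he : GrLC.IsStarInjHull 𝒜 (GrLC.quotGr 𝒜 (posIdeal 𝒜)) 𝓔 e) :
    ∀ (d : ℕ) (N C : GrLC.GMod.{u} 𝒜), Module.Finite R N.carrier → Module.Finite R C.carrier →
      ∀ (E : GrLC.StarInjRes 𝒜 N.gr), (∀ j, j < d → ∀ m, Van (posIdeal 𝒜) N.gr j m) →
      Module.supportDim R N.carrier ≤ (d : ℕ) → ((C.carrier →ₗ[R] E') ≃ₗ[R] E.H (posIdeal 𝒜) d) →
      ∀ (a : ℤ) (f : N.carrier →ₗ[R] C.carrier), GrLC.IsGrHomDeg N.gr C.gr f a → Function.Surjective f →
        Function.Injective f := by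
  intro d
  induction d with
  | zero =>
    intro N C hNf hCf E _ hdim Φ a f hf hfs
    have hN := gam_eq_top_of_supportDim hpos N hdim
    obtain ⟨ω⟩ := nonempty_equiv_H_zero N E hN
    have hC : GrLC.gam (posIdeal 𝒜).toIdeal C.carrier = ⊤ := eq_top_iff.2 fun c _ => by
      obtain ⟨v, rfl⟩ := hfs c
      obtain ⟨t, ht⟩ := hN.ge (Submodule.mem_top : v ∈ ⊤)
      exact ⟨t, fun r hr => by rw [← map_smul, ht r hr, map_zero]⟩
    obtain ⟨hC1, hC2⟩ := length_dual hpos h0 he C hC
    have h1 := Module.length_eq_add_of_exact (LinearMap.ker f).subtype f (LinearMap.ker f).injective_subtype hfs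
      (LinearMap.exact_subtype_ker_map f)
    rw [← (Φ.trans ω.symm).length_eq, hC1] at h1
    have h2 : Module.length R (LinearMap.ker f) = 0 :=
      WithTop.add_left_cancel hC2 ((add_comm _ _).trans (h1.symm.trans (add_zero _).symm))
    haveI := Module.length_eq_zero_iff.1 h2
    exact LinearMap.ker_eq_bot.1 (Submodule.eq_bot_of_subsingleton)
  | succ d ih =>
    intro N C hNf hCf E hvan hdim Φ a f hf hfs
    obtain ⟨k, x, Q, C', π, ρ, F, hk, hx, hxm, hxr, hxC, hπ, hπs, hπk, hρ, hρs, hρk, hQf, hC'f, hvQ, hdimQ, ⟨Φ'⟩⟩ :=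
      canon_step hpos h0 he (d := d) N C E hvan hdim Φ
    let g : N.carrier →ₗ[R] C'.carrier := ρ ∘ₗ f
    have hle : LinearMap.ker π ≤ LinearMap.ker g := by
      rw [hπk]
      rintro _ ⟨v, rfl⟩
      show ρ (f (x • v)) = 0
      rw [map_smul]
      exact LinearMap.mem_ker.1 (hρk.ge ⟨f v, rfl⟩)
    let f' : Q.carrier →ₗ[R] C'.carrier :=
      (LinearMap.ker π).liftQ g hle ∘ₗ (π.quotKerEquivOfSurjective hπs).symm.toLinearMap
    have hf' : ∀ v, f' (π v) = ρ (f v) := fun v => by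
      show (LinearMap.ker π).liftQ g hle ((π.quotKerEquivOfSurjective hπs).symm (π v)) = ρ (f v)
      rw [show (π.quotKerEquivOfSurjective hπs).symm (π v) = Submodule.Quotient.mk v from
        (LinearEquiv.symm_apply_eq _).2 rfl]
      rfl
    have hinj : Function.Injective f' := by
      refine ih Q C' hQf hC'f F hvQ hdimQ Φ' a f' (fun g' y hy => ?_) (fun c => ?_)
      · obtain ⟨v, rfl⟩ := hπs y
        have h1 : π v = π (pr N.gr g' v) := by rw [map_pr hπ, pr_self Q.gr hy]
        rw [h1, hf']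
        exact hρ _ _ (hf g' _ (pr_mem N.gr g' v))
      · obtain ⟨w, rfl⟩ := hρs c
        obtain ⟨v, rfl⟩ := hfs w
        exact ⟨π v, hf' v⟩
    have hker : LinearMap.ker f ≤ LinearMap.range (x • LinearMap.id : N.carrier →ₗ[R] N.carrier) := fun v hv => by
      rw [← hπk]
      exact hinj (by rw [hf', LinearMap.mem_ker.1 hv, map_zero, map_zero])
    have hkh : (LinearMap.ker f).IsHomogeneous N.gr := ker_isHomogeneous_deg hf
    let K : GrLC.GMod.{u} 𝒜 := subG 𝒜 (ℳ := N.gr) (LinearMap.ker f) hkh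
    haveI : Module.Finite R K.carrier := finite_subG N _ hkh
    have hK : ∀ (n : ℤ), ∀ y ∈ K.gr n, y = 0 := eq_zero_of_range_smul_eq_top hpos K hk hx fun (y : LinearMap.ker f) => by
      obtain ⟨v, hv⟩ := hker y.2
      refine ⟨(⟨v, ?_⟩ : LinearMap.ker f), Subtype.ext hv⟩
      rw [LinearMap.mem_ker]
      refine hxC (show x • f v = x • 0 from ?_)
      rw [smul_zero, ← map_smul]
      exact (congrArg f hv).trans y.2
    refine LinearMap.ker_eq_bot.1 ((Submodule.eq_bot_iff _).2 fun v hv => pr_ext N.gr fun n => ?_)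
    rw [map_zero]
    exact congrArg Subtype.val (hK n ⟨pr N.gr n v, hkh n hv⟩ (pr_mem N.gr n v))

end GrModLib
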