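import Groth.Agent.GrModLib.CMLib
import Groth.Agent.LocCohLib.CohDim

/-! Hilbert functions and lengths of pieces of graded local cohomology over an Artinian degree zero part. -/

set_option autoImplicit false
universe u

open DirectSum BigOperators

namespace GrModLib

section Length

variable {K : Type u} [CommRing K]

/-- The length of a module as a rational number. -/
noncomputable def qlen (X : Type u) [AddCommGroup X] [Module K X] : ℚ := ((Module.length K X).toNat : ℚ)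

theorem qlen_split {B C : Type u} [AddCommGroup B] [Module K B] [AddCommGroup C] [Module K C]
    [IsNoetherian K B] [IsArtinian K B] (f : B →ₗ[K] C) :
    qlen (K := K) B = qlen (K := K) (LinearMap.ker f) + qlen (K := K) (LinearMap.range f) := by
  haveI : IsArtinian K (LinearMap.range f) := isArtinian_of_surjective _ f.rangeRestrict f.surjective_rangeRestrict
  haveI : IsNoetherian K (LinearMap.range f) := isNoetherian_of_surjective f.rangeRestrict f.range_rangeRestrict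
  have h := Module.length_eq_add_of_exact (LinearMap.ker f).subtype f.rangeRestrict
    (Submodule.injective_subtype _) f.surjective_rangeRestrict
    (LinearMap.exact_iff.2 (by rw [f.ker_rangeRestrict, Submodule.range_subtype]))
  rw [qlen, qlen, qlen, h, ENat.toNat_add Module.length_ne_top Module.length_ne_top, Nat.cast_add]

theorem qlen_mid {A B C : Type u} [AddCommGroup A] [Module K A] [AddCommGroup B] [Module K B] [AddCommGroup C]
    [Module K C] [IsNoetherian K B] [IsArtinian K B] (f : A →ₗ[K] B) (g : B →ₗ[K] C)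
    (h : LinearMap.range f = LinearMap.ker g) :
    qlen (K := K) B = qlen (K := K) (LinearMap.range f) + qlen (K := K) (LinearMap.range g) := by
  rw [qlen_split g, h]

theorem qlen_subsingleton (X : Type u) [AddCommGroup X] [Module K X] [Subsingleton X] : qlen (K := K) X = 0 := by
  rw [qlen, Module.length_eq_zero]; rfl

theorem qlen_range_zero {A B : Type u} [AddCommGroup A] [Module K A] [AddCommGroup B] [Module K B] (f : A →ₗ[K] B)
    (h : ∀ x, f x = 0) : qlen (K := K) (LinearMap.range f) = 0 := by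
  haveI : Subsingleton (LinearMap.range f) := ⟨fun u v => by
    obtain ⟨x, hx⟩ := u.2
    obtain ⟨y, hy⟩ := v.2
    exact Subtype.ext (by rw [← hx, ← hy, h, h])⟩
  exact qlen_subsingleton _

theorem qlen_five {A B C A' B' : Type u} [AddCommGroup A] [Module K A] [AddCommGroup B] [Module K B]
    [AddCommGroup C] [Module K C] [AddCommGroup A'] [Module K A'] [AddCommGroup B'] [Module K B']
    [IsNoetherian K A] [IsArtinian K A] [IsNoetherian K B] [IsArtinian K B] [IsNoetherian K C] [IsArtinian K C]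
    (p : A →ₗ[K] B) (q : B →ₗ[K] C) (s : C →ₗ[K] A') (p' : A' →ₗ[K] B')
    (h₁ : LinearMap.range p = LinearMap.ker q) (h₂ : LinearMap.range q = LinearMap.ker s)
    (h₃ : LinearMap.range s = LinearMap.ker p') :
    qlen (K := K) A + qlen (K := K) C - qlen (K := K) B =
      qlen (K := K) (LinearMap.ker p) + qlen (K := K) (LinearMap.ker p') := by
  rw [qlen_split p, qlen_mid p q h₁, qlen_mid q s h₂, h₃]
  ring

theorem qlen_congr {A B : Type u} [AddCommGroup A] [Module K A] [AddCommGroup B] [Module K B] (e : A ≃ₗ[K] B) :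
    qlen (K := K) A = qlen (K := K) B := by
  rw [qlen, qlen, e.length_eq]

theorem qlen_eq_zero {X : Type u} [AddCommGroup X] [Module K X] [IsNoetherian K X] [IsArtinian K X]
    (h : qlen (K := K) X = 0) : Subsingleton X := by
  unfold qlen at h
  have h1 : (Module.length K X).toNat = 0 := by exact_mod_cast h
  exact Module.length_eq_zero_iff.1 ((ENat.toNat_eq_zero.1 h1).resolve_right Module.length_ne_top)

end Length

variable {R : Type u} [CommRing R] [IsNoetherianRing R] {𝒜 : ℤ → AddSubgroup R} [GradedRing 𝒜]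

/-- The Hilbert function. -/
noncomputable def hf (N : GrLC.GMod.{u} 𝒜) (n : ℤ) : ℚ := qlen (K := GrLC.deg0 𝒜) (GrLC.comp 𝒜 N.gr n)

/-- The alternating sum of the lengths of the pieces of graded local cohomology up to degree `D`. -/
noncomputable def chi {N : GrLC.GMod.{u} 𝒜} (a : HomogeneousIdeal 𝒜) (D : ℕ) (E : GrLC.StarInjRes 𝒜 N.gr)
    (n : ℤ) : ℚ :=
  ∑ i ∈ Finset.range (D + 1), (-1 : ℚ) ^ i * qlen (K := GrLC.deg0 𝒜) (E.Hcomp a i n)

theorem isNoetherian_comp (N : GrLC.GMod.{u} 𝒜) [Module.Finite R N.carrier] (n : ℤ) :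
    IsNoetherian (GrLC.deg0 𝒜) (GrLC.comp 𝒜 N.gr n) :=
  haveI := isNoetherian_of_isNoetherianRing_of_finite R N.carrier
  isNoetherian_piece N.gr (P := GrLC.comp 𝒜 N.gr n) fun _ hx => hx

theorem isArtinian_comp [IsArtinianRing (GrLC.deg0 𝒜)] (N : GrLC.GMod.{u} 𝒜) [Module.Finite R N.carrier] (n : ℤ) :
    IsArtinian (GrLC.deg0 𝒜) (GrLC.comp 𝒜 N.gr n) :=
  haveI := isNoetherian_comp N n
  inferInstance

theorem isNoetherian_Hcomp (hpos : ∀ n : ℤ, n < 0 → 𝒜 n = ⊥) (a : HomogeneousIdeal 𝒜)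
    (ha : (posIdeal 𝒜).toIdeal ≤ a.toIdeal) (har : a.toIdeal ≤ (posIdeal 𝒜).toIdeal.radical)
    (N : GrLC.GMod.{u} 𝒜) [hN : Module.Finite R N.carrier] (E : GrLC.StarInjRes 𝒜 N.gr) (i : ℕ) (n : ℤ) :
    IsNoetherian (GrLC.deg0 𝒜) (E.Hcomp a i n) := by
  refine piece_induction hpos a ha (fun X _ _ => IsNoetherian (GrLC.deg0 𝒜) X)
    (fun X _ _ _ => inferInstance) (fun A B D _ _ _ _ _ _ f g hfg hA hD =>
      haveI := hA; haveI := hD; isNoetherian_of_range_eq_ker f g hfg) ?_ ?_ i N hN E n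
  · intro N hN F k
    haveI := isNoetherian_of_isNoetherianRing_of_finite R N.carrier
    obtain ⟨e⟩ := nonempty_H_equiv F a 0
    haveI : IsNoetherian R (F.H a 0) :=
      isNoetherian_of_linearEquiv ((LocCohLib.H0Equiv a.toIdeal N.carrier).symm.trans e.symm)
    exact isNoetherian_piece (F.Hgr a 0) (P := F.Hcomp a 0 k) fun x hx => hx
  · intro j N hN F k x _ _
    obtain ⟨c, hc⟩ := Ideal.exists_pow_le_of_le_radical_of_fg har (IsNoetherian.noetherian _)
    have hv : Van a N.gr (j + 1) k := van_of_torsion (eq_top_iff.2 fun y _ => by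
      obtain ⟨l, hl⟩ := hN.ge (Submodule.mem_top : y ∈ (⊤ : Submodule R N.carrier))
      exact ⟨c * l, fun r hr => hl r (Ideal.pow_right_mono hc l (pow_mul a.toIdeal c l ▸ hr))⟩)
      (Nat.le_add_left 1 j) k
    haveI : Subsingleton (F.Hcomp a (j + 1) k) :=
      ⟨fun u v => Subtype.ext ((hv F _ u.2).trans (hv F _ v.2).symm)⟩
    infer_instance

theorem qlen_Hcomp_of_van {N : GrLC.GMod.{u} 𝒜} {a : HomogeneousIdeal 𝒜} {i : ℕ} {n : ℤ}
    (h : Van a N.gr i n) (E : GrLC.StarInjRes 𝒜 N.gr) : qlen (K := GrLC.deg0 𝒜) (E.Hcomp a i n) = 0 := by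
  haveI : Subsingleton (E.Hcomp a i n) := ⟨fun u v => Subtype.ext ((h E _ u.2).trans (h E _ v.2).symm)⟩
  exact qlen_subsingleton _

omit [IsNoetherianRing R] in
/-- An exact sequence restricted to pieces. -/
theorem range_pieceMap {A B C : GrLC.GMod.{u} 𝒜} {E : GrLC.StarInjRes 𝒜 A.gr} {F : GrLC.StarInjRes 𝒜 B.gr}
    {G : GrLC.StarInjRes 𝒜 C.gr} {a : HomogeneousIdeal 𝒜} {i j k : ℕ} {φ : E.H a i →ₗ[R] F.H a j}
    {ψ : F.H a j →ₗ[R] G.H a k} {d e : ℤ} (hφ : GrLC.IsGrHomDeg (E.Hgr a i) (F.Hgr a j) φ d)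
    (hψ : GrLC.IsGrHomDeg (F.Hgr a j) (G.Hgr a k) ψ e) (h : Function.Exact φ ψ) (n m l : ℤ) (e₁ : n + d = m)
    (e₂ : m + e = l) : LinearMap.range (pieceMap hφ n m e₁) = LinearMap.ker (pieceMap hψ m l e₂) := by
  refine le_antisymm ?_ fun w hw => ?_
  · rintro _ ⟨v, rfl⟩
    exact Subtype.ext ((h _).2 ⟨v.1, rfl⟩)
  · obtain ⟨v, hv, hvw⟩ := preimage_homogeneous hφ (g := n)
      (show w.1 ∈ F.Hgr a j (n + d) by rw [e₁]; exact w.2) ((h w.1).1 (congrArg Subtype.val hw))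
    exact ⟨⟨v, hv⟩, Subtype.ext hvw⟩

theorem telescope (A B C u : ℕ → ℚ) (h : ∀ i, A i + C i - B i = u i + u (i + 1)) :
    ∀ D : ℕ, (∑ i ∈ Finset.range (D + 1), (-1 : ℚ) ^ i * A i) + (∑ i ∈ Finset.range (D + 1), (-1 : ℚ) ^ i * C i) -
      (∑ i ∈ Finset.range (D + 1), (-1 : ℚ) ^ i * B i) = u 0 + (-1 : ℚ) ^ D * u (D + 1)
  | 0 => by simpa using h 0
  | D + 1 => by
    have h1 := telescope A B C u h D
    rw [Finset.sum_range_succ _ (D + 1), Finset.sum_range_succ _ (D + 1), Finset.sum_range_succ _ (D + 1)]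
    linear_combination h1 + (-1 : ℚ) ^ (D + 1) * h (D + 1)

variable [IsArtinianRing (GrLC.deg0 𝒜)]

/-- Euler characteristics are additive in short exact sequences. -/
theorem chi_add (hpos : ∀ n : ℤ, n < 0 → 𝒜 n = ⊥) {a : HomogeneousIdeal 𝒜}
    (ha : (posIdeal 𝒜).toIdeal ≤ a.toIdeal) (har : a.toIdeal ≤ (posIdeal 𝒜).toIdeal.radical)
    {D : ℕ} (hD : ringKrullDim R ≤ (D : ℕ))
    (A B C : GrLC.GMod.{u} 𝒜) [Module.Finite R A.carrier] [Module.Finite R B.carrier] [Module.Finite R C.carrier]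
    (f : A.carrier →ₗ[R] B.carrier) (g : B.carrier →ₗ[R] C.carrier) {d : ℤ}
    (hf : GrLC.IsGrHomDeg A.gr B.gr f d) (hg : GrLC.IsGrHomDeg B.gr C.gr g 0)
    (hfi : Function.Injective f) (hgs : Function.Surjective g) (hex : LinearMap.ker g = LinearMap.range f)
    (E₁ : GrLC.StarInjRes 𝒜 A.gr) (E₂ : GrLC.StarInjRes 𝒜 B.gr) (E₃ : GrLC.StarInjRes 𝒜 C.gr) (n : ℤ) :
    chi a D E₂ n = chi a D E₁ (n - d) + chi a D E₃ n := by
  obtain ⟨δ, hδ, hinj, hle⟩ := exists_lesG A B C f g hf hg hfi hgs hex E₁ E₂ E₃ a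
  let p : ∀ i, E₁.Hcomp a i (n - d) →ₗ[GrLC.deg0 𝒜] E₂.Hcomp a i n := fun i => pieceMap (Hmap_deg E₁ E₂ a hf i) (n - d) n (sub_add_cancel n d)
  let q : ∀ i, E₂.Hcomp a i n →ₗ[GrLC.deg0 𝒜] E₃.Hcomp a i n := fun i => pieceMap (Hmap_deg E₂ E₃ a hg i) n n (add_zero n)
  let s : ∀ i, E₃.Hcomp a i n →ₗ[GrLC.deg0 𝒜] E₁.Hcomp a (i + 1) (n - d) := fun i => pieceMap (hδ i) n (n - d) (by ring)
  let u : ℕ → ℚ := fun i => qlen (K := GrLC.deg0 𝒜) (LinearMap.ker (p i))
  have hu : ∀ i, qlen (K := GrLC.deg0 𝒜) (E₁.Hcomp a i (n - d)) + qlen (K := GrLC.deg0 𝒜) (E₃.Hcomp a i n) -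
      qlen (K := GrLC.deg0 𝒜) (E₂.Hcomp a i n) = u i + u (i + 1) := fun i => by
    haveI := isNoetherian_Hcomp hpos a ha har A E₁ i (n - d)
    haveI := isNoetherian_Hcomp hpos a ha har B E₂ i n
    haveI := isNoetherian_Hcomp hpos a ha har C E₃ i n
    exact qlen_five (K := GrLC.deg0 𝒜) (p i) (q i) (s i) (p (i + 1))
      (range_pieceMap _ _ (hle i).1 _ _ _ _ _)
      (range_pieceMap _ _ (hle i).2.1 _ _ _ _ _)
      (range_pieceMap _ _ (hle i).2.2 _ _ _ _ _)
  have hu0 : u 0 = 0 := by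
    haveI : Subsingleton (LinearMap.ker (p 0)) := ⟨fun v w => Subtype.ext (Subtype.ext (hinj
      ((congrArg Subtype.val v.2).trans (congrArg Subtype.val w.2).symm)))⟩
    exact qlen_subsingleton _
  have huD : u (D + 1) = 0 := by
    have hv : Van a A.gr (D + 1) (n - d) := van_of_subsingleton_H
      (LocCohLib.subsingleton_H_of_supportDim_lt (D + 1) A.carrier
        (((Module.supportDim_le_ringKrullDim R A.carrier).trans hD).trans_lt (by exact_mod_cast D.lt_succ_self))) _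
    haveI : Subsingleton (LinearMap.ker (p (D + 1))) := ⟨fun v w => Subtype.ext (Subtype.ext
      ((hv E₁ _ v.1.2).trans (hv E₁ _ w.1.2).symm))⟩
    exact qlen_subsingleton _
  have h := telescope _ _ _ u hu D
  rw [hu0, huD, mul_zero, add_zero] at h
  exact (sub_eq_zero.1 h).symm

/-- Hilbert functions are additive in short exact sequences. -/
theorem hf_add (A B C : GrLC.GMod.{u} 𝒜) [Module.Finite R B.carrier] (f : A.carrier →ₗ[R] B.carrier)
    (g : B.carrier →ₗ[R] C.carrier) {d : ℤ} (hf' : GrLC.IsGrHomDeg A.gr B.gr f d)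
    (hg : GrLC.IsGrHomDeg B.gr C.gr g 0) (hfi : Function.Injective f) (hgs : Function.Surjective g)
    (hex : LinearMap.ker g = LinearMap.range f) (n : ℤ) : hf B n = hf A (n - d) + hf C n := by
  haveI := isNoetherian_comp B n
  let p : GrLC.comp 𝒜 A.gr (n - d) →ₗ[GrLC.deg0 𝒜] GrLC.comp 𝒜 B.gr n :=
    (f.restrictScalars (GrLC.deg0 𝒜)).restrict fun x hx =>
      (show f x ∈ B.gr n by simpa using hf' (n - d) x hx)
  let q : GrLC.comp 𝒜 B.gr n →ₗ[GrLC.deg0 𝒜] GrLC.comp 𝒜 C.gr n :=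
    (g.restrictScalars (GrLC.deg0 𝒜)).restrict fun x hx =>
      (show g x ∈ C.gr n by simpa using hg n x hx)
  have hpq : LinearMap.range p = LinearMap.ker q := by
    refine le_antisymm ?_ fun w hw => ?_
    · rintro _ ⟨v, rfl⟩
      exact Subtype.ext (LinearMap.mem_ker.1 (hex.ge ⟨v.1, rfl⟩))
    · obtain ⟨v, hv, hvw⟩ := preimage_homogeneous hf' (g := n - d)
        (show w.1 ∈ B.gr (n - d + d) by rw [sub_add_cancel]; exact w.2) (hex.le (congrArg Subtype.val hw))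
      exact ⟨⟨v, hv⟩, Subtype.ext hvw⟩
  have hq : Function.Surjective q := fun w => by
    obtain ⟨v, hv, hvw⟩ := preimage_homogeneous hg (g := n) (show w.1 ∈ C.gr (n + 0) by rw [add_zero]; exact w.2)
      (hgs w.1)
    exact ⟨⟨v, hv⟩, Subtype.ext hvw⟩
  have hq' : qlen (K := GrLC.deg0 𝒜) (LinearMap.range q) = qlen (K := GrLC.deg0 𝒜) (GrLC.comp 𝒜 C.gr n) :=
    qlen_congr (LinearEquiv.ofTop _ (LinearMap.range_eq_top.2 hq))
  rw [hf, hf, hf, qlen_mid p q hpq, hq',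
    ← qlen_congr (LinearEquiv.ofInjective p fun v w h => Subtype.ext (hfi (congrArg Subtype.val h)))]

omit [IsArtinianRing (GrLC.deg0 𝒜)] in
/-- A torsion module has Euler characteristic its Hilbert function. -/
theorem chi_of_torsion (N : GrLC.GMod.{u} 𝒜) {a : HomogeneousIdeal 𝒜} (hN : GrLC.gam a.toIdeal N.carrier = ⊤)
    (D : ℕ) (E : GrLC.StarInjRes 𝒜 N.gr) (n : ℤ) : chi a D E n = hf N n := by
  rw [chi, Finset.sum_range_succ', pow_zero, one_mul, Finset.sum_eq_zero, zero_add]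
  · have hmem : ∀ y : N.carrier, E.ε y ∈ E.cocyc a 0 := fun y =>
      ⟨map_gam a E.ε (hN.ge Submodule.mem_top), LinearMap.congr_fun (d_comp_ε E) y⟩
    let T : GrLC.comp 𝒜 N.gr n →ₗ[GrLC.deg0 𝒜] E.Hcomp a 0 n :=
      { toFun := fun y => ⟨E.toH a 0 ⟨E.ε y, hmem y⟩, ⟨E.ε y, hmem y⟩, E.ε_grHom n y y.2, rfl⟩
        map_add' := fun y z => Subtype.ext (by
          show E.toH a 0 ⟨E.ε (y.1 + z.1), hmem _⟩ = _
          rw [show (⟨E.ε (y.1 + z.1), hmem _⟩ : E.cocyc a 0) = ⟨E.ε y.1, hmem _⟩ + ⟨E.ε z.1, hmem _⟩ from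
            Subtype.ext (map_add E.ε _ _), map_add]
          rfl)
        map_smul' := fun r y => Subtype.ext (by
          show E.toH a 0 ⟨E.ε ((r : R) • y.1), hmem _⟩ = (r : R) • E.toH a 0 ⟨E.ε y.1, hmem _⟩
          rw [← map_smul]
          exact congrArg _ (Subtype.ext (map_smul E.ε _ _))) }
    refine (qlen_congr (LinearEquiv.ofBijective T ⟨fun y z h => ?_, fun w => ?_⟩)).symm
    · have h0 := congrArg Subtype.val h
      have h1 : E.ε y.1 - E.ε z.1 ∈ E.cobdy a 0 :=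
        (Submodule.Quotient.eq ((E.cobdy a 0).comap (E.cocyc a 0).subtype)).1 h0
      exact Subtype.ext (E.ε_injective (sub_eq_zero.1 ((Submodule.mem_bot R).1 h1)))
    · obtain ⟨z, hz, hzw⟩ := w.2
      obtain ⟨v, hv, hvz⟩ := preimage_homogeneous (ε_deg E) (g := n)
        (show (z : (E.X 0).carrier) ∈ (E.X 0).gr (n + 0) by rw [add_zero]; exact hz) (E.exact_zero.le z.2.2)
      refine ⟨⟨v, hv⟩, Subtype.ext ?_⟩
      show E.toH a 0 ⟨E.ε v, hmem _⟩ = w.1
      rw [← hzw]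
      exact congrArg _ (Subtype.ext hvz)
  · intro i _
    rw [qlen_Hcomp_of_van (van_of_torsion hN (Nat.le_add_left 1 i) n) E, mul_zero]

/-- The inductive step: a module without torsion. -/
theorem chi_step (hpos : ∀ n : ℤ, n < 0 → 𝒜 n = ⊥) {a : HomogeneousIdeal 𝒜}
    (ha : (posIdeal 𝒜).toIdeal ≤ a.toIdeal) (har : a.toIdeal ≤ (posIdeal 𝒜).toIdeal.radical)
    {D : ℕ} (hD : ringKrullDim R ≤ (D : ℕ)) (Q : GrLC.GMod.{u} 𝒜) [Module.Finite R Q.carrier]
    (hQ : GrLC.gam (posIdeal 𝒜).toIdeal Q.carrier = ⊥) (P : Polynomial ℚ) (hP0 : P ≠ 0) {n₁ : ℤ}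
    (hQP : ∀ j, n₁ ≤ j → P.eval (j : ℚ) = hf Q j)
    (ih : ∀ P' : Polynomial ℚ, P'.degree < P.degree → ∀ (N : GrLC.GMod.{u} 𝒜), Module.Finite R N.carrier →
      (∃ n₀ : ℤ, ∀ n : ℤ, n₀ ≤ n → P'.eval (n : ℚ) = hf N n) →
      ∀ (E : GrLC.StarInjRes 𝒜 N.gr) (n : ℤ), hf N n - P'.eval (n : ℚ) = chi a D E n)
    (EQ : GrLC.StarInjRes 𝒜 Q.gr) (n : ℤ) : hf Q n - P.eval (n : ℚ) = chi a D EQ n := by
  obtain ⟨t, x, ht, hx, hxr⟩ := exists_pos_regular hpos hQ
  have hxQ : GrLC.IsGrHomDeg Q.gr Q.gr (x • (LinearMap.id : Q.carrier →ₗ[R] Q.carrier)) t := fun g m hm => by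
    rw [add_comm]; exact smul_mem 𝒜 Q.gr hx hm
  let S₀ := LinearMap.range (x • (LinearMap.id : Q.carrier →ₗ[R] Q.carrier))
  let S := quotG 𝒜 (ℳ := Q.gr) S₀ (range_isHomogeneous_deg hxQ)
  haveI : Module.Finite R S.carrier := finite_quotG Q S₀ _
  have hqS : GrLC.IsGrHomDeg Q.gr S.gr S₀.mkQ 0 := fun g m hm => by rw [add_zero]; exact ⟨m, hm, rfl⟩
  let P' : Polynomial ℚ := P - Polynomial.taylor (-(t : ℚ)) P
  have hfS : ∀ j, hf Q j = hf Q (j - t) + hf S j := fun j =>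
    hf_add Q Q S _ S₀.mkQ hxQ hqS hxr S₀.mkQ_surjective S₀.ker_mkQ j
  have hP' : ∀ j : ℤ, P'.eval (j : ℚ) = P.eval (j : ℚ) - P.eval ((j - t : ℤ) : ℚ) := fun j => by
    simp only [P', Polynomial.eval_sub, Polynomial.taylor_eval, Int.cast_sub, ← sub_eq_add_neg]
  have hlt : P'.degree < P.degree := Polynomial.degree_sub_lt_left (Polynomial.degree_taylor P _).symm hP0
    (Polynomial.leadingCoeff_taylor (r := -(t : ℚ)) (f := P)).symm
  obtain ⟨ES⟩ := nonempty_resG S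
  have hstep : ∀ j, hf Q j - P.eval (j : ℚ) - chi a D EQ j =
      hf Q (j - t) - P.eval ((j - t : ℤ) : ℚ) - chi a D EQ (j - t) := fun j => by
    have h1 := ih P' hlt S inferInstance ⟨n₁ + t, fun i hi => by
      rw [hP' i, hQP i (by omega), hQP (i - t) (by omega), hfS i]; ring⟩ ES j
    have h2 := chi_add hpos ha har hD Q Q S _ S₀.mkQ hxQ hqS hxr S₀.mkQ_surjective S₀.ker_mkQ EQ EQ ES j
    rw [hP' j] at h1
    linear_combination hfS j - h2 + h1
  choose r hr using fun i : Fin (D + 1) => exists_van_bound hpos a ha i Q inferInstance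
  obtain ⟨r₀, hr₀⟩ := Finite.exists_le r
  have hzero : ∀ j, max (n₁) r₀ ≤ j → hf Q j - P.eval (j : ℚ) - chi a D EQ j = 0 := fun j hj => by
    rw [hQP j (le_of_max_le_left hj), sub_self, zero_sub, neg_eq_zero, chi]
    refine Finset.sum_eq_zero fun i hi => ?_
    rw [qlen_Hcomp_of_van (hr ⟨i, Finset.mem_range.1 hi⟩ j ((hr₀ _).trans (le_of_max_le_right hj))) EQ, mul_zero]
  have hall : ∀ (c : ℕ) (j : ℤ), max (n₁) r₀ ≤ j + c * t →
      hf Q j - P.eval (j : ℚ) - chi a D EQ j = 0 := by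
    intro c
    induction c with
    | zero => exact fun j hj => hzero j (by simpa using hj)
    | succ c ih' =>
      intro j hj
      have h1 := hstep (j + t)
      rw [ih' (j + t) (by push_cast at hj; linarith), add_sub_cancel_right] at h1
      exact h1.symm
  refine sub_eq_zero.1 (hall (max (n₁) r₀ - n).toNat n ?_)
  nlinarith [Int.self_le_toNat (max (n₁) r₀ - n)]


/-- Hilbert function minus Hilbert polynomial is the Euler characteristic of local cohomology. -/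
theorem hf_sub_eval_eq_chi (hpos : ∀ n : ℤ, n < 0 → 𝒜 n = ⊥) {a : HomogeneousIdeal 𝒜}
    (ha : (posIdeal 𝒜).toIdeal ≤ a.toIdeal) (har : a.toIdeal ≤ (posIdeal 𝒜).toIdeal.radical)
    {D : ℕ} (hD : ringKrullDim R ≤ (D : ℕ)) (P : Polynomial ℚ) (N : GrLC.GMod.{u} 𝒜)
    [Module.Finite R N.carrier] (hP : ∃ n₀ : ℤ, ∀ n : ℤ, n₀ ≤ n → P.eval (n : ℚ) = hf N n)
    (E : GrLC.StarInjRes 𝒜 N.gr) (n : ℤ) : hf N n - P.eval (n : ℚ) = chi a D E n := by
  suffices key : ∀ (k : WithBot ℕ) (P : Polynomial ℚ), P.degree = k → ∀ (N : GrLC.GMod.{u} 𝒜),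
      Module.Finite R N.carrier → (∃ n₀ : ℤ, ∀ n : ℤ, n₀ ≤ n → P.eval (n : ℚ) = hf N n) →
      ∀ (E : GrLC.StarInjRes 𝒜 N.gr) (n : ℤ), hf N n - P.eval (n : ℚ) = chi a D E n from
    key _ P rfl N inferInstance hP E n
  have hgam : ∀ (X : GrLC.GMod.{u} 𝒜), GrLC.gam (posIdeal 𝒜).toIdeal X.carrier = ⊤ →
      GrLC.gam a.toIdeal X.carrier = ⊤ := fun X hX => by
    obtain ⟨c, hc⟩ := Ideal.exists_pow_le_of_le_radical_of_fg har (IsNoetherian.noetherian _)
    refine eq_top_iff.2 fun y _ => ?_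
    obtain ⟨l, hl⟩ := hX.ge (Submodule.mem_top : y ∈ (⊤ : Submodule R X.carrier))
    exact ⟨c * l, fun r hr => hl r (Ideal.pow_right_mono hc l (pow_mul a.toIdeal c l ▸ hr))⟩
  intro k
  induction k using WellFoundedLT.induction with
  | ind k ih => ?_
  intro P hk N hN ⟨n₀, hn₀⟩ E n
  by_cases hP0 : P = 0
  · subst hP0
    have htors : GrLC.gam (posIdeal 𝒜).toIdeal N.carrier = ⊤ := by
      have hhom : ∀ (g : ℤ) (y : N.carrier), y ∈ N.gr g → y ∈ GrLC.gam (posIdeal 𝒜).toIdeal N.carrier := by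
        intro g y hy
        refine mem_gam_of_pow (posIdeal_toIdeal 𝒜) fun x hx => ?_
        obtain ⟨t, ht, hxt⟩ := Set.mem_iUnion₂.1 hx
        refine ⟨(n₀ - g).toNat, ?_⟩
        have h1 := smul_mem 𝒜 N.gr (SetLike.pow_mem_graded (n₀ - g).toNat hxt) hy
        rw [nsmul_eq_mul] at h1
        have hge : n₀ ≤ ((n₀ - g).toNat : ℤ) * t + g := by
          have h2 : (n₀ - g) ≤ ((n₀ - g).toNat : ℤ) := Int.self_le_toNat _
          nlinarith [Set.mem_Ioi.1 ht]
        haveI := isNoetherian_comp N (((n₀ - g).toNat : ℤ) * t + g)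
        haveI := qlen_eq_zero (K := GrLC.deg0 𝒜) (X := GrLC.comp 𝒜 N.gr (((n₀ - g).toNat : ℤ) * t + g))
          ((hn₀ _ hge).symm.trans Polynomial.eval_zero)
        exact congrArg Subtype.val (Subsingleton.elim
          (⟨_, h1⟩ : GrLC.comp 𝒜 N.gr (((n₀ - g).toNat : ℤ) * t + g)) 0)
      refine eq_top_iff.2 fun y _ => ?_
      obtain ⟨s, -, hs⟩ := exists_finset N.gr y
      rw [← hs]
      exact sum_mem fun g _ => hhom g _ (pr_mem N.gr g y)
    rw [chi_of_torsion N (hgam N htors), Polynomial.eval_zero, sub_zero]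
  let T₀ := GrLC.gam (posIdeal 𝒜).toIdeal N.carrier
  have hT₀ : T₀.IsHomogeneous N.gr := gam_isHomogeneous (posIdeal 𝒜)
  let T := subG 𝒜 (ℳ := N.gr) T₀ hT₀
  let Q := quotG 𝒜 (ℳ := N.gr) T₀ hT₀
  haveI : Module.Finite R T.carrier := finite_subG N T₀ hT₀
  haveI : Module.Finite R Q.carrier := finite_quotG N T₀ hT₀
  have hiT : GrLC.IsGrHomDeg T.gr N.gr T₀.subtype 0 := fun g m hm => by rw [add_zero]; exact hm
  have hqT : GrLC.IsGrHomDeg N.gr Q.gr T₀.mkQ 0 := fun g m hm => by rw [add_zero]; exact ⟨m, hm, rfl⟩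
  have hexT : LinearMap.ker T₀.mkQ = LinearMap.range T₀.subtype := (Submodule.ker_mkQ T₀).trans T₀.range_subtype.symm
  have hTt : GrLC.gam (posIdeal 𝒜).toIdeal T.carrier = ⊤ := eq_top_iff.2 fun m _ =>
    (m : T₀).2.imp fun k hk r hr => Subtype.ext (hk r hr)
  have hfN : ∀ j, hf N j = hf T j + hf Q j := fun j => by
    rw [hf_add T N Q T₀.subtype T₀.mkQ hiT hqT T₀.injective_subtype T₀.mkQ_surjective hexT j, sub_zero]
  obtain ⟨ET⟩ := nonempty_resG T
  obtain ⟨EQ⟩ := nonempty_resG Q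
  rw [chi_add hpos ha har hD T N Q T₀.subtype T₀.mkQ hiT hqT T₀.injective_subtype T₀.mkQ_surjective hexT ET E EQ,
    sub_zero, chi_of_torsion T (hgam T hTt), hfN n, add_sub_assoc]
  congr 1
  obtain ⟨B, hB⟩ := exists_piece_bound hpos T.gr
  have hTz : ∀ j, B ≤ j → hf T j = 0 := fun j hj => by
    haveI : Subsingleton (GrLC.comp 𝒜 T.gr j) := ⟨fun u v => Subtype.ext
      ((hB j _ hj u.2 (hTt.ge Submodule.mem_top)).trans (hB j _ hj v.2 (hTt.ge Submodule.mem_top)).symm)⟩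
    exact qlen_subsingleton _
  have hQP : ∀ j, max n₀ B ≤ j → P.eval (j : ℚ) = hf Q j := fun j hj => by
    rw [hn₀ j (le_of_max_le_left hj), hfN j, hTz j (le_of_max_le_right hj), zero_add]
  exact chi_step hpos ha har hD Q (gam_quot_gam _) P hP0 hQP
    (fun P' hlt N' hN' hP' => ih _ (hk ▸ hlt) P' rfl N' hN' hP') EQ n

end GrModLib
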