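import Groth.Agent.GrModLib.Kronecker
import Groth.Agent.GrModLib.BassMain
import Groth.Agent.GrModLib.Hilbert

/-! Graded duality with respect to the *injective hull of the residue field. -/

set_option autoImplicit false
universe u

open DirectSum

namespace GrModLib

/-- Linear maps over a field separate points. -/
theorem exists_linearMap_eq {K : Type u} [CommRing K] (hK : IsField K) {V W : Type u} [AddCommGroup V] [Module K V]
    [AddCommGroup W] [Module K W] {v : V} (hv : v ≠ 0) (w : W) : ∃ f : V →ₗ[K] W, f v = w := by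
  letI := hK.toField
  obtain ⟨g, hg⟩ := Module.Projective.exists_dual_ne_zero K hv
  refine ⟨((g v)⁻¹ • g).smulRight w, ?_⟩
  rw [LinearMap.smulRight_apply, LinearMap.smul_apply, smul_eq_mul, inv_mul_cancel₀ hg, one_smul]

section

variable {R : Type u} [CommRing R] [IsNoetherianRing R] {𝒜 : ℤ → AddSubgroup R} [GradedRing 𝒜]

theorem deg0_inv (h0 : IsField (GrLC.deg0 𝒜)) {r : R} (hr : r ∈ 𝒜 0) (hne : r ≠ 0) :
    ∃ s ∈ 𝒜 0, s * r = 1 := by
  obtain ⟨d, hd⟩ := h0.mul_inv_cancel (show (⟨r, hr⟩ : GrLC.deg0 𝒜) ≠ 0 from fun h => hne (congrArg Subtype.val h))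
  exact ⟨d, d.2, (mul_comm _ _).trans (congrArg Subtype.val hd)⟩

theorem mk_eq_mk_pr (hpos : ∀ n : ℤ, n < 0 → 𝒜 n = ⊥) (r : R) :
    r - pr 𝒜 0 r ∈ (posIdeal 𝒜).toIdeal := by
  induction r using induction 𝒜 with
  | h0 => simp
  | hmem j a ha =>
    rcases lt_trichotomy j 0 with hj | hj | hj
    · rw [eq_zero_of_neg hpos hj ha]; simp
    · subst hj; rw [pr_self 𝒜 ha, sub_self]; exact zero_mem _
    · rw [pr_ne 𝒜 ha hj.ne', sub_zero]; exact mem_posIdeal hj ha
  | hadd a b ha hb => rw [map_add, add_sub_add_comm]; exact add_mem ha hb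

variable {E' : Type u} [AddCommGroup E'] [Module R E'] {𝓔 : ℤ → AddSubgroup E'} [DirectSum.Decomposition 𝓔]
  [SetLike.GradedSMul 𝒜 𝓔] {e : (R ⧸ (posIdeal 𝒜).toIdeal) →ₗ[R] E'}

omit [DirectSum.Decomposition 𝓔] [SetLike.GradedSMul 𝒜 𝓔] in
theorem smul_range_eq_zero {r : R} (hr : r ∈ (posIdeal 𝒜).toIdeal) (x : R ⧸ (posIdeal 𝒜).toIdeal) : r • e x = 0 := by
  obtain ⟨a, rfl⟩ := Ideal.Quotient.mk_surjective x
  rw [← map_smul]
  exact (congrArg e ((Submodule.Quotient.mk_eq_zero _).2 (Ideal.mul_mem_right a _ hr))).trans (map_zero e)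

theorem hull_mem_zero (hpos : ∀ n : ℤ, n < 0 → 𝒜 n = ⊥)
    (he : GrLC.IsStarInjHull 𝒜 (GrLC.quotGr 𝒜 (posIdeal 𝒜)) 𝓔 e) (x : R ⧸ (posIdeal 𝒜).toIdeal) : e x ∈ 𝓔 0 := by
  obtain ⟨a, rfl⟩ := Ideal.Quotient.mk_surjective x
  exact he.grHom 0 _ ⟨pr 𝒜 0 a, pr_mem 𝒜 0 a, ((Ideal.Quotient.eq).2 (mk_eq_mk_pr hpos a)).symm⟩

/-- Homogeneous elements of the hull reach the socle in one step. -/
theorem exists_smul_hull (hpos : ∀ n : ℤ, n < 0 → 𝒜 n = ⊥)
    (he : GrLC.IsStarInjHull 𝒜 (GrLC.quotGr 𝒜 (posIdeal 𝒜)) 𝓔 e) {d : ℤ} {y : E'} (hy : y ∈ 𝓔 d) (hy0 : y ≠ 0) :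
    ∃ r ∈ 𝒜 (-d), r • y ∈ LinearMap.range e ∧ r • y ≠ 0 := by
  letI : DirectSum.Decomposition (GrLC.quotGr 𝒜 (posIdeal 𝒜)) :=
    (quotGr'_isInternal (ℳ := 𝒜) (posIdeal 𝒜).toIdeal (posIdeal 𝒜).isHomogeneous).chooseDecomposition
  obtain ⟨h, r, hr, hmem, hne⟩ := exists_homogeneous_smul (𝒜 := 𝒜) he.toIsStarEss hy hy0
  obtain ⟨x, hx⟩ := hmem
  have h1 : h + d = 0 := by
    by_contra hh
    exact hne ((pr_self 𝓔 (smul_mem 𝒜 𝓔 hr hy)).symm.trans (pr_ne 𝓔 (hx ▸ hull_mem_zero hpos he x) (Ne.symm hh)))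
  exact ⟨r, by rw [show -d = h by omega]; exact hr, ⟨x, hx⟩, hne⟩

theorem mem_range_of_deg_zero (hpos : ∀ n : ℤ, n < 0 → 𝒜 n = ⊥) (h0 : IsField (GrLC.deg0 𝒜))
    (he : GrLC.IsStarInjHull 𝒜 (GrLC.quotGr 𝒜 (posIdeal 𝒜)) 𝓔 e) {y : E'} (hy : y ∈ 𝓔 0) :
    y ∈ LinearMap.range e := by
  by_cases hy0 : y = 0
  · rw [hy0]; exact zero_mem _
  obtain ⟨r, hr, hmem, hne⟩ := exists_smul_hull hpos he hy hy0
  rw [neg_zero] at hr
  obtain ⟨s, -, hs⟩ := deg0_inv h0 hr (fun h => hne (by rw [h, zero_smul]))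
  rw [show y = s • r • y by rw [← mul_smul, hs, one_smul]]
  exact Submodule.smul_mem _ s hmem

/-- The socle of the hull is the residue field. -/
theorem mem_range_of_tors (hpos : ∀ n : ℤ, n < 0 → 𝒜 n = ⊥) (h0 : IsField (GrLC.deg0 𝒜))
    (he : GrLC.IsStarInjHull 𝒜 (GrLC.quotGr 𝒜 (posIdeal 𝒜)) 𝓔 e) {x : E'}
    (hx : ∀ r ∈ (posIdeal 𝒜).toIdeal, r • x = 0) : x ∈ LinearMap.range e := by
  obtain ⟨t, -, ht⟩ := exists_finset 𝓔 x
  rw [← ht]
  refine sum_mem fun d _ => ?_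
  by_cases hd : d = 0
  · subst hd; exact mem_range_of_deg_zero hpos h0 he (pr_mem 𝓔 0 x)
  by_cases hne : pr 𝓔 d x = 0
  · rw [hne]; exact zero_mem _
  exfalso
  obtain ⟨r, hr, -, hr0⟩ := exists_smul_hull hpos he (pr_mem 𝓔 d x) hne
  have hlt : d < 0 := by
    by_contra hh
    exact hr0 (by rw [eq_zero_of_neg hpos (show -d < 0 by omega) hr, zero_smul])
  apply hr0
  rw [← pr_smul_add 𝒜 𝓔 hr, hx r (mem_posIdeal (by omega) hr), map_zero]

theorem length_range_hull (hpos : ∀ n : ℤ, n < 0 → 𝒜 n = ⊥) (h0 : IsField (GrLC.deg0 𝒜))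
    (he : GrLC.IsStarInjHull 𝒜 (GrLC.quotGr 𝒜 (posIdeal 𝒜)) 𝓔 e) :
    IsSimpleModule R (LinearMap.range e) := by
  haveI : IsSimpleModule R (R ⧸ (posIdeal 𝒜).toIdeal) := isSimpleModule_iff_isCoatom.2
    (isMaximal_of_starLocal hpos (isStarLocal_posIdeal hpos h0)).out
  exact IsSimpleModule.congr (LinearEquiv.ofInjective e he.injective).symm

/-- Prescribing a map on one piece. -/
theorem exists_hom_deg (hpos : ∀ n : ℤ, n < 0 → 𝒜 n = ⊥) (h0 : IsField (GrLC.deg0 𝒜))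
    (he : GrLC.IsStarInjHull 𝒜 (GrLC.quotGr 𝒜 (posIdeal 𝒜)) 𝓔 e) (X : GrLC.GMod.{u} 𝒜) (d : ℤ)
    (ψ : GrLC.comp 𝒜 X.gr (-d) →ₗ[GrLC.deg0 𝒜] GrLC.comp 𝒜 𝓔 0) :
    ∃ χ : X.carrier →ₗ[R] E', GrLC.IsGrHomDeg X.gr 𝓔 χ d ∧ ∀ v : GrLC.comp 𝒜 X.gr (-d), χ v = ψ v := by
  let P := Submodule.span R (X.gr (-d) : Set X.carrier)
  have hP : P.IsHomogeneous X.gr := span_isHomogeneous 𝒜 X.gr fun v hv => ⟨-d, hv⟩
  have hlow : ∀ p ∈ P, ∀ j, j < -d → pr X.gr j p = 0 := by
    intro p hp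
    induction hp using Submodule.span_induction with
    | mem v hv => exact fun j hj => pr_ne X.gr hv hj.ne'
    | zero => simp
    | add a b _ _ ha hb => exact fun j hj => by rw [map_add, ha j hj, hb j hj, add_zero]
    | smul r a _ ha =>
      intro j hj
      induction r using induction 𝒜 with
      | h0 => simp
      | hmem h r hr =>
        rw [pr_smul 𝒜 X.gr hr]
        rcases lt_or_ge h 0 with hh | hh
        · rw [eq_zero_of_neg hpos hh hr, zero_smul]
        · rw [ha _ (by omega), smul_zero]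
      | hadd r s hr hs => rw [add_smul, map_add, hr, hs, add_zero]
  let π : X.carrier →+ GrLC.comp 𝒜 X.gr (-d) :=
    { toFun := fun v => ⟨pr X.gr (-d) v, pr_mem X.gr _ _⟩
      map_zero' := Subtype.ext (map_zero _)
      map_add' := fun a b => Subtype.ext (map_add _ a b) }
  let S : GrLC.GMod.{u} 𝒜 := subG 𝒜 (ℳ := X.gr) P hP
  let φ : S.carrier →+ E' := ((GrLC.comp 𝒜 𝓔 0).subtype.toAddMonoidHom.comp (ψ.toAddMonoidHom.comp π)).comp
    (P.subtype.toAddMonoidHom)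
  have hφ : ∀ (h : ℤ) (r : R), r ∈ 𝒜 h → ∀ (g : ℤ) (p : S.carrier), p ∈ S.gr g → φ (r • p) = r • φ p := by
    intro h r hr g (p : P) _
    show (ψ (π (r • (p : X.carrier))) : E') = r • (ψ (π p) : E')
    rcases lt_trichotomy h 0 with hh | hh | hh
    · have hr0 := eq_zero_of_neg hpos hh hr
      subst hr0
      rw [zero_smul, zero_smul, map_zero, map_zero]
      rfl
    · subst hh
      have h1 : π (r • (p : X.carrier)) = (⟨r, hr⟩ : GrLC.deg0 𝒜) • π p := Subtype.ext (by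
        show pr X.gr (-d) (r • (p : X.carrier)) = r • pr X.gr (-d) p
        rw [pr_smul 𝒜 X.gr hr, sub_zero])
      rw [h1, map_smul]
      rfl
    · have h1 : π (r • (p : X.carrier)) = 0 := Subtype.ext (by
        show pr X.gr (-d) (r • (p : X.carrier)) = 0
        rw [pr_smul 𝒜 X.gr hr, hlow p p.2 _ (by omega), smul_zero])
      rw [h1, map_zero]
      obtain ⟨x, hx⟩ := mem_range_of_deg_zero hpos h0 he (ψ (π p)).2
      rw [← hx, smul_range_eq_zero (mem_posIdeal hh hr)]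
      rfl
  let incl : S.carrier →ₗ[R] X.carrier := P.subtype
  obtain ⟨χ, hχ, hχe⟩ := extend_deg (A := S.carrier) (B := X.carrier) he.starInj S.gr X.gr incl (fun g p hp => hp)
    P.subtype_injective
    (linearOf 𝒜 S.gr φ hφ) d (fun g (p : P) (hp : (p : X.carrier) ∈ X.gr g) => by
      show (ψ (π p) : E') ∈ 𝓔 (g + d)
      by_cases hg : g = -d
      · rw [show g + d = 0 by omega]; exact (ψ _).2
      · rw [show π p = 0 from Subtype.ext (pr_ne X.gr hp hg), map_zero]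
        exact zero_mem _)
  refine ⟨χ, hχ, fun v => ?_⟩
  refine (LinearMap.congr_fun hχe (⟨v, Submodule.subset_span v.2⟩ : P)).trans ?_
  show (ψ (π v) : E') = ψ v
  rw [show π v = v from Subtype.ext (pr_self X.gr v.2)]

/-- A map of degree `d` is determined by the piece of degree `-d`. -/
theorem eq_zero_of_restrict (hpos : ∀ n : ℤ, n < 0 → 𝒜 n = ⊥)
    (he : GrLC.IsStarInjHull 𝒜 (GrLC.quotGr 𝒜 (posIdeal 𝒜)) 𝓔 e) (X : GrLC.GMod.{u} 𝒜) {d : ℤ}
    {χ : X.carrier →ₗ[R] E'} (hχ : GrLC.IsGrHomDeg X.gr 𝓔 χ d) (hz : ∀ v ∈ X.gr (-d), χ v = 0) : χ = 0 := by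
  refine hom_ext X.gr fun g v hv => ?_
  by_contra hne
  rw [LinearMap.zero_apply] at hne
  obtain ⟨r, hr, -, hr0⟩ := exists_smul_hull hpos he (hχ g v hv) hne
  refine hr0 ?_
  rw [← map_smul]
  exact hz _ (by have := smul_mem 𝒜 X.gr hr hv; rwa [show -(g + d) + g = -d by ring] at this)

/-- A nonzero component is seen by a map of the opposite degree. -/
theorem exists_hom_deg_ne_zero (hpos : ∀ n : ℤ, n < 0 → 𝒜 n = ⊥) (h0 : IsField (GrLC.deg0 𝒜))
    (he : GrLC.IsStarInjHull 𝒜 (GrLC.quotGr 𝒜 (posIdeal 𝒜)) 𝓔 e) (X : GrLC.GMod.{u} 𝒜) {g : ℤ} {v : X.carrier}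
    (hv : v ∈ X.gr g) (hne : v ≠ 0) :
    ∃ χ : X.carrier →ₗ[R] E', GrLC.IsGrHomDeg X.gr 𝓔 χ (-g) ∧ χ v ≠ 0 := by
  have hv' : v ∈ X.gr (- -g) := by rwa [neg_neg]
  obtain ⟨ψ, hψ⟩ := exists_linearMap_eq (K := GrLC.deg0 𝒜) h0 (V := GrLC.comp 𝒜 X.gr (- -g))
    (W := GrLC.comp 𝒜 𝓔 0) (v := ⟨v, hv'⟩) (fun h => hne (congrArg Subtype.val h)) ⟨e 1, hull_mem_zero hpos he 1⟩
  obtain ⟨χ, hχ, hχv⟩ := exists_hom_deg hpos h0 he X (-g) ψ
  refine ⟨χ, hχ, ?_⟩
  rw [hχv ⟨v, hv'⟩, hψ]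
  intro h
  haveI := (isMaximal_of_starLocal hpos (isStarLocal_posIdeal (𝒜 := 𝒜) hpos h0))
  exact one_ne_zero (α := R ⧸ (posIdeal 𝒜).toIdeal) (he.injective (h.trans (map_zero e).symm))

/-- The dual separates points. -/
theorem exists_hom_ne_zero (hpos : ∀ n : ℤ, n < 0 → 𝒜 n = ⊥) (h0 : IsField (GrLC.deg0 𝒜))
    (he : GrLC.IsStarInjHull 𝒜 (GrLC.quotGr 𝒜 (posIdeal 𝒜)) 𝓔 e) (X : GrLC.GMod.{u} 𝒜) {c : X.carrier}
    (hc : c ≠ 0) : ∃ χ : X.carrier →ₗ[R] E', χ c ≠ 0 := by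
  obtain ⟨g, hg⟩ := exists_pr_ne_zero X.gr hc
  obtain ⟨χ, hχ, hne⟩ := exists_hom_deg_ne_zero hpos h0 he X (pr_mem X.gr g c) hg
  refine ⟨χ, fun h => hne ?_⟩
  rw [map_pr_deg hχ, h, map_zero]

/-- Restriction along injective homogeneous maps is surjective. -/
theorem lcomp_surjective (he : GrLC.IsStarInjHull 𝒜 (GrLC.quotGr 𝒜 (posIdeal 𝒜)) 𝓔 e) (A B : GrLC.GMod.{u} 𝒜)
    [Module.Finite R A.carrier] (f : A.carrier →ₗ[R] B.carrier) {k : ℤ} (hf : GrLC.IsGrHomDeg A.gr B.gr f k)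
    (hfi : Function.Injective f) : Function.Surjective (LinearMap.lcomp R E' f) := fun φ => by
  let B' := shiftG 𝒜 B.gr k
  let f' : A.carrier →ₗ[R] B'.carrier := f
  exact extend_linear (A := A.carrier) (B := B'.carrier) he.starInj A.gr B'.gr f' (fun g m hm => hf g m hm) hfi φ

/-- The homogeneous components of a map from a finitely generated module. -/
theorem exists_hom_components (X : GrLC.GMod.{u} 𝒜) [Module.Finite R X.carrier] (φ : X.carrier →ₗ[R] E') :
    ∃ (D : Finset ℤ) (f : ℤ → (X.carrier →ₗ[R] E')), (∀ d, GrLC.IsGrHomDeg X.gr 𝓔 (f d) d) ∧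
      φ = ∑ d ∈ D, f d := by
  classical
  obtain ⟨k, deg, a, ha, hspan⟩ := exists_homogeneous_generators 𝒜 X.gr (top_isHomogeneous X.gr)
    (Module.Finite.fg_top (R := R) (M := X.carrier))
  let cm : ∀ _ : ℤ, X.carrier →+ E' := fun d =>
    (DirectSum.toAddMonoid fun g => ((pr 𝓔 (g + d)).comp φ.toAddMonoidHom).comp (X.gr g).subtype).comp
      (decomposeAddEquiv X.gr).toAddMonoidHom
  have hcm : ∀ d g m, m ∈ X.gr g → cm d m = pr 𝓔 (g + d) (φ m) := by
    intro d g m hm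
    show DirectSum.toAddMonoid _ (decompose X.gr m) = _
    rw [decompose_of_mem X.gr hm, DirectSum.toAddMonoid_of]
    rfl
  let cl : ℤ → (X.carrier →ₗ[R] E') := fun d => linearOf 𝒜 X.gr (cm d) fun h r hr g m hm => by
    rw [hcm d _ _ (smul_mem 𝒜 X.gr hr hm), hcm d _ _ hm, map_smul, add_assoc, pr_smul_add 𝒜 𝓔 hr]
  choose s hs0 hs using exists_finset 𝓔
  let D : Finset ℤ := Finset.univ.biUnion fun j : Fin k => (s (φ (a j))).image (· - deg j)
  refine ⟨D, cl, fun d g m hm => by rw [linearOf_apply, hcm d g m hm]; exact pr_mem 𝓔 _ _,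
    LinearMap.ext_on hspan ?_⟩
  rintro _ ⟨j, rfl⟩
  have hsub : (s (φ (a j))).image (· - deg j) ⊆ D :=
    fun x hx => Finset.mem_biUnion.2 ⟨j, Finset.mem_univ j, hx⟩
  rw [LinearMap.sum_apply]
  simp only [cl, linearOf_apply, hcm _ _ _ (ha j)]
  rw [← Finset.sum_subset hsub fun d _ hd => hs0 _ _ fun hm => hd
      (Finset.mem_image.2 ⟨_, hm, add_sub_cancel_left _ _⟩),
    Finset.sum_image fun x _ y _ hxy => sub_left_injective hxy]
  simp only [add_sub_cancel]
  exact (hs _).symm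

/-- Duality preserves length. -/
theorem length_dual (hpos : ∀ n : ℤ, n < 0 → 𝒜 n = ⊥) (h0 : IsField (GrLC.deg0 𝒜))
    (he : GrLC.IsStarInjHull 𝒜 (GrLC.quotGr 𝒜 (posIdeal 𝒜)) 𝓔 e) (X : GrLC.GMod.{u} 𝒜)
    [Module.Finite R X.carrier] (hX : GrLC.gam (posIdeal 𝒜).toIdeal X.carrier = ⊤) :
    Module.length R (X.carrier →ₗ[R] E') = Module.length R X.carrier ∧ Module.length R X.carrier ≠ ⊤ := by
  suffices h : ∀ (I : Submodule R X.carrier) (Q : GrLC.GMod.{u} 𝒜) (π : X.carrier →ₗ[R] Q.carrier),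
      Function.Surjective π → LinearMap.ker π = I →
        Module.length R (Q.carrier →ₗ[R] E') = Module.length R Q.carrier ∧ Module.length R Q.carrier ≠ ⊤ from
    h ⊥ X LinearMap.id Function.surjective_id LinearMap.ker_id
  haveI : IsNoetherian R X.carrier := isNoetherian_of_isNoetherianRing_of_finite R _
  intro I
  induction I using WellFoundedGT.induction with
  | ind I ih =>
    intro Q π hπ hker
    haveI : Module.Finite R Q.carrier := Module.Finite.of_surjective π hπ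
    by_cases hQ : Subsingleton Q.carrier
    · haveI : Subsingleton (Q.carrier →ₗ[R] E') := ⟨fun f g => LinearMap.ext fun x => by
        rw [Subsingleton.elim x 0, map_zero, map_zero]⟩
      rw [Module.length_eq_zero, Module.length_eq_zero]
      exact ⟨rfl, ENat.zero_ne_top⟩
    rw [not_subsingleton_iff_nontrivial] at hQ
    have hgamQ : GrLC.gam (posIdeal 𝒜).toIdeal Q.carrier = ⊤ := eq_top_iff.2 fun q _ => by
      obtain ⟨x, rfl⟩ := hπ q
      obtain ⟨c, hc⟩ := hX.ge (show x ∈ ⊤ from trivial)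
      exact ⟨c, fun r hr => by rw [← map_smul, hc r hr, map_zero]⟩
    obtain ⟨g, y, hy, hy0, hyk⟩ : ∃ (g : ℤ) (y : Q.carrier), y ∈ Q.gr g ∧ y ≠ 0 ∧
        ∀ r ∈ (posIdeal 𝒜).toIdeal, r • y = 0 := by
      obtain ⟨x, hx⟩ := exists_ne (0 : Q.carrier)
      obtain ⟨g, hg⟩ := exists_pr_ne_zero Q.gr hx
      obtain ⟨c, hc⟩ := hgamQ.ge (show pr Q.gr g x ∈ ⊤ from trivial)
      clear hx
      induction c generalizing g x with
      | zero => exact absurd (by simpa using hc 1 (by simp)) hg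
      | succ c ihc =>
        by_cases hall : ∀ r ∈ (posIdeal 𝒜).toIdeal, r • pr Q.gr g x = 0
        · exact ⟨g, _, pr_mem Q.gr g x, hg, hall⟩
        push Not at hall
        obtain ⟨r, hr, hne⟩ := hall
        obtain ⟨j, hj⟩ := exists_pr_ne_zero Q.gr hne
        refine ihc (r • pr Q.gr g x) j hj fun a ha => ?_
        rw [pr_smul_mem 𝒜 Q.gr (pr_mem Q.gr g x) r j, ← mul_smul]
        refine hc _ ?_
        rw [pow_succ]
        exact Ideal.mul_mem_mul ha ((posIdeal 𝒜).isHomogeneous _ hr)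
    let S := R ∙ y
    have hS : S.IsHomogeneous Q.gr := singleton_isHomogeneous 𝒜 Q.gr hy
    let Q' := quotG 𝒜 (ℳ := Q.gr) S hS
    let π' : X.carrier →ₗ[R] Q'.carrier := S.mkQ ∘ₗ π
    obtain ⟨hlen, hfin⟩ := ih (LinearMap.ker π') (lt_of_le_of_ne (hker ▸ LinearMap.ker_le_ker_comp π S.mkQ)
      fun heq => hy0 (by
        obtain ⟨x, rfl⟩ := hπ y
        exact LinearMap.mem_ker.1 (hker.ge (heq.ge ((Submodule.Quotient.mk_eq_zero S).2
          (Submodule.mem_span_singleton_self _))))))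
      Q' π' (S.mkQ_surjective.comp hπ) rfl
    have hS1 : IsSimpleModule R S := by
      haveI : IsSimpleModule R (R ⧸ (posIdeal 𝒜).toIdeal) := isSimpleModule_iff_isCoatom.2
        (isMaximal_of_starLocal hpos (isStarLocal_posIdeal hpos h0)).out
      have hkey : LinearMap.ker (LinearMap.toSpanSingleton R Q.carrier y) = (posIdeal 𝒜).toIdeal := by
        refine ((isMaximal_of_starLocal hpos (isStarLocal_posIdeal hpos h0)).eq_of_le ?_ fun r hr => hyk r hr).symm
        intro h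
        have h1 : (1 : R) • y = 0 := h.ge (show (1 : R) ∈ ⊤ from trivial)
        exact hy0 (by rwa [one_smul] at h1)
      exact IsSimpleModule.congr (((Submodule.quotEquivOfEq _ _ hkey.symm).trans
        (LinearMap.quotKerEquivRange _)).trans (LinearEquiv.ofEq _ _
          (LinearMap.range_toSpanSingleton y))).symm
    let T : GrLC.GMod.{u} 𝒜 := subG 𝒜 (ℳ := Q.gr) S hS
    haveI : Module.Finite R T.carrier := inferInstanceAs (Module.Finite R S)
    have hlS : Module.length R (S →ₗ[R] E') = 1 := by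
      let ev : (S →ₗ[R] E') →ₗ[R] E' := LinearMap.applyₗ (R := R) ⟨y, Submodule.mem_span_singleton_self y⟩
      have hev : Function.Injective ev := (injective_iff_map_eq_zero ev).2 fun f hf => LinearMap.ext fun z => by
        obtain ⟨r, hr⟩ := Submodule.mem_span_singleton.1 z.2
        rw [show z = r • (⟨y, Submodule.mem_span_singleton_self y⟩ : S) from Subtype.ext hr.symm, map_smul,
          LinearMap.zero_apply]
        exact (congrArg (r • ·) hf).trans (smul_zero r)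
      have hle : LinearMap.range ev ≤ LinearMap.range e := by
        rintro _ ⟨f, rfl⟩
        refine mem_range_of_tors hpos h0 he fun r hr => ?_
        show r • f _ = 0
        rw [← map_smul, show r • (⟨y, Submodule.mem_span_singleton_self y⟩ : S) = 0 from Subtype.ext (hyk r hr),
          map_zero]
      haveI := length_range_hull hpos h0 he
      obtain ⟨χ, -, hχ⟩ := exists_hom_deg_ne_zero hpos h0 he Q hy hy0
      have heq : (LinearMap.range ev).comap (LinearMap.range e).subtype = ⊤ := by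
        refine (eq_bot_or_eq_top _).resolve_left fun hb => hχ ?_
        have hm : χ y ∈ LinearMap.range ev := ⟨χ ∘ₗ S.subtype, rfl⟩
        have := hb.le (show (⟨χ y, hle hm⟩ : LinearMap.range e) ∈ _ from hm)
        exact congrArg Subtype.val ((Submodule.mem_bot R).1 this)
      rw [((LinearEquiv.ofInjective ev hev).trans (LinearEquiv.ofEq _ _
        (le_antisymm hle fun z hz => heq.ge (show (⟨z, hz⟩ : LinearMap.range e) ∈ ⊤ from trivial)))).length_eq,
        Module.length_eq_one]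
    have hexact : Function.Exact (LinearMap.lcomp R E' S.mkQ) (LinearMap.lcomp R E' S.subtype) := fun f => by
      refine ⟨fun h => ⟨S.liftQ f fun z hz => LinearMap.mem_ker.2 (LinearMap.congr_fun h ⟨z, hz⟩),
        LinearMap.ext fun z => rfl⟩, ?_⟩
      rintro ⟨h, rfl⟩
      refine LinearMap.ext fun z => ?_
      show h (S.mkQ z) = 0
      rw [show S.mkQ z = 0 from (Submodule.Quotient.mk_eq_zero S).2 z.2, map_zero]
    constructor
    · rw [Module.length_eq_add_of_exact (LinearMap.lcomp R E' S.mkQ) (LinearMap.lcomp R E' S.subtype)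
        (LinearMap.lcomp_injective_of_surjective _ S.mkQ_surjective)
        (lcomp_surjective he T Q S.subtype (k := 0) (fun g z hz => by rw [add_zero]; exact hz) S.injective_subtype)
        hexact, Module.length_eq_add_of_exact S.subtype S.mkQ S.injective_subtype S.mkQ_surjective
          (LinearMap.exact_subtype_mkQ S), hlS, Module.length_eq_one (R := R) (M := S), add_comm]
      exact congrArg (1 + ·) hlen
    · rw [Module.length_eq_add_of_exact S.subtype S.mkQ S.injective_subtype S.mkQ_surjective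
        (LinearMap.exact_subtype_mkQ S), Module.length_eq_one]
      exact WithTop.add_ne_top.2 ⟨ENat.one_ne_top, hfin⟩

end

end GrModLib
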