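import Groth.Agent.GrModLib.Graded

/-! Functoriality of graded local cohomology computed from resolutions. -/

set_option autoImplicit false
universe u

open DirectSum

namespace GrModLib

variable {ι : Type} [AddCommGroup ι] [DecidableEq ι] {R : Type u} [CommRing R]

section DegMaps

variable {M N P : Type u} [AddCommGroup M] [Module R M] [AddCommGroup N] [Module R N] [AddCommGroup P] [Module R P]
  {ℳ : ι → AddSubgroup M} {𝒩 : ι → AddSubgroup N} {𝒬 : ι → AddSubgroup P}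

omit [DecidableEq ι] in
theorem IsGrHomDeg.comp {f : M →ₗ[R] N} {g : N →ₗ[R] P} {d e : ι} (hf : GrLC.IsGrHomDeg ℳ 𝒩 f d)
    (hg : GrLC.IsGrHomDeg 𝒩 𝒬 g e) : GrLC.IsGrHomDeg ℳ 𝒬 (g ∘ₗ f) (d + e) := fun j m hm => by
  rw [← add_assoc]; exact hg _ _ (hf j m hm)

omit [DecidableEq ι] in
theorem IsGrHomDeg.zero (d : ι) : GrLC.IsGrHomDeg ℳ 𝒩 (0 : M →ₗ[R] N) d := fun _ _ _ => zero_mem _

omit [DecidableEq ι] in
theorem IsGrHomDeg.sub {f g : M →ₗ[R] N} {d : ι} (hf : GrLC.IsGrHomDeg ℳ 𝒩 f d)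
    (hg : GrLC.IsGrHomDeg ℳ 𝒩 g d) : GrLC.IsGrHomDeg ℳ 𝒩 (f - g) d := fun j m hm => sub_mem (hf j m hm) (hg j m hm)

omit [DecidableEq ι] in
theorem IsGrHomDeg.neg {f : M →ₗ[R] N} {d : ι} (hf : GrLC.IsGrHomDeg ℳ 𝒩 f d) : GrLC.IsGrHomDeg ℳ 𝒩 (-f) d :=
  fun j m hm => neg_mem (hf j m hm)

omit [DecidableEq ι] in
theorem isGrHomDeg_zero_iff {f : M →ₗ[R] N} : GrLC.IsGrHomDeg ℳ 𝒩 f 0 ↔ GrLC.IsGrHom ℳ 𝒩 f := by
  simp [GrLC.IsGrHomDeg, GrLC.IsGrHom]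

theorem map_pr_deg [DirectSum.Decomposition ℳ] [DirectSum.Decomposition 𝒩] {f : M →ₗ[R] N} {d : ι}
    (hf : GrLC.IsGrHomDeg ℳ 𝒩 f d) (g : ι) (x : M) : f (pr ℳ g x) = pr 𝒩 (g + d) (f x) := by
  induction x using induction ℳ with
  | h0 => simp
  | hmem j m hm =>
    by_cases hj : j = g
    · subst hj; rw [pr_self ℳ hm, pr_self 𝒩 (hf j m hm)]
    · rw [pr_ne ℳ hm hj, map_zero, pr_ne 𝒩 (hf j m hm) fun e => hj (add_right_cancel e)]
  | hadd a b ha hb => simp [ha, hb]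

theorem preimage_homogeneous [DirectSum.Decomposition ℳ] [DirectSum.Decomposition 𝒩] {f : M →ₗ[R] N} {d : ι}
    (hf : GrLC.IsGrHomDeg ℳ 𝒩 f d) {g : ι} {y : N} (hy : y ∈ 𝒩 (g + d)) (hr : y ∈ LinearMap.range f) :
    ∃ x ∈ ℳ g, f x = y := by
  obtain ⟨x, rfl⟩ := hr
  exact ⟨pr ℳ g x, pr_mem ℳ g x, by rw [map_pr_deg hf, pr_self 𝒩 hy]⟩

theorem ker_isHomogeneous_deg [DirectSum.Decomposition ℳ] [DirectSum.Decomposition 𝒩] {f : M →ₗ[R] N} {d : ι}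
    (hf : GrLC.IsGrHomDeg ℳ 𝒩 f d) : (LinearMap.ker f).IsHomogeneous ℳ := fun g x hx => by
  show f (pr ℳ g x) = 0
  rw [map_pr_deg hf, LinearMap.mem_ker.1 hx, map_zero]

end DegMaps

variable {𝒜 : ι → AddSubgroup R} [GradedRing 𝒜]

/-- Extending a map which kills the kernel. -/
theorem extend_factor {I A B : Type u} [AddCommGroup I] [Module R I] {ℐ : ι → AddSubgroup I}
    [DirectSum.Decomposition ℐ] [SetLike.GradedSMul 𝒜 ℐ] (hI : GrLC.IsStarInj 𝒜 ℐ)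
    [AddCommGroup A] [Module R A] (𝒶 : ι → AddSubgroup A) [DirectSum.Decomposition 𝒶] [SetLike.GradedSMul 𝒜 𝒶]
    [AddCommGroup B] [Module R B] (𝒷 : ι → AddSubgroup B) [DirectSum.Decomposition 𝒷] [SetLike.GradedSMul 𝒜 𝒷]
    (p : A →ₗ[R] B) {e : ι} (hp : GrLC.IsGrHomDeg 𝒶 𝒷 p e) (φ : A →ₗ[R] I) {d : ι}
    (hφ : GrLC.IsGrHomDeg 𝒶 ℐ φ (e + d)) (hk : LinearMap.ker p ≤ LinearMap.ker φ) :
    ∃ h : B →ₗ[R] I, GrLC.IsGrHomDeg 𝒷 ℐ h d ∧ h ∘ₗ p = φ := by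
  have hR : (LinearMap.range p).IsHomogeneous 𝒷 := by
    rintro g _ ⟨x, rfl⟩
    refine ⟨pr 𝒶 (g - e) x, ?_⟩
    rw [map_pr_deg hp, sub_add_cancel]
    rfl
  letI := (subGr_isInternal (LinearMap.range p) hR).chooseDecomposition
  haveI : SetLike.GradedSMul 𝒜 (subGr (LinearMap.range p) 𝒷) := ⟨fun {h g r m} hr hm => smul_mem 𝒜 𝒷 hr hm⟩
  let ψ : LinearMap.range p →ₗ[R] I :=
    (LinearMap.ker p).liftQ φ hk ∘ₗ p.quotKerEquivRange.symm.toLinearMap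
  have hψ : ∀ x, ψ ⟨p x, x, rfl⟩ = φ x := fun x => by
    show (LinearMap.ker p).liftQ φ hk (p.quotKerEquivRange.symm ⟨p x, x, rfl⟩) = φ x
    rw [p.quotKerEquivRange_symm_apply_image x ⟨x, rfl⟩]
    rfl
  obtain ⟨h, hh, hhψ⟩ := extend_deg hI (subGr (LinearMap.range p) 𝒷) 𝒷 (LinearMap.range p).subtype
    (fun g m hm => hm) (Submodule.subtype_injective _) ψ d (fun g m hm => by
      obtain ⟨_, x, rfl⟩ := m
      obtain ⟨x', hx', hxx⟩ := preimage_homogeneous hp (g := g - e) (y := p x)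
        (by rw [sub_add_cancel]; exact hm) ⟨x, rfl⟩
      have : (⟨p x, x, rfl⟩ : LinearMap.range p) = ⟨p x', x', rfl⟩ := Subtype.ext hxx.symm
      rw [this, hψ]
      have h2 := hφ _ _ hx'
      rwa [← add_assoc, sub_add_cancel] at h2)
  exact ⟨h, hh, LinearMap.ext fun x => (LinearMap.congr_fun hhψ ⟨p x, x, rfl⟩).trans (hψ x)⟩

variable {M N P : Type u} [AddCommGroup M] [Module R M] [AddCommGroup N] [Module R N] [AddCommGroup P] [Module R P]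
  {ℳ : ι → AddSubgroup M} [DirectSum.Decomposition ℳ] [SetLike.GradedSMul 𝒜 ℳ]
  {𝒩 : ι → AddSubgroup N} [DirectSum.Decomposition 𝒩] [SetLike.GradedSMul 𝒜 𝒩]
  {𝒬 : ι → AddSubgroup P} [DirectSum.Decomposition 𝒬] [SetLike.GradedSMul 𝒜 𝒬]
  (E : GrLC.StarInjRes 𝒜 ℳ) (F : GrLC.StarInjRes 𝒜 𝒩) (G : GrLC.StarInjRes 𝒜 𝒬)

/-- A map of resolutions over a linear map. -/
structure ResMap (f : M →ₗ[R] N) (d : ι) where
  /-- the components -/
  φ : ∀ n, (E.X n).carrier →ₗ[R] (F.X n).carrier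
  deg : ∀ n, GrLC.IsGrHomDeg (E.X n).gr (F.X n).gr (φ n) d
  comm_ε : φ 0 ∘ₗ E.ε = F.ε ∘ₗ f
  comm_d : ∀ n, φ (n + 1) ∘ₗ E.d n = F.d n ∘ₗ φ n

theorem d_comp_ε : E.d 0 ∘ₗ E.ε = 0 :=
  LinearMap.ext fun m => LinearMap.mem_ker.1 (E.exact_zero.ge ⟨m, rfl⟩)

theorem d_comp_d (n : ℕ) : E.d (n + 1) ∘ₗ E.d n = 0 :=
  LinearMap.ext fun m => LinearMap.mem_ker.1 ((E.exact_succ n).ge ⟨m, rfl⟩)

theorem d_deg (n : ℕ) : GrLC.IsGrHomDeg (E.X n).gr (E.X (n + 1)).gr (E.d n) 0 :=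
  isGrHomDeg_zero_iff.2 (E.d_grHom n)

theorem ε_deg : GrLC.IsGrHomDeg ℳ (E.X 0).gr E.ε 0 := isGrHomDeg_zero_iff.2 E.ε_grHom

/-- Maps of degree `d` lift to resolutions. -/
theorem nonempty_resMap (f : M →ₗ[R] N) (d : ι) (hf : GrLC.IsGrHomDeg ℳ 𝒩 f d) : Nonempty (ResMap E F f d) := by
  let T : ℕ → Type u := fun n => {p : (E.X n).carrier →ₗ[R] (F.X n).carrier //
    GrLC.IsGrHomDeg (E.X n).gr (F.X n).gr p d ∧ LinearMap.ker (E.d n) ≤ LinearMap.ker (F.d n ∘ₗ p)}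
  have hstep : ∀ n (p : T n), ∃ q : T (n + 1), q.1 ∘ₗ E.d n = F.d n ∘ₗ p.1 := fun n p => by
    obtain ⟨h, hh, hhd⟩ := extend_factor (F.starInj (n + 1)) (E.X n).gr (E.X (n + 1)).gr (E.d n) (d_deg E n)
      (F.d n ∘ₗ p.1) (d := d) (by
        have := IsGrHomDeg.comp p.2.1 (d_deg F n)
        rw [zero_add]
        rwa [add_zero] at this) p.2.2
    refine ⟨⟨h, hh, ?_⟩, hhd⟩
    rw [E.exact_succ]
    rintro _ ⟨x, rfl⟩
    show F.d (n + 1) (h (E.d n x)) = 0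
    rw [show h (E.d n x) = F.d n (p.1 x) from LinearMap.congr_fun hhd x]
    exact LinearMap.congr_fun (d_comp_d F n) (p.1 x)
  obtain ⟨h0, hh0, hh0ε⟩ := extend_deg (F.starInj 0) ℳ (E.X 0).gr E.ε E.ε_grHom E.ε_injective (F.ε ∘ₗ f) d (by
    have := IsGrHomDeg.comp hf (ε_deg F)
    rwa [add_zero] at this)
  let p0 : T 0 := ⟨h0, hh0, by
    rw [E.exact_zero]
    rintro _ ⟨x, rfl⟩
    show F.d 0 (h0 (E.ε x)) = 0
    rw [show h0 (E.ε x) = F.ε (f x) from LinearMap.congr_fun hh0ε x]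
    exact LinearMap.congr_fun (d_comp_ε F) (f x)⟩
  choose q hq using hstep
  let φ : ∀ n, T n := fun n => Nat.recAux (motive := T) p0 q n
  exact ⟨⟨fun n => (φ n).1, fun n => (φ n).2.1, hh0ε, fun n => hq n (φ n)⟩⟩

variable {E F G} (a : HomogeneousIdeal 𝒜)

theorem map_gam {A B : Type u} [AddCommGroup A] [Module R A] [AddCommGroup B] [Module R B] (φ : A →ₗ[R] B) {x : A}
    (hx : x ∈ GrLC.gam a.toIdeal A) : φ x ∈ GrLC.gam a.toIdeal B := by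
  obtain ⟨n, hn⟩ := hx
  exact ⟨n, fun r hr => by rw [← map_smul, hn r hr, map_zero]⟩

theorem ResMap.mem_cocyc {f : M →ₗ[R] N} {d : ι} (φ : ResMap E F f d) (i : ℕ) {x : (E.X i).carrier}
    (hx : x ∈ E.cocyc a i) : φ.φ i x ∈ F.cocyc a i := by
  refine ⟨map_gam a _ hx.1, ?_⟩
  show F.d i (φ.φ i x) = 0
  rw [← LinearMap.comp_apply, ← φ.comm_d, LinearMap.comp_apply, show E.d i x = 0 from hx.2, map_zero]

theorem ResMap.mem_cobdy {f : M →ₗ[R] N} {d : ι} (φ : ResMap E F f d) :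
    ∀ (i : ℕ) {x : (E.X i).carrier}, x ∈ E.cobdy a i → φ.φ i x ∈ F.cobdy a i
  | 0, x, hx => by rw [(Submodule.mem_bot R).1 hx, map_zero]; exact zero_mem _
  | n + 1, _, ⟨y, hy, rfl⟩ => ⟨φ.φ n y, map_gam a _ hy, (LinearMap.congr_fun (φ.comm_d n) y).symm⟩

/-- The induced map on graded local cohomology. -/
noncomputable def ResMap.H {f : M →ₗ[R] N} {d : ι} (φ : ResMap E F f d) (i : ℕ) : E.H a i →ₗ[R] F.H a i :=
  Submodule.mapQ _ _ ((φ.φ i).restrict fun _ hx => φ.mem_cocyc a i hx) fun _ hx => φ.mem_cobdy a i hx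

theorem ResMap.H_toH {f : M →ₗ[R] N} {d : ι} (φ : ResMap E F f d) (i : ℕ) (z : E.cocyc a i) :
    φ.H a i (E.toH a i z) = F.toH a i ⟨φ.φ i z, φ.mem_cocyc a i z.2⟩ := rfl

theorem ResMap.H_deg {f : M →ₗ[R] N} {d : ι} (φ : ResMap E F f d) (i : ℕ) :
    GrLC.IsGrHomDeg (E.Hgr a i) (F.Hgr a i) (φ.H a i) d := by
  rintro g _ ⟨z, hz, rfl⟩
  exact ⟨⟨φ.φ i z, φ.mem_cocyc a i z.2⟩, φ.deg i g _ hz, rfl⟩

/-- Two lifts give the same map on cohomology. -/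
theorem ResMap.H_unique {f : M →ₗ[R] N} {d : ι} (φ ψ : ResMap E F f d) (i : ℕ) : φ.H a i = ψ.H a i := by
  let δ : ∀ n, (E.X n).carrier →ₗ[R] (F.X n).carrier := fun n => φ.φ n - ψ.φ n
  have hδ : ∀ n, GrLC.IsGrHomDeg (E.X n).gr (F.X n).gr (δ n) d := fun n => IsGrHomDeg.sub (φ.deg n) (ψ.deg n)
  have hδd : ∀ n, δ (n + 1) ∘ₗ E.d n = F.d n ∘ₗ δ n := fun n => by
    simp only [δ, LinearMap.sub_comp, LinearMap.comp_sub, φ.comm_d, ψ.comm_d]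
  let T : ℕ → Type u := fun n => {s : (E.X (n + 1)).carrier →ₗ[R] (F.X n).carrier //
    GrLC.IsGrHomDeg (E.X (n + 1)).gr (F.X n).gr s d ∧ (δ (n + 1) - F.d n ∘ₗ s) ∘ₗ E.d n = 0}
  have h00 : δ 0 ∘ₗ E.ε = 0 := by simp only [δ, LinearMap.sub_comp, φ.comm_ε, ψ.comm_ε, sub_self]
  obtain ⟨s0, hs0, hs0d⟩ := extend_factor (F.starInj 0) (E.X 0).gr (E.X 1).gr (E.d 0) (d_deg E 0) (δ 0) (d := d)
    (by rw [zero_add]; exact hδ 0) (by
      rw [E.exact_zero]; rintro _ ⟨x, rfl⟩; exact LinearMap.congr_fun h00 x)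
  have hstep : ∀ n (s : T n), ∃ t : T (n + 1), t.1 ∘ₗ E.d (n + 1) = δ (n + 1) - F.d n ∘ₗ s.1 := fun n s => by
    have hdeg : GrLC.IsGrHomDeg (E.X (n + 1)).gr (F.X (n + 1)).gr (δ (n + 1) - F.d n ∘ₗ s.1) d := by
      refine IsGrHomDeg.sub (hδ _) ?_
      have := IsGrHomDeg.comp s.2.1 (d_deg F n)
      rwa [add_zero] at this
    obtain ⟨t, ht, htd⟩ := extend_factor (F.starInj (n + 1)) (E.X (n + 1)).gr (E.X (n + 2)).gr (E.d (n + 1))
      (d_deg E (n + 1)) (δ (n + 1) - F.d n ∘ₗ s.1) (d := d) (by rw [zero_add]; exact hdeg) (by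
        rw [E.exact_succ]; rintro _ ⟨x, rfl⟩; exact LinearMap.congr_fun s.2.2 x)
    refine ⟨⟨t, ht, ?_⟩, htd⟩
    rw [LinearMap.sub_comp, LinearMap.comp_assoc, htd, LinearMap.comp_sub, ← hδd, ← LinearMap.comp_assoc,
      d_comp_d, LinearMap.zero_comp, sub_zero, sub_self]
  let t0 : T 0 := ⟨s0, hs0, by rw [LinearMap.sub_comp, LinearMap.comp_assoc, hs0d, hδd, sub_self]⟩
  choose q hq using hstep
  let s : ∀ n, T n := fun n => Nat.recAux (motive := T) t0 q n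
  refine Submodule.linearMap_qext _ (LinearMap.ext fun z => ?_)
  show φ.H a i (E.toH a i z) = ψ.H a i (E.toH a i z)
  rw [ResMap.H_toH, ResMap.H_toH]
  refine (Submodule.Quotient.eq _).2 ?_
  show δ i z.1 ∈ F.cobdy a i
  cases i with
  | zero =>
    rw [← hs0d, LinearMap.comp_apply, show E.d 0 z.1 = 0 from z.2.2, map_zero]
    exact zero_mem _
  | succ n =>
    refine ⟨(s n).1 z.1, map_gam a _ z.2.1, ?_⟩
    have := LinearMap.congr_fun (hq n (s n)) z.1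
    rw [LinearMap.comp_apply, show E.d (n + 1) z.1 = 0 from z.2.2, map_zero, LinearMap.sub_apply] at this
    exact (sub_eq_zero.1 this.symm).symm

variable (E F G)

/-- The map on graded local cohomology of a homogeneous map. -/
noncomputable def Hmap (f : M →ₗ[R] N) (d : ι) (hf : GrLC.IsGrHomDeg ℳ 𝒩 f d) (i : ℕ) :
    E.H a i →ₗ[R] F.H a i :=
  (nonempty_resMap E F f d hf).some.H a i

theorem Hmap_eq {f : M →ₗ[R] N} {d : ι} (hf : GrLC.IsGrHomDeg ℳ 𝒩 f d) (φ : ResMap E F f d) (i : ℕ) :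
    Hmap E F a f d hf i = φ.H a i := ResMap.H_unique a _ φ i

theorem Hmap_deg {f : M →ₗ[R] N} {d : ι} (hf : GrLC.IsGrHomDeg ℳ 𝒩 f d) (i : ℕ) :
    GrLC.IsGrHomDeg (E.Hgr a i) (F.Hgr a i) (Hmap E F a f d hf i) d := ResMap.H_deg a _ i

theorem Hmap_smul (r : R) {d : ι} (h : GrLC.IsGrHomDeg ℳ ℳ (r • LinearMap.id) d) (hr : r ∈ 𝒜 d) (i : ℕ) :
    Hmap E E a (r • LinearMap.id) d h i = r • LinearMap.id := by
  let φ : ResMap E E (r • LinearMap.id : M →ₗ[R] M) d :=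
    { φ := fun n => r • LinearMap.id
      deg := fun n g m hm => by
        rw [add_comm]; exact smul_mem 𝒜 (E.X n).gr hr hm
      comm_ε := LinearMap.ext fun m => (map_smul E.ε r m).symm
      comm_d := fun n => LinearMap.ext fun m => (map_smul (E.d n) r m).symm }
  rw [Hmap_eq E E a h φ]
  exact Submodule.linearMap_qext _ (LinearMap.ext fun z => rfl)

theorem Hmap_comp {f : M →ₗ[R] N} {g : N →ₗ[R] P} {d e : ι} (hf : GrLC.IsGrHomDeg ℳ 𝒩 f d)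
    (hg : GrLC.IsGrHomDeg 𝒩 𝒬 g e) (i : ℕ) :
    Hmap E G a (g ∘ₗ f) (d + e) (IsGrHomDeg.comp hf hg) i = Hmap F G a g e hg i ∘ₗ Hmap E F a f d hf i := by
  obtain ⟨φ⟩ := nonempty_resMap E F f d hf
  obtain ⟨ψ⟩ := nonempty_resMap F G g e hg
  let χ : ResMap E G (g ∘ₗ f) (d + e) :=
    { φ := fun n => ψ.φ n ∘ₗ φ.φ n
      deg := fun n => IsGrHomDeg.comp (φ.deg n) (ψ.deg n)
      comm_ε := by rw [LinearMap.comp_assoc, φ.comm_ε, ← LinearMap.comp_assoc, ψ.comm_ε, LinearMap.comp_assoc]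
      comm_d := fun n => by rw [LinearMap.comp_assoc, φ.comm_d, ← LinearMap.comp_assoc, ψ.comm_d, LinearMap.comp_assoc] }
  rw [Hmap_eq E G a _ χ, Hmap_eq E F a hf φ, Hmap_eq F G a hg ψ]
  exact Submodule.linearMap_qext _ (LinearMap.ext fun z => rfl)

/-- Different resolutions give homogeneously isomorphic answers. -/
theorem exists_compare (E E₂ : GrLC.StarInjRes 𝒜 ℳ) (i : ℕ) :
    ∃ e : E.H a i ≃ₗ[R] E₂.H a i, GrLC.IsGrHom (E.Hgr a i) (E₂.Hgr a i) e.toLinearMap ∧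
      ∀ g, (E.Hgr a i g).map e.toLinearMap.toAddMonoidHom = E₂.Hgr a i g := by
  have hid : GrLC.IsGrHomDeg ℳ ℳ (LinearMap.id : M →ₗ[R] M) 0 := fun g m hm => by rw [add_zero]; exact hm
  have hinv : ∀ A B : GrLC.StarInjRes 𝒜 ℳ, Hmap B A a LinearMap.id 0 hid i ∘ₗ Hmap A B a LinearMap.id 0 hid i
      = LinearMap.id := fun A B => by
    rw [← Hmap_comp]
    let φ : ResMap A A ((LinearMap.id : M →ₗ[R] M) ∘ₗ LinearMap.id) ((0 : ι) + 0) :=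
      { φ := fun n => LinearMap.id
        deg := fun n g m hm => by rw [add_zero, add_zero]; exact hm
        comm_ε := rfl
        comm_d := fun n => rfl }
    rw [Hmap_eq A A a _ φ]
    exact Submodule.linearMap_qext _ (LinearMap.ext fun z => rfl)
  let e : E.H a i ≃ₗ[R] E₂.H a i :=
    { Hmap E E₂ a LinearMap.id 0 hid i with
      invFun := Hmap E₂ E a LinearMap.id 0 hid i
      left_inv := LinearMap.congr_fun (hinv E E₂)
      right_inv := LinearMap.congr_fun (hinv E₂ E) }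
  have he := isGrHomDeg_zero_iff.1 (Hmap_deg E E₂ a hid i)
  refine ⟨e, he, fun g => le_antisymm ?_ fun y hy => ?_⟩
  · rintro _ ⟨x, hx, rfl⟩
    exact he g x hx
  · exact ⟨e.symm y, (isGrHomDeg_zero_iff.1 (Hmap_deg E₂ E a hid i)) g y hy, e.apply_symm_apply y⟩

variable {E} in
noncomputable instance HgrDecomposition (i : ℕ) : DirectSum.Decomposition (E.Hgr a i) :=
  (Hgr_isInternal E a i).chooseDecomposition

instance HgrGradedSMul (i : ℕ) : SetLike.GradedSMul 𝒜 (E.Hgr a i) :=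
  ⟨fun {h g r x} hr ⟨z, hz, e⟩ => ⟨r • z, smul_mem 𝒜 (E.X i).gr hr hz, by rw [map_smul, e]⟩⟩

end GrModLib
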