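import Groth.Agent.GrModLib.GorType
import Groth.Agent.GrModLib.Cyclic

/-! Local cohomology of *local Gorenstein graded rings. -/

set_option autoImplicit false
universe u

open DirectSum CategoryTheory IsLocalRing

namespace GrModLib

/-- Bass numbers of a Gorenstein ring. -/
theorem bassNum_self_of_gorenstein {R : Type u} [CommRing R] [hG : LocCoh.IsGorensteinRing R] (q : Ideal R)
    [q.IsPrime] {n : ℕ} (hn : q.height = n) (i : ℕ) : GrLC.bassNum q R i = if i = n then 1 else 0 := by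
  let A := Localization.AtPrime q
  haveI : LocCoh.IsGorensteinLocalRing A := hG.isGorensteinLocalRing_localization q
  let ψ : LocalizedModule q.primeCompl R ≃ₗ[A] A :=
    LinearEquiv.extendScalarsOfIsLocalization q.primeCompl A
      (IsLocalizedModule.linearEquiv q.primeCompl (LocalizedModule.mkLinearMap q.primeCompl R)
        (Algebra.linearMap R A))
  have hdim : ringKrullDim A = (n : WithBot ℕ∞) := by
    rw [IsLocalization.AtPrime.ringKrullDim_eq_height q A, hn]; rfl
  show Module.length A (Abelian.Ext.{u} (ModuleCat.of A (ResidueField A))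
    (ModuleCat.of A (LocalizedModule q.primeCompl R)) i) = _
  rw [length_ext_congr_right ψ i]
  rcases lt_trichotomy i n with hi | rfl | hi
  · rw [if_neg hi.ne]
    obtain ⟨rs, hrs, hd⟩ := GorLib.isCM_of_gorenstein (R := A)
    have hlen : rs.length = n := by rw [hdim] at hd; exact_mod_cast hd.symm
    have hne : Ideal.ofList rs ≠ ⊤ := fun h => hrs.top_ne_smul (by rw [smul_eq_mul, Ideal.mul_top]; exact h.symm)
    exact (length_ext_of_regular rs A hrs.toIsWeaklyRegular
      fun r hr => le_maximalIdeal hne (Ideal.subset_span hr)).1 i (by omega)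
  · rw [if_pos rfl]
    exact length_ext_self_of_gorenstein hdim
  · rw [if_neg hi.ne']
    haveI h : GorLib.IDLT A A (n + 1) := GorLib.idlt_of_dim_le hdim.le
    refine Module.length_eq_zero_iff.2 ?_
    exact @HasInjectiveDimensionLT.subsingleton _ _ _ _ _ (n + 1) h i hi _

variable {ι : Type} [AddCommGroup ι] [DecidableEq ι] {R : Type u} [CommRing R] {𝒜 : ι → AddSubgroup R}
  [GradedRing 𝒜] {m : HomogeneousIdeal 𝒜}

/-- Homogeneous elements outside a *maximal ideal are invertible modulo it. -/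
theorem exists_inv_mod_of_coatom (hm : IsCoatom m) {g : ι} {a : R} (ha : a ∈ 𝒜 g) (ham : a ∉ m.toIdeal) :
    ∃ b, b * a - 1 ∈ m.toIdeal := by
  let J : HomogeneousIdeal 𝒜 :=
    ⟨Ideal.span {a}, Ideal.homogeneous_span 𝒜 _ fun x hx => ⟨g, by rw [Set.mem_singleton_iff.1 hx]; exact ha⟩⟩
  have hlt : m < J ⊔ m := lt_of_le_of_ne le_sup_right fun h => ham
    (h ▸ (show a ∈ (J ⊔ m).toIdeal from
      (HomogeneousIdeal.toIdeal_sup J m).ge (Submodule.mem_sup_left (Ideal.mem_span_singleton_self a))))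
  have htop : (Ideal.span {a} ⊔ m.toIdeal : Ideal R) = ⊤ := by
    have := (HomogeneousIdeal.toIdeal_sup J m).symm
    rw [hm.2 _ hlt, HomogeneousIdeal.toIdeal_top] at this
    exact this
  obtain ⟨y, hy, z, hz, hyz⟩ := Submodule.mem_sup.1 ((Ideal.eq_top_iff_one _).1 htop)
  obtain ⟨b, rfl⟩ := Ideal.mem_span_singleton'.1 hy
  exact ⟨b, by rw [show b * a - 1 = -z by rw [← hyz]; ring]; exact neg_mem hz⟩

theorem toIdeal_ne_top_of_coatom (hm : IsCoatom m) : m.toIdeal ≠ ⊤ := fun h =>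
  hm.1 (HomogeneousIdeal.ext (h.trans HomogeneousIdeal.toIdeal_top.symm))

/-- *Maximal ideals are prime. -/
theorem isPrime_of_coatom [Module.Free ℤ ι] [Module.Finite ℤ ι] (hm : IsCoatom m) : m.toIdeal.IsPrime := by
  obtain ⟨l, hl⟩ := exists_linearOrder ι
  obtain rfl : ‹DecidableEq ι› = l.toDecidableEq := Subsingleton.elim _ _
  let _ := l
  have := hl
  refine Ideal.IsHomogeneous.isPrime_of_homogeneous_mem_or_mem m.isHomogeneous (toIdeal_ne_top_of_coatom hm)
    fun {a b} ha _ hab => or_iff_not_imp_left.2 fun ham => ?_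
  obtain ⟨g, hg⟩ := ha
  obtain ⟨c, hc⟩ := exists_inv_mod_of_coatom hm hg ham
  have : c * (a * b) - (c * a - 1) * b ∈ m.toIdeal := sub_mem (Ideal.mul_mem_left _ _ hab) (Ideal.mul_mem_right _ _ hc)
  rwa [show c * (a * b) - (c * a - 1) * b = b by ring] at this

theorem exists_inv_mod_homCompl (hm : IsCoatom m) {s : R} (hs : s ∈ homCompl 𝒜 m.toIdeal) :
    ∃ b, b * s - 1 ∈ m.toIdeal := by
  induction hs using Submonoid.closure_induction with
  | mem x hx => obtain ⟨⟨g, hg⟩, hxm⟩ := hx; exact exists_inv_mod_of_coatom hm hg hxm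
  | one => exact ⟨1, by rw [mul_one, sub_self]; exact zero_mem _⟩
  | mul x y _ _ hx hy =>
    obtain ⟨b, hb⟩ := hx
    obtain ⟨c, hc⟩ := hy
    refine ⟨b * c, ?_⟩
    rw [show b * c * (x * y) - 1 = (c * y) * (b * x - 1) + (c * y - 1) by ring]
    exact add_mem (Ideal.mul_mem_left _ _ hb) hc

theorem eq_smul_of_inv_mod {M : Type u} [AddCommGroup M] [Module R M] {b s : R} (h : b * s - 1 ∈ m.toIdeal)
    {x : M} (hx : x ∈ tors m.toIdeal M) : x = b • s • x := by
  have h1 := (mem_tors _).1 hx _ h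
  rw [sub_smul, one_smul, mul_smul, sub_eq_zero] at h1
  exact h1.symm

/-- Nonzero torsion has nonzero socle. -/
theorem exists_tors_ne_zero {M : Type u} [AddCommGroup M] [Module R M] (a : Ideal R) {x : M}
    (hx : x ∈ GrLC.gam a M) (hx0 : x ≠ 0) : ∃ r : R, r • x ∈ tors a M ∧ r • x ≠ 0 := by
  obtain ⟨k, hk⟩ := hx
  induction k generalizing x with
  | zero => exact absurd (by simpa using hk 1 (by rw [pow_zero, Ideal.one_eq_top]; trivial)) hx0
  | succ k ih =>
    by_cases h : ∀ r ∈ a, r • x = 0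
    · exact ⟨1, by rw [one_smul]; exact (mem_tors _).2 h, by rwa [one_smul]⟩
    · push Not at h
      obtain ⟨r, hr, hrx⟩ := h
      obtain ⟨s, hs, hs0⟩ := ih hrx fun t ht => by
        rw [smul_smul]; exact hk _ (by rw [pow_succ]; exact Ideal.mul_mem_mul ht hr)
      exact ⟨s * r, by rw [mul_smul]; exact hs, by rw [mul_smul]; exact hs0⟩

/-- A minimal *injective resolution. -/
theorem exists_minimal_res {M : Type u} [AddCommGroup M] [Module R M] (ℳ : ι → AddSubgroup M)
    [DirectSum.Decomposition ℳ] [SetLike.GradedSMul 𝒜 ℳ] :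
    ∃ E : GrLC.StarInjRes 𝒜 ℳ, ∀ (n : ℕ) (g : ι) (x : (E.X n).carrier), x ∈ (E.X n).gr g → x ≠ 0 →
      ∃ (h : ι) (r : R), r ∈ 𝒜 h ∧ r • x ∈ LinearMap.ker (E.d n) ∧ r • x ≠ 0 := by
  have hstep : ∀ C : GrLC.GMod.{u} 𝒜, ∃ (J : GrLC.GMod.{u} 𝒜) (e : C.carrier →ₗ[R] J.carrier)
      (C' : GrLC.GMod.{u} 𝒜) (p : J.carrier →ₗ[R] C'.carrier),
      GrLC.IsStarInjHull 𝒜 C.gr J.gr e ∧ GrLC.IsGrHom J.gr C'.gr p ∧ Function.Surjective p ∧
        LinearMap.ker p = LinearMap.range e := fun C => by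
    obtain ⟨J, e, he⟩ := exists_hull (𝒜 := 𝒜) C.gr
    exact ⟨J, e, quotG 𝒜 _ (range_isHomogeneous he.grHom), (LinearMap.range e).mkQ, he,
      fun g x hx => ⟨x, hx, rfl⟩, Submodule.mkQ_surjective _, Submodule.ker_mkQ _⟩
  choose J e C' p he hp hps hpk using hstep
  let C : ℕ → GrLC.GMod.{u} 𝒜 :=
    fun n => Nat.rec (motive := fun _ => GrLC.GMod.{u} 𝒜) (GrLC.GMod.of 𝒜 M ℳ) (fun _ c => C' c) n
  let q : ∀ n : ℕ, (J (C n)).carrier →ₗ[R] (C (n + 1)).carrier := fun n => p (C n)
  let d : ∀ n : ℕ, (J (C n)).carrier →ₗ[R] (J (C (n + 1))).carrier := fun n => (e (C (n + 1))).comp (q n)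
  have hker : ∀ n : ℕ, LinearMap.ker (d n) = LinearMap.range (e (C n)) := fun n => by
    show LinearMap.ker ((e (C (n + 1))).comp (q n)) = _
    rw [LinearMap.ker_comp, LinearMap.ker_eq_bot.2 (he (C (n + 1))).injective]
    exact hpk (C n)
  refine ⟨{
    X := fun n => J (C n)
    d := d
    ε := e (C 0)
    d_grHom := fun n g x hx => (he (C (n + 1))).grHom g _ (hp (C n) g x hx)
    ε_grHom := (he (C 0)).grHom
    ε_injective := (he (C 0)).injective
    exact_zero := hker 0
    exact_succ := fun n => ?_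
    starInj := fun n => (he (C n)).starInj }, fun n g x hx hx0 => ?_⟩
  · refine (hker (n + 1)).trans ?_
    show _ = LinearMap.range ((e (C (n + 1))).comp (q n))
    rw [LinearMap.range_comp_of_range_eq_top (f := q n) _ (LinearMap.range_eq_top.2 (hps (C n)))]
  · obtain ⟨h, r, hr, hrr, hr0⟩ := exists_homogeneous_smul (𝒜 := 𝒜) (he (C n)).toIsStarEss hx hx0
    exact ⟨h, r, hr, (hker n).ge hrr, hr0⟩

end GrModLib
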