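import Groth.Agent.GrModLib.GorRes
import Groth.Agent.GrModLib.BassHull

/-! The top local cohomology of a *local Gorenstein graded ring is a shifted *injective hull. -/

set_option autoImplicit false
universe u

open DirectSum

namespace GrModLib

variable {ι : Type} [AddCommGroup ι] [DecidableEq ι] {R : Type u} [CommRing R] {𝒜 : ι → AddSubgroup R}
  [GradedRing 𝒜] {m : HomogeneousIdeal 𝒜} [Module.Free ℤ ι] [Module.Finite ℤ ι]
  [IsNoetherianRing R]

/-- In a minimal resolution the differentials kill the socle. -/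
theorem d_eq_zero_of_tors {M : Type u} [AddCommGroup M] [Module R M] {ℳ : ι → AddSubgroup M}
    [DirectSum.Decomposition ℳ] [SetLike.GradedSMul 𝒜 ℳ] (E : GrLC.StarInjRes 𝒜 ℳ)
    (hess : ∀ (n : ℕ) (g : ι) (x : (E.X n).carrier), x ∈ (E.X n).gr g → x ≠ 0 →
      ∃ (h : ι) (r : R), r ∈ 𝒜 h ∧ r • x ∈ LinearMap.ker (E.d n) ∧ r • x ≠ 0)
    (hm : IsCoatom m) (j : ℕ) {x : (E.X j).carrier} (hx : x ∈ tors m.toIdeal (E.X j).carrier) : E.d j x = 0 := by
  obtain ⟨s, -, hs⟩ := exists_finset (E.X j).gr x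
  rw [← hs, map_sum]
  refine Finset.sum_eq_zero fun g _ => ?_
  have hy : pr (E.X j).gr g x ∈ tors m.toIdeal (E.X j).carrier := tors_isHomogeneous _ m.isHomogeneous g hx
  by_cases h0 : pr (E.X j).gr g x = 0
  · rw [h0, map_zero]
  · obtain ⟨h, r, hr, hrk, hr0⟩ := hess j g _ (pr_mem _ g x) h0
    obtain ⟨b, hb⟩ := exists_inv_mod_of_coatom hm hr fun hrm => hr0 ((mem_tors _).1 hy r hrm)
    rw [eq_smul_of_inv_mod hb hy, map_smul, LinearMap.mem_ker.1 hrk, smul_zero]

/-- The socle of the terms of a minimal resolution. -/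
theorem exists_socle_basis {M : Type u} [AddCommGroup M] [Module R M] {ℳ : ι → AddSubgroup M}
    [DirectSum.Decomposition ℳ] [SetLike.GradedSMul 𝒜 ℳ] (E : GrLC.StarInjRes 𝒜 ℳ)
    (hess : ∀ (n : ℕ) (g : ι) (x : (E.X n).carrier), x ∈ (E.X n).gr g → x ≠ 0 →
      ∃ (h : ι) (r : R), r ∈ 𝒜 h ∧ r • x ∈ LinearMap.ker (E.d n) ∧ r • x ≠ 0)
    (hm : IsCoatom m) [m.toIdeal.IsPrime] (j : ℕ) : ∃ (κ : Type u) (v : κ → (E.X j).carrier),
      (∀ k, ∃ g, v k ∈ (E.X j).gr g) ∧ (∀ k, v k ∈ tors m.toIdeal (E.X j).carrier) ∧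
      (∀ c : κ →₀ R, Finsupp.linearCombination R v c = 0 → ∀ k, c k ∈ m.toIdeal) ∧
      tors m.toIdeal (E.X j).carrier ≤ Submodule.span R (Set.range v) ∧
      GrLC.bassNum m.toIdeal M j = ENat.card κ := by
  let T := tors m.toIdeal (E.X j).carrier
  let TG : GrLC.GMod.{u} 𝒜 := subG 𝒜 T (tors_isHomogeneous (E.X j).gr m.isHomogeneous)
  obtain ⟨κ, w, hwh, hwi, hwg⟩ := exists_indep_homogeneous (𝒜 := 𝒜) (M := TG.carrier) TG.gr m.toIdeal m.isHomogeneous
    (fun r hr x => Subtype.ext ((mem_tors _).1 x.2 r hr))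
  let v : κ → (E.X j).carrier := fun k => T.subtype (w k)
  have hlc : ∀ c : κ →₀ R, Finsupp.linearCombination R v c = T.subtype (Finsupp.linearCombination R w c) :=
    fun c => (Finsupp.apply_linearCombination R T.subtype w c).symm
  have hind : ∀ c : κ →₀ R, Finsupp.linearCombination R v c = 0 → ∀ k, c k ∈ m.toIdeal := fun c hc =>
    hwi c (T.subtype_injective (((hlc c).symm.trans hc).trans (map_zero T.subtype).symm))
  have hB : ∀ b ∈ torsB m.toIdeal (fun n => (E.X n).carrier) E.d j, b = 0 := by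
    intro b hb
    cases j with
    | zero => exact (Submodule.mem_bot R).1 hb
    | succ n =>
      obtain ⟨x, hx, rfl⟩ := hb
      exact d_eq_zero_of_tors E hess hm n hx
  have hgen : T ≤ Submodule.span R (Set.range v) := fun y hy => by
    obtain ⟨s, hs, hsy⟩ := hwg ⟨y, hy⟩
    obtain ⟨b, hb⟩ := exists_inv_mod_homCompl hm hs
    rw [eq_smul_of_inv_mod hb hy]
    refine Submodule.smul_mem _ b ?_
    have := Submodule.mem_map_of_mem (f := T.subtype) hsy
    have h2 := (Submodule.map_span T.subtype (Set.range w)).le this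
    rwa [← Set.range_comp] at h2
  refine ⟨κ, v, hwh, fun k => (w k).2, hind, hgen, ?_⟩
  refine bassNum_eq_card E m.toIdeal m.isHomogeneous j κ
    (fun k => ⟨v k, (w k).2, d_eq_zero_of_tors E hess hm j (w k).2⟩) (fun c hc => hind c (hB _ hc)) fun y => ?_
  obtain ⟨c, hc⟩ := Finsupp.mem_span_range_iff_exists_finsupp.1 (hgen y.2.1)
  refine ⟨1, one_mem _, c, ?_⟩
  rw [one_smul, show Finsupp.linearCombination R v c = (y : (E.X j).carrier) from hc, sub_self]
  exact zero_mem _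

/-- `H^n_m(R)` of a *local Gorenstein ring is the *injective hull of the residue ring, shifted. -/
theorem exists_top_equiv_of_gorenstein [LocCoh.IsGorensteinRing R] (hm : IsCoatom m) {n : ℕ}
    (hn : m.toIdeal.height = n) (I : GrLC.StarInjRes 𝒜 𝒜) {E' : Type u} [AddCommGroup E'] [Module R E']
    (𝓔 : ι → AddSubgroup E') [DirectSum.Decomposition 𝓔] [SetLike.GradedSMul 𝒜 𝓔]
    (e : (R ⧸ m.toIdeal) →ₗ[R] E') (he : GrLC.IsStarInjHull 𝒜 (GrLC.quotGr 𝒜 m) 𝓔 e) :
    ∃ (g : ι) (φ : I.H m n ≃ₗ[R] E'), GrLC.IsGrHomDeg (I.Hgr m n) 𝓔 φ.toLinearMap g := by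
  haveI hp := isPrime_of_coatom hm
  obtain ⟨X, hess⟩ := exists_minimal_res (𝒜 := 𝒜) (M := R) 𝒜
  have hgam : ∀ j, j ≠ n → ∀ x ∈ GrLC.gam m.toIdeal (X.X j).carrier, x = 0 := by
    intro j hj x hx
    by_contra hx0
    obtain ⟨κ, v, -, -, -, hgen, hcard⟩ := exists_socle_basis X hess hm j
    rw [bassNum_self_of_gorenstein m.toIdeal hn, if_neg hj] at hcard
    haveI : IsEmpty κ := (ENat.card_eq_zero_iff_empty κ).1 hcard.symm
    obtain ⟨r, hr, hr0⟩ := exists_tors_ne_zero m.toIdeal hx hx0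
    have := hgen hr
    rw [Set.range_eq_empty, Submodule.span_empty, Submodule.mem_bot] at this
    exact hr0 this
  obtain ⟨κ, v, hvh, hvt, hind, hgen, hcard⟩ := exists_socle_basis X hess hm n
  rw [bassNum_self_of_gorenstein m.toIdeal hn, if_pos rfl] at hcard
  obtain ⟨hu⟩ := ENat.card_eq_one_iff_unique.1 hcard.symm
  let z := v default
  have hspan : tors m.toIdeal (X.X n).carrier ≤ R ∙ z := hgen.trans
    (Submodule.span_mono (by rintro _ ⟨k, rfl⟩; rw [Unique.eq_default k]; exact Set.mem_singleton _))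
  obtain ⟨g, hg⟩ := hvh default
  let f : (R ⧸ m.toIdeal) →ₗ[R] (X.X n).carrier :=
    Submodule.liftQ m.toIdeal (LinearMap.toSpanSingleton R (X.X n).carrier z)
      fun r hr => (mem_tors _).1 (hvt default) r hr
  have hfi : Function.Injective f := by
    refine (injective_iff_map_eq_zero f).2 fun x hx => ?_
    obtain ⟨r, rfl⟩ := Submodule.Quotient.mk_surjective _ x
    refine (Submodule.Quotient.mk_eq_zero _).2 ?_
    have := hind (Finsupp.single default r) (by rw [Finsupp.linearCombination_single]; exact hx) default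
    rwa [Finsupp.single_eq_same] at this
  letI : DirectSum.Decomposition (GrLC.quotGr 𝒜 m) :=
    (quotGr'_isInternal (ℳ := 𝒜) m.toIdeal m.isHomogeneous).chooseDecomposition
  haveI : SetLike.GradedSMul 𝒜 (GrLC.quotGr 𝒜 m) := ⟨fun {h g r x} hr ⟨y, hy, e⟩ =>
    ⟨r • y, smul_mem 𝒜 𝒜 hr hy, e ▸ (Submodule.mkQ m.toIdeal).map_smul r y⟩⟩
  have hf : GrLC.IsGrHomDeg (GrLC.quotGr 𝒜 m) (X.X n).gr f g := by
    rintro j _ ⟨y, hy, rfl⟩
    exact smul_mem 𝒜 (X.X n).gr hy hg
  obtain ⟨h', hh', hh'e⟩ := extend_deg (X.starInj n) (GrLC.quotGr 𝒜 m) 𝓔 e he.grHom he.injective f g hf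
  have hh'i : Function.Injective h' := by
    rw [← LinearMap.ker_eq_bot]
    by_contra hne
    obtain ⟨y, ⟨hy, x, rfl⟩, hy0⟩ := Submodule.exists_mem_ne_zero_of_ne_bot
      (he.essential _ (ker_isHomogeneous_deg hh') hne)
    refine hy0 ?_
    rw [show x = 0 from hfi (by rw [← hh'e, map_zero]; exact hy), map_zero]
  let G := GrLC.gam m.toIdeal (X.X n).carrier
  let GG : GrLC.GMod.{u} 𝒜 := subG 𝒜 G (gam_isHomogeneous (ℳ := (X.X n).gr) m)
  let k : E' →ₗ[R] GG.carrier := h'.codRestrict G fun x => map_gam m h' (by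
    rw [gam_eq_top he.toIsStarEss]; trivial)
  have hk : GrLC.IsGrHomDeg 𝓔 GG.gr k g := fun j x hx => hh' j x hx
  obtain ⟨ρ, hρ, hρk⟩ := extend_factor he.starInj 𝓔 GG.gr k hk (LinearMap.id : E' →ₗ[R] E')
    (d := -g) (fun j x hx => by rw [add_neg_cancel, add_zero]; exact hx)
    (fun x hx => by
      have h0 : k x = 0 := hx
      have : h' x = 0 := congrArg Subtype.val h0
      rw [LinearMap.mem_ker, LinearMap.id_apply]
      exact hh'i (this.trans (map_zero h').symm))
  have hρk' : ∀ x, ρ (k x) = x := LinearMap.congr_fun hρk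
  have hρi : ∀ x : GG.carrier, ρ x = 0 → x = 0 := by
    intro x hx
    by_contra hx0
    obtain ⟨r, hr, hr0⟩ := exists_tors_ne_zero m.toIdeal x.2 fun h => hx0 (Subtype.ext h)
    obtain ⟨c, hc⟩ := Submodule.mem_span_singleton.1 (hspan hr)
    refine hr0 ?_
    have h1 : k (e (Submodule.Quotient.mk c)) = r • x := Subtype.ext
      ((LinearMap.congr_fun hh'e (Submodule.Quotient.mk c)).trans hc)
    have h2 := hρk' (e (Submodule.Quotient.mk c))
    rw [h1, map_smul, hx, smul_zero] at h2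
    rw [← hc, show c • z = f (Submodule.Quotient.mk c) from rfl, ← hh'e, LinearMap.comp_apply, ← h2, map_zero]
  have hcob : X.cobdy m n = ⊥ := by
    cases n with
    | zero => rfl
    | succ n =>
      rw [eq_bot_iff]
      rintro _ ⟨x, hx, rfl⟩
      rw [Submodule.mem_bot, hgam n (by omega) x hx, map_zero]
  let ρ' : X.cocyc m n →ₗ[R] E' := ρ.comp
    ((Submodule.inclusion (inf_le_left : X.cocyc m n ≤ G)) : X.cocyc m n →ₗ[R] GG.carrier)
  have hker : (X.cobdy m n).comap (X.cocyc m n).subtype ≤ LinearMap.ker ρ' := fun w hw => by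
    rw [hcob] at hw
    obtain rfl : w = 0 := Subtype.ext ((Submodule.mem_bot R).1 hw)
    exact zero_mem _
  let ψ : X.H m n →ₗ[R] E' := Submodule.liftQ _ ρ' hker
  have hψ : Function.Bijective ψ := by
    constructor
    · refine (injective_iff_map_eq_zero ψ).2 fun x hx => ?_
      obtain ⟨w, rfl⟩ := Submodule.Quotient.mk_surjective _ x
      have h0 := hρi _ hx
      obtain rfl : w = 0 := Subtype.ext (congrArg (fun y : G => (y : (X.X n).carrier)) h0)
      rfl
    · intro y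
      have hd : X.d n (k y).1 = 0 := hgam (n + 1) (by omega) _ (map_gam m (X.d n) (k y).2)
      exact ⟨Submodule.Quotient.mk ⟨(k y).1, (k y).2, hd⟩, hρk' y⟩
  obtain ⟨c, hc, -⟩ := exists_compare m I X n
  refine ⟨-g, c.trans (LinearEquiv.ofBijective ψ hψ), fun j x hx => ?_⟩
  obtain ⟨w, hw, hwx⟩ := hc j x hx
  show ψ (c x) ∈ 𝓔 (j + -g)
  have hwx' : X.toH m n w = c x := hwx
  rw [← hwx']
  exact hρ j _ hw

end GrModLib
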