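import Groth.Agent.GrModLib.CanonCM
import Groth.Agent.GorLib.Socle

/-! The type of a Gorenstein local ring. -/

set_option autoImplicit false
universe u

open CategoryTheory IsLocalRing RingTheory.Sequence
open scoped Pointwise

namespace GrModLib

/-- Gorenstein modulo a regular sequence. -/
theorem gorenstein_quotient_list : ∀ (k : ℕ),
    ∀ (A : Type u) [CommRing A] [LocCoh.IsGorensteinLocalRing A] (l : List A), l.length = k → IsRegular A l →
      LocCoh.IsGorensteinLocalRing (A ⧸ Ideal.ofList l) := by
  intro k
  induction k with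
  | zero =>
    intro A _ _ l hl _
    obtain rfl := List.length_eq_zero_iff.1 hl
    exact GorLib.gorenstein_of_ringEquiv ((Ideal.quotEquivOfEq Ideal.ofList_nil).trans (RingEquiv.quotientBot A))
      inferInstance
  | succ k ih =>
    intro A _ _ l hl hreg
    obtain ⟨f, t, rfl⟩ := List.exists_cons_of_length_eq_add_one hl
    obtain ⟨hf, ht⟩ := CommAlgDim.isRegular_cons_ring.1 hreg
    have hfm : f ∈ maximalIdeal A := by
      refine le_maximalIdeal (J := Ideal.ofList (f :: t)) (fun h => hreg.top_ne_smul ?_)
        (Ideal.subset_span (s := {x | x ∈ f :: t}) (List.mem_cons_self (a := f) (l := t)))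
      rw [smul_eq_mul, Ideal.mul_top]
      exact h.symm
    haveI : LocCoh.IsGorensteinLocalRing (A ⧸ Ideal.span {f}) :=
      (GorLib.gorenstein_quotient_iff hf hfm).1 inferInstance
    have h1 := ih (A ⧸ Ideal.span {f})
      (t.map (Ideal.Quotient.mk (Ideal.span {f}))) (by simpa using hl) ht
    exact GorLib.gorenstein_of_ringEquiv (((Ideal.quotEquivOfEq (by rw [Ideal.ofList_cons, sup_comm])).trans
      (DoubleQuot.quotQuotEquivQuotSup (Ideal.span {f}) (Ideal.ofList t)).symm).trans
      (Ideal.quotEquivOfEq (Ideal.map_ofList _ _))) h1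

variable {A : Type u} [CommRing A] [IsLocalRing A] [IsNoetherianRing A]

/-- Bass numbers along a regular sequence. -/
theorem length_ext_of_regular : ∀ (rs : List A) (M : Type u) [AddCommGroup M] [Module A M],
    IsWeaklyRegular M rs → (∀ r ∈ rs, r ∈ maximalIdeal A) →
    (∀ j, j < rs.length →
      Module.length A (Abelian.Ext.{u} (ModuleCat.of A (ResidueField A)) (ModuleCat.of A M) j) = 0) ∧
      Module.length A (Abelian.Ext.{u} (ModuleCat.of A (ResidueField A)) (ModuleCat.of A M) rs.length) =
        Module.length A (tors (maximalIdeal A) (M ⧸ (Ideal.ofList rs • (⊤ : Submodule A M))))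
  | [], M, _, _, _, _ => by
    refine ⟨fun j hj => absurd hj (Nat.not_lt_zero j), ?_⟩
    let c : ResidueField A ≃ₗ[A] A ⧸ maximalIdeal A := LinearEquiv.refl A _
    rw [List.length_nil, ((extCongrLeft c (ModuleCat.of A M) 0).symm.trans (torsExt0 (maximalIdeal A) M).symm).length_eq]
    let q : M ≃ₗ[A] M ⧸ (Ideal.ofList ([] : List A) • (⊤ : Submodule A M)) :=
      (Submodule.quotEquivOfEqBot _ (by rw [Ideal.ofList_nil, Submodule.bot_smul])).symm
    exact length_tors_congr _ q.toLinearMap q.injective fun b _ => q.surjective b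
  | x :: t, M, _, _, hreg, hmem => by
    rw [isWeaklyRegular_cons_iff] at hreg
    obtain ⟨hx, ht⟩ := hreg
    have hxm := hmem x (List.mem_cons_self ..)
    obtain ⟨h1, h2⟩ := length_ext_of_regular t (QuotSMulTop x M) ht fun r hr => hmem r (List.mem_cons_of_mem _ hr)
    have hexact : Function.Exact (x • LinearMap.id : M →ₗ[A] M) (Submodule.mkQ (x • (⊤ : Submodule A M))) := by
      intro z
      rw [Submodule.mkQ_apply, Submodule.Quotient.mk_eq_zero, Submodule.mem_smul_pointwise_iff_exists]
      exact ⟨fun ⟨v, _, hv⟩ => ⟨v, hv⟩, fun ⟨v, hv⟩ => ⟨v, Submodule.mem_top, hv⟩⟩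
    have hq := length_ext_quot hxm (Submodule.mkQ (x • (⊤ : Submodule A M))) hx (Submodule.mkQ_surjective _) hexact
    have hlow : ∀ j, j < t.length + 1 →
        Module.length A (Abelian.Ext.{u} (ModuleCat.of A (ResidueField A)) (ModuleCat.of A M) j) = 0 := by
      intro j hj
      cases j with
      | zero => exact length_ext_zero_of_regular hxm hx
      | succ j => exact (add_eq_zero.1 ((hq j).symm.trans (h1 j (by omega)))).2
    refine ⟨hlow, ?_⟩
    have h3 := hq t.length
    rw [hlow t.length (by omega), zero_add] at h3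
    rw [List.length_cons, ← h3]
    refine h2.trans ?_
    let q := Submodule.quotOfListConsSMulTopEquivQuotSMulTopInner M x t
    exact length_tors_congr _ q.symm.toLinearMap q.symm.injective fun b _ => q.symm.surjective b

/-- A Gorenstein local ring has type one. -/
theorem length_ext_self_of_gorenstein [hG : LocCoh.IsGorensteinLocalRing A] {n : ℕ}
    (hn : ringKrullDim A = (n : WithBot ℕ∞)) :
    Module.length A (Abelian.Ext.{u} (ModuleCat.of A (ResidueField A)) (ModuleCat.of A A) n) = 1 := by
  obtain ⟨rs, hrs, hdim⟩ := GorLib.isCM_of_gorenstein (R := A)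
  obtain rfl : rs.length = n := by
    rw [hdim] at hn; exact_mod_cast hn
  have hne : Ideal.ofList rs ≠ ⊤ := fun h => hrs.top_ne_smul (by rw [smul_eq_mul, Ideal.mul_top]; exact h.symm)
  have hle : Ideal.ofList rs ≤ maximalIdeal A := le_maximalIdeal hne
  rw [(length_ext_of_regular rs A hrs.toIsWeaklyRegular fun r hr => hle (Ideal.subset_span hr)).2]
  let B := A ⧸ Ideal.ofList rs
  haveI hGB : LocCoh.IsGorensteinLocalRing B :=
    gorenstein_quotient_list rs.length A rs rfl hrs
  haveI : Nontrivial B := IsLocalRing.toNontrivial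
  have hB : ringKrullDim B ≤ ((0 : ℕ) : WithBot ℕ∞) := by
    have h := ringKrullDim_add_length_eq_ringKrullDim_of_isRegular rs hrs
    rw [hdim] at h
    revert h
    show ringKrullDim B + rs.length = rs.length → _
    generalize ringKrullDim B = w
    induction w with
    | bot => exact fun _ => bot_le
    | coe w =>
      intro h
      rw [← WithBot.coe_natCast, ← WithBot.coe_add, WithBot.coe_inj] at h
      rw [← WithBot.coe_natCast, WithBot.coe_le_coe]
      induction w with
      | top => rw [top_add] at h; exact absurd h.symm (ENat.natCast_ne_top _)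
      | coe w =>
        have h2 : w + rs.length = rs.length := by exact_mod_cast h
        exact_mod_cast (by omega : w ≤ 0)
  haveI : Ring.KrullDimLE 0 B := Ring.krullDimLE_iff.2 hB
  obtain ⟨P, hP⟩ := associatedPrimes.nonempty B B
  have hPm : P = maximalIdeal B := haveI := hP.isPrime; IsLocalRing.eq_maximalIdeal inferInstance
  obtain ⟨s, hs0, hs, hsoc⟩ := GorLib.socCyclic_of_injective
    (GorLib.idlt_one_iff.1 (GorLib.idlt_of_dim_le (d := 0) hB)) (hPm ▸ hP)
  have hkill : ∀ (y : B), (∀ a ∈ maximalIdeal A, a • y = 0) ↔ ∀ b ∈ maximalIdeal B, b * y = 0 := by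
    intro y
    have key : ∀ a : A, Ideal.Quotient.mk (Ideal.ofList rs) a ∈ maximalIdeal B ↔ a ∈ maximalIdeal A := fun a => by
      constructor
      · intro h
        by_contra hn
        exact h ((IsLocalRing.notMem_maximalIdeal.1 hn).map (Ideal.Quotient.mk (Ideal.ofList rs)))
      · intro ha hu
        obtain ⟨c, hc⟩ := hu.exists_right_inv
        obtain ⟨c, rfl⟩ := Ideal.Quotient.mk_surjective c
        rw [← map_mul, ← map_one (Ideal.Quotient.mk (Ideal.ofList rs)), Ideal.Quotient.eq] at hc
        have h1 : (1 : A) ∈ maximalIdeal A := by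
          have := sub_mem (Ideal.mul_mem_right c _ ha) (hle hc)
          rwa [sub_sub_cancel] at this
        exact (maximalIdeal.isMaximal A).ne_top ((Ideal.eq_top_iff_one _).2 h1)
    refine ⟨fun h b hb => ?_, fun h a ha => h _ ((key a).2 ha)⟩
    obtain ⟨a, rfl⟩ := Ideal.Quotient.mk_surjective b
    exact h a ((key a).1 hb)
  let N := A ⧸ (Ideal.ofList rs • (⊤ : Submodule A A))
  let q : N ≃ₗ[A] B := Submodule.quotEquivOfEq _ _ (by rw [smul_eq_mul, Ideal.mul_top])
  show Module.length A (tors (maximalIdeal A) N) = 1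
  rw [length_tors_congr (B := B) _ q.toLinearMap q.injective fun b _ => q.surjective b,
    show tors (maximalIdeal A) B = Submodule.span A {s} from le_antisymm
      (fun y hy => by
        obtain ⟨b, rfl⟩ := Ideal.mem_span_singleton'.1 (hsoc y ((hkill y).1 ((mem_tors _).1 hy)))
        obtain ⟨a, rfl⟩ := Ideal.Quotient.mk_surjective b
        exact Submodule.mem_span_singleton.2 ⟨a, rfl⟩)
      (Submodule.span_le.2 (Set.singleton_subset_iff.2 ((mem_tors _).2 ((hkill s).2 hs))))]
  rw [Module.length_eq_one_iff]
  have hker : LinearMap.ker (LinearMap.toSpanSingleton A B s) = maximalIdeal A :=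
    ((maximalIdeal.isMaximal A).eq_of_le (fun h => hs0 (by
      have : (1 : A) ∈ LinearMap.ker (LinearMap.toSpanSingleton A B s) := h ▸ Submodule.mem_top
      simpa using this)) fun a ha => (hkill s).2 hs a ha).symm
  haveI : IsSimpleModule A (A ⧸ maximalIdeal A) := isSimpleModule_iff_isCoatom.2 (maximalIdeal.isMaximal A).out
  exact IsSimpleModule.congr (((Submodule.quotEquivOfEq _ _ hker.symm).trans
    (LinearMap.toSpanSingleton A B s).quotKerEquivRange).trans
      (LinearEquiv.ofEq _ _ (LinearMap.range_toSpanSingleton s))).symm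

end GrModLib
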