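import Groth.Agent.GrModLib.Ext
import Groth.Agent.GrModLib.Acyclic

/-! Graded local cohomology. -/

set_option autoImplicit false
universe u

open DirectSum

namespace GrModLib

variable {ι : Type} [AddCommGroup ι] [DecidableEq ι] {R : Type u} [CommRing R]
  {𝒜 : ι → AddSubgroup R} [GradedRing 𝒜]
  {M : Type u} [AddCommGroup M] [Module R M] {ℳ : ι → AddSubgroup M} [DirectSum.Decomposition ℳ]
  [SetLike.GradedSMul 𝒜 ℳ]

theorem gam_isHomogeneous (a : HomogeneousIdeal 𝒜) : (GrLC.gam a.toIdeal M).IsHomogeneous ℳ := by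
  intro g x hx
  obtain ⟨n, hn⟩ := hx
  refine ⟨n, fun r hr => ?_⟩
  show r • pr ℳ g x = 0
  obtain ⟨s, -, hs⟩ := exists_finset 𝒜 r
  rw [← hs, Finset.sum_smul]
  refine Finset.sum_eq_zero fun h _ => ?_
  rw [← pr_smul_add 𝒜 ℳ (pr_mem 𝒜 h r) g x, hn (pr 𝒜 h r) (pow_isHomogeneous a n h hr), map_zero]

variable (E : GrLC.StarInjRes 𝒜 ℳ) (a : HomogeneousIdeal 𝒜)

theorem cocyc_isHomogeneous (i : ℕ) : (E.cocyc a i).IsHomogeneous (E.X i).gr :=
  inf_isHomogeneous _ (gam_isHomogeneous a) (ker_isHomogeneous (E.d_grHom i))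

theorem cobdy_isHomogeneous : ∀ i : ℕ, (E.cobdy a i).IsHomogeneous (E.X i).gr
  | 0 => bot_isHomogeneous _
  | n + 1 => map_isHomogeneous (E.d_grHom n) (gam_isHomogeneous a)

theorem Hgr_isInternal (i : ℕ) : DirectSum.IsInternal (E.Hgr a i) := by
  let Z := E.cocyc a i
  let := (subGr_isInternal Z (cocyc_isHomogeneous E a i)).chooseDecomposition
  have hB : ((E.cobdy a i).comap Z.subtype).IsHomogeneous (subGr Z (E.X i).gr) :=
    comap_isHomogeneous (ℳ := subGr Z (E.X i).gr) (fun g m hm => hm) (cobdy_isHomogeneous E a i)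
  have : E.Hgr a i = quotGr' ((E.cobdy a i).comap Z.subtype) (subGr Z (E.X i).gr) := by
    funext g
    ext x
    exact ⟨fun ⟨z, hz, h⟩ => ⟨z, hz, h⟩, fun ⟨z, hz, h⟩ => ⟨z, hz, h⟩⟩
  rw [this]
  exact quotGr'_isInternal _ hB

theorem nonempty_H_equiv [IsNoetherianRing R] (i : ℕ) :
    Nonempty (E.H a i ≃ₗ[R] LocCoh.H a.toIdeal i M) := by
  obtain ⟨e⟩ := nonempty_equiv_H a.toIdeal i M (fun n => (E.X n).carrier) E.d E.ε E.ε_injective E.exact_zero
    E.exact_succ (fun n j => subsingleton_H (E.starInj n) a (j + 1) (Nat.le_add_left 1 j))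
  cases i with
  | zero => exact ⟨e⟩
  | succ i => exact ⟨e⟩

end GrModLib
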