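import Groth.Agent.GrModLib.Kosz
import Groth.Agent.LocCohLib.NonVanishing

/-! Homogeneous pieces of graded local cohomology over positively graded rings. -/

set_option autoImplicit false
universe u

open DirectSum

namespace GrModLib

variable {R : Type u} [CommRing R] (𝒜 : ℤ → AddSubgroup R) [GradedRing 𝒜]

/-- The irrelevant ideal of a ℤ-graded ring. -/
def posIdeal : HomogeneousIdeal 𝒜 :=
  ⟨Ideal.span (⋃ n ∈ Set.Ioi (0 : ℤ), (𝒜 n : Set R)),
    Ideal.homogeneous_span 𝒜 _ fun x hx => by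
      obtain ⟨n, _, hx⟩ := Set.mem_iUnion₂.1 hx
      exact ⟨n, hx⟩⟩

theorem posIdeal_toIdeal : (posIdeal 𝒜).toIdeal = Ideal.span (⋃ n ∈ Set.Ioi (0 : ℤ), (𝒜 n : Set R)) := rfl

variable {𝒜}

theorem mem_posIdeal {n : ℤ} (hn : 0 < n) {r : R} (hr : r ∈ 𝒜 n) : r ∈ (posIdeal 𝒜).toIdeal :=
  Ideal.subset_span (Set.mem_biUnion (Set.mem_Ioi.2 hn) hr)

theorem eq_zero_of_neg (hpos : ∀ n : ℤ, n < 0 → 𝒜 n = ⊥) {n : ℤ} (hn : n < 0) {r : R} (hr : r ∈ 𝒜 n) : r = 0 :=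
  AddSubgroup.mem_bot.1 (hpos n hn ▸ hr)

/-- A homogeneous element of an ideal outside a prime. -/
theorem exists_homogeneous_notMem {I P : Ideal R} (hI : I.IsHomogeneous 𝒜) (h : ¬ I ≤ P) :
    ∃ (g : ℤ) (r : R), r ∈ 𝒜 g ∧ r ∈ I ∧ r ∉ P := by
  by_contra hcon
  refine h fun r hr => ?_
  obtain ⟨s, -, hs⟩ := exists_finset 𝒜 r
  rw [← hs]
  refine sum_mem fun g _ => ?_
  by_contra hg
  exact hcon ⟨g, pr 𝒜 g r, pr_mem 𝒜 g r, hI g hr, hg⟩

theorem pr_zero_posIdeal (hpos : ∀ n : ℤ, n < 0 → 𝒜 n = ⊥) : ∀ z ∈ (posIdeal 𝒜).toIdeal, pr 𝒜 0 z = 0 := by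
  intro z hz
  induction hz using Submodule.span_induction with
  | mem x hx =>
    obtain ⟨n, hn, hx⟩ := Set.mem_iUnion₂.1 hx
    exact pr_ne 𝒜 hx (ne_of_gt hn)
  | zero => exact map_zero _
  | add x y _ _ hx hy => rw [map_add, hx, hy, add_zero]
  | smul c x hxm hx =>
    obtain ⟨t, -, ht⟩ := exists_finset 𝒜 c
    rw [← ht, Finset.sum_smul, map_sum]
    refine Finset.sum_eq_zero fun j _ => ?_
    have h1 := pr_smul_add 𝒜 𝒜 (pr_mem 𝒜 j c) (0 - j) x
    rw [add_sub_cancel] at h1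
    rcases lt_trichotomy j 0 with hj | hj | hj
    · rw [eq_zero_of_neg hpos hj (pr_mem 𝒜 j c), zero_smul, map_zero]
    · subst hj; rw [h1, sub_zero, hx, smul_zero]
    · rw [h1, eq_zero_of_neg hpos (show 0 - j < 0 by omega) (pr_mem 𝒜 (0 - j) x), smul_zero]

/-- Homogeneous prime avoidance in positive degrees. -/
theorem exists_pos_notMem (hpos : ∀ n : ℤ, n < 0 → 𝒜 n = ⊥) {S : Set (Ideal R)} (hfin : S.Finite)
    (hprime : ∀ p ∈ S, p.IsPrime) (hP : ∀ p ∈ S, ¬ (posIdeal 𝒜).toIdeal ≤ p) :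
    ∃ (n : ℤ) (x : R), 0 < n ∧ x ∈ 𝒜 n ∧ ∀ p ∈ S, x ∉ p := by
  classical
  let core : Ideal R → Ideal R := fun p => (p.homogeneousCore 𝒜).toIdeal
  have hcle : ∀ p, core p ≤ p := fun p => Ideal.toIdeal_homogeneousCore_le 𝒜 p
  let T : Finset (Ideal R) := hfin.toFinset.image core
  let s : Finset (Ideal R) := T.filter fun P => ∀ Q ∈ T, P ≤ Q → Q ≤ P
  have hsprop : ∀ P ∈ s, P.IsPrime ∧ P.IsHomogeneous 𝒜 ∧ ¬ (posIdeal 𝒜).toIdeal ≤ P := by
    intro P hPs
    obtain ⟨p, hp, rfl⟩ := Finset.mem_image.1 (Finset.mem_filter.1 hPs).1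
    have hp' := hfin.mem_toFinset.1 hp
    exact ⟨(hprime p hp').homogeneousCore, (p.homogeneousCore 𝒜).isHomogeneous,
      fun h => hP p hp' (h.trans (hcle p))⟩
  have hanti : ∀ P ∈ s, ∀ Q ∈ s, P ≤ Q → P = Q := fun P hP Q hQ h =>
    le_antisymm h ((Finset.mem_filter.1 hP).2 Q (Finset.mem_filter.1 hQ).1 h)
  have hpe : ∀ P ∈ s, ∃ (n : ℤ) (e : R), 0 < n ∧ e ∈ 𝒜 n ∧ e ∉ P ∧ ∀ Q ∈ s, Q ≠ P → e ∈ Q := by
    intro P hPs
    obtain ⟨hPp, -, hPi⟩ := hsprop P hPs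
    obtain ⟨n₀, u, hun, hui, huP⟩ := exists_homogeneous_notMem (posIdeal 𝒜).isHomogeneous hPi
    have hn₀ : 0 < n₀ := by
      by_contra h
      rcases lt_or_eq_of_le (not_lt.1 h) with h' | h'
      · exact huP ((eq_zero_of_neg hpos h' hun) ▸ P.zero_mem)
      · subst h'
        have hz := pr_zero_posIdeal hpos
        exact huP ((pr_self 𝒜 hun).symm.trans (hz u hui) ▸ P.zero_mem)
    choose! n e he heI heP using fun Q (hQ : Q ∈ s.erase P) => exists_homogeneous_notMem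
      (hsprop Q (Finset.mem_of_mem_erase hQ)).2.1
      (fun h => Finset.ne_of_mem_erase hQ (hanti Q (Finset.mem_of_mem_erase hQ) P hPs h))
    have hn : ∀ Q ∈ s.erase P, 0 ≤ n Q := fun Q hQ => by
      by_contra h
      exact heP Q hQ ((eq_zero_of_neg hpos (not_le.1 h) (he Q hQ)) ▸ P.zero_mem)
    refine ⟨n₀ + ∑ Q ∈ s.erase P, n Q, u * ∏ Q ∈ s.erase P, e Q, by
        have := Finset.sum_nonneg hn
        omega, SetLike.mul_mem_graded hun (SetLike.prod_mem_graded 𝒜 _ _ he), ?_, fun Q hQ hQP => ?_⟩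
    · intro h
      rcases hPp.mem_or_mem h with h | h
      · exact huP h
      · haveI := hPp
        obtain ⟨Q, hQ, hQe⟩ := Ideal.IsPrime.prod_mem_iff.1 h
        exact heP Q hQ hQe
    · exact Ideal.mul_mem_left _ _ (Ideal.mem_of_dvd _ (Finset.dvd_prod_of_mem e (Finset.mem_erase.2 ⟨hQP, hQ⟩))
        (heI Q (Finset.mem_erase.2 ⟨hQP, hQ⟩)))
  choose! n e hn he heP heQ using hpe
  let L : ℕ := ∏ P ∈ s, (n P).toNat
  have hnN : ∀ P ∈ s, 0 < (n P).toNat := fun P hP => by have := hn P hP; omega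
  have hL : 0 < L := Finset.prod_pos hnN
  have hdeg : ∀ P ∈ s, e P ^ (L / (n P).toNat) ∈ 𝒜 (L : ℤ) := fun P hP => by
    have h1 := SetLike.pow_mem_graded (L / (n P).toNat) (he P hP)
    have h2 : (L / (n P).toNat) • n P = (L : ℤ) := by
      have h3 : ((L / (n P).toNat * (n P).toNat : ℕ) : ℤ) = L :=
        congrArg Nat.cast (Nat.div_mul_cancel (Finset.dvd_prod_of_mem (fun P => (n P).toNat) hP))
      rw [Nat.cast_mul, Int.toNat_of_nonneg (hn P hP).le] at h3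
      rw [nsmul_eq_mul]; exact h3
    rwa [h2] at h1
  refine ⟨L, ∑ P ∈ s, e P ^ (L / (n P).toNat), by exact_mod_cast hL, AddSubgroup.sum_mem _ hdeg, ?_⟩
  intro p hp h
  obtain ⟨P, hPle, hPmax⟩ := T.exists_le_maximal (Finset.mem_image_of_mem core (hfin.mem_toFinset.2 hp))
  have hPs : P ∈ s := Finset.mem_filter.2 ⟨hPmax.prop, fun Q hQ hPQ => hPmax.le_of_ge hQ hPQ⟩
  have hhom : (∑ Q ∈ s, e Q ^ (L / (n Q).toNat)) ∈ core p := by
    exact Ideal.mem_homogeneousCore_of_homogeneous_of_mem ⟨(L : ℤ), AddSubgroup.sum_mem _ hdeg⟩ h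
  have h' := hPle hhom
  rw [← Finset.add_sum_erase _ _ hPs] at h'
  have h2 : (∑ Q ∈ s.erase P, e Q ^ (L / (n Q).toNat)) ∈ P := Ideal.sum_mem _ fun Q hQ =>
    Ideal.pow_mem_of_mem _ (heQ Q (Finset.mem_of_mem_erase hQ) P hPs (Finset.ne_of_mem_erase hQ).symm) _
      (Nat.div_pos (Nat.le_of_dvd hL (Finset.dvd_prod_of_mem (fun P => (n P).toNat) (Finset.mem_of_mem_erase hQ)))
        (hnN Q (Finset.mem_of_mem_erase hQ)))
  exact heP P hPs ((hsprop P hPs).1.mem_of_pow_mem _ ((Ideal.add_mem_iff_left _ h2).1 h'))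

section Torsion

variable [IsNoetherianRing R] {M : Type u} [AddCommGroup M] [Module R M]

theorem gam_mono {I J : Ideal R} (h : I ≤ J) : GrLC.gam J M ≤ GrLC.gam I M :=
  fun _ ⟨k, hk⟩ => ⟨k, fun r hr => hk r (Ideal.pow_right_mono h k hr)⟩

theorem gam_quot_gam (I : Ideal R) : GrLC.gam I (M ⧸ GrLC.gam I M) = ⊥ := by
  refine (Submodule.eq_bot_iff _).2 fun y hy => ?_
  obtain ⟨m, rfl⟩ := Submodule.mkQ_surjective (GrLC.gam I M) y
  obtain ⟨k, hk⟩ := hy
  refine (Submodule.Quotient.mk_eq_zero _).2 (mem_gam_of_pow (Ideal.span_eq I).symm fun x hx => ?_)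
  obtain ⟨l, hl⟩ : x ^ k • m ∈ GrLC.gam I M :=
    (Submodule.Quotient.mk_eq_zero (GrLC.gam I M)).1
      (((GrLC.gam I M).mkQ.map_smul (x ^ k) m).trans (hk _ (Ideal.pow_mem_pow hx k)))
  exact ⟨l + k, by rw [pow_add, mul_smul, hl _ (Ideal.pow_mem_pow hx l)]⟩

theorem exists_pow_smul_eq_zero [Module.Finite R M] {I : Ideal R} (h : GrLC.gam I M = ⊤) :
    ∃ k : ℕ, ∀ r ∈ I ^ k, ∀ m : M, r • m = 0 := by
  obtain ⟨s, hs⟩ := Module.Finite.fg_top (R := R) (M := M)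
  choose k hk using fun m : M => h.ge (Submodule.mem_top : m ∈ (⊤ : Submodule R M))
  refine ⟨s.sup k, fun r hr m => ?_⟩
  have hm : m ∈ Submodule.span R (s : Set M) := hs ▸ Submodule.mem_top
  induction hm using Submodule.span_induction with
  | mem x hx => exact hk x r (Ideal.pow_le_pow_right (Finset.le_sup (f := k) hx) hr)
  | zero => exact smul_zero r
  | add x y _ _ hx hy => rw [smul_add, hx, hy, add_zero]
  | smul c x _ hx => rw [smul_comm, hx, smul_zero]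

theorem not_le_of_gam_eq_bot {I : Ideal R} (h : GrLC.gam I M = ⊥) : ∀ p ∈ associatedPrimes R M, ¬ I ≤ p := by
  intro p hp hle
  obtain ⟨hpp, v, hv⟩ := (isAssociatedPrime_iff (R := R) (I := p) (M := M)).1 hp
  have hv0 : v = 0 := (Submodule.mem_bot R).1 (h.le ⟨1, fun r hr => by
    rw [pow_one] at hr
    have := hle hr
    rw [hv, Submodule.mem_colon_singleton, Submodule.mem_bot] at this
    exact this⟩)
  exact hpp.ne_top ((Ideal.eq_top_iff_one _).2 (by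
    rw [hv, Submodule.mem_colon_singleton, hv0, smul_zero]; exact zero_mem _))

theorem isSMulRegular_of_notMem {x : R} (h : ∀ p ∈ associatedPrimes R M, x ∉ p) : IsSMulRegular M x := by
  refine (isSMulRegular_iff_right_eq_zero_of_smul).2 fun m hm => ?_
  by_contra hne
  obtain ⟨P, hP, hmP⟩ := exists_le_isAssociatedPrime_of_isNoetherianRing R m hne
  exact h P hP (hmP (by rw [Submodule.mem_colon_singleton, Submodule.mem_bot]; exact hm))

/-- A regular element of positive degree. -/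
theorem exists_pos_regular (hpos : ∀ n : ℤ, n < 0 → 𝒜 n = ⊥) [Module.Finite R M]
    (h : GrLC.gam (posIdeal 𝒜).toIdeal M = ⊥) :
    ∃ (n : ℤ) (x : R), 0 < n ∧ x ∈ 𝒜 n ∧ IsSMulRegular M x := by
  obtain ⟨n, x, hn, hx, hnot⟩ := exists_pos_notMem hpos (associatedPrimes.finite R M)
    (fun p hp => IsAssociatedPrime.isPrime hp) (not_le_of_gam_eq_bot h)
  exact ⟨n, x, hn, hx, isSMulRegular_of_notMem hnot⟩

/-- A regular element of degree zero on a module killed by a power of the irrelevant ideal. -/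
theorem exists_zero_regular (hpos : ∀ n : ℤ, n < 0 → 𝒜 n = ⊥) [Module.Finite R M] (a : HomogeneousIdeal 𝒜)
    (hP : GrLC.gam (posIdeal 𝒜).toIdeal M = ⊤) (h : GrLC.gam a.toIdeal M = ⊥) :
    ∃ x : R, x ∈ 𝒜 0 ∧ x ∈ a.toIdeal ∧ IsSMulRegular M x := by
  classical
  have hfin := associatedPrimes.finite R M
  have hnle : ∀ p ∈ associatedPrimes R M, ∃ r : GrLC.deg0 𝒜, (r : R) ∈ a.toIdeal ∧ (r : R) ∉ p := by
    intro p hp
    obtain ⟨g, r, hg, hra, hrp⟩ := exists_homogeneous_notMem a.isHomogeneous (not_le_of_gam_eq_bot h p hp)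
    have hg0 : g = 0 := by
      rcases lt_trichotomy g 0 with hlt | heq | hgt
      · exact absurd (eq_zero_of_neg hpos hlt hg ▸ p.zero_mem) hrp
      · exact heq
      · exfalso
        obtain ⟨hpp, v, hv⟩ := (isAssociatedPrime_iff (R := R) (I := p) (M := M)).1 hp
        obtain ⟨k, hk⟩ := hP.ge (Submodule.mem_top : v ∈ (⊤ : Submodule R M))
        refine hrp (hpp.mem_of_pow_mem k ?_)
        rw [hv, Submodule.mem_colon_singleton, Submodule.mem_bot]
        exact hk _ (Ideal.pow_mem_pow (mem_posIdeal hgt hg) k)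
    subst hg0
    exact ⟨⟨r, hg⟩, hra, hrp⟩
  by_contra hcon
  have hsub : ((a.toIdeal.comap (GrLC.deg0 𝒜).subtype : Ideal (GrLC.deg0 𝒜)) : Set (GrLC.deg0 𝒜)) ⊆
      ⋃ p ∈ (↑hfin.toFinset : Set (Ideal R)), ↑(p.comap (GrLC.deg0 𝒜).subtype) := by
    intro r hr
    by_contra hr'
    simp only [Set.mem_iUnion, not_exists] at hr'
    exact hcon ⟨r, r.2, hr, isSMulRegular_of_notMem fun p hp hrp =>
      hr' p (hfin.mem_toFinset.2 hp) hrp⟩
  obtain ⟨p, hp, hle⟩ := (Ideal.subset_union_prime ⊥ ⊥ fun p hp _ _ => by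
    haveI := IsAssociatedPrime.isPrime (hfin.mem_toFinset.1 hp)
    exact Ideal.comap_isPrime _ p).1 hsub
  obtain ⟨r, hra, hrp⟩ := hnle p (hfin.mem_toFinset.1 hp)
  exact hrp (hle hra)

end Torsion

section Induction

variable [IsNoetherianRing R]

theorem finite_subG (N : GrLC.GMod.{u} 𝒜) [Module.Finite R N.carrier] (P : Submodule R N.carrier)
    (hP : P.IsHomogeneous N.gr) : Module.Finite R (subG 𝒜 (ℳ := N.gr) P hP).carrier :=
  haveI := isNoetherian_of_isNoetherianRing_of_finite R N.carrier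
  inferInstanceAs (Module.Finite R P)

theorem finite_quotG (N : GrLC.GMod.{u} 𝒜) [Module.Finite R N.carrier] (P : Submodule R N.carrier)
    (hP : P.IsHomogeneous N.gr) : Module.Finite R (quotG 𝒜 (ℳ := N.gr) P hP).carrier :=
  inferInstanceAs (Module.Finite R (N.carrier ⧸ P))

/-- The induction scheme: reduce to torsion modules and to quotients by homogeneous regular elements. -/
theorem induct_H (hpos : ∀ n : ℤ, n < 0 → 𝒜 n = ⊥) (a : HomogeneousIdeal 𝒜)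
    (ha : (posIdeal 𝒜).toIdeal ≤ a.toIdeal)
    (Φ : ℕ → GrLC.GMod.{u} 𝒜 → Prop)
    (h0 : ∀ N : GrLC.GMod.{u} 𝒜, Module.Finite R N.carrier → Φ 0 N)
    (hext : ∀ (i : ℕ) (N : GrLC.GMod.{u} 𝒜) (P : Submodule R N.carrier) (hP : P.IsHomogeneous N.gr),
      Module.Finite R N.carrier → Φ (i + 1) (subG 𝒜 (ℳ := N.gr) P hP) →
      Φ (i + 1) (quotG 𝒜 (ℳ := N.gr) P hP) → Φ (i + 1) N)
    (htors : ∀ (i : ℕ) (N : GrLC.GMod.{u} 𝒜), GrLC.gam a.toIdeal N.carrier = ⊤ → Φ (i + 1) N)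
    (hreg : ∀ (i : ℕ) (N : GrLC.GMod.{u} 𝒜) (t : ℤ) (x : R) (hxt : x ∈ 𝒜 t),
      Module.Finite R N.carrier → 0 ≤ t → x ∈ a.toIdeal → IsSMulRegular N.carrier x →
      (t = 0 → GrLC.gam (posIdeal 𝒜).toIdeal N.carrier = ⊤) →
      (∀ hh, Φ i (quotG 𝒜 (ℳ := N.gr) (LinearMap.range (x • (LinearMap.id : N.carrier →ₗ[R] N.carrier))) hh)) →
      Φ (i + 1) N)
    (i : ℕ) : ∀ N : GrLC.GMod.{u} 𝒜, Module.Finite R N.carrier → Φ i N := by
  induction i with
  | zero => exact h0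
  | succ i ih =>
    intro N hN
    let T := GrLC.gam a.toIdeal N.carrier
    have hT : T.IsHomogeneous N.gr := gam_isHomogeneous a
    refine hext i N T hT hN (htors i _ (eq_top_iff.2 fun m _ => ?_)) ?_
    · obtain ⟨k, hk⟩ := m.2
      exact ⟨k, fun r hr => Subtype.ext (hk r hr)⟩
    let N₁ := quotG 𝒜 (ℳ := N.gr) T hT
    haveI : Module.Finite R N₁.carrier := inferInstanceAs (Module.Finite R (N.carrier ⧸ T))
    have hN₁ : GrLC.gam a.toIdeal N₁.carrier = ⊥ := gam_quot_gam a.toIdeal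
    let T₁ := GrLC.gam (posIdeal 𝒜).toIdeal N₁.carrier
    have hT₁ : T₁.IsHomogeneous N₁.gr := gam_isHomogeneous (posIdeal 𝒜)
    haveI : IsNoetherian R N₁.carrier := isNoetherian_of_isNoetherianRing_of_finite R N₁.carrier
    refine hext i N₁ T₁ hT₁ inferInstance ?_ ?_
    · let S₁ := subG 𝒜 (ℳ := N₁.gr) T₁ hT₁
      haveI : Module.Finite R S₁.carrier := inferInstanceAs (Module.Finite R T₁)
      have hS1 : GrLC.gam (posIdeal 𝒜).toIdeal S₁.carrier = ⊤ := eq_top_iff.2 fun m _ =>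
        (m : T₁).2.imp fun k hk r hr => Subtype.ext (hk r hr)
      have hS2 : GrLC.gam a.toIdeal S₁.carrier = ⊥ := by
        refine (Submodule.eq_bot_iff _).2 fun m hm => ?_
        have h1 : (m : T₁).1 ∈ GrLC.gam a.toIdeal N₁.carrier := map_gam a T₁.subtype hm
        exact Subtype.ext ((Submodule.mem_bot R).1 (hN₁.le h1))
      obtain ⟨x, hx0, hxa, hxr⟩ := exists_zero_regular hpos a hS1 hS2
      exact hreg i S₁ 0 x hx0 inferInstance le_rfl hxa hxr (fun _ => hS1) fun hh => ih _ (finite_quotG S₁ _ hh)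
    · let N₂ := quotG 𝒜 (ℳ := N₁.gr) T₁ hT₁
      haveI : Module.Finite R N₂.carrier := finite_quotG N₁ T₁ hT₁
      have hN₂ : GrLC.gam (posIdeal 𝒜).toIdeal N₂.carrier = ⊥ := gam_quot_gam (posIdeal 𝒜).toIdeal
      obtain ⟨t, x, ht, hx, hxr⟩ := exists_pos_regular hpos hN₂
      exact hreg i N₂ t x hx inferInstance ht.le (ha (mem_posIdeal ht hx)) hxr (fun h => absurd h ht.ne') fun hh =>
        ih _ (finite_quotG N₂ _ hh)

end Induction

end GrModLib
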