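import Groth.Agent.GrModLib.Cofree
import Groth.Prelude.Def_Wider

/-! *Injective hulls and resolutions. -/

set_option autoImplicit false
universe u

open DirectSum

namespace GrModLib

variable {ι : Type} [AddCommGroup ι] [DecidableEq ι] {R : Type u} [CommRing R]
  {𝒜 : ι → AddSubgroup R} [GradedRing 𝒜]
  {I : Type u} [AddCommGroup I] [Module R I] {ℐ : ι → AddSubgroup I} [DirectSum.Decomposition ℐ]
  [SetLike.GradedSMul 𝒜 ℐ]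

/-- Extending maps of any degree. -/
theorem extend_deg (hI : GrLC.IsStarInj 𝒜 ℐ) {A B : Type u} [AddCommGroup A] [Module R A] [AddCommGroup B]
    [Module R B] (𝒶 : ι → AddSubgroup A) [DirectSum.Decomposition 𝒶] [SetLike.GradedSMul 𝒜 𝒶]
    (𝒷 : ι → AddSubgroup B) [DirectSum.Decomposition 𝒷] [SetLike.GradedSMul 𝒜 𝒷]
    (f : A →ₗ[R] B) (hf : GrLC.IsGrHom 𝒶 𝒷 f) (hfi : Function.Injective f) (φ : A →ₗ[R] I) (d : ι)
    (hφ : GrLC.IsGrHomDeg 𝒶 ℐ φ d) : ∃ h : B →ₗ[R] I, GrLC.IsGrHomDeg 𝒷 ℐ h d ∧ h ∘ₗ f = φ := by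
  obtain ⟨h, hh, hcomp⟩ := hI (shiftG 𝒜 𝒶 (-d)) (shiftG 𝒜 𝒷 (-d)) f
    (fun g m hm => hf (g + -d) m hm) hfi φ (fun g m hm => by have h1 := hφ (g + -d) m hm; rw [neg_add_cancel_right] at h1; exact h1)
  exact ⟨h, fun g m hm => hh (g + d) m (by show m ∈ 𝒷 (g + d + -d); simpa using hm), hcomp⟩

/-- Extending degree zero maps. -/
theorem extend (hI : GrLC.IsStarInj 𝒜 ℐ) {A B : Type u} [AddCommGroup A] [Module R A] [AddCommGroup B]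
    [Module R B] (𝒶 : ι → AddSubgroup A) [DirectSum.Decomposition 𝒶] [SetLike.GradedSMul 𝒜 𝒶]
    (𝒷 : ι → AddSubgroup B) [DirectSum.Decomposition 𝒷] [SetLike.GradedSMul 𝒜 𝒷]
    (f : A →ₗ[R] B) (hf : GrLC.IsGrHom 𝒶 𝒷 f) (hfi : Function.Injective f) (φ : A →ₗ[R] I)
    (hφ : GrLC.IsGrHom 𝒶 ℐ φ) : ∃ h : B →ₗ[R] I, GrLC.IsGrHom 𝒷 ℐ h ∧ h ∘ₗ f = φ :=
  hI (GrLC.GMod.of 𝒜 A 𝒶) (GrLC.GMod.of 𝒜 B 𝒷) f hf hfi φ hφ

variable {M : Type u} [AddCommGroup M] [Module R M] {ℳ : ι → AddSubgroup M} [DirectSum.Decomposition ℳ]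
  [SetLike.GradedSMul 𝒜 ℳ]
  {L : Type u} [AddCommGroup L] [Module R L] {𝓛 : ι → AddSubgroup L} [DirectSum.Decomposition 𝓛]
  [SetLike.GradedSMul 𝒜 𝓛]

/-- *Essential extensions, elementwise. -/
theorem isStarEss_of {f : M →ₗ[R] L} (hinj : Function.Injective f) (hf : GrLC.IsGrHom ℳ 𝓛 f)
    (h : ∀ (g : ι) (x : L), x ∈ 𝓛 g → x ≠ 0 → ∃ r : R, r • x ∈ LinearMap.range f ∧ r • x ≠ 0) :
    GrLC.IsStarEss ℳ 𝓛 f := by
  refine ⟨hinj, hf, fun P hP hne hbot => ?_⟩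
  obtain ⟨g, x, hx, hxP, hx0⟩ := exists_mem_ne_zero 𝓛 hP hne
  obtain ⟨r, hr, hr0⟩ := h g x hx hx0
  exact hr0 ((Submodule.mem_bot R).1 (hbot ▸ ⟨P.smul_mem r hxP, hr⟩))

omit [SetLike.GradedSMul 𝒜 ℳ] in
include 𝒜 in
/-- A homogeneous witness for *essentiality. -/
theorem exists_homogeneous_smul {f : M →ₗ[R] L} (hf : GrLC.IsStarEss ℳ 𝓛 f) {g : ι} {x : L} (hx : x ∈ 𝓛 g)
    (hx0 : x ≠ 0) : ∃ (h : ι) (r : R), r ∈ 𝒜 h ∧ r • x ∈ LinearMap.range f ∧ r • x ≠ 0 := by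
  obtain ⟨y, hy, hy0⟩ := Submodule.exists_mem_ne_zero_of_ne_bot
    (hf.essential _ (singleton_isHomogeneous 𝒜 𝓛 hx)
      (fun e => hx0 ((Submodule.mem_bot R).1 (e ▸ Submodule.mem_span_singleton_self x))))
  obtain ⟨r, rfl⟩ := Submodule.mem_span_singleton.1 hy.1
  obtain ⟨j, hj⟩ := exists_pr_ne_zero 𝓛 hy0
  have hmem := range_isHomogeneous hf.grHom j hy.2
  change pr 𝓛 j (r • x) ∈ _ at hmem
  rw [pr_smul_mem 𝒜 𝓛 hx r j] at hj hmem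
  exact ⟨_, _, pr_mem 𝒜 _ r, hmem, hj⟩

omit [SetLike.GradedSMul 𝒜 ℳ] in
include 𝒜 in
/-- *Essential extensions are essential. -/
theorem isEssentialInj {f : M →ₗ[R] L} (hf : GrLC.IsStarEss ℳ 𝓛 f) : InjHull.IsEssentialInj f := by
  classical
  have key : ∀ (n : ℕ) (s : Finset ι) (x : L), s.card ≤ n → (∀ j ∉ s, pr 𝓛 j x = 0) → x ≠ 0 →
      ∃ (h : ι) (r : R), r ∈ 𝒜 h ∧ r • x ∈ LinearMap.range f ∧ r • x ≠ 0 := by
    intro n
    induction n with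
    | zero =>
      intro s x hn h0 hx
      refine absurd (pr_ext 𝓛 fun j => ?_) hx
      rw [map_zero, h0 j (by rw [Finset.card_eq_zero.1 (Nat.le_zero.1 hn)]; exact Finset.notMem_empty j)]
    | succ n ih =>
      intro s x hn hs hx
      obtain ⟨g, hxg⟩ := exists_pr_ne_zero 𝓛 hx
      have hgs : g ∈ s := by_contra fun h => hxg (hs g h)
      obtain ⟨h, r, hr, hrm, hr0⟩ := exists_homogeneous_smul (𝒜 := 𝒜) hf (pr_mem 𝓛 g x) hxg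
      have hrest : ∀ j ∉ (s.erase g).image (h + ·), pr 𝓛 j (r • (x - pr 𝓛 g x)) = 0 := by
        intro j hj
        rw [pr_smul 𝒜 𝓛 hr, map_sub]
        by_cases hjg : j - h = g
        · rw [hjg, pr_self 𝓛 (pr_mem 𝓛 g x), sub_self, smul_zero]
        · have hjs : j - h ∉ s := fun hm =>
            hj (Finset.mem_image.2 ⟨_, Finset.mem_erase.2 ⟨hjg, hm⟩, by abel⟩)
          rw [hs _ hjs, pr_ne 𝓛 (pr_mem 𝓛 g x) (Ne.symm hjg), sub_zero, smul_zero]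
      by_cases hz : r • (x - pr 𝓛 g x) = 0
      · have e : r • x = r • pr 𝓛 g x := by rw [← sub_eq_zero, ← smul_sub, hz]
        exact ⟨h, r, hr, e ▸ hrm, e ▸ hr0⟩
      obtain ⟨h', t, ht, htm, ht0⟩ := ih _ (r • (x - pr 𝓛 g x))
        (Finset.card_image_le.trans (by have := Finset.card_erase_of_mem hgs; omega)) hrest hz
      refine ⟨h' + h, t * r, SetLike.mul_mem_graded ht hr, ?_, ?_⟩
      · rw [mul_smul, ← add_sub_cancel (pr 𝓛 g x) x, smul_add, smul_add]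
        exact add_mem (Submodule.smul_mem _ t hrm) htm
      · intro e
        refine ht0 (pr_ext 𝓛 fun j => ?_)
        rw [map_zero]
        by_cases hj : j = h' + (h + g)
        · subst hj
          rw [pr_smul_add 𝒜 𝓛 ht, pr_smul_add 𝒜 𝓛 hr, map_sub, pr_self 𝓛 (pr_mem 𝓛 g x), sub_self,
            smul_zero, smul_zero]
        · have h1 := congrArg (pr 𝓛 j) e
          rw [mul_smul, ← add_sub_cancel (pr 𝓛 g x) x, smul_add, smul_add, map_add, map_zero,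
            pr_ne 𝓛 (smul_mem 𝒜 𝓛 ht (smul_mem 𝒜 𝓛 hr (pr_mem 𝓛 g x))) (Ne.symm hj), zero_add] at h1
          exact h1
  refine ⟨hf.injective, fun P hP hbot => ?_⟩
  obtain ⟨x, hxP, hx0⟩ := Submodule.exists_mem_ne_zero_of_ne_bot hP
  obtain ⟨s, hs, -⟩ := exists_finset 𝓛 x
  obtain ⟨h, r, -, hr, hr0⟩ := key s.card s x le_rfl hs hx0
  exact hr0 ((Submodule.mem_bot R).1 (hbot ▸ ⟨P.smul_mem r hxP, hr⟩))

/-- The homogeneous submodules of a *essential hull inside a *injective module. -/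
theorem exists_hull_in (hI : GrLC.IsStarInj 𝒜 ℐ) (e : M →ₗ[R] I) (he : GrLC.IsGrHom ℳ ℐ e)
    (hinj : Function.Injective e) :
    ∃ (E : GrLC.GMod.{u} 𝒜) (f : M →ₗ[R] E.carrier) (j : E.carrier →ₗ[R] I),
      GrLC.IsStarInjHull 𝒜 ℳ E.gr f ∧ GrLC.IsGrHom E.gr ℐ j ∧ Function.Injective j ∧ j ∘ₗ f = e := by
  classical
  let S : Set (Submodule R I) := {E | E.IsHomogeneous ℐ ∧ LinearMap.range e ≤ E ∧
    ∀ (g : ι) (x : I), x ∈ ℐ g → x ∈ E → x ≠ 0 → ∃ r : R, r • x ∈ LinearMap.range e ∧ r • x ≠ 0}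
  have hM : LinearMap.range e ∈ S := ⟨range_isHomogeneous he, le_rfl, fun g x _ hx hx0 => ⟨1, by simpa, by simpa⟩⟩
  obtain ⟨E, hE0, hEmax⟩ := zorn_le_nonempty₀ S (fun c hcS hc y hy => by
    refine ⟨sSup c, ⟨fun g x hx => ?_, le_trans (hcS hy).2.1 (le_sSup hy), fun g x hx hxm hx0 => ?_⟩,
      fun z hz => le_sSup hz⟩
    · obtain ⟨E', hE', hxE'⟩ := (Submodule.mem_sSup_of_directed ⟨y, hy⟩ hc.directedOn).1 hx
      exact (le_sSup hE' : E' ≤ sSup c) ((hcS hE').1 g hxE')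
    · obtain ⟨E', hE', hxE'⟩ := (Submodule.mem_sSup_of_directed ⟨y, hy⟩ hc.directedOn).1 hxm
      exact (hcS hE').2.2 g x hx hxE' hx0) _ hM
  obtain ⟨hEh, hEM, hEess⟩ := hEmax.1
  let T : Set (Submodule R I) := {P | P.IsHomogeneous ℐ ∧ P ⊓ E = ⊥}
  obtain ⟨P, -, hPmax⟩ := zorn_le_nonempty₀ T (fun c hcS hc y hy => by
    refine ⟨sSup c, ⟨fun g x hx => ?_, eq_bot_iff.2 fun x hx => ?_⟩, fun z hz => le_sSup hz⟩
    · obtain ⟨E', hE', hxE'⟩ := (Submodule.mem_sSup_of_directed ⟨y, hy⟩ hc.directedOn).1 hx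
      exact (le_sSup hE' : E' ≤ sSup c) ((hcS hE').1 g hxE')
    · obtain ⟨E', hE', hxE'⟩ := (Submodule.mem_sSup_of_directed ⟨y, hy⟩ hc.directedOn).1 hx.1
      exact (hcS hE').2 ▸ ⟨hxE', hx.2⟩) ⊥ ⟨bot_isHomogeneous ℐ, bot_inf_eq _⟩
  obtain ⟨hPh, hPE⟩ := hPmax.1
  let Q := quotG 𝒜 P hPh
  let E' := subG 𝒜 E hEh
  let i : E →ₗ[R] I ⧸ P := P.mkQ ∘ₗ E.subtype
  have hii : Function.Injective i := (injective_iff_map_eq_zero i).2 fun x hx => Subtype.ext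
    ((Submodule.mem_bot R).1 (hPE ▸ ⟨(Submodule.Quotient.mk_eq_zero P).1 hx, x.2⟩))
  have hiess : ∀ (g : ι) (y : I), y ∈ ℐ g → P.mkQ y ≠ 0 →
      ∃ (r : R) (z : E), r • P.mkQ y = i z ∧ z ≠ 0 := by
    intro g y hy hy0
    have hlt : P < P ⊔ (R ∙ y) := left_lt_sup.2 fun h =>
      hy0 ((Submodule.Quotient.mk_eq_zero P).2 (h (Submodule.mem_span_singleton_self y)))
    have hne : (P ⊔ (R ∙ y)) ⊓ E ≠ ⊥ := fun h => hlt.not_ge
      (hPmax.2 ⟨sup_isHomogeneous ℐ hPh (singleton_isHomogeneous 𝒜 ℐ hy), h⟩ hlt.le)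
    obtain ⟨z, hz, hz0⟩ := Submodule.exists_mem_ne_zero_of_ne_bot hne
    obtain ⟨p, hp, q, hq, rfl⟩ := Submodule.mem_sup.1 hz.1
    obtain ⟨r, rfl⟩ := Submodule.mem_span_singleton.1 hq
    refine ⟨r, ⟨p + r • y, hz.2⟩, ?_, fun e => hz0 (congrArg Subtype.val e)⟩
    show r • P.mkQ y = P.mkQ (p + r • y)
    rw [map_add, show P.mkQ p = 0 from (Submodule.Quotient.mk_eq_zero P).2 hp, zero_add, map_smul]
  obtain ⟨h, hh, hhi⟩ := hI E' Q i (fun g m hm => ⟨m.1, hm, rfl⟩) hii E.subtype (fun g m hm => hm)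
  have hhi' : ∀ z : E, h (i z) = z := fun z => LinearMap.congr_fun hhi z
  have hkey : ∀ (g : ι) (y : I), y ∈ ℐ g → P.mkQ y ≠ 0 →
      ∃ (r : R) (z : E), r • h (P.mkQ y) = z ∧ z ≠ 0 := fun g y hy hy0 => by
    obtain ⟨r, z, hz, hz0⟩ := hiess g y hy hy0
    exact ⟨r, z, (map_smul h r _).symm.trans ((congrArg h hz).trans (hhi' z)), hz0⟩
  have hgr : GrLC.IsGrHom ℐ ℐ (h ∘ₗ P.mkQ) := fun g m hm => hh g _ ⟨m, hm, rfl⟩
  have hsurE : LinearMap.range (h ∘ₗ P.mkQ) = E := by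
    refine le_antisymm (hEmax.2 ⟨range_isHomogeneous hgr, ?_, ?_⟩ ?_) ?_
    · exact hEM.trans fun z hz => ⟨z, hhi' ⟨z, hz⟩⟩
    · rintro g _ hx ⟨y, rfl⟩ hx0
      have hy : (h ∘ₗ P.mkQ) (pr ℐ g y) = (h ∘ₗ P.mkQ) y := by
        rw [map_pr hgr, pr_self ℐ hx]
      rw [← hy] at hx0 ⊢
      have hy0 : P.mkQ (pr ℐ g y) ≠ 0 := fun e => hx0 ((congrArg h e).trans (map_zero h))
      obtain ⟨r, z, hz, hz0⟩ := hkey g _ (pr_mem ℐ g y) hy0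
      obtain ⟨j, hj⟩ := exists_pr_ne_zero ℐ (x := (z : I)) fun e => hz0 (Subtype.ext e)
      have hzj : pr ℐ j z = pr 𝒜 (j - g) r • (h ∘ₗ P.mkQ) (pr ℐ g y) := by
        rw [← hz]
        exact pr_smul_mem 𝒜 ℐ (hgr g _ (pr_mem ℐ g y)) r j
      obtain ⟨s, hs, hs0⟩ := hEess j _ (pr_mem ℐ j _) (hEh j z.2) hj
      exact ⟨s * pr 𝒜 (j - g) r, by rw [mul_smul, ← hzj]; exact hs, by rw [mul_smul, ← hzj]; exact hs0⟩
    · exact fun z hz => ⟨z, hhi' ⟨z, hz⟩⟩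
    · exact fun z hz => ⟨z, hhi' ⟨z, hz⟩⟩
  let π : I →ₗ[R] E := (h ∘ₗ P.mkQ).codRestrict E fun x => hsurE.le ⟨x, rfl⟩
  have hπ : ∀ z : E, π z = z := fun z => Subtype.ext (hhi' z)
  have hstar : GrLC.IsStarInj 𝒜 E'.gr := by
    intro A B f hf hfi φ hφ
    obtain ⟨ψ, hψ, hψf⟩ := hI A B f hf hfi (E.subtype ∘ₗ φ) (fun g m hm => hφ g m hm)
    exact ⟨π ∘ₗ ψ, fun g m hm => hgr g _ (hψ g m hm), LinearMap.ext fun a =>
      (congrArg π (LinearMap.congr_fun hψf a)).trans (hπ (φ a))⟩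
  let f : M →ₗ[R] E := e.codRestrict E fun m => hEM ⟨m, rfl⟩
  refine ⟨E', f, E.subtype, ⟨isStarEss_of (fun a b hab => hinj (congrArg Subtype.val hab))
    (fun g m hm => he g m hm) ?_, hstar⟩, fun g m hm => hm, E.subtype_injective, rfl⟩
  intro g (x : E) (hx : (x : I) ∈ ℐ g) hx0
  obtain ⟨r, ⟨m, hm⟩, hr0⟩ := hEess g x hx x.2 fun e => hx0 (Subtype.ext e)
  exact ⟨r, ⟨m, Subtype.ext hm⟩, fun e => hr0 (congrArg Subtype.val e)⟩

end GrModLib
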