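import Groth.Agent.GrModLib.Van

/-! Koszul complexes of elements of degree one and Castelnuovo–Mumford vanishing. -/

set_option autoImplicit false
universe u

open DirectSum

namespace GrModLib

section Torsion

variable {R : Type u} [CommRing R] {M : Type u} [AddCommGroup M] [Module R M]

/-- An element killed by powers of generators is torsion. -/
theorem mem_gam_of_pow [IsNoetherianRing R] {I : Ideal R} {S : Set R} (hI : I = Ideal.span S) {z : M}
    (h : ∀ x ∈ S, ∃ N : ℕ, x ^ N • z = 0) : z ∈ GrLC.gam I M := by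
  have hle : I ≤ ((R ∙ z).annihilator).radical := by
    rw [hI, Ideal.span_le]
    intro x hx
    obtain ⟨N, hN⟩ := h x hx
    exact ⟨N, (Submodule.mem_annihilator_span_singleton _ _).2 hN⟩
  obtain ⟨k, hk⟩ := Ideal.exists_pow_le_of_le_radical_of_fg hle (IsNoetherian.noetherian _)
  exact ⟨k, fun r hr => (Submodule.mem_annihilator_span_singleton _ _).1 (hk hr)⟩

/-- The homology of a cone is killed by powers of what kills the homology of the complex. -/
theorem cone_tors {A B C D : Type u} [AddCommGroup A] [Module R A] [AddCommGroup B] [Module R B]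
    [AddCommGroup C] [Module R C] [AddCommGroup D] [Module R D]
    (d₂ : A →ₗ[R] B) (d₁ : B →ₗ[R] C) (d₀ : C →ₗ[R] D) (x y : R)
    (hA : y = x ∨ ∀ z, d₁ z = 0 → ∃ N : ℕ, y ^ N • z ∈ LinearMap.range d₂)
    (hB : y = x ∨ ∀ z, d₀ z = 0 → ∃ N : ℕ, y ^ N • z ∈ LinearMap.range d₁)
    (u : B) (w : C) (h1 : d₁ u + x • w = 0) (h2 : d₀ w = 0) :
    ∃ (N : ℕ) (p : A × B), d₂ p.1 + x • p.2 = y ^ N • u ∧ -d₁ p.2 = y ^ N • w := by
  have hx : y = x → ∃ (N : ℕ) (p : A × B), d₂ p.1 + x • p.2 = y ^ N • u ∧ -d₁ p.2 = y ^ N • w := fun e =>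
    ⟨1, (0, u), by rw [map_zero, zero_add, e, pow_one],
      by rw [e, pow_one]; exact neg_eq_of_add_eq_zero_right h1⟩
  rcases hA with hA | hA
  · exact hx hA
  rcases hB with hB | hB
  · exact hx hB
  obtain ⟨N₁, c, hc⟩ := hB w h2
  obtain ⟨N₂, e, he⟩ := hA (y ^ N₁ • u + x • c) (by
    rw [map_add, map_smul, map_smul, hc, smul_comm x (y ^ N₁) w, ← smul_add, h1, smul_zero])
  refine ⟨N₂ + N₁, (e, -(y ^ N₂ • c)), ?_, ?_⟩
  · show d₂ e + x • -(y ^ N₂ • c) = y ^ (N₂ + N₁) • u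
    rw [he, smul_add, ← mul_smul, ← pow_add, smul_neg, smul_comm x (y ^ N₂) c, add_neg_cancel_right]
  · show -d₁ (-(y ^ N₂ • c)) = y ^ (N₂ + N₁) • w
    rw [map_neg, neg_neg, map_smul, hc, ← mul_smul, ← pow_add]

end Torsion

variable {R : Type u} [CommRing R] {𝒜 : ℤ → AddSubgroup R} [GradedRing 𝒜]
  {M : Type u} [AddCommGroup M] [Module R M] {ℳ : ℤ → AddSubgroup M} [DirectSum.Decomposition ℳ]
  [SetLike.GradedSMul 𝒜 ℳ] (a : HomogeneousIdeal 𝒜)

variable (ℳ) in
/-- The positive part of a Koszul complex on degree one elements, augmented to the module. -/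
structure KosCx (L : List R) where
  /-- the terms -/
  X : ℕ → GrLC.GMod.{u} 𝒜
  /-- the differentials -/
  d : ∀ p, (X (p + 1)).carrier →ₗ[R] (X p).carrier
  /-- the augmentation -/
  aug : (X 0).carrier →ₗ[R] M
  d_deg : ∀ p, GrLC.IsGrHomDeg (X (p + 1)).gr (X p).gr (d p) 1
  aug_deg : GrLC.IsGrHomDeg (X 0).gr ℳ aug 1
  aug_d : aug ∘ₗ d 0 = 0
  d_d : ∀ p, d p ∘ₗ d (p + 1) = 0
  range_aug : LinearMap.range aug ≤ a.toIdeal • ⊤
  van : ∀ p q m, Van a ℳ q m → Van a (X p).gr q m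
  bound : ∀ p, L.length ≤ p → Subsingleton (X p).carrier
  tors₀ : ∀ x ∈ L, ∀ z : M, ∃ N : ℕ, x ^ N • z ∈ LinearMap.range aug
  tors₁ : ∀ x ∈ L, ∀ z, aug z = 0 → ∃ N : ℕ, x ^ N • z ∈ LinearMap.range (d 0)
  tors : ∀ x ∈ L, ∀ p z, d p z = 0 → ∃ N : ℕ, x ^ N • z ∈ LinearMap.range (d (p + 1))

theorem van_prodG [IsNoetherianRing R] {X Y : GrLC.GMod.{u} 𝒜} {q : ℕ} {m : ℤ} (hX : Van a X.gr q m)
    (hY : Van a Y.gr q m) : Van a (prodG X Y 0 0).gr q m :=
  van_midG X (prodG X Y 0 0) Y (LinearMap.inl R X.carrier Y.carrier) (LinearMap.snd R X.carrier Y.carrier)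
    (d := 0) (e := 0)
    (fun g x hx => ⟨by show x ∈ X.gr (g + 0 - 0); simpa using hx, zero_mem _⟩) (fun g x hx => hx.2)
    LinearMap.inl_injective LinearMap.snd_surjective
    (LinearMap.range_inl R X.carrier Y.carrier).symm (add_zero m) (add_zero m) hX hY

variable {a}

theorem smul_deg {X : GrLC.GMod.{u} 𝒜} {x : R} (hx : x ∈ 𝒜 1) {g : ℤ} {m : X.carrier} (hm : m ∈ X.gr g) :
    x • m ∈ X.gr (g + 1) := by rw [add_comm]; exact smul_mem 𝒜 X.gr hx hm

theorem exists_cons [IsNoetherianRing R] {L : List R} (K : KosCx (ℳ := ℳ) a L) {x : R} (hx : x ∈ 𝒜 1)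
    (hxa : x ∈ a.toIdeal) : Nonempty (KosCx (ℳ := ℳ) a (x :: L)) := by
  let X' : ℕ → GrLC.GMod.{u} 𝒜 := fun p => match p with
    | 0 => prodG (K.X 0) (GrLC.GMod.of 𝒜 M ℳ) 0 0
    | p + 1 => prodG (K.X (p + 1)) (K.X p) 0 0
  let aug' : (X' 0).carrier →ₗ[R] M := K.aug.coprod (x • (LinearMap.id : M →ₗ[R] M))
  let d' : ∀ p, (X' (p + 1)).carrier →ₗ[R] (X' p).carrier := fun p => match p with
    | 0 => LinearMap.prod ((K.d 0).coprod (x • LinearMap.id)) (-(K.aug ∘ₗ LinearMap.snd R _ _))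
    | p + 1 => LinearMap.prod ((K.d (p + 1)).coprod (x • LinearMap.id)) (-(K.d p ∘ₗ LinearMap.snd R _ _))
  have hmem : ∀ {Y : GrLC.GMod.{u} 𝒜} {g : ℤ} {m : Y.carrier}, m ∈ Y.gr (g + 0) → x • m ∈ Y.gr (g + 1) :=
    fun hm => smul_deg hx (by rwa [add_zero] at hm)
  have hdd : ∀ z, K.aug (K.d 0 z) = 0 := LinearMap.congr_fun K.aug_d
  refine ⟨{ X := X', d := d', aug := aug', d_deg := ?_, aug_deg := ?_, aug_d := ?_, d_d := ?_, range_aug := ?_,
            van := ?_, bound := ?_, tors₀ := ?_, tors₁ := ?_, tors := ?_ }⟩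
  · rintro (_ | p) g ⟨u, w⟩ ⟨hu, hw⟩
    · refine ⟨?_, ?_⟩
      · show K.d 0 u + x • w ∈ (K.X 0).gr (g + 1 - 0)
        rw [sub_zero]
        exact add_mem (by simpa using K.d_deg 0 _ _ hu) (hmem hw)
      · show -K.aug w ∈ ℳ (g + 1 + 0)
        exact neg_mem (by simpa using K.aug_deg _ _ hw)
    · refine ⟨?_, ?_⟩
      · show K.d (p + 1) u + x • w ∈ (K.X (p + 1)).gr (g + 1 - 0)
        rw [sub_zero]
        exact add_mem (by simpa using K.d_deg (p + 1) _ _ hu) (hmem hw)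
      · show -K.d p w ∈ (K.X p).gr (g + 1 + 0)
        exact neg_mem (by simpa using K.d_deg p _ _ hw)
  · rintro g ⟨u, w⟩ ⟨hu, hw⟩
    change M at w
    show K.aug u + x • w ∈ ℳ (g + 1)
    exact add_mem (by simpa using K.aug_deg _ _ hu) (hmem (Y := GrLC.GMod.of 𝒜 M ℳ) hw)
  · refine LinearMap.ext fun ⟨u, w⟩ => ?_
    show K.aug (K.d 0 u + x • w) + x • -K.aug w = 0
    rw [map_add, map_smul, hdd, zero_add, smul_neg, add_neg_cancel]
  · rintro (_ | p)
    · refine LinearMap.ext fun ⟨u, w⟩ => Prod.ext ?_ ?_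
      · show K.d 0 (K.d 1 u + x • w) + x • -K.d 0 w = 0
        rw [map_add, map_smul, show K.d 0 (K.d 1 u) = 0 from LinearMap.congr_fun (K.d_d 0) u, zero_add, smul_neg,
          add_neg_cancel]
      · show -K.aug (-K.d 0 w) = 0
        rw [map_neg, neg_neg, hdd]
    · refine LinearMap.ext fun ⟨u, w⟩ => Prod.ext ?_ ?_
      · show K.d (p + 1) (K.d (p + 2) u + x • w) + x • -K.d (p + 1) w = 0
        rw [map_add, map_smul, show K.d (p + 1) (K.d (p + 2) u) = 0 from LinearMap.congr_fun (K.d_d (p + 1)) u,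
          zero_add, smul_neg, add_neg_cancel]
      · show -K.d p (-K.d (p + 1) w) = 0
        rw [map_neg, neg_neg]
        exact LinearMap.congr_fun (K.d_d p) w
  · rintro _ ⟨⟨u, w⟩, rfl⟩
    exact add_mem (K.range_aug ⟨u, rfl⟩) (Submodule.smul_mem_smul hxa (Submodule.mem_top (R := R) (x := w)))
  · rintro (_ | p) q m h
    · exact van_prodG a (K.van 0 q m h) (show Van a (GrLC.GMod.of 𝒜 M ℳ).gr q m from h)
    · exact van_prodG a (K.van (p + 1) q m h) (K.van p q m h)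
  · intro p hp
    obtain ⟨p, rfl⟩ : ∃ k, p = k + 1 := ⟨p - 1, by simp at hp; omega⟩
    simp only [List.length_cons, Nat.succ_le_succ_iff, Nat.add_le_add_iff_right] at hp
    haveI := K.bound p hp
    haveI := K.bound (p + 1) (by omega)
    exact inferInstanceAs (Subsingleton ((K.X (p + 1)).carrier × (K.X p).carrier))
  · intro y hy z
    rcases List.mem_cons.1 hy with rfl | hy
    · exact ⟨1, (0, z), by
        show K.aug 0 + y • z = y ^ 1 • z
        rw [map_zero, zero_add, pow_one]⟩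
    · obtain ⟨N, u, hu⟩ := K.tors₀ y hy z
      exact ⟨N, (u, 0), by
        show K.aug u + x • (0 : M) = y ^ N • z
        rw [smul_zero, add_zero, hu]⟩
  · rintro y hy ⟨u, w⟩ h
    obtain ⟨N, q, h1, h2⟩ := cone_tors (K.d 0) K.aug (0 : M →ₗ[R] M) x y
      ((List.mem_cons.1 hy).imp id fun hy => K.tors₁ y hy)
      ((List.mem_cons.1 hy).imp id fun hy z _ => K.tors₀ y hy z) u w h rfl
    exact ⟨N, q, Prod.ext h1 h2⟩
  · rintro y hy (_ | p) ⟨u, w⟩ h
    · obtain ⟨N, q, h1, h2⟩ := cone_tors (K.d 1) (K.d 0) K.aug x y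
        ((List.mem_cons.1 hy).imp id fun hy => K.tors y hy 0)
        ((List.mem_cons.1 hy).imp id fun hy => K.tors₁ y hy) u w (congrArg Prod.fst h)
        (neg_eq_zero.1 (congrArg Prod.snd h))
      exact ⟨N, q, Prod.ext h1 h2⟩
    · obtain ⟨N, q, h1, h2⟩ := cone_tors (K.d (p + 2)) (K.d (p + 1)) (K.d p) x y
        ((List.mem_cons.1 hy).imp id fun hy => K.tors y hy (p + 1))
        ((List.mem_cons.1 hy).imp id fun hy => K.tors y hy p) u w (congrArg Prod.fst h)
        (neg_eq_zero.1 (congrArg Prod.snd h))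
      exact ⟨N, q, Prod.ext h1 h2⟩

/-- Koszul complexes exist. -/
theorem nonempty_kosCx [IsNoetherianRing R] : ∀ L : List R, (∀ x ∈ L, x ∈ 𝒜 1 ∧ x ∈ a.toIdeal) →
    Nonempty (KosCx (ℳ := ℳ) a L)
  | [], _ => by
    let Z : GrLC.GMod.{u} 𝒜 := subG 𝒜 (ℳ := ℳ) ⊥ (bot_isHomogeneous ℳ)
    haveI : Subsingleton Z.carrier := inferInstanceAs (Subsingleton (⊥ : Submodule R M))
    exact ⟨{ X := fun _ => Z, d := fun _ => 0, aug := 0
             d_deg := fun _ => IsGrHomDeg.zero 1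
             aug_deg := IsGrHomDeg.zero 1
             aug_d := LinearMap.zero_comp _
             d_d := fun _ => LinearMap.zero_comp _
             range_aug := by rw [LinearMap.range_zero]; exact bot_le
             van := fun _ q m _ => van_of_subsingleton q m
             bound := fun _ _ => inferInstance
             tors₀ := fun _ h => absurd h List.not_mem_nil
             tors₁ := fun _ h => absurd h List.not_mem_nil
             tors := fun _ h => absurd h List.not_mem_nil }⟩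
  | x :: L, h => by
    obtain ⟨K⟩ := nonempty_kosCx L fun y hy => h y (List.mem_cons_of_mem _ hy)
    exact exists_cons K (h x (List.mem_cons_self ..)).1 (h x (List.mem_cons_self ..)).2

theorem range_isHomogeneous_deg {A B : Type u} [AddCommGroup A] [Module R A] [AddCommGroup B] [Module R B]
    {𝒶 : ℤ → AddSubgroup A} [DirectSum.Decomposition 𝒶] {𝒷 : ℤ → AddSubgroup B} [DirectSum.Decomposition 𝒷]
    {f : A →ₗ[R] B} {d : ℤ} (hf : GrLC.IsGrHomDeg 𝒶 𝒷 f d) : (LinearMap.range f).IsHomogeneous 𝒷 := by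
  rintro g _ ⟨x, rfl⟩
  refine ⟨pr 𝒶 (g - d) x, ?_⟩
  rw [map_pr_deg hf, sub_add_cancel]
  rfl

/-- Vanishing for the image of a map of degree one whose homology is torsion. -/
theorem van_range [IsNoetherianRing R] {A B : Type u} [AddCommGroup A] [Module R A] [AddCommGroup B] [Module R B]
    {𝒶 : ℤ → AddSubgroup A} [DirectSum.Decomposition 𝒶] [SetLike.GradedSMul 𝒜 𝒶]
    {𝒷 : ℤ → AddSubgroup B} [DirectSum.Decomposition 𝒷] [SetLike.GradedSMul 𝒜 𝒷]
    {u : A →ₗ[R] B} (hu : GrLC.IsGrHomDeg 𝒶 𝒷 u 1) (P : Submodule R A) (hP : P.IsHomogeneous 𝒶)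
    (hPu : P ≤ LinearMap.ker u) (htors : ∀ z, u z = 0 → ∃ k : ℕ, ∀ r ∈ a.toIdeal ^ k, r • z ∈ P)
    {q : ℕ} {n : ℤ} (hA : Van a 𝒶 q n) (hPv : Van a (subG 𝒜 (ℳ := 𝒶) P hP).gr (q + 1) n) :
    Van a (subG 𝒜 (ℳ := 𝒷) (LinearMap.range u) (range_isHomogeneous_deg hu)).gr q (n + 1) := by
  let Z := subG 𝒜 (ℳ := 𝒶) (LinearMap.ker u) (ker_isHomogeneous_deg hu)
  let W : Submodule R Z.carrier := P.comap (LinearMap.ker u).subtype
  have hW : W.IsHomogeneous Z.gr :=
    comap_isHomogeneous (ℳ := Z.gr) (f := (LinearMap.ker u).subtype) (fun g m hm => hm) hP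
  let Q := quotG 𝒜 (ℳ := Z.gr) W hW
  have hQ : GrLC.gam a.toIdeal Q.carrier = ⊤ := by
    refine eq_top_iff.2 fun y _ => ?_
    obtain ⟨⟨z, hz⟩, rfl⟩ := Submodule.mkQ_surjective W y
    obtain ⟨k, hk⟩ := htors z hz
    exact ⟨k, fun r hr => (Submodule.Quotient.mk_eq_zero W).2 (hk r hr)⟩
  have hZ : Van a Z.gr (q + 1) n :=
    van_midG (subG 𝒜 (ℳ := 𝒶) P hP) Z Q (Submodule.inclusion hPu) W.mkQ (d := 0) (e := 0) (fun g m hm => by rw [add_zero]; exact hm)
      (fun g m hm => by rw [add_zero]; exact ⟨m, hm, rfl⟩) (Submodule.inclusion_injective hPu)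
      (Submodule.mkQ_surjective W) ((Submodule.ker_mkQ W).trans (Submodule.range_inclusion P _ hPu).symm) (add_zero n) (add_zero n)
      hPv (van_of_torsion hQ (Nat.le_add_left 1 q) n)
  exact van_rightG Z (GrLC.GMod.of 𝒜 A 𝒶) (subG 𝒜 (ℳ := 𝒷) (LinearMap.range u) (range_isHomogeneous_deg hu))
    (LinearMap.ker u).subtype u.rangeRestrict (d := 0) (e := 1)
    (fun g m hm => by rw [add_zero]; exact hm) (fun g m hm => hu g m hm) (Submodule.injective_subtype _)
    u.surjective_rangeRestrict (u.ker_rangeRestrict.trans (LinearMap.ker u).range_subtype.symm) (add_zero n) rfl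
    hA hZ

theorem torsion_of_pow [IsNoetherianRing R] {A : Type u} [AddCommGroup A] [Module R A] (P : Submodule R A)
    {L : List R} (hL : a.toIdeal = Ideal.span {x | x ∈ L}) (z : A) (h : ∀ x ∈ L, ∃ N : ℕ, x ^ N • z ∈ P) :
    ∃ k : ℕ, ∀ r ∈ a.toIdeal ^ k, r • z ∈ P := by
  obtain ⟨k, hk⟩ := mem_gam_of_pow (z := P.mkQ z) hL fun x hx => (h x hx).imp fun N hN => by
    rw [← map_smul]; exact (Submodule.Quotient.mk_eq_zero P).2 hN
  exact ⟨k, fun r hr => (Submodule.Quotient.mk_eq_zero P).1 (((P.mkQ).map_smul r z).trans (hk r hr))⟩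

/-- Vanishing of the cohomology of `aM`, up to torsion, one degree up. -/
theorem exists_van_aug [IsNoetherianRing R] (hspan : a.toIdeal = Ideal.span ((𝒜 1 : AddSubgroup R) : Set R))
    {q : ℕ} {n : ℤ} (hq : 1 ≤ q) (h : ∀ j : ℕ, Van a ℳ (q + j) (n - j)) :
    ∃ (B : Submodule R M) (hB : B.IsHomogeneous ℳ), B ≤ a.toIdeal • ⊤ ∧
      GrLC.gam a.toIdeal (quotG 𝒜 (ℳ := ℳ) B hB).carrier = ⊤ ∧
      Van a (subG 𝒜 (ℳ := ℳ) B hB).gr q (n + 1) := by
  obtain ⟨s, hs, hsspan⟩ := (Submodule.fg_span_iff_fg_span_finset_subset _).1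
    (IsNoetherian.noetherian (Ideal.span ((𝒜 1 : AddSubgroup R) : Set R)))
  have hL : a.toIdeal = Ideal.span {x | x ∈ s.toList} := by
    rw [hspan, show {x | x ∈ s.toList} = (s : Set R) by ext; simp]
    exact hsspan
  obtain ⟨K⟩ := nonempty_kosCx (ℳ := ℳ) (a := a) s.toList fun x hx =>
    ⟨hs (Finset.mem_toList.1 hx), hL ▸ Ideal.subset_span hx⟩
  have key : ∀ (k p q : ℕ) (n : ℤ), s.toList.length ≤ p + k → 1 ≤ q → (∀ j : ℕ, Van a ℳ (q + j) (n - j)) →
      Van a (subG 𝒜 (ℳ := (K.X p).gr) (LinearMap.range (K.d p)) (range_isHomogeneous_deg (K.d_deg p))).gr q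
        (n + 1) := by
    intro k
    induction k with
    | zero =>
      intro p q n hp hq _
      haveI := K.bound p (by omega)
      haveI : Subsingleton (subG 𝒜 (ℳ := (K.X p).gr) (LinearMap.range (K.d p))
          (range_isHomogeneous_deg (K.d_deg p))).carrier :=
        inferInstanceAs (Subsingleton (LinearMap.range (K.d p)))
      exact van_of_subsingleton q (n + 1)
    | succ k ih =>
      intro p q n hp hq h
      refine van_range (K.d_deg p) _ (range_isHomogeneous_deg (K.d_deg (p + 1))) ?_ ?_ (K.van (p + 1) q n ?_) ?_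
      · rintro _ ⟨c, rfl⟩; exact LinearMap.congr_fun (K.d_d p) c
      · exact fun z hz => torsion_of_pow _ hL z fun x hx => K.tors x hx p z hz
      · simpa using h 0
      · rw [show n = n - 1 + 1 by ring]
        refine ih (p + 1) (q + 1) (n - 1) (by omega) (by omega) fun j => ?_
        have := h (j + 1)
        rw [show q + 1 + j = q + (j + 1) by omega, show n - 1 - (j : ℤ) = n - ((j + 1 : ℕ) : ℤ) by push_cast; ring]
        exact this
  refine ⟨LinearMap.range K.aug, range_isHomogeneous_deg K.aug_deg, K.range_aug, ?_, ?_⟩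
  · refine eq_top_iff.2 fun y _ => ?_
    obtain ⟨z, rfl⟩ := Submodule.mkQ_surjective (LinearMap.range K.aug) y
    obtain ⟨k, hk⟩ := torsion_of_pow (LinearMap.range K.aug) hL z fun x hx => K.tors₀ x hx z
    exact ⟨k, fun r hr => (Submodule.Quotient.mk_eq_zero (LinearMap.range K.aug)).2 (hk r hr)⟩
  · refine van_range K.aug_deg _ (range_isHomogeneous_deg (K.d_deg 0)) ?_ ?_ (K.van 0 q n ?_) ?_
    · rintro _ ⟨c, rfl⟩; exact LinearMap.congr_fun K.aug_d c
    · exact fun z hz => torsion_of_pow _ hL z fun x hx => K.tors₁ x hx z hz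
    · simpa using h 0
    · rw [show n = n - 1 + 1 by ring]
      refine key s.toList.length 0 (q + 1) (n - 1) (by omega) (by omega) fun j => ?_
      have := h (j + 1)
      rw [show q + 1 + j = q + (j + 1) by omega, show n - 1 - (j : ℤ) = n - ((j + 1 : ℕ) : ℤ) by push_cast; ring]
      exact this

/-- Castelnuovo–Mumford: vanishing on a diagonal propagates to the next one. -/
theorem van_diag [IsNoetherianRing R] (hspan : a.toIdeal = Ideal.span ((𝒜 1 : AddSubgroup R) : Set R))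
    {l : ℕ} (hl : 1 ≤ l) {σ : ℤ} (h : ∀ i : ℕ, l ≤ i → Van a ℳ i (σ - i)) (i : ℕ) (hi : l ≤ i) :
    Van a ℳ i (σ + 1 - i) := by
  obtain ⟨B, hB, -, htors, hvan⟩ := exists_van_aug (ℳ := ℳ) hspan (q := i) (n := σ - i) (by omega) fun j => by
    have := h (i + j) (by omega)
    rwa [show σ - ((i + j : ℕ) : ℤ) = σ - i - j by push_cast; ring] at this
  exact van_midG (subG 𝒜 (ℳ := ℳ) B hB) (GrLC.GMod.of 𝒜 M ℳ) (quotG 𝒜 (ℳ := ℳ) B hB)
    B.subtype B.mkQ (d := 0) (e := 0) (fun g m hm => by rw [add_zero]; exact hm)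
    (fun g m hm => by rw [add_zero]; exact ⟨m, hm, rfl⟩) (Submodule.injective_subtype B)
    (Submodule.mkQ_surjective B) ((Submodule.ker_mkQ B).trans B.range_subtype.symm)
    (show (σ - i + 1) + 0 = σ + 1 - i by ring) (add_zero _) hvan (van_of_torsion htors (by omega) _)

/-- A piece of degree beyond the regularity lies in `aM`. -/
theorem mem_smul_top [IsNoetherianRing R] (hspan : a.toIdeal = Ideal.span ((𝒜 1 : AddSubgroup R) : Set R))
    {s : ℤ} (h : ∀ j : ℕ, Van a ℳ (j + 1) (s - 1 - j)) (h0 : Van a ℳ 0 s) {y : M} (hy : y ∈ ℳ s) :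
    y ∈ a.toIdeal • (⊤ : Submodule R M) := by
  obtain ⟨B, hB, hle, htors, hvan⟩ := exists_van_aug (ℳ := ℳ) hspan (q := 1) (n := s - 1) le_rfl fun j => by
    rw [add_comm 1 j]; exact h j
  have hQ : Van a (quotG 𝒜 (ℳ := ℳ) B hB).gr 0 s :=
    van_rightG (subG 𝒜 (ℳ := ℳ) B hB) (GrLC.GMod.of 𝒜 M ℳ) (quotG 𝒜 (ℳ := ℳ) B hB) B.subtype B.mkQ (d := 0) (e := 0)
      (fun g m hm => by rw [add_zero]; exact hm) (fun g m hm => by rw [add_zero]; exact ⟨m, hm, rfl⟩)
      (Submodule.injective_subtype B) (Submodule.mkQ_surjective B)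
      ((Submodule.ker_mkQ B).trans B.range_subtype.symm) (show s - 1 + 1 + 0 = s by ring) (add_zero s) h0 hvan
  exact hle ((Submodule.Quotient.mk_eq_zero B).1
    (eq_zero_of_van_zero hQ ⟨y, hy, rfl⟩ (htors.ge Submodule.mem_top)))

end GrModLib
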