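import Groth.Agent.GrModLib.StdField

/-! Monotone Hilbert functions in positive depth, by the substitution of powers of one variable. -/

set_option autoImplicit false
universe u

open DirectSum

namespace GrModLib

theorem finrank_le_of_kronecker {K : Type u} [CommRing K] (hK : IsField K) {M M' : Type u} [AddCommGroup M]
    [Module K M] [AddCommGroup M'] [Module K M'] [IsNoetherian K M] [IsNoetherian K M'] {e : ℕ}
    (h : ∀ N : ℕ, ∃ Φ : (Fin N → M) →ₗ[K] (Fin (N + e) → M'), Function.Injective Φ) :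
    Module.finrank K M ≤ Module.finrank K M' := by
  letI := hK.toField
  by_contra hlt
  rw [not_le] at hlt
  obtain ⟨Φ, hΦ⟩ := h (Module.finrank K M' * e + 1)
  have h1 := LinearMap.finrank_le_finrank_of_injective hΦ
  rw [Module.finrank_pi_fintype, Module.finrank_pi_fintype] at h1
  simp only [Finset.sum_const, Finset.card_univ, Fintype.card_fin, smul_eq_mul] at h1
  nlinarith [Nat.mul_le_mul_left (Module.finrank K M' * e + 1) hlt]

variable {R : Type u} [CommRing R] [IsNoetherianRing R] {𝒜 : ℤ → AddSubgroup R} [GradedRing 𝒜]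

omit [IsNoetherianRing R] in
theorem isStarLocal_posIdeal (hpos : ∀ n : ℤ, n < 0 → 𝒜 n = ⊥) (h0 : IsField (GrLC.deg0 𝒜)) :
    GrLC.IsStarLocal 𝒜 (posIdeal 𝒜) := by
  have hle : ∀ J : HomogeneousIdeal 𝒜, J ≠ ⊤ → J ≤ posIdeal 𝒜 := by
    intro J hJ z hz
    obtain ⟨t, -, ht⟩ := exists_finset 𝒜 z
    rw [← ht]
    refine sum_mem fun j _ => ?_
    rcases lt_trichotomy j 0 with hj | hj | hj
    · rw [eq_zero_of_neg hpos hj (pr_mem 𝒜 j z)]; exact zero_mem _
    · subst hj
      by_cases hne : pr 𝒜 0 z = 0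
      · rw [hne]; exact zero_mem _
      · obtain ⟨d, hd⟩ := h0.mul_inv_cancel (show (⟨pr 𝒜 0 z, pr_mem 𝒜 0 z⟩ : GrLC.deg0 𝒜) ≠ 0 from
          fun h => hne (congrArg Subtype.val h))
        exact absurd (HomogeneousIdeal.ext ((Ideal.eq_top_iff_one _).2 (by
          have h1 : pr 𝒜 0 z * (d : R) = 1 := congrArg Subtype.val hd
          rw [← h1]
          exact J.toIdeal.mul_mem_right _ (J.isHomogeneous 0 hz)))) hJ
    · exact mem_posIdeal hj (pr_mem 𝒜 j z)
  have hne : posIdeal 𝒜 ≠ ⊤ := fun h => by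
    have h1 : (1 : R) ∈ (posIdeal 𝒜).toIdeal := by rw [h, HomogeneousIdeal.toIdeal_top]; exact Submodule.mem_top
    have h2 := pr_zero_posIdeal hpos 1 h1
    rw [pr_self 𝒜 (SetLike.one_mem_graded 𝒜)] at h2
    obtain ⟨a, b, hab⟩ := h0.exists_pair_ne
    exact hab (Subtype.ext (by rw [← mul_one (a : R), ← mul_one (b : R), h2, mul_zero, mul_zero]))
  refine ⟨⟨hne, fun J hJ => by_contra fun hJt => hJ.not_ge (hle J hJt)⟩, fun J hJ => ?_⟩
  exact (hJ.le_iff.1 (hle J hJ.1)).resolve_left hne |>.symm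

/-- Kronecker substitution: an injective map of sequences. -/
theorem exists_kronecker (hstd : (posIdeal 𝒜).toIdeal = Ideal.span ((𝒜 1 : AddSubgroup R) : Set R))
    (hgam : GrLC.gam (posIdeal 𝒜).toIdeal R = ⊥) (n : ℤ) :
    ∃ e : ℕ, ∀ N : ℕ, ∃ Φ : (Fin N → GrLC.comp 𝒜 𝒜 n) →ₗ[GrLC.deg0 𝒜] (Fin (N + e) → GrLC.comp 𝒜 𝒜 (n + 1)),
      Function.Injective Φ := by
  classical
  obtain ⟨s, hs, hspan⟩ := (Submodule.fg_span_iff_fg_span_finset_subset _).1
    (IsNoetherian.noetherian (Ideal.span ((𝒜 1 : AddSubgroup R) : Set R)))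
  let g : Fin s.card → R := fun i => (s.equivFin.symm i).1
  have hg : ∀ i, g i ∈ 𝒜 1 := fun i => hs (s.equivFin.symm i).2
  let L : Polynomial R := ∑ i, Polynomial.C (g i) * Polynomial.X ^ (i : ℕ)
  have hL : L ∈ nonZeroDivisors (Polynomial R) := by
    by_contra hL
    obtain ⟨a, ha, hLa⟩ := Polynomial.notMem_nonZeroDivisors_iff.1 hL
    refine ha ((Submodule.eq_bot_iff _).1 hgam a
      (mem_gam_of_pow (S := (s : Set R)) (hstd.trans hspan) fun y hy => ⟨1, ?_⟩))
    obtain ⟨i, rfl⟩ : ∃ i, g i = y := ⟨s.equivFin ⟨y, hy⟩, by simp [g]⟩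
    have h1 := congrArg (fun F => Polynomial.coeff F (i : ℕ)) hLa
    simp only [L, Polynomial.coeff_smul, Polynomial.finsetSum_coeff, Polynomial.coeff_C_mul, Polynomial.coeff_X_pow,
      Polynomial.coeff_zero, mul_ite, mul_one, mul_zero, Fin.val_inj, Finset.sum_ite_eq, Finset.mem_univ,
      if_true] at h1
    rw [pow_one, smul_eq_mul, mul_comm]
    exact h1
  refine ⟨s.card, fun N => ?_⟩
  let A : Fin s.card → GrLC.comp 𝒜 𝒜 n →ₗ[GrLC.deg0 𝒜] GrLC.comp 𝒜 𝒜 (n + 1) := fun i =>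
    ((g i • (LinearMap.id : R →ₗ[R] R)).restrictScalars (GrLC.deg0 𝒜)).restrict fun y hy => by
      show g i * y ∈ 𝒜 (n + 1)
      rw [add_comm n 1]
      exact SetLike.mul_mem_graded (hg i) hy
  let Φ : (Fin N → GrLC.comp 𝒜 𝒜 n) →ₗ[GrLC.deg0 𝒜] (Fin (N + s.card) → GrLC.comp 𝒜 𝒜 (n + 1)) :=
    LinearMap.pi fun m => ∑ i : Fin s.card, ∑ j : Fin N,
      if (i : ℕ) + (j : ℕ) = (m : ℕ) then (A i).comp (LinearMap.proj j) else 0
  refine ⟨Φ, (injective_iff_map_eq_zero Φ).2 fun v hv => ?_⟩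
  let V : Polynomial R := ∑ j : Fin N, Polynomial.C (v j : R) * Polynomial.X ^ (j : ℕ)
  have hLV : L * V = 0 := by
    ext m
    rw [Polynomial.coeff_zero]
    simp only [L, V, Finset.sum_mul_sum, Polynomial.finsetSum_coeff]
    simp only [show ∀ (i : Fin s.card) (j : Fin N), (Polynomial.C (g i) * Polynomial.X ^ (i : ℕ)) *
        (Polynomial.C (v j : R) * Polynomial.X ^ (j : ℕ)) = Polynomial.C (g i * (v j : R)) * Polynomial.X ^ ((i : ℕ) + j)
        from fun i j => by rw [map_mul, pow_add]; ring,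
      Polynomial.coeff_C_mul, Polynomial.coeff_X_pow, mul_ite, mul_one, mul_zero]
    by_cases hm : m < N + s.card
    · have h1 : ((Φ v ⟨m, hm⟩ : GrLC.comp 𝒜 𝒜 (n + 1)) : R) = 0 := by rw [hv]; rfl
      refine Eq.trans ?_ h1
      simp only [Φ, LinearMap.pi_apply, LinearMap.sum_apply, AddSubmonoidClass.coe_finsetSum]
      refine Finset.sum_congr rfl fun i _ => Finset.sum_congr rfl fun j _ => ?_
      by_cases hij : m = (i : ℕ) + j
      · rw [if_pos hij, if_pos hij.symm]; rfl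
      · rw [if_neg hij, if_neg (fun h => hij h.symm)]; rfl
    · exact Finset.sum_eq_zero fun i _ => Finset.sum_eq_zero fun j _ => if_neg (by omega)
  have hV : V = 0 := hL.1 V hLV
  funext j
  have h1 := congrArg (fun F => Polynomial.coeff F (j : ℕ)) hV
  simp only [V, Polynomial.finsetSum_coeff, Polynomial.coeff_C_mul, Polynomial.coeff_X_pow, Polynomial.coeff_zero,
    mul_ite, mul_one, mul_zero, Fin.val_inj, Finset.sum_ite_eq, Finset.mem_univ, if_true] at h1
  exact Subtype.ext h1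

end GrModLib
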