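import Groth.Agent.GrModLib.Fun

/-! The long exact sequence of graded local cohomology of a short exact sequence of graded modules with
homogeneous maps of arbitrary degrees. -/

set_option autoImplicit false
universe u

open DirectSum

namespace GrModLib

variable {ι : Type} [AddCommGroup ι] [DecidableEq ι] {R : Type u} [CommRing R]
  {𝒜 : ι → AddSubgroup R} [GradedRing 𝒜]

section Prod

variable (X Y : GrLC.GMod.{u} 𝒜) (d e : ι)

/-- The pieces of a product with shifts `-d` and `e`. -/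
def prodGr : ι → AddSubgroup (X.carrier × Y.carrier) := fun g => (X.gr (g - d)).prod (Y.gr (g + e))

theorem prodGr_isInternal : DirectSum.IsInternal (prodGr X Y d e) := by
  refine isInternal_of_pr _ (fun g => ((pr X.gr (g - d)).comp (AddMonoidHom.fst _ _)).prod
    ((pr Y.gr (g + e)).comp (AddMonoidHom.snd _ _))) ?_ ?_ fun x => ?_
  · rintro g ⟨x, y⟩ ⟨hx, hy⟩
    exact Prod.ext (pr_self X.gr hx) (pr_self Y.gr hy)
  · rintro g j ⟨x, y⟩ ⟨hx, hy⟩ h
    exact Prod.ext (pr_ne X.gr hx fun h' => h (sub_left_inj.1 h')) (pr_ne Y.gr hy fun h' => h (add_right_cancel h'))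
  · obtain ⟨s, -, hs⟩ := exists_finset X.gr x.1
    obtain ⟨t, -, ht⟩ := exists_finset Y.gr x.2
    have h1 : ∀ g ∈ s, ((pr X.gr g x.1, 0) : X.carrier × Y.carrier) ∈ ⨆ g, prodGr X Y d e g := fun g _ =>
      AddSubgroup.mem_iSup_of_mem (g + d) ⟨by simpa using pr_mem X.gr g x.1, zero_mem _⟩
    have h2 : ∀ g ∈ t, ((0, pr Y.gr g x.2) : X.carrier × Y.carrier) ∈ ⨆ g, prodGr X Y d e g := fun g _ =>
      AddSubgroup.mem_iSup_of_mem (g - e) ⟨zero_mem _, by simpa using pr_mem Y.gr g x.2⟩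
    have : x = ∑ g ∈ s, ((pr X.gr g x.1, 0) : X.carrier × Y.carrier) + ∑ g ∈ t, (0, pr Y.gr g x.2) :=
      Prod.ext (by simp [Prod.fst_sum, hs]) (by simp [Prod.snd_sum, ht])
    rw [this]
    exact add_mem (sum_mem h1) (sum_mem h2)

/-- The product graded module with shifts `-d` and `e`. -/
noncomputable def prodG : GrLC.GMod.{u} 𝒜 :=
  letI := (prodGr_isInternal X Y d e).chooseDecomposition
  haveI : SetLike.GradedSMul 𝒜 (prodGr X Y d e) := ⟨fun {h g r m} hr hm => by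
    refine ⟨?_, ?_⟩
    · show r • m.1 ∈ X.gr (h + g - d)
      rw [add_sub_assoc]; exact smul_mem 𝒜 X.gr hr hm.1
    · show r • m.2 ∈ Y.gr (h + g + e)
      rw [add_assoc]; exact smul_mem 𝒜 Y.gr hr hm.2⟩
  { carrier := X.carrier × Y.carrier, gr := prodGr X Y d e }

variable {X Y d e}

theorem starInj_prodG (hX : GrLC.IsStarInj 𝒜 X.gr) (hY : GrLC.IsStarInj 𝒜 Y.gr) :
    GrLC.IsStarInj 𝒜 (prodG X Y d e).gr := by
  intro A B u hu hui w hw
  obtain ⟨h1, hh1, hc1⟩ := extend_deg hX A.gr B.gr u hu hui (LinearMap.fst R X.carrier Y.carrier ∘ₗ w) (-d)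
    fun g m hm => by rw [← sub_eq_add_neg]; exact (hw g m hm).1
  obtain ⟨h2, hh2, hc2⟩ := extend_deg hY A.gr B.gr u hu hui (LinearMap.snd R X.carrier Y.carrier ∘ₗ w) e
    fun g m hm => (hw g m hm).2
  refine ⟨h1.prod h2, fun g m hm => ⟨?_, hh2 g m hm⟩, LinearMap.ext fun x => ?_⟩
  · show h1 m ∈ X.gr (g - d)
    rw [sub_eq_add_neg]; exact hh1 g m hm
  · exact Prod.ext (LinearMap.congr_fun hc1 x) (LinearMap.congr_fun hc2 x)

end Prod

theorem gam_prod {I : Ideal R} {X Y : Type u} [AddCommGroup X] [Module R X] [AddCommGroup Y] [Module R Y]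
    {x : X} {y : Y} (hx : x ∈ GrLC.gam I X) (hy : y ∈ GrLC.gam I Y) : ((x, y) : X × Y) ∈ GrLC.gam I (X × Y) := by
  obtain ⟨m, hm⟩ := hx
  obtain ⟨n, hn⟩ := hy
  exact ⟨m + n, fun r hr => Prod.ext (hm r (Ideal.pow_le_pow_right (Nat.le_add_right m n) hr))
    (hn r (Ideal.pow_le_pow_right (Nat.le_add_left n m) hr))⟩

variable {M₁ M₂ M₃ : Type u} [AddCommGroup M₁] [Module R M₁] [AddCommGroup M₂] [Module R M₂]
  [AddCommGroup M₃] [Module R M₃]
  {ℳ₁ : ι → AddSubgroup M₁} [DirectSum.Decomposition ℳ₁] [SetLike.GradedSMul 𝒜 ℳ₁]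
  {ℳ₂ : ι → AddSubgroup M₂} [DirectSum.Decomposition ℳ₂] [SetLike.GradedSMul 𝒜 ℳ₂]
  {ℳ₃ : ι → AddSubgroup M₃} [DirectSum.Decomposition ℳ₃] [SetLike.GradedSMul 𝒜 ℳ₃]
  {f : M₁ →ₗ[R] M₂} {g : M₂ →ₗ[R] M₃} {d e : ι}

/-- The horseshoe resolution with its long exact sequence. -/
theorem exists_horseshoe (hf : GrLC.IsGrHomDeg ℳ₁ ℳ₂ f d) (hg : GrLC.IsGrHomDeg ℳ₂ ℳ₃ g e)
    (hfi : Function.Injective f) (hgs : Function.Surjective g) (hex : LinearMap.ker g = LinearMap.range f)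
    (E₁ : GrLC.StarInjRes 𝒜 ℳ₁) (E₃ : GrLC.StarInjRes 𝒜 ℳ₃) (a : HomogeneousIdeal 𝒜) :
    ∃ (P : GrLC.StarInjRes 𝒜 ℳ₂) (δ : ∀ i, E₃.H a i →ₗ[R] E₁.H a (i + 1)),
      (∀ i, GrLC.IsGrHomDeg (E₃.Hgr a i) (E₁.Hgr a (i + 1)) (δ i) (-(d + e))) ∧
      Function.Injective (Hmap E₁ P a f d hf 0) ∧
      ∀ i, Function.Exact (Hmap E₁ P a f d hf i) (Hmap P E₃ a g e hg i) ∧
        Function.Exact (Hmap P E₃ a g e hg i) (δ i) ∧
        Function.Exact (δ i) (Hmap E₁ P a f d hf (i + 1)) := by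
  have hkey : ∀ y, g (f y) = 0 := fun y => LinearMap.mem_ker.1 (hex.ge ⟨y, rfl⟩)
  obtain ⟨η, hη, hηf⟩ := extend_factor (E₁.starInj 0) ℳ₁ ℳ₂ f hf E₁.ε (d := -d)
    (by rw [add_neg_cancel]; exact ε_deg E₁) (by rw [LinearMap.ker_eq_bot.2 hfi]; exact bot_le)
  have hηf' : ∀ y, η (f y) = E₁.ε y := LinearMap.congr_fun hηf
  let T : ℕ → Type u := fun n => {τ : (E₃.X n).carrier →ₗ[R] (E₁.X (n + 1)).carrier //
    GrLC.IsGrHomDeg (E₃.X n).gr (E₁.X (n + 1)).gr τ (-(d + e)) ∧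
      LinearMap.ker (E₃.d n) ≤ LinearMap.ker (E₁.d (n + 1) ∘ₗ τ)}
  have h0 : ∃ t : T 0, ∀ m, t.1 (E₃.ε (g m)) = -E₁.d 0 (η m) := by
    obtain ⟨t, ht, htc⟩ := extend_factor (E₁.starInj 1) ℳ₂ (E₃.X 0).gr (E₃.ε ∘ₗ g)
      (IsGrHomDeg.comp hg (ε_deg E₃)) (-(E₁.d 0 ∘ₗ η)) (d := -(d + e)) (by
        rw [show e + 0 + -(d + e) = -d + 0 by abel]
        exact IsGrHomDeg.neg (IsGrHomDeg.comp hη (d_deg E₁ 0))) (by
        rintro m hm
        have hm' : g m = 0 := E₃.ε_injective (by rw [map_zero]; exact hm)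
        obtain ⟨y, rfl⟩ : m ∈ LinearMap.range f := hex.le hm'
        show -E₁.d 0 (η (f y)) = 0
        rw [hηf', show E₁.d 0 (E₁.ε y) = 0 from LinearMap.congr_fun (d_comp_ε E₁) y, neg_zero])
    refine ⟨⟨t, ht, ?_⟩, LinearMap.congr_fun htc⟩
    rw [E₃.exact_zero]
    rintro _ ⟨c, rfl⟩
    obtain ⟨m, rfl⟩ := hgs c
    show E₁.d 1 (t (E₃.ε (g m))) = 0
    rw [show t (E₃.ε (g m)) = -E₁.d 0 (η m) from LinearMap.congr_fun htc m, map_neg,
      show E₁.d 1 (E₁.d 0 (η m)) = 0 from LinearMap.congr_fun (d_comp_d E₁ 0) _, neg_zero]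
  have hstep : ∀ n (t : T n), ∃ s : T (n + 1), ∀ c, s.1 (E₃.d n c) = -E₁.d (n + 1) (t.1 c) := fun n t => by
    obtain ⟨s, hs, hsc⟩ := extend_factor (E₁.starInj (n + 2)) (E₃.X n).gr (E₃.X (n + 1)).gr (E₃.d n) (d_deg E₃ n)
      (-(E₁.d (n + 1) ∘ₗ t.1)) (d := -(d + e)) (by
        rw [show (0 : ι) + -(d + e) = -(d + e) + 0 by abel]
        exact IsGrHomDeg.neg (IsGrHomDeg.comp t.2.1 (d_deg E₁ (n + 1))))
      (fun c hc => by
        show -E₁.d (n + 1) (t.1 c) = 0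
        rw [show E₁.d (n + 1) (t.1 c) = 0 from t.2.2 hc, neg_zero])
    refine ⟨⟨s, hs, ?_⟩, LinearMap.congr_fun hsc⟩
    rw [E₃.exact_succ]
    rintro _ ⟨c, rfl⟩
    show E₁.d (n + 2) (s (E₃.d n c)) = 0
    rw [show s (E₃.d n c) = -E₁.d (n + 1) (t.1 c) from LinearMap.congr_fun hsc c, map_neg,
      show E₁.d (n + 2) (E₁.d (n + 1) (t.1 c)) = 0 from LinearMap.congr_fun (d_comp_d E₁ (n + 1)) _, neg_zero]
  obtain ⟨t0, ht0⟩ := h0
  choose q hq using hstep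
  let τ : ∀ n, T n := fun n => Nat.recAux (motive := T) t0 q n
  have hτ : ∀ n c, (τ (n + 1)).1 (E₃.d n c) = -E₁.d (n + 1) ((τ n).1 c) := fun n => hq n (τ n)
  -- the resolution
  let D : ∀ n, (E₁.X n).carrier × (E₃.X n).carrier →ₗ[R] (E₁.X (n + 1)).carrier × (E₃.X (n + 1)).carrier :=
    fun n => ((E₁.d n).coprod (τ n).1).prod (E₃.d n ∘ₗ LinearMap.snd R _ _)
  have hτmem : ∀ n j b, b ∈ (E₃.X n).gr (j + e) → (τ n).1 b ∈ (E₁.X (n + 1)).gr (j - d) := fun n j b hb => by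
    have := (τ n).2.1 _ b hb
    rwa [show j + e + -(d + e) = j - d by abel] at this
  let P : GrLC.StarInjRes 𝒜 ℳ₂ :=
    { X := fun n => prodG (E₁.X n) (E₃.X n) d e
      d := D
      ε := η.prod (E₃.ε ∘ₗ g)
      d_grHom := fun n j x hx => ⟨add_mem (E₁.d_grHom n _ _ hx.1) (hτmem n j _ hx.2), E₃.d_grHom n _ _ hx.2⟩
      ε_grHom := fun j m hm => ⟨by
        show η m ∈ (E₁.X 0).gr (j - d)
        rw [sub_eq_add_neg]; exact hη j m hm, E₃.ε_grHom _ _ (hg j m hm)⟩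
      ε_injective := by
        refine (injective_iff_map_eq_zero _).2 fun m hm => ?_
        have h1 : η m = 0 := congrArg Prod.fst hm
        have h2 : g m = 0 := E₃.ε_injective (by rw [map_zero]; exact congrArg Prod.snd hm)
        obtain ⟨y, rfl⟩ : m ∈ LinearMap.range f := hex.le h2
        rw [hηf'] at h1
        rw [show y = 0 from E₁.ε_injective (by rw [h1, map_zero]), map_zero]
      exact_zero := by
        refine le_antisymm ?_ ?_
        · rintro ⟨x, b⟩ hxb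
          have h1 : E₁.d 0 x + (τ 0).1 b = 0 := congrArg Prod.fst hxb
          have h2 : E₃.d 0 b = 0 := congrArg Prod.snd hxb
          obtain ⟨c, rfl⟩ : b ∈ LinearMap.range E₃.ε := E₃.exact_zero.le h2
          obtain ⟨m, rfl⟩ := hgs c
          rw [show (τ 0).1 (E₃.ε (g m)) = -E₁.d 0 (η m) from ht0 m, ← sub_eq_add_neg, ← map_sub] at h1
          obtain ⟨y, hy⟩ : x - η m ∈ LinearMap.range E₁.ε := E₁.exact_zero.le h1
          refine ⟨m + f y, Prod.ext ?_ ?_⟩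
          · show η (m + f y) = x
            rw [map_add, hηf', hy, add_sub_cancel]
          · show E₃.ε (g (m + f y)) = E₃.ε (g m)
            rw [map_add, hkey, add_zero]
        · rintro _ ⟨m, rfl⟩
          refine Prod.ext ?_ ?_
          · show E₁.d 0 (η m) + (τ 0).1 (E₃.ε (g m)) = 0
            rw [show (τ 0).1 (E₃.ε (g m)) = -E₁.d 0 (η m) from ht0 m, add_neg_cancel]
          · exact LinearMap.congr_fun (d_comp_ε E₃) (g m)
      exact_succ := fun n => by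
        refine le_antisymm ?_ ?_
        · rintro ⟨x, b⟩ hxb
          have h1 : E₁.d (n + 1) x + (τ (n + 1)).1 b = 0 := congrArg Prod.fst hxb
          have h2 : E₃.d (n + 1) b = 0 := congrArg Prod.snd hxb
          obtain ⟨c, rfl⟩ : b ∈ LinearMap.range (E₃.d n) := (E₃.exact_succ n).le h2
          rw [hτ, ← sub_eq_add_neg, ← map_sub] at h1
          obtain ⟨y, hy⟩ : x - (τ n).1 c ∈ LinearMap.range (E₁.d n) := (E₁.exact_succ n).le h1
          refine ⟨(y, c), Prod.ext ?_ rfl⟩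
          show E₁.d n y + (τ n).1 c = x
          rw [hy, sub_add_cancel]
        · rintro _ ⟨⟨y, c⟩, rfl⟩
          refine Prod.ext ?_ ?_
          · show E₁.d (n + 1) (E₁.d n y + (τ n).1 c) + (τ (n + 1)).1 (E₃.d n c) = 0
            rw [map_add, show E₁.d (n + 1) (E₁.d n y) = 0 from LinearMap.congr_fun (d_comp_d E₁ n) y, zero_add,
              hτ, add_neg_cancel]
          · exact LinearMap.congr_fun (d_comp_d E₃ n) c
      starInj := fun n => starInj_prodG (E₁.starInj n) (E₃.starInj n) }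
  let φ : ResMap E₁ P f d :=
    { φ := fun n => LinearMap.inl R (E₁.X n).carrier (E₃.X n).carrier
      deg := fun n j m hm => ⟨by show m ∈ (E₁.X n).gr (j + d - d); rwa [add_sub_cancel_right], zero_mem _⟩
      comm_ε := LinearMap.ext fun y => Prod.ext (hηf' y).symm (by
        show 0 = E₃.ε (g (f y))
        rw [hkey, map_zero])
      comm_d := fun n => LinearMap.ext fun x => Prod.ext (by
        show E₁.d n x = E₁.d n x + (τ n).1 0
        rw [map_zero, add_zero]) (map_zero (E₃.d n)).symm }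
  let ψ : ResMap P E₃ g e :=
    { φ := fun n => LinearMap.snd R (E₁.X n).carrier (E₃.X n).carrier
      deg := fun n j m hm => hm.2
      comm_ε := rfl
      comm_d := fun n => rfl }
  -- the connecting maps
  have hcy : ∀ i (z : (E₃.X i).carrier), z ∈ E₃.cocyc a i → (τ i).1 z ∈ E₁.cocyc a (i + 1) := fun i z hz =>
    ⟨map_gam a _ hz.1, (τ i).2.2 hz.2⟩
  have hcb : ∀ i (z : (E₃.X i).carrier), z ∈ E₃.cobdy a i → (τ i).1 z ∈ E₁.cobdy a (i + 1) := by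
    rintro (_ | n) z hz
    · rw [(Submodule.mem_bot R).1 hz, map_zero]; exact zero_mem _
    · obtain ⟨y, hy, rfl⟩ := hz
      exact ⟨-(τ n).1 y, neg_mem (map_gam a _ hy), by rw [map_neg, hτ]⟩
  let δ : ∀ i, E₃.H a i →ₗ[R] E₁.H a (i + 1) := fun i =>
    Submodule.mapQ _ _ ((τ i).1.restrict (hcy i)) fun z hz => hcb i z.1 hz
  have hδ : ∀ i (z : E₃.cocyc a i), δ i (E₃.toH a i z) = E₁.toH a (i + 1) ⟨(τ i).1 z, hcy i z z.2⟩ :=
    fun i z => rfl
  refine ⟨P, δ, ?_⟩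
  simp only [Hmap_eq E₁ P a hf φ, Hmap_eq P E₃ a hg ψ]
  refine ⟨?_, ?_, fun i => ⟨?_, ?_, ?_⟩⟩
  · rintro i j _ ⟨z, hz, rfl⟩
    exact ⟨⟨(τ i).1 z, hcy i z z.2⟩, (τ i).2.1 j _ hz, rfl⟩
  · refine (injective_iff_map_eq_zero _).2 fun x hx => ?_
    obtain ⟨⟨z, hz⟩, rfl⟩ := Submodule.mkQ_surjective _ x
    have h0 : ((z, 0) : (E₁.X 0).carrier × (E₃.X 0).carrier) = 0 :=
      (Submodule.mem_bot R).1 ((Submodule.Quotient.mk_eq_zero ((P.cobdy a 0).comap (P.cocyc a 0).subtype)).1 hx)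
    exact (Submodule.Quotient.mk_eq_zero _).2 ((Submodule.mem_bot R).2 (congrArg Prod.fst h0))
  · intro x
    constructor
    · obtain ⟨⟨⟨x, b⟩, hxb⟩, rfl⟩ := Submodule.mkQ_surjective _ x
      intro h
      have hb : b ∈ E₃.cobdy a i :=
        (Submodule.Quotient.mk_eq_zero ((E₃.cobdy a i).comap (E₃.cocyc a i).subtype)).1 h
      have hgx : x ∈ GrLC.gam a.toIdeal (E₁.X i).carrier :=
        map_gam a (LinearMap.fst R (E₁.X i).carrier (E₃.X i).carrier) hxb.1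
      have hd : E₁.d i x + (τ i).1 b = 0 := congrArg Prod.fst hxb.2
      cases i with
      | zero =>
        obtain rfl : b = 0 := (Submodule.mem_bot R).1 hb
        rw [map_zero, add_zero] at hd
        exact ⟨E₁.toH a 0 ⟨x, hgx, hd⟩, rfl⟩
      | succ n =>
        obtain ⟨y, hy, rfl⟩ := hb
        rw [hτ, ← sub_eq_add_neg, ← map_sub] at hd
        refine ⟨E₁.toH a (n + 1) ⟨x - (τ n).1 y, sub_mem hgx (map_gam a _ hy), hd⟩, ?_⟩
        refine (Submodule.Quotient.eq _).2 ?_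
        refine ⟨(0, -y), gam_prod (zero_mem _) (neg_mem hy), Prod.ext ?_ ?_⟩
        · show E₁.d n 0 + (τ n).1 (-y) = x - (τ n).1 y - x
          rw [map_zero, map_neg, zero_add]; abel
        · show E₃.d n (-y) = 0 - E₃.d n y
          rw [map_neg, zero_sub]
    · rintro ⟨w, rfl⟩
      obtain ⟨⟨z, hz⟩, rfl⟩ := Submodule.mkQ_surjective _ w
      exact (Submodule.Quotient.mk_eq_zero _).2 (zero_mem (E₃.cobdy a i))
  · intro x
    constructor
    · obtain ⟨⟨z, hz⟩, rfl⟩ := Submodule.mkQ_surjective _ x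
      intro h
      obtain ⟨y, hy, hyz⟩ : (τ i).1 z ∈ E₁.cobdy a (i + 1) :=
        (Submodule.Quotient.mk_eq_zero ((E₁.cobdy a (i + 1)).comap (E₁.cocyc a (i + 1)).subtype)).1 h
      refine ⟨P.toH a i ⟨(-y, z), gam_prod (neg_mem hy) hz.1, Prod.ext ?_ hz.2⟩, rfl⟩
      show E₁.d i (-y) + (τ i).1 z = 0
      rw [map_neg, hyz, neg_add_cancel]
    · rintro ⟨w, rfl⟩
      obtain ⟨⟨⟨x, b⟩, hxb⟩, rfl⟩ := Submodule.mkQ_surjective _ w
      have hd : E₁.d i x + (τ i).1 b = 0 := congrArg Prod.fst hxb.2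
      refine (Submodule.Quotient.mk_eq_zero _).2 ⟨-x, neg_mem ?_, ?_⟩
      · exact map_gam a (LinearMap.fst R (E₁.X i).carrier (E₃.X i).carrier) hxb.1
      · show E₁.d i (-x) = (τ i).1 b
        rw [map_neg]; exact neg_eq_of_add_eq_zero_right hd
  · intro x
    constructor
    · obtain ⟨⟨z, hz⟩, rfl⟩ := Submodule.mkQ_surjective _ x
      intro h
      obtain ⟨⟨y, c⟩, hyc, he⟩ :
          ((z, 0) : (E₁.X (i + 1)).carrier × (E₃.X (i + 1)).carrier) ∈ P.cobdy a (i + 1) :=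
        (Submodule.Quotient.mk_eq_zero ((P.cobdy a (i + 1)).comap (P.cocyc a (i + 1)).subtype)).1 h
      have h1 : E₁.d i y + (τ i).1 c = z := congrArg Prod.fst he
      have h2 : E₃.d i c = 0 := congrArg Prod.snd he
      refine ⟨E₃.toH a i ⟨c, map_gam a (LinearMap.snd R (E₁.X i).carrier (E₃.X i).carrier) hyc, h2⟩, ?_⟩
      refine (Submodule.Quotient.eq _).2
        ⟨-y, neg_mem (map_gam a (LinearMap.fst R (E₁.X i).carrier (E₃.X i).carrier) hyc), ?_⟩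
      show E₁.d i (-y) = (τ i).1 c - z
      rw [map_neg, ← h1]; abel
    · rintro ⟨w, rfl⟩
      obtain ⟨⟨c, hc⟩, rfl⟩ := Submodule.mkQ_surjective _ w
      refine (Submodule.Quotient.mk_eq_zero _).2 ⟨(0, c), gam_prod (zero_mem _) hc.1, Prod.ext ?_ hc.2⟩
      show E₁.d i 0 + (τ i).1 c = (τ i).1 c
      rw [map_zero, zero_add]

variable {M N : Type u} [AddCommGroup M] [Module R M] [AddCommGroup N] [Module R N]
  {ℳ : ι → AddSubgroup M} [DirectSum.Decomposition ℳ] [SetLike.GradedSMul 𝒜 ℳ]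
  {𝒩 : ι → AddSubgroup N} [DirectSum.Decomposition 𝒩] [SetLike.GradedSMul 𝒜 𝒩]

theorem Hmap_congr (E : GrLC.StarInjRes 𝒜 ℳ) (F : GrLC.StarInjRes 𝒜 𝒩) (a : HomogeneousIdeal 𝒜)
    {f f' : M →ₗ[R] N} {d d' : ι} (hf : GrLC.IsGrHomDeg ℳ 𝒩 f d) (hf' : GrLC.IsGrHomDeg ℳ 𝒩 f' d')
    (e₁ : f = f') (e₂ : d = d') (i : ℕ) : Hmap E F a f d hf i = Hmap E F a f' d' hf' i := by
  subst e₁; subst e₂; rfl

theorem id_deg : GrLC.IsGrHomDeg ℳ ℳ (LinearMap.id : M →ₗ[R] M) 0 := fun g m hm => by rw [add_zero]; exact hm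

theorem Hmap_id (E : GrLC.StarInjRes 𝒜 ℳ) (a : HomogeneousIdeal 𝒜) (i : ℕ) :
    Hmap E E a LinearMap.id 0 id_deg i = LinearMap.id := by
  let φ : ResMap E E (LinearMap.id : M →ₗ[R] M) (0 : ι) :=
    { φ := fun n => LinearMap.id
      deg := fun n => id_deg
      comm_ε := rfl
      comm_d := fun n => rfl }
  rw [Hmap_eq E E a _ φ]
  exact Submodule.linearMap_qext _ (LinearMap.ext fun z => rfl)

theorem Hmap_id_bijective (E F : GrLC.StarInjRes 𝒜 ℳ) (a : HomogeneousIdeal 𝒜) (i : ℕ) :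
    Function.Bijective (Hmap E F a LinearMap.id 0 id_deg i) := by
  have key : ∀ A B : GrLC.StarInjRes 𝒜 ℳ,
      Hmap B A a LinearMap.id 0 id_deg i ∘ₗ Hmap A B a LinearMap.id 0 id_deg i = LinearMap.id := fun A B => by
    rw [← Hmap_comp A B A a id_deg id_deg, Hmap_congr A A a _ id_deg (LinearMap.id_comp _) (add_zero 0),
      Hmap_id]
  exact ⟨Function.LeftInverse.injective (g := Hmap F E a LinearMap.id 0 id_deg i) (LinearMap.congr_fun (key E F)),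
    Function.RightInverse.surjective (g := Hmap F E a LinearMap.id 0 id_deg i) (LinearMap.congr_fun (key F E))⟩

/-- The long exact sequence of graded local cohomology. -/
theorem exists_les (hf : GrLC.IsGrHomDeg ℳ₁ ℳ₂ f d) (hg : GrLC.IsGrHomDeg ℳ₂ ℳ₃ g e)
    (hfi : Function.Injective f) (hgs : Function.Surjective g) (hex : LinearMap.ker g = LinearMap.range f)
    (E₁ : GrLC.StarInjRes 𝒜 ℳ₁) (E₂ : GrLC.StarInjRes 𝒜 ℳ₂) (E₃ : GrLC.StarInjRes 𝒜 ℳ₃)
    (a : HomogeneousIdeal 𝒜) :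
    ∃ δ : ∀ i, E₃.H a i →ₗ[R] E₁.H a (i + 1),
      (∀ i, GrLC.IsGrHomDeg (E₃.Hgr a i) (E₁.Hgr a (i + 1)) (δ i) (-(d + e))) ∧
      Function.Injective (Hmap E₁ E₂ a f d hf 0) ∧
      ∀ i, Function.Exact (Hmap E₁ E₂ a f d hf i) (Hmap E₂ E₃ a g e hg i) ∧
        Function.Exact (Hmap E₂ E₃ a g e hg i) (δ i) ∧
        Function.Exact (δ i) (Hmap E₁ E₂ a f d hf (i + 1)) := by
  obtain ⟨P, δ, hδ, hinj, hP⟩ := exists_horseshoe hf hg hfi hgs hex E₁ E₃ a
  have h1 : ∀ i z, Hmap E₁ E₂ a f d hf i z = Hmap P E₂ a LinearMap.id 0 id_deg i (Hmap E₁ P a f d hf i z) :=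
    fun i z => by
      rw [← LinearMap.comp_apply, ← Hmap_comp E₁ P E₂ a hf id_deg,
        Hmap_congr E₁ E₂ a _ hf (LinearMap.id_comp f) (add_zero d)]
  have h2 : ∀ i z, Hmap P E₃ a g e hg i z = Hmap E₂ E₃ a g e hg i (Hmap P E₂ a LinearMap.id 0 id_deg i z) :=
    fun i z => by
      rw [← LinearMap.comp_apply, ← Hmap_comp P E₂ E₃ a id_deg hg,
        Hmap_congr P E₃ a _ hg (LinearMap.comp_id g) (zero_add e)]
  refine ⟨δ, hδ, fun x y h => ?_, fun i => ?_⟩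
  · rw [h1, h1] at h
    exact hinj ((Hmap_id_bijective P E₂ a 0).1 h)
  obtain ⟨hA, hB, hC⟩ := hP i
  refine ⟨fun x => ?_, fun x => ?_, fun x => ?_⟩
  · obtain ⟨x', rfl⟩ := (Hmap_id_bijective P E₂ a i).2 x
    rw [← h2, hA x']
    exact ⟨fun ⟨w, hw⟩ => ⟨w, by rw [h1, hw]⟩, fun ⟨w, hw⟩ =>
      ⟨w, (Hmap_id_bijective P E₂ a i).1 (by rw [← h1, hw])⟩⟩
  · rw [hB x]
    exact ⟨fun ⟨w, hw⟩ => ⟨_, by rw [← h2, hw]⟩, fun ⟨w, hw⟩ => by
      obtain ⟨w', rfl⟩ := (Hmap_id_bijective P E₂ a i).2 w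
      exact ⟨w', by rw [h2, hw]⟩⟩
  · rw [h1]
    exact ⟨fun h => (hC x).1 ((Hmap_id_bijective P E₂ a (i + 1)).1 (by rw [h, map_zero])),
      fun h => by rw [(hC x).2 h, map_zero]⟩

end GrModLib
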