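import Groth.Agent.GrModLib.StdField

/-! Regular sequences of linear forms over an infinite residue field, and algebraic independence of regular
sequences. -/

set_option autoImplicit false
universe u

open DirectSum
open scoped Pointwise

namespace GrModLib

/-- A polynomial map is injective if the variable goes to a regular element and the constants inject modulo it. -/
theorem polynomial_hom_injective {K A : Type u} [CommRing K] [CommRing A] (ψ : Polynomial K →+* A)
    (hreg : IsSMulRegular A (ψ Polynomial.X))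
    (hinj : ∀ c : K, ψ (Polynomial.C c) ∈ Ideal.span {ψ Polynomial.X} → c = 0) : Function.Injective ψ := by
  refine (injective_iff_map_eq_zero ψ).2 fun p => ?_
  induction hn : p.natDegree using Nat.strong_induction_on generalizing p with
  | h n ih =>
    intro hp
    have h0 : p.coeff 0 = 0 := by
      refine hinj _ (Ideal.mem_span_singleton'.2 ⟨-ψ p.divX, ?_⟩)
      have h1 := congrArg ψ (Polynomial.divX_mul_X_add p)
      rw [map_add, map_mul, hp] at h1
      linear_combination -h1
    have h2 : p.divX * Polynomial.X = p := by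
      simpa [h0] using Polynomial.divX_mul_X_add p
    by_cases hne : p.natDegree = 0
    · rw [Polynomial.eq_C_of_natDegree_eq_zero hne, h0, map_zero]
    · have hq : ψ p.divX = 0 := hreg.right_eq_zero_of_smul (by
        show ψ Polynomial.X * ψ p.divX = 0
        rw [← map_mul, mul_comm, h2, hp])
      have hlt : p.divX.natDegree < n := by rw [Polynomial.natDegree_divX_eq_natDegree_tsub_one]; omega
      rw [← h2, ih _ hlt _ rfl hq, zero_mul]

/-- Regular sequences are algebraically independent over constants which meet their span trivially. -/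
theorem eval₂_injective {K : Type u} [CommRing K] : ∀ (d : ℕ) (A : Type u) [CommRing A] (φ : K →+* A)
    (x : Fin d → A), RingTheory.Sequence.IsWeaklyRegular A (List.ofFn x) →
    (∀ c : K, φ c ∈ Ideal.span (Set.range x) → c = 0) → Function.Injective (MvPolynomial.eval₂Hom φ x)
  | 0, A, _, φ, x, _, hφ => by
    refine (injective_iff_map_eq_zero _).2 fun p hp => ?_
    obtain ⟨c, rfl⟩ : ∃ c, MvPolynomial.C c = p := ⟨_, (MvPolynomial.eq_C_of_isEmpty p).symm⟩
    rw [MvPolynomial.eval₂Hom_C] at hp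
    have hc : c = 0 := hφ c (by rw [hp]; exact zero_mem _)
    rw [hc, map_zero]
  | d + 1, A, _, φ, x, hreg, hφ => by
    rw [List.ofFn_succ, RingTheory.Sequence.isWeaklyRegular_cons_iff'] at hreg
    obtain ⟨h0, hrest⟩ := hreg
    let q := Ideal.Quotient.mk (Ideal.span {x 0})
    have hJ : x 0 • (⊤ : Submodule A A) = Ideal.span {x 0} := by
      rw [← Submodule.ideal_span_singleton_smul, smul_eq_mul, Ideal.mul_top]
    have hrest' : RingTheory.Sequence.IsWeaklyRegular (A ⧸ Ideal.span {x 0}) (List.ofFn fun i => q (x i.succ)) := by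
      refine (AddEquiv.isWeaklyRegular_congr (e := (Submodule.quotEquivOfEq _ _ hJ).toAddEquiv) ?_).1
        (by rw [List.map_ofFn] at hrest; exact hrest)
      refine List.forall₂_same.2 ?_
      intro r _ z
      obtain ⟨r, rfl⟩ := Ideal.Quotient.mk_surjective r
      obtain ⟨z, rfl⟩ := Submodule.Quotient.mk_surjective _ z
      rfl
    have hφ' : ∀ c : K, (q.comp φ) c ∈ Ideal.span (Set.range fun i : Fin d => q (x i.succ)) → c = 0 := by
      intro c hc
      refine hφ c ?_
      have h1 : φ c ∈ (Ideal.map q (Ideal.span (Set.range fun i : Fin d => x i.succ))).comap q := by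
        rw [Ideal.mem_comap, Ideal.map_span, ← Set.range_comp]
        exact hc
      rw [Ideal.comap_map_of_surjective q Ideal.Quotient.mk_surjective, ← RingHom.ker_eq_comap_bot,
        Ideal.mk_ker] at h1
      have hle : Ideal.span (Set.range fun i : Fin d => x i.succ) ⊔ Ideal.span {x 0} ≤ Ideal.span (Set.range x) :=
        sup_le (Ideal.span_mono (by rintro _ ⟨i, rfl⟩; exact ⟨i.succ, rfl⟩))
          ((Ideal.span_singleton_le_iff_mem _).2 (Ideal.subset_span ⟨0, rfl⟩))
      exact hle h1
    have IH := eval₂_injective d (A ⧸ Ideal.span {x 0}) (q.comp φ) (fun i => q (x i.succ)) hrest' hφ'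
    let f : MvPolynomial (Fin (d + 1)) K →+* A := MvPolynomial.eval₂Hom φ x
    let ψ : Polynomial (MvPolynomial (Fin d) K) →+* A :=
      f.comp (MvPolynomial.finSuccEquiv K d).symm.toRingEquiv.toRingHom
    have hX : ψ Polynomial.X = x 0 := by
      show f ((MvPolynomial.finSuccEquiv K d).symm Polynomial.X) = x 0
      rw [← MvPolynomial.finSuccEquiv_X_zero, AlgEquiv.symm_apply_apply]
      exact MvPolynomial.eval₂Hom_X' _ _ _
    have hC : (q.comp ψ).comp Polynomial.C = MvPolynomial.eval₂Hom (q.comp φ) fun i => q (x i.succ) := by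
      refine MvPolynomial.ringHom_ext (fun c => ?_) fun i => ?_
      · show q (f ((MvPolynomial.finSuccEquiv K d).symm (Polynomial.C (MvPolynomial.C c)))) = _
        rw [show (MvPolynomial.finSuccEquiv K d).symm (Polynomial.C (MvPolynomial.C c)) = MvPolynomial.C c from
          (MvPolynomial.finSuccEquiv K d).symm.commutes c]
        simp [f]
      · show q (f ((MvPolynomial.finSuccEquiv K d).symm (Polynomial.C (MvPolynomial.X i)))) = _
        rw [← MvPolynomial.finSuccEquiv_X_succ, AlgEquiv.symm_apply_apply]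
        simp [f]
    have hψ : Function.Injective ψ := polynomial_hom_injective ψ (by rw [hX]; exact h0) fun c hc => by
      rw [hX] at hc
      apply IH
      rw [map_zero, ← hC]
      exact Ideal.Quotient.eq_zero_iff_mem.2 hc
    intro a b hab
    apply (MvPolynomial.finSuccEquiv K d).injective
    apply hψ
    show f ((MvPolynomial.finSuccEquiv K d).symm _) = f ((MvPolynomial.finSuccEquiv K d).symm _)
    rw [AlgEquiv.symm_apply_apply, AlgEquiv.symm_apply_apply]
    exact hab

variable {R : Type u} [CommRing R] [IsNoetherianRing R] {𝒜 : ℤ → AddSubgroup R} [GradedRing 𝒜]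

/-- A regular linear form over an infinite residue field. -/
theorem exists_linear_regular (hpos : ∀ n : ℤ, n < 0 → 𝒜 n = ⊥)
    (hstd : (posIdeal 𝒜).toIdeal = Ideal.span ((𝒜 1 : AddSubgroup R) : Set R))
    {m : HomogeneousIdeal 𝒜} (hm : GrLC.IsStarLocal 𝒜 m) (hinf : Infinite (R ⧸ m.toIdeal))
    (Q : GrLC.GMod.{u} 𝒜) [Module.Finite R Q.carrier]
    (h : GrLC.gam (posIdeal 𝒜).toIdeal Q.carrier = ⊥) :
    ∃ x ∈ 𝒜 1, IsSMulRegular Q.carrier x := by
  classical
  obtain ⟨s, hs, hspan⟩ := (Submodule.fg_span_iff_fg_span_finset_subset _).1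
    (IsNoetherian.noetherian (Ideal.span ((𝒜 1 : AddSubgroup R) : Set R)))
  let g : Fin s.card → R := fun i => (s.equivFin.symm i).1
  have hg : ∀ i, g i ∈ 𝒜 1 := fun i => hs (s.equivFin.symm i).2
  have hle := posIdeal_le_of_starLocal hpos hm
  have hsub : ∀ z : R, ∃ c : GrLC.deg0 𝒜, z - (c : R) ∈ m.toIdeal := fun z => by
    refine ⟨⟨pr 𝒜 0 z, pr_mem 𝒜 0 z⟩, ?_⟩
    obtain ⟨t, ht0, ht⟩ := exists_finset 𝒜 z
    have h1 : z - pr 𝒜 0 z = ∑ j ∈ t.erase 0, pr 𝒜 j z := by
      by_cases h : (0 : ℤ) ∈ t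
      · rw [sub_eq_iff_eq_add, Finset.sum_erase_add _ _ h, ht]
      · rw [Finset.erase_eq_of_notMem h, ht, ht0 0 h, sub_zero]
    show z - pr 𝒜 0 z ∈ _
    rw [h1]
    refine sum_mem fun j hj => ?_
    rcases lt_or_gt_of_ne (Finset.ne_of_mem_erase hj) with hj | hj
    · rw [eq_zero_of_neg hpos hj (pr_mem 𝒜 j z)]; exact zero_mem _
    · exact hle (mem_posIdeal hj (pr_mem 𝒜 j z))
  choose c hc using hsub
  let lift : R ⧸ m.toIdeal → R := fun b => (c (Quotient.out b) : R)
  have hlift : ∀ b, Ideal.Quotient.mk m.toIdeal (lift b) = b := fun b => by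
    conv_rhs => rw [← Quotient.out_eq b]
    exact (Ideal.Quotient.eq.2 (hc (Quotient.out b))).symm
  have hdiff : ∀ b b', b ≠ b' → IsUnit (lift b - lift b') := by
    intro b b' hne
    have hnm : lift b - lift b' ∉ m.toIdeal := fun hmem => hne (by
      rw [← hlift b, ← hlift b', Ideal.Quotient.eq]; exact hmem)
    have h0 : lift b - lift b' ∈ 𝒜 0 := sub_mem (c _).2 (c _).2
    let n : HomogeneousIdeal 𝒜 := ⟨Ideal.span {lift b - lift b'},
      Ideal.homogeneous_span 𝒜 _ fun z hz => ⟨0, by rw [Set.mem_singleton_iff.1 hz]; exact h0⟩⟩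
    by_contra hu
    refine hnm (le_of_starLocal hm n (fun htop => hu ?_) (Ideal.subset_span rfl))
    exact Ideal.span_singleton_eq_top.1 (congrArg HomogeneousIdeal.toIdeal htop)
  let L : R → R := fun z => ∑ i, g i * z ^ (i : ℕ)
  have hfin : ∀ p ∈ associatedPrimes R Q.carrier, {b | L (lift b) ∈ p}.Finite := by
    intro p hp
    haveI := IsAssociatedPrime.isPrime hp
    let q := Ideal.Quotient.mk p
    let P : Polynomial (R ⧸ p) := ∑ i, Polynomial.C (q (g i)) * Polynomial.X ^ (i : ℕ)
    have hP : P ≠ 0 := by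
      intro h0
      refine not_le_of_gam_eq_bot h p hp (hstd.le.trans (le_of_eq_of_le hspan (Ideal.span_le.2 fun y hy => ?_)))
      obtain ⟨i, rfl⟩ : ∃ i, g i = y := ⟨s.equivFin ⟨y, hy⟩, by simp [g]⟩
      have h1 := congrArg (fun F => Polynomial.coeff F (i : ℕ)) h0
      simp only [P, Polynomial.finsetSum_coeff, Polynomial.coeff_C_mul, Polynomial.coeff_X_pow,
        Polynomial.coeff_zero, mul_ite, mul_one, mul_zero, Fin.val_inj, Finset.sum_ite_eq, Finset.mem_univ,
        if_true] at h1
      exact Ideal.Quotient.eq_zero_iff_mem.1 h1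
    have hinj : Function.Injective fun b => q (lift b) := fun b b' hbb => by
      by_contra hne
      exact Ideal.IsPrime.ne_top inferInstance
        (Ideal.eq_top_of_isUnit_mem p (Ideal.Quotient.eq.1 hbb) (hdiff b b' hne))
    refine ((Polynomial.finite_setOfPred_isRoot hP).preimage hinj.injOn).subset fun b hb => ?_
    show P.eval (q (lift b)) = 0
    rw [← Ideal.Quotient.eq_zero_iff_mem.2 hb, Polynomial.eval_finsetSum]
    simp [L, map_sum, q]
  have hbad : (⋃ p ∈ associatedPrimes R Q.carrier, {b | L (lift b) ∈ p}).Finite :=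
    (associatedPrimes.finite R Q.carrier).biUnion hfin
  obtain ⟨b, hb⟩ := hbad.exists_notMem
  refine ⟨L (lift b), sum_mem fun i _ => ?_, isSMulRegular_of_notMem fun p hp hmem =>
    hb (Set.mem_biUnion hp hmem)⟩
  have h2 := SetLike.mul_mem_graded (hg i) (SetLike.pow_mem_graded (i : ℕ) (c (Quotient.out b)).2)
  rwa [smul_zero, add_zero] at h2

/-- Regular linear forms cutting a module with extremal top cohomology down to degrees at most zero. -/
theorem exists_linear_seq (hpos : ∀ n : ℤ, n < 0 → 𝒜 n = ⊥)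
    (hstd : (posIdeal 𝒜).toIdeal = Ideal.span ((𝒜 1 : AddSubgroup R) : Set R))
    {m : HomogeneousIdeal 𝒜} (hm : GrLC.IsStarLocal 𝒜 m) (hinf : Infinite (R ⧸ m.toIdeal))
    (har : m.toIdeal ≤ (posIdeal 𝒜).toIdeal.radical) :
    ∀ (D : ℕ) (Q : GrLC.GMod.{u} 𝒜), Module.Finite R Q.carrier → Module.supportDim R Q.carrier ≤ (D : ℕ) →
      (∀ j, j < D → ∀ n, Van m Q.gr j n) → (∀ n : ℤ, -(D : ℤ) < n → Van m Q.gr D n) →
      ∃ x : Fin D → R, (∀ i, x i ∈ 𝒜 1) ∧ RingTheory.Sequence.IsWeaklyRegular Q.carrier (List.ofFn x) ∧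
        ∀ n : ℤ, 0 < n → ∀ y ∈ Q.gr n, y ∈ Ideal.span (Set.range x) • (⊤ : Submodule R Q.carrier) := by
  classical
  have hle := posIdeal_le_of_starLocal hpos hm
  obtain ⟨c, hc⟩ := Ideal.exists_pow_le_of_le_radical_of_fg har (IsNoetherian.noetherian _)
  intro D
  induction D with
  | zero =>
    intro Q hQ hdim _ htop
    refine ⟨Fin.elim0, fun i => i.elim0, by simp, fun n hn y hy => ?_⟩
    have hgam : GrLC.gam m.toIdeal Q.carrier = ⊤ := by
      let T₀ := GrLC.gam (posIdeal 𝒜).toIdeal Q.carrier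
      have hT₀ : T₀.IsHomogeneous Q.gr := gam_isHomogeneous (posIdeal 𝒜)
      let S := quotG 𝒜 (ℳ := Q.gr) T₀ hT₀
      haveI : Module.Finite R S.carrier := finite_quotG Q T₀ hT₀
      obtain ⟨x, hx, hxr⟩ := exists_linear_regular hpos hstd hm hinf S (gam_quot_gam _)
      have hd : Module.supportDim R S.carrier ≤ (0 : ℕ) :=
        (Module.supportDim_le_of_surjective T₀.mkQ T₀.mkQ_surjective).trans hdim
      have hsub : Subsingleton (QuotSMulTop x S.carrier) := by
        rw [← Module.supportDim_eq_bot_iff_subsingleton (R := R)]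
        have h1 := (Module.supportDim_quotSMulTop_succ_le_of_notMem_minimalPrimes
          (fun _ => hxr.notMem_of_mem_minimalPrimes)).trans hd
        revert h1
        generalize Module.supportDim R (QuotSMulTop x S.carrier) = w
        rcases w with _ | _ | w <;> intro h1
        · rfl
        · exact absurd h1 (by simp)
        · exact absurd (WithBot.coe_le_coe.1 h1) (by simp)
      have hsurj : ∀ z : S.carrier, ∃ v, x • v = z := fun z => by
        have hz : z ∈ x • (⊤ : Submodule R S.carrier) :=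
          (Submodule.Quotient.mk_eq_zero _).1 (Subsingleton.elim (Submodule.Quotient.mk z) 0)
        obtain ⟨v, -, hv⟩ := (Submodule.mem_smul_pointwise_iff_exists _ _ _).1 hz
        exact ⟨v, hv⟩
      refine eq_top_iff.2 fun z _ => ?_
      obtain ⟨t, -, ht⟩ := exists_finset Q.gr z
      rw [← ht]
      refine sum_mem fun i _ => ?_
      have h0 : T₀.mkQ (pr Q.gr i z) = 0 :=
        eq_zero_of_range_smul_eq_top hpos S one_pos hx hsurj i _ ⟨_, pr_mem Q.gr i z, rfl⟩
      obtain ⟨l, hl⟩ := (Submodule.Quotient.mk_eq_zero T₀).1 h0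
      exact ⟨c * l, fun r hr => hl r (Ideal.pow_right_mono hc l (pow_mul m.toIdeal c l ▸ hr))⟩
    rw [eq_zero_of_van_zero (htop n (by simpa using hn)) hy (hgam.ge Submodule.mem_top)]
    exact zero_mem _
  | succ D ih =>
    intro Q hQ hdim hbelow htop
    have hgam : GrLC.gam (posIdeal 𝒜).toIdeal Q.carrier = ⊥ := by
      refine (Submodule.eq_bot_iff _).2 fun z hz => ?_
      obtain ⟨t, -, ht⟩ := exists_finset Q.gr z
      rw [← ht]
      refine Finset.sum_eq_zero fun i _ => ?_
      obtain ⟨l, hl⟩ := gam_isHomogeneous (ℳ := Q.gr) (posIdeal 𝒜) i hz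
      exact eq_zero_of_van_zero (hbelow 0 D.succ_pos i) (pr_mem Q.gr i z)
        ⟨c * l, fun r hr => hl r (Ideal.pow_right_mono hc l (pow_mul m.toIdeal c l ▸ hr))⟩
    obtain ⟨x, hx, hxr⟩ := exists_linear_regular hpos hstd hm hinf Q hgam
    have hxQ : GrLC.IsGrHomDeg Q.gr Q.gr (x • (LinearMap.id : Q.carrier →ₗ[R] Q.carrier)) 1 := fun g z hz => by
      rw [add_comm]; exact smul_mem 𝒜 Q.gr hx hz
    let S₀ := LinearMap.range (x • (LinearMap.id : Q.carrier →ₗ[R] Q.carrier))
    let S := quotG 𝒜 (ℳ := Q.gr) S₀ (range_isHomogeneous_deg hxQ)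
    have hSx : S₀ = x • (⊤ : Submodule R Q.carrier) := by
      ext z
      rw [Submodule.mem_smul_pointwise_iff_exists]
      exact ⟨fun ⟨v, hv⟩ => ⟨v, Submodule.mem_top, hv⟩, fun ⟨v, _, hv⟩ => ⟨v, hv⟩⟩
    obtain ⟨hb, ha⟩ := end_step (a := m) hpos Q S hx (hle (mem_posIdeal one_pos hx)) hxr S₀.mkQ
      (fun g z hz => ⟨z, hz, rfl⟩) S₀.mkQ_surjective S₀.ker_mkQ (e := D) hbelow
    have hSd : Module.supportDim R S.carrier ≤ (D : ℕ) := by
      have h1 := (Module.supportDim_quotSMulTop_succ_le_of_notMem_minimalPrimes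
        (fun _ => hxr.notMem_of_mem_minimalPrimes)).trans hdim
      show Module.supportDim R (Q.carrier ⧸ S₀) ≤ _
      rw [Module.supportDim_eq_of_equiv (Submodule.quotEquivOfEq _ _ hSx)]
      revert h1
      generalize Module.supportDim R (Q.carrier ⧸ x • (⊤ : Submodule R Q.carrier)) = w
      rcases w with _ | _ | w <;> intro h1
      · exact bot_le
      · exact absurd (WithBot.coe_le_coe.1 h1) (WithTop.coe_lt_top (D + 1)).not_ge
      · refine WithBot.coe_le_coe.2 (WithTop.coe_le_coe.2 ?_)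
        exact Nat.le_of_succ_le_succ (WithTop.coe_le_coe.1 (WithBot.coe_le_coe.1 h1))
    obtain ⟨xs, hxs, hxsr, hgen⟩ := ih S (finite_quotG Q S₀ _) hSd hb fun n hn =>
      (ha (-((D + 1 : ℕ) : ℤ))).2 htop n (by push_cast; omega)
    refine ⟨Fin.cons x xs, Fin.cases hx hxs, ?_, fun n hn y hy => ?_⟩
    · rw [List.ofFn_succ, RingTheory.Sequence.isWeaklyRegular_cons_iff]
      simp only [Fin.cons_zero, Fin.cons_succ]
      exact ⟨hxr, ((Submodule.quotEquivOfEq S₀ _ hSx).isWeaklyRegular_congr _).1 hxsr⟩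
    · let I := Ideal.span (Set.range (Fin.cons x xs : Fin (D + 1) → R))
      have hsub : S₀ ≤ I • (⊤ : Submodule R Q.carrier) := by
        rintro _ ⟨v, rfl⟩
        exact Submodule.smul_mem_smul (Ideal.subset_span ⟨0, rfl⟩) Submodule.mem_top
      have h1 : S₀.mkQ y ∈ Ideal.span (Set.range xs) • (⊤ : Submodule R (Q.carrier ⧸ S₀)) :=
        hgen n hn _ ⟨y, hy, rfl⟩
      rw [← Submodule.range_mkQ S₀, ← Submodule.map_top, ← Submodule.map_smul''] at h1
      obtain ⟨v, hv, hve⟩ := h1
      have h2 : y - v ∈ S₀ := (Submodule.Quotient.eq S₀).1 hve.symm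
      have h3 : Ideal.span (Set.range xs) ≤ I := Ideal.span_mono (by
        rintro _ ⟨i, rfl⟩; exact ⟨i.succ, by simp⟩)
      simpa [I] using add_mem (hsub h2) (Submodule.smul_mono h3 le_rfl hv)

end GrModLib
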