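import Groth.Agent.GrModLib.Kosz
import Groth.Prelude.Def_GrSyz

/-! Castelnuovo–Mumford regularity through graded local cohomology and through free resolutions. -/

set_option autoImplicit false
universe u

open DirectSum

namespace GrModLib

variable {R : Type u} [CommRing R] {𝒜 : ℤ → AddSubgroup R} [GradedRing 𝒜]
  {M : Type u} [AddCommGroup M] [Module R M]

/-- `M` is `D`-regular: all pieces of local cohomology above the diagonal `D` vanish. -/
def RegLE (a : HomogeneousIdeal 𝒜) (ℳ : ℤ → AddSubgroup M) [DirectSum.Decomposition ℳ]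
    [SetLike.GradedSMul 𝒜 ℳ] (D : ℤ) : Prop :=
  ∀ (i : ℕ) (m : ℤ), D < i + m → Van a ℳ i m

variable {ℳ : ℤ → AddSubgroup M} [DirectSum.Decomposition ℳ] [SetLike.GradedSMul 𝒜 ℳ]
  {a : HomogeneousIdeal 𝒜}

theorem RegLE.mono {D D' : ℤ} (h : RegLE a ℳ D) (hD : D ≤ D') : RegLE a ℳ D' :=
  fun i m hm => h i m (lt_of_le_of_lt hD hm)

theorem regLE_iff_endDeg (E : GrLC.StarInjRes 𝒜 ℳ) (D : ℤ) : RegLE a ℳ D ↔
    ∀ i : ℕ, GrLC.endDeg (E.Hgr a i) + (((i : ℤ) : WithTop ℤ) : WithBot (WithTop ℤ)) ≤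
      ((D : WithTop ℤ) : WithBot (WithTop ℤ)) := by
  constructor
  · intro h i
    have h1 : GrLC.endDeg (E.Hgr a i) ≤ (((D - i : ℤ) : WithTop ℤ) : WithBot (WithTop ℤ)) :=
      iSup₂_le fun m hm => WithBot.coe_le_coe.2 (WithTop.coe_le_coe.2 (by
        by_contra hlt
        exact hm ((AddSubgroup.eq_bot_iff_forall _).2 fun x hx => h i m (by omega) E x hx)))
    refine (add_le_add h1 le_rfl).trans (le_of_eq ?_)
    rw [← WithBot.coe_add, ← WithTop.coe_add, sub_add_cancel]
  · intro h i m hm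
    rw [van_iff E]
    intro x hx
    by_contra hx0
    have h1 : ((m : WithTop ℤ) : WithBot (WithTop ℤ)) ≤ GrLC.endDeg (E.Hgr a i) :=
      le_iSup₂_of_le m (fun h => hx0 (AddSubgroup.mem_bot.1 (h ▸ hx))) le_rfl
    have h2 : (((m + i : ℤ) : WithTop ℤ) : WithBot (WithTop ℤ)) ≤ ((D : WithTop ℤ) : WithBot (WithTop ℤ)) := by
      refine le_trans (le_of_eq ?_) ((add_le_add h1 le_rfl).trans (h i))
      rw [← WithBot.coe_add, ← WithTop.coe_add]
    have := WithTop.coe_le_coe.1 (WithBot.coe_le_coe.1 h2)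
    omega

theorem regLE_of_subsingleton [IsNoetherianRing R] [Subsingleton M] (D : ℤ) : RegLE a ℳ D :=
  fun i m _ => van_of_subsingleton i m

/-- Weak regularity implies regularity. -/
theorem regLE_of_diag [IsNoetherianRing R] (hspan : a.toIdeal = Ideal.span ((𝒜 1 : AddSubgroup R) : Set R))
    {D : ℤ} (h0 : ∀ m, D < m → Van a ℳ 0 m) (h : ∀ i : ℕ, 0 < i → Van a ℳ i (D - i + 1)) : RegLE a ℳ D := by
  have key : ∀ (k i : ℕ), 1 ≤ i → Van a ℳ i (D + 1 + k - i) := by
    intro k
    induction k with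
    | zero =>
      intro i hi
      rw [show D + 1 + ((0 : ℕ) : ℤ) - i = D - i + 1 by simp; ring]
      exact h i hi
    | succ k ih =>
      intro i hi
      have := van_diag (ℳ := ℳ) hspan le_rfl ih i hi
      rwa [show D + 1 + ((k + 1 : ℕ) : ℤ) = D + 1 + k + 1 by push_cast; ring]
  intro i m hm
  rcases Nat.eq_zero_or_pos i with rfl | hi
  · exact h0 m (by simpa using hm)
  · have h2 := key (m + i - D - 1).toNat i hi
    rwa [show D + 1 + (((m + i - D - 1).toNat : ℕ) : ℤ) - i = m by omega] at h2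

/-- A torsion module is as regular as its top degree. -/
theorem regLE_of_torsion [IsNoetherianRing R] (hM : GrLC.gam a.toIdeal M = ⊤) {D : ℤ}
    (h : ∀ m, D < m → ∀ y ∈ ℳ m, y = 0) : RegLE a ℳ D := by
  intro i m hm
  rcases Nat.eq_zero_or_pos i with rfl | hi
  · intro E x hx
    obtain ⟨z, hz, rfl⟩ := hx
    have hzr : (z : (E.X 0).carrier) ∈ LinearMap.range E.ε := E.exact_zero.le z.2.2
    rw [← add_zero m] at hz
    obtain ⟨y, hy, hyz⟩ := preimage_homogeneous (ε_deg E) hz hzr
    have h0 : z = 0 := Subtype.ext (by rw [← hyz, h m (by simpa using hm) y hy, map_zero]; rfl)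
    rw [h0, map_zero]
  · exact van_of_torsion hM hi m

section SES

variable (A B C : GrLC.GMod.{u} 𝒜) (f : A.carrier →ₗ[R] B.carrier) (g : B.carrier →ₗ[R] C.carrier)

theorem van_sub_zero (hf : GrLC.IsGrHomDeg A.gr B.gr f 0) (hg : GrLC.IsGrHomDeg B.gr C.gr g 0)
    (hfi : Function.Injective f) (hgs : Function.Surjective g) (hex : LinearMap.ker g = LinearMap.range f)
    {m : ℤ} (h : Van a B.gr 0 m) : Van a A.gr 0 m := fun E x hx => by
  obtain ⟨E₂⟩ := nonempty_resG B
  obtain ⟨E₃⟩ := nonempty_resG C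
  obtain ⟨δ, -, hinj, -⟩ := exists_lesG A B C f g hf hg hfi hgs hex E E₂ E₃ a
  have h1 := Hmap_deg E E₂ a hf 0 m x hx
  rw [add_zero] at h1
  exact hinj (by rw [h E₂ _ h1, map_zero])

theorem regLE_right (hf : GrLC.IsGrHomDeg A.gr B.gr f 0) (hg : GrLC.IsGrHomDeg B.gr C.gr g 0)
    (hfi : Function.Injective f) (hgs : Function.Surjective g) (hex : LinearMap.ker g = LinearMap.range f)
    {D : ℤ} (hA : RegLE a A.gr (D + 1)) (hB : RegLE a B.gr D) : RegLE a C.gr D := fun i m hm =>
  van_rightG A B C f g hf hg hfi hgs hex (add_zero m) (add_zero m) (hB i m hm)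
    (hA (i + 1) m (by push_cast; omega))

theorem regLE_left (hf : GrLC.IsGrHomDeg A.gr B.gr f 0) (hg : GrLC.IsGrHomDeg B.gr C.gr g 0)
    (hfi : Function.Injective f) (hgs : Function.Surjective g) (hex : LinearMap.ker g = LinearMap.range f)
    {D : ℤ} (hB : RegLE a B.gr (D + 1)) (hC : RegLE a C.gr D) : RegLE a A.gr (D + 1) := by
  intro i m hm
  rcases i with _ | i
  · exact van_sub_zero A B C f g hf hg hfi hgs hex (hB 0 m hm)
  · exact van_left hf hg hfi hgs hex (add_zero m) (add_zero m) (hC i m (by push_cast at hm; omega))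
      (hB (i + 1) m hm)

/-- Regularity can be read off from the quotient by a regular element of degree one. -/
theorem regLE_of_quot {x : R} (hx : x ∈ 𝒜 1) (hxa : x ∈ a.toIdeal) (N Q : GrLC.GMod.{u} 𝒜)
    (π : N.carrier →ₗ[R] Q.carrier) (hπ : GrLC.IsGrHom N.gr Q.gr π) (hπs : Function.Surjective π)
    (hxr : IsSMulRegular N.carrier x)
    (hex : LinearMap.ker π = LinearMap.range (x • (LinearMap.id : N.carrier →ₗ[R] N.carrier))) {D : ℤ}
    (hQ : RegLE a Q.gr D) : RegLE a N.gr D := by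
  intro i m hm E y hy
  obtain ⟨F⟩ := nonempty_resG Q
  have hf : GrLC.IsGrHomDeg N.gr N.gr (x • (LinearMap.id : N.carrier →ₗ[R] N.carrier)) 1 := fun g m hm => by
    rw [add_comm]; exact smul_mem 𝒜 N.gr hx hm
  obtain ⟨δ, hδ, h0, hle⟩ := exists_lesG N N Q (x • (LinearMap.id : N.carrier →ₗ[R] N.carrier)) π (e := 0)
    hf (fun g m hm => by rw [add_zero]; exact hπ g m hm) hxr hπs hex E E F a
  have hinj : ∀ (n : ℤ), D < i + n → ∀ w ∈ E.Hgr a i n, x • w = 0 → w = 0 := by
    intro n hn w hw hxw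
    cases i with
    | zero =>
      refine h0 ?_
      rw [Hmap_smul E a x hf hx, map_zero]
      exact hxw
    | succ j =>
      have h1 : Hmap E E a (x • (LinearMap.id : N.carrier →ₗ[R] N.carrier)) 1 hf (j + 1) w = 0 := by
        rw [Hmap_smul E a x hf hx]; exact hxw
      rw [show n = n + 1 + -((1 : ℤ) + 0) by ring] at hw
      obtain ⟨v, hv, rfl⟩ := preimage_homogeneous (hδ j) hw (((hle j).2.2 w).1 h1)
      rw [hQ j (n + 1) (by push_cast at hn; omega) F v hv, map_zero]
  obtain ⟨K, hK⟩ : ∃ K : ℕ, x ^ K • y = 0 := by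
    obtain ⟨z, rfl⟩ := Submodule.mkQ_surjective _ y
    obtain ⟨K, hK⟩ := z.2.1
    exact ⟨K, by rw [← map_smul, show x ^ K • z = 0 from Subtype.ext (hK _ (Ideal.pow_mem_pow hxa K)), map_zero]⟩
  induction K generalizing m y with
  | zero => rwa [pow_zero, one_smul] at hK
  | succ K ih =>
    refine hinj m hm y hy (ih (m + 1) (by omega) (x • y) ?_ ?_)
    · rw [add_comm m 1]; exact smul_mem 𝒜 (E.Hgr a i) hx hy
    · rwa [← mul_smul, ← pow_succ]

theorem regLE_quot {x : R} (hx : x ∈ 𝒜 1) (N Q : GrLC.GMod.{u} 𝒜)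
    (π : N.carrier →ₗ[R] Q.carrier) (hπ : GrLC.IsGrHom N.gr Q.gr π) (hπs : Function.Surjective π)
    (hxr : IsSMulRegular N.carrier x)
    (hex : LinearMap.ker π = LinearMap.range (x • (LinearMap.id : N.carrier →ₗ[R] N.carrier))) {D : ℤ}
    (hN : RegLE a N.gr D) : RegLE a Q.gr D := fun i m hm =>
  van_rightG N N Q (x • (LinearMap.id : N.carrier →ₗ[R] N.carrier)) π (d := 1) (e := 0)
    (fun g m hm => by rw [add_comm]; exact smul_mem 𝒜 N.gr hx hm) (fun g m hm => by rw [add_zero]; exact hπ g m hm)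
    hxr hπs hex (sub_add_cancel m 1) (add_zero m) (hN i m hm) (hN (i + 1) (m - 1) (by push_cast; omega))

end SES

section Free

/-- A finite free graded module, bundled. -/
noncomputable def freeG {k : ℕ} (d : Fin k → ℤ) : GrLC.GMod.{u} 𝒜 :=
  letI := (freeGr_isInternal (𝒜 := 𝒜) d).chooseDecomposition
  haveI := freeGr_gradedSMul (𝒜 := 𝒜) d
  { carrier := Fin k → R, gr := freeGr 𝒜 d }

/-- Free modules are as regular as their generators, once the ring is `0`-regular. -/
theorem regLE_free [IsNoetherianRing R] (h : RegLE a 𝒜 0) :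
    ∀ {k : ℕ} (d : Fin k → ℤ) {D : ℤ}, (∀ b, d b ≤ D) → RegLE a (freeG (𝒜 := 𝒜) d).gr D := by
  intro k
  induction k with
  | zero =>
    intro d D _ i m _
    haveI : Subsingleton (freeG (𝒜 := 𝒜) d).carrier := inferInstanceAs (Subsingleton (Fin 0 → R))
    exact van_of_subsingleton i m
  | succ k ih =>
    intro d D hd i m hm
    refine van_midG (GrLC.GMod.of 𝒜 R 𝒜) (freeG d) (freeG fun b => d b.succ)
      (LinearMap.single R (fun _ : Fin (k + 1) => R) 0) (LinearMap.funLeft R R Fin.succ) (d := d 0) (e := 0)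
      (fun g x hx j _ => ?_) (fun g x hx j _ => by rw [add_zero]; exact hx j.succ (Set.mem_univ _))
      (Pi.single_injective (M := fun _ : Fin (k + 1) => R) 0) (LinearMap.funLeft_surjective_of_injective _ _ _ (Fin.succ_injective _)) ?_
      (sub_add_cancel m (d 0)) (add_zero m) (h i (m - d 0) (by have := hd 0; omega))
      (ih (fun b => d b.succ) (fun b => hd b.succ) i m hm)
    · show Pi.single (M := fun _ : Fin (k + 1) => R) 0 x j ∈ 𝒜 (g + d 0 - d j)
      by_cases hj : j = 0
      · subst hj; rw [Pi.single_eq_same, add_sub_cancel_right]; exact hx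
      · rw [Pi.single_eq_of_ne hj]; exact zero_mem _
    · refine Submodule.ext fun (v : Fin (k + 1) → R) => ?_
      constructor
      · intro hv
        refine ⟨v 0, funext fun j => ?_⟩
        refine Fin.cases ?_ (fun j => ?_) j
        · show Pi.single (M := fun _ : Fin (k + 1) => R) 0 (v 0) 0 = v 0
          exact Pi.single_eq_same _ _
        · show Pi.single (M := fun _ : Fin (k + 1) => R) 0 (v 0) j.succ = v j.succ
          rw [Pi.single_eq_of_ne (Fin.succ_ne_zero j)]
          exact (congrFun hv j).symm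
      · rintro ⟨x, rfl⟩
        change R at x
        refine funext fun j => ?_
        show Pi.single (M := fun _ : Fin (k + 1) => R) 0 x j.succ = 0
        exact Pi.single_eq_of_ne (Fin.succ_ne_zero j) x

/-- Generators of a regular module with no redundancy have small degrees. -/
theorem deg_le_of_minimal [IsNoetherianRing R] (hspan : a.toIdeal = Ideal.span ((𝒜 1 : AddSubgroup R) : Set R))
    (h1 : (1 : R) ∉ a.toIdeal) {k : ℕ} (d : Fin k → ℤ) (u : (Fin k → R) →ₗ[R] M)
    (hu : GrLC.IsGrHom (freeGr 𝒜 d) ℳ u) (hus : Function.Surjective u)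
    (hker : ∀ v, u v = 0 → ∀ b, v b ∈ a.toIdeal) {D : ℤ} (hM : RegLE a ℳ D) (b : Fin k) : d b ≤ D := by
  classical
  by_contra hb
  have hmem : u (Pi.single b 1) ∈ ℳ (d b) := by
    refine hu (d b) _ fun j _ => ?_
    show Pi.single (M := fun _ : Fin k => R) b 1 j ∈ 𝒜 (d b - d j)
    by_cases hj : j = b
    · subst hj; rw [Pi.single_eq_same, sub_self]; exact SetLike.one_mem_graded 𝒜
    · rw [Pi.single_eq_of_ne hj]; exact zero_mem _
  have hy := mem_smul_top hspan (fun j => hM (j + 1) (d b - 1 - j) (by push_cast; omega))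
    (hM 0 (d b) (by simpa using lt_of_not_ge hb)) hmem
  rw [← LinearMap.range_eq_top.2 hus, LinearMap.range_eq_map, ← Submodule.map_smul''] at hy
  obtain ⟨w, hw, hwu⟩ := hy
  have hwb : w b ∈ a.toIdeal := by
    refine Submodule.smul_induction_on (p := fun w : Fin k → R => w b ∈ a.toIdeal) hw (fun r hr v _ => ?_)
      fun v v' hv hv' => add_mem hv hv'
    exact Ideal.mul_mem_right _ _ hr
  have h2 := hker (Pi.single b 1 - w) (by rw [map_sub, hwu, sub_self]) b
  rw [Pi.sub_apply, Pi.single_eq_same] at h2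
  exact h1 (by simpa using add_mem h2 hwb)

/-- `deg_le_of_minimal` for a bundled module. -/
theorem deg_le_of_minimalG [IsNoetherianRing R] (hspan : a.toIdeal = Ideal.span ((𝒜 1 : AddSubgroup R) : Set R))
    (h1 : (1 : R) ∉ a.toIdeal) {k : ℕ} (d : Fin k → ℤ) (N : GrLC.GMod.{u} 𝒜) (u : (Fin k → R) →ₗ[R] N.carrier)
    (hu : GrLC.IsGrHom (freeGr 𝒜 d) N.gr u) (hus : Function.Surjective u)
    (hker : ∀ v, u v = 0 → ∀ b, v b ∈ a.toIdeal) {D : ℤ} (hM : RegLE a N.gr D) (b : Fin k) : d b ≤ D :=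
  deg_le_of_minimal hspan h1 d u hu hus hker hM b

end Free

section Resolution

variable (F : GrSyz.FreeRes 𝒜 ℳ)

theorem dLin_grHom (p : ℕ) :
    GrLC.IsGrHom (freeGr 𝒜 (F.deg (p + 1))) (freeGr 𝒜 (F.deg p)) (F.dLin p) := fun g v hv j _ => by
  show (∑ b, F.d p j b * v b) ∈ 𝒜 (g - F.deg p j)
  refine sum_mem fun b _ => ?_
  have h := SetLike.mul_mem_graded (F.d_mem p j b) (hv b (Set.mem_univ b))
  rwa [show F.deg (p + 1) b - F.deg p j + (g - F.deg (p + 1) b) = g - F.deg p j by ring] at h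

theorem augLin_grHom : GrLC.IsGrHom (freeGr 𝒜 (F.deg 0)) ℳ F.augLin := fun g v hv => by
  rw [show F.augLin v = ∑ b, v b • F.aug b from Fintype.linearCombination_apply R F.aug v]
  refine sum_mem fun b _ => ?_
  have h := smul_mem 𝒜 ℳ (hv b (Set.mem_univ b)) (F.aug_mem b)
  rwa [sub_add_cancel] at h

/-- A homogeneous submodule of a bundled module. -/
noncomputable def subG' (N : GrLC.GMod.{u} 𝒜) (P : Submodule R N.carrier) (hP : P.IsHomogeneous N.gr) :
    GrLC.GMod.{u} 𝒜 := subG 𝒜 (ℳ := N.gr) P hP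

/-- The syzygy modules. -/
noncomputable def syzG (p : ℕ) : GrLC.GMod.{u} 𝒜 :=
  subG' (freeG (𝒜 := 𝒜) (F.deg p)) (LinearMap.range (F.dLin p))
    (range_isHomogeneous (ℳ := (freeG (𝒜 := 𝒜) (F.deg (p + 1))).gr) (𝒩 := (freeG (𝒜 := 𝒜) (F.deg p)).gr)
      (f := F.dLin p) (dLin_grHom F p))

theorem freeG_deg_zero {k l : ℕ} {d : Fin k → ℤ} {e : Fin l → ℤ} {f : (Fin k → R) →ₗ[R] (Fin l → R)}
    (hf : GrLC.IsGrHom (freeGr 𝒜 d) (freeGr 𝒜 e) f) :
    GrLC.IsGrHomDeg (freeG (𝒜 := 𝒜) d).gr (freeG (𝒜 := 𝒜) e).gr f 0 := fun g m hm => by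
  rw [add_zero]; exact hf g m hm

/-- A resolution with small generators bounds the regularity. -/
theorem regLE_of_isGenLE [IsNoetherianRing R] (hR : RegLE a 𝒜 0) {D : ℤ} (hF : F.IsGenLE D) : RegLE a ℳ D := by
  obtain ⟨fs, hfs⟩ := LocCohLib.exists_list_span a.toIdeal
  have hfree : ∀ p, RegLE a (freeG (𝒜 := 𝒜) (F.deg p)).gr (D + p) := fun p => regLE_free hR _ fun b => hF p b
  have key : ∀ (t p i : ℕ) (m : ℤ), fs.length + 1 ≤ i + t → D + p + 1 < i + m → Van a (syzG F p).gr i m := by
    intro t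
    induction t with
    | zero =>
      intro p i m hi _
      exact van_of_subsingleton_H (LocCohLib.subsingleton_H_of_length_lt a.toIdeal fs hfs i (by omega) _) m
    | succ t ih =>
      intro p i m hi hm
      exact van_rightG (syzG F (p + 1)) (freeG (F.deg (p + 1))) (syzG F p)
        (LinearMap.range (F.dLin (p + 1))).subtype (F.dLin p).rangeRestrict (d := 0) (e := 0)
        (fun g v hv => by rw [add_zero]; exact hv) (fun g v hv => by rw [add_zero]; exact dLin_grHom F p g v hv)
        (Submodule.injective_subtype _) (F.dLin p).surjective_rangeRestrict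
        (((F.dLin p).ker_rangeRestrict.trans (F.exact_succ p)).trans (Submodule.range_subtype _).symm)
        (add_zero m) (add_zero m) (hfree (p + 1) i m (by push_cast; omega))
        (ih (p + 1) (i + 1) m (by omega) (by push_cast; omega))
  refine regLE_right (syzG F 0) (freeG (F.deg 0)) (GrLC.GMod.of 𝒜 M ℳ)
    (LinearMap.range (F.dLin 0)).subtype F.augLin (fun g v hv => by rw [add_zero]; exact hv)
    (fun g v hv => by rw [add_zero]; exact augLin_grHom F g v hv) (Submodule.injective_subtype _)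
    F.aug_surjective (F.exact_zero.trans (Submodule.range_subtype _).symm) (fun i m hm => ?_)
    (by simpa using hfree 0)
  exact key (fs.length + 1) 0 i m (by omega) (by simpa using hm)

/-- The generators of a minimal resolution of a regular module are small. -/
theorem isGenLE_of_regLE [IsNoetherianRing R] (hR : RegLE a 𝒜 0)
    (hspan : a.toIdeal = Ideal.span ((𝒜 1 : AddSubgroup R) : Set R)) (h1 : (1 : R) ∉ a.toIdeal)
    (hmin : F.IsMinimal a.toIdeal) {D : ℤ} (hM : RegLE a ℳ D) : F.IsGenLE D := by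
  have hcoord : ∀ p v, v ∈ LinearMap.range (F.dLin p) → ∀ b, v b ∈ a.toIdeal := by
    rintro p _ ⟨w, rfl⟩ b
    show (∑ c, F.d p b c * w c) ∈ a.toIdeal
    exact sum_mem fun c _ => Ideal.mul_mem_right _ _ (hmin p b c)
  have key : ∀ p : ℕ, (∀ b, F.deg p b ≤ D + p) ∧ RegLE a (syzG F p).gr (D + p + 1) := by
    intro p
    induction p with
    | zero =>
      have hdeg : ∀ b, F.deg 0 b ≤ D := deg_le_of_minimal hspan h1 (F.deg 0) F.augLin (augLin_grHom F)
        F.aug_surjective (fun v hv => hcoord 0 v (F.exact_zero.le hv)) hM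
      refine ⟨by simpa using hdeg, ?_⟩
      simpa using regLE_left (syzG F 0) (freeG (F.deg 0)) (GrLC.GMod.of 𝒜 M ℳ)
        (LinearMap.range (F.dLin 0)).subtype F.augLin (fun g v hv => by rw [add_zero]; exact hv)
        (fun g v hv => by rw [add_zero]; exact augLin_grHom F g v hv) (Submodule.injective_subtype _)
        F.aug_surjective (F.exact_zero.trans (Submodule.range_subtype _).symm)
        ((regLE_free hR _ hdeg).mono (by omega)) hM
    | succ p ih =>
      have hK : RegLE a (syzG F p).gr (D + p + 1) := ih.2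
      have hdeg : ∀ b, F.deg (p + 1) b ≤ D + p + 1 :=
        deg_le_of_minimalG hspan h1 (F.deg (p + 1)) (syzG F p) (F.dLin p).rangeRestrict
          (fun g v hv => dLin_grHom F p g v hv) (F.dLin p).surjective_rangeRestrict
          (fun v hv => hcoord (p + 1) v ((F.exact_succ p).le (congrArg Subtype.val hv))) hK
      refine ⟨fun b => by have := hdeg b; push_cast; omega, ?_⟩
      have := regLE_left (syzG F (p + 1)) (freeG (F.deg (p + 1))) (syzG F p)
        (LinearMap.range (F.dLin (p + 1))).subtype (F.dLin p).rangeRestrict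
        (fun g v hv => by rw [add_zero]; exact hv) (fun g v hv => by rw [add_zero]; exact dLin_grHom F p g v hv)
        (Submodule.injective_subtype _) (F.dLin p).surjective_rangeRestrict
        (((F.dLin p).ker_rangeRestrict.trans (F.exact_succ p)).trans (Submodule.range_subtype _).symm)
        ((regLE_free hR _ hdeg).mono (by omega)) hK
      exact this.mono (by push_cast; omega)
  exact fun i b => (key i).1 b

end Resolution

end GrModLib
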