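import Groth.Agent.GrModLib.Bridge
import Groth.Agent.GrModLib.Reg
import Groth.Agent.GrSyzLib.Minimal

/-! Regularity over standard graded polynomial rings. -/

set_option autoImplicit false
universe u

open DirectSum MvPolynomial

namespace GrModLib

variable (k : Type u) [Field k] (r : ℕ)

local notation "S" => MvPolynomial (Fin (r + 1)) k
local notation "𝒮" => toAdd (GrSyz.stdGr k (Fin (r + 1)))

/-- The irrelevant ideal of the polynomial ring, for the underlying grading. -/
noncomputable def stdIrrel : HomogeneousIdeal 𝒮 := toAddIdeal (GrSyz.irrel (GrSyz.stdGr k (Fin (r + 1))))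

theorem X_mem_one (j : Fin (r + 1)) : (X j : S) ∈ 𝒮 1 :=
  (GrSyz.mem_stdGr_iff k (Fin (r + 1)) 1 (X j : S)).2 (isWeightedHomogeneous_X k _ j)

theorem stdIrrel_eq_span : (stdIrrel k r).toIdeal = Ideal.span ((𝒮 1 : AddSubgroup S) : Set S) := by
  refine le_antisymm (fun p hp => ?_)
    (Ideal.span_le.2 fun p hp => Ideal.subset_span ⟨1, one_pos, hp⟩)
  have h0 : constantCoeff p = 0 := (GrSyzLib.mem_irrel_iff k r p).1 hp
  have h1 : p ∈ Ideal.span (X '' (Set.univ : Set (Fin (r + 1))) : Set S) := by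
    rw [mem_ideal_span_X_image]
    intro m hm
    by_contra hall
    push Not at hall
    have hm0 : m = 0 := Finsupp.ext fun i => hall i (Set.mem_univ i)
    exact mem_support_iff.1 hm (hm0 ▸ h0)
  refine Ideal.span_mono ?_ h1
  rintro _ ⟨j, -, rfl⟩
  exact X_mem_one k r j

theorem one_notMem_stdIrrel : (1 : S) ∉ (stdIrrel k r).toIdeal := fun h =>
  one_ne_zero ((map_one constantCoeff).symm.trans ((GrSyzLib.mem_irrel_iff k r _).1 h))

/-- The ideal of the first `p` variables. -/
noncomputable def varIdeal (p : ℕ) : Ideal S := Ideal.span (X '' {j : Fin (r + 1) | (j : ℕ) < p})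

theorem varIdeal_isHomogeneous (p : ℕ) : (varIdeal k r p).IsHomogeneous 𝒮 :=
  Ideal.homogeneous_span _ _ fun _ hx => by
    obtain ⟨j, _, rfl⟩ := hx
    exact ⟨1, X_mem_one k r j⟩

/-- The quotient by the first `p` variables. -/
noncomputable def varQuot (p : ℕ) : GrLC.GMod.{u} 𝒮 :=
  quotG 𝒮 (ℳ := 𝒮) (varIdeal k r p) (varIdeal_isHomogeneous k r p)

theorem regLE_varQuot : ∀ (t p : ℕ), p + t = r + 1 → RegLE (stdIrrel k r) (varQuot k r p).gr 0 := by
  intro t
  induction t with
  | zero =>
    intro p hp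
    have hI : (stdIrrel k r).toIdeal ≤ varIdeal k r p := by
      rw [stdIrrel_eq_span, Ideal.span_le]
      intro f hf
      have h0 : constantCoeff f = 0 :=
        (GrSyzLib.mem_irrel_iff k r f).1 (Ideal.subset_span ⟨1, one_pos, hf⟩)
      rw [SetLike.mem_coe, varIdeal, mem_ideal_span_X_image]
      intro m hm
      by_contra hall
      push Not at hall
      have hm0 : m = 0 := Finsupp.ext fun i => hall i (show (i : ℕ) < p by omega)
      exact mem_support_iff.1 hm (hm0 ▸ h0)
    refine regLE_of_torsion ?_ fun m hm y hy => ?_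
    · refine eq_top_iff.2 fun y _ => ?_
      obtain ⟨f, rfl⟩ := Submodule.mkQ_surjective (varIdeal k r p) y
      exact ⟨1, fun c hc => (Submodule.Quotient.mk_eq_zero (varIdeal k r p)).2
        (Ideal.mul_mem_right f _ (hI (by rwa [pow_one] at hc)))⟩
    · obtain ⟨f, hf, rfl⟩ := hy
      exact (Submodule.Quotient.mk_eq_zero (varIdeal k r p)).2 (hI (Ideal.subset_span ⟨m, hm, hf⟩))
  | succ t ih =>
    intro p hp
    let j : Fin (r + 1) := ⟨p, by omega⟩
    have hle : varIdeal k r p ≤ varIdeal k r (p + 1) :=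
      Ideal.span_mono (Set.image_mono fun i (hi : (i : ℕ) < p) => show (i : ℕ) < p + 1 by omega)
    have hsup : varIdeal k r (p + 1) = varIdeal k r p ⊔ Ideal.span {(X j : S)} := by
      rw [varIdeal, varIdeal, ← Ideal.span_union]
      congr 1
      ext x
      constructor
      · rintro ⟨i, hi, rfl⟩
        rcases lt_or_eq_of_le (Nat.lt_succ_iff.1 hi) with h | h
        · exact Or.inl ⟨i, h, rfl⟩
        · exact Or.inr (by rw [show i = j from Fin.ext h]; rfl)
      · rintro (⟨i, hi, rfl⟩ | rfl)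
        · exact ⟨i, show (i : ℕ) < p + 1 by have : (i : ℕ) < p := hi; omega, rfl⟩
        · exact ⟨j, show p < p + 1 by omega, rfl⟩
    let π : (varQuot k r p).carrier →ₗ[S] (varQuot k r (p + 1)).carrier :=
      (varIdeal k r p).liftQ (varIdeal k r (p + 1)).mkQ (hle.trans (Submodule.ker_mkQ (varIdeal k r (p + 1))).ge)
    refine regLE_of_quot (X_mem_one k r j)
      (show (X j : S) ∈ (stdIrrel k r).toIdeal from Ideal.subset_span ⟨1, one_pos, X_mem_one k r j⟩)
      (varQuot k r p) (varQuot k r (p + 1)) π (fun g m hm => ?_) (fun y => ?_) ?_ ?_ (ih (p + 1) (by omega))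
    · obtain ⟨f, hf, rfl⟩ := hm
      exact ⟨f, hf, rfl⟩
    · obtain ⟨f, rfl⟩ := Submodule.mkQ_surjective (varIdeal k r (p + 1)) y
      exact ⟨(varIdeal k r p).mkQ f, rfl⟩
    · refine isSMulRegular_iff_right_eq_zero_of_smul.2 fun y hy => ?_
      obtain ⟨f, rfl⟩ := Submodule.mkQ_surjective (varIdeal k r p) y
      have h1 : (X j : S) * f ∈ varIdeal k r p := (Submodule.Quotient.mk_eq_zero (varIdeal k r p)).1 hy
      refine (Submodule.Quotient.mk_eq_zero (varIdeal k r p)).2 ?_
      rw [varIdeal, mem_ideal_span_X_image] at h1 ⊢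
      intro m hm
      obtain ⟨i, hi, hne⟩ := h1 (Finsupp.single j 1 + m) (by
        rw [support_X_mul]
        exact Finset.mem_map.2 ⟨m, hm, rfl⟩)
      refine ⟨i, hi, ?_⟩
      have hij : j ≠ i := by
        intro h
        rw [← h] at hi
        exact lt_irrefl p hi
      rwa [Finsupp.add_apply, Finsupp.single_eq_of_ne' hij, zero_add] at hne
    · refine le_antisymm (fun y hy => ?_) ?_
      · obtain ⟨f, rfl⟩ := Submodule.mkQ_surjective (varIdeal k r p) y
        have h1 : f ∈ varIdeal k r (p + 1) := (Submodule.Quotient.mk_eq_zero (varIdeal k r (p + 1))).1 hy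
        rw [hsup] at h1
        obtain ⟨u, hu, v, hv, rfl⟩ := Submodule.mem_sup.1 h1
        obtain ⟨c, rfl⟩ := Ideal.mem_span_singleton'.1 hv
        refine ⟨(varIdeal k r p).mkQ c, ?_⟩
        refine (Submodule.Quotient.eq (varIdeal k r p)).2 ?_
        have : (X j : S) * c - (u + c * X j) = -u := by ring
        show (X j : S) * c - (u + c * X j) ∈ varIdeal k r p
        rw [this]
        exact neg_mem hu
      · rintro _ ⟨y, rfl⟩
        obtain ⟨c, rfl⟩ := Submodule.mkQ_surjective (varIdeal k r p) y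
        show (varIdeal k r (p + 1)).mkQ ((X j : S) * c) = 0
        exact (Submodule.Quotient.mk_eq_zero _).2
          (Ideal.mul_mem_right _ _ (Ideal.subset_span ⟨j, show p < p + 1 by omega, rfl⟩))

/-- The polynomial ring is `0`-regular. -/
theorem regLE_std : RegLE (stdIrrel k r) 𝒮 0 := by
  intro i m hm
  let B := subG 𝒮 (ℳ := 𝒮) (varIdeal k r 0) (varIdeal_isHomogeneous k r 0)
  have h0 : varIdeal k r 0 = ⊥ := by
    simp [varIdeal]
  haveI : Subsingleton B.carrier := by
    show Subsingleton (varIdeal k r 0)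
    rw [h0]; infer_instance
  exact van_midG B (GrLC.GMod.of 𝒮 S 𝒮) (varQuot k r 0) (varIdeal k r 0).subtype (varIdeal k r 0).mkQ
    (d := 0) (e := 0) (fun g v hv => by rw [add_zero]; exact hv) (fun g v hv => by rw [add_zero]; exact ⟨v, hv, rfl⟩)
    (varIdeal k r 0).injective_subtype (varIdeal k r 0).mkQ_surjective
    ((Submodule.ker_mkQ (varIdeal k r 0)).trans (varIdeal k r 0).range_subtype.symm) (add_zero m) (add_zero m)
    (van_of_subsingleton i m) (regLE_varQuot k r (r + 1) 0 (zero_add _) i m hm)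

variable {M : Type u} [AddCommGroup M] [Module k M] [Module (MvPolynomial (Fin (r + 1)) k) M]
  (ℳ : ℤ → Submodule k M) [DirectSum.Decomposition ℳ] [SetLike.GradedSMul (GrSyz.stdGr k (Fin (r + 1))) ℳ]

/-- Regularity of a graded module over the polynomial ring is read off a minimal resolution. -/
theorem isGenLE_iff_regLE (F : GrSyz.FreeRes (GrSyz.stdGr k (Fin (r + 1))) ℳ)
    (hF : F.IsMinimal (GrSyz.irrel (GrSyz.stdGr k (Fin (r + 1)))).toIdeal) (d : ℤ) :
    F.IsGenLE d ↔ RegLE (stdIrrel k r) (toAdd ℳ) d :=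
  ⟨fun h => regLE_of_isGenLE (freeResToAdd F) (regLE_std k r) h,
    fun h => isGenLE_of_regLE (freeResToAdd F) (regLE_std k r) (stdIrrel_eq_span k r) (one_notMem_stdIrrel k r) hF h⟩

end GrModLib
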