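import Groth.Agent.GrModLib.VerGor
import Groth.Agent.GrModLib.Canon

/-! A Cohen–Macaulay standard graded ring with a Gorenstein Veronese subring. -/

set_option autoImplicit false
universe u

open DirectSum
open scoped Pointwise

namespace GrModLib

variable {R : Type u} [CommRing R] [IsNoetherianRing R] {𝒜 : ℤ → AddSubgroup R} [GradedRing 𝒜]

theorem endDeg_eq_of_equiv (hpos : ∀ n : ℤ, n < 0 → 𝒜 n = ⊥) (h0 : IsField (GrLC.deg0 𝒜))
    {E : GrLC.GMod.{u} 𝒜} {e : (R ⧸ (posIdeal 𝒜).toIdeal) →ₗ[R] E.carrier}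
    (he : GrLC.IsStarInjHull 𝒜 (GrLC.quotGr 𝒜 (posIdeal 𝒜)) E.gr e) {H : Type u} [AddCommGroup H] [Module R H]
    (ℋ : ℤ → AddSubgroup H) [DirectSum.Decomposition ℋ] [SetLike.GradedSMul 𝒜 ℋ] (θ : H ≃ₗ[R] E.carrier) {g : ℤ}
    (hθ : GrLC.IsGrHomDeg ℋ E.gr θ.toLinearMap g) :
    GrLC.endDeg ℋ = (((-g : ℤ) : WithTop ℤ) : WithBot (WithTop ℤ)) := by
  refine le_antisymm (iSup₂_le fun j hj => WithBot.coe_le_coe.2 (WithTop.coe_le_coe.2 ?_)) (le_iSup₂_of_le (-g) ?_ le_rfl)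
  · by_contra hlt
    refine hj ((AddSubgroup.eq_bot_iff_forall _).2 fun x hx => θ.injective ?_)
    rw [map_zero]
    exact hull_eq_zero_of_pos hpos he (d := j + g) (by omega) (hθ j x hx)
  · intro hb
    obtain ⟨x, hx, hxe⟩ := preimage_homogeneous hθ (g := -g) (y := e 1)
      (by rw [neg_add_cancel]; exact hull_mem_zero hpos he 1) (θ.surjective _)
    rw [(AddSubgroup.eq_bot_iff_forall _).1 hb x hx, map_zero] at hxe
    exact hull_one_ne_zero hpos h0 he hxe.symm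

/-- A high power of the irrelevant ideal lands in what contains the Veronese pieces. -/
theorem smul_mem_of_pow (hstd : (posIdeal 𝒜).toIdeal = Ideal.span ((𝒜 1 : AddSubgroup R) : Set R))
    (X : GrLC.GMod.{u} 𝒜) (P : Submodule R X.carrier) {q : ℕ} (hq : 0 < q)
    (h : ∀ (j : ℤ) (z : X.carrier), z ∈ X.gr (j * q) → z ∈ P) (r : R) (hr : r ∈ (posIdeal 𝒜).toIdeal ^ q)
    (z : X.carrier) : r • z ∈ P := by
  have key : ∀ (k : ℕ) (r : R), r ∈ (posIdeal 𝒜).toIdeal ^ k → ∀ (i : ℤ) (z : X.carrier), z ∈ X.gr i →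
      (∃ t : ℕ, t ≤ k ∧ (q : ℤ) ∣ i + t) → r • z ∈ P := by
    intro k
    induction k with
    | zero =>
      rintro r - i z hz ⟨t, ht, hd⟩
      obtain rfl : t = 0 := by omega
      rw [Nat.cast_zero, add_zero] at hd
      obtain ⟨c, rfl⟩ := hd
      rw [mul_comm] at hz
      exact P.smul_mem r (h c z hz)
    | succ k ih =>
      intro r hr i z hz ⟨t, ht, hd⟩
      by_cases hdi : (q : ℤ) ∣ i
      · obtain ⟨c, rfl⟩ := hdi
        rw [mul_comm] at hz
        exact P.smul_mem r (h c z hz)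
      obtain ⟨t, rfl⟩ : ∃ s, t = s + 1 := Nat.exists_eq_succ_of_ne_zero fun e => hdi (by
        rw [e, Nat.cast_zero, add_zero] at hd; exact hd)
      have hstep : ∀ a ∈ (posIdeal 𝒜).toIdeal, ∀ b ∈ (posIdeal 𝒜).toIdeal ^ k, (b * a) • z ∈ P := by
        intro a ha
        rw [hstd] at ha
        induction ha using Submodule.span_induction with
        | mem a ha =>
          intro b hb
          rw [mul_smul]
          refine ih b hb (1 + i) (a • z) (smul_mem 𝒜 X.gr ha hz) ⟨t, by omega, ?_⟩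
          rwa [show (1 : ℤ) + i + (t : ℕ) = i + ((t + 1 : ℕ) : ℤ) by push_cast; ring]
        | zero => intro b _; rw [mul_zero, zero_smul]; exact zero_mem _
        | add a a' _ _ h1 h2 => intro b hb; rw [mul_add, add_smul]; exact add_mem (h1 b hb) (h2 b hb)
        | smul c a _ h1 =>
          intro b hb
          rw [smul_eq_mul, ← mul_assoc]
          exact h1 _ (Ideal.mul_mem_right c _ hb)
      rw [pow_succ] at hr
      exact Submodule.mul_induction_on hr (fun b hb a ha => hstep a ha b hb)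
        (fun x y h1 h2 => by rw [add_smul]; exact add_mem h1 h2)
  induction z using induction X.gr with
  | h0 => rw [smul_zero]; exact zero_mem _
  | hadd a b ha hb => rw [smul_add]; exact add_mem ha hb
  | hmem i z hz =>
    refine key q r hr i z hz ⟨((-i) % (q : ℤ)).toNat, ?_, ?_⟩
    · have h1 := Int.emod_lt_of_pos (-i) (show (0 : ℤ) < q by omega)
      omega
    · rw [Int.toNat_of_nonneg (Int.emod_nonneg _ (by omega))]
      exact ⟨-((-i) / (q : ℤ)), by rw [Int.emod_def]; ring⟩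

/-- The top local cohomology is divisible by regular elements. -/
theorem top_divisible (N : GrLC.GMod.{u} 𝒜) [Module.Finite R N.carrier] (E : GrLC.StarInjRes 𝒜 N.gr) {d : ℕ}
    (hdim : Module.supportDim R N.carrier ≤ ((d + 1 : ℕ) : WithBot ℕ∞)) {k : ℤ} {x : R} (hx : x ∈ 𝒜 k)
    (hxr : IsSMulRegular N.carrier x) (z : E.H (posIdeal 𝒜) (d + 1)) : ∃ w, x • w = z := by
  have hxN : GrLC.IsGrHomDeg N.gr N.gr (x • (LinearMap.id : N.carrier →ₗ[R] N.carrier)) k := fun g v hv => by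
    rw [add_comm]; exact smul_mem 𝒜 N.gr hx hv
  let S := LinearMap.range (x • (LinearMap.id : N.carrier →ₗ[R] N.carrier))
  let Q := quotG 𝒜 (ℳ := N.gr) S (range_isHomogeneous_deg hxN)
  haveI : Module.Finite R Q.carrier := finite_quotG N S _
  have hπ : GrLC.IsGrHomDeg N.gr Q.gr S.mkQ 0 := fun g v hv => by rw [add_zero]; exact ⟨v, hv, rfl⟩
  have hdimQ : Module.supportDim R Q.carrier ≤ (d : ℕ) := by
    have hSx : S = x • (⊤ : Submodule R N.carrier) := by
      ext z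
      rw [Submodule.mem_smul_pointwise_iff_exists]
      exact ⟨fun ⟨v, hv⟩ => ⟨v, Submodule.mem_top, hv⟩, fun ⟨v, _, hv⟩ => ⟨v, hv⟩⟩
    have h1 := (Module.supportDim_quotSMulTop_succ_le_of_notMem_minimalPrimes
      (fun _ => hxr.notMem_of_mem_minimalPrimes)).trans hdim
    have h2 : Module.supportDim R (N.carrier ⧸ S) = Module.supportDim R (QuotSMulTop x N.carrier) :=
      Module.supportDim_eq_of_equiv (Submodule.quotEquivOfEq _ _ hSx)
    show Module.supportDim R (N.carrier ⧸ S) ≤ _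
    rw [h2]
    revert h1
    generalize Module.supportDim R (QuotSMulTop x N.carrier) = w
    rcases w with _ | _ | w <;> intro h1
    · exact bot_le
    · exact absurd (WithBot.coe_le_coe.1 h1) (WithTop.coe_lt_top (d + 1)).not_ge
    · refine WithBot.coe_le_coe.2 (WithTop.coe_le_coe.2 ?_)
      exact Nat.le_of_succ_le_succ (WithTop.coe_le_coe.1 (WithBot.coe_le_coe.1 h1))
  obtain ⟨F⟩ := nonempty_resG Q
  obtain ⟨δ, -, -, hle⟩ := exists_lesG N N Q (x • (LinearMap.id : N.carrier →ₗ[R] N.carrier)) S.mkQ hxN hπ hxr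
    S.mkQ_surjective S.ker_mkQ E E F (posIdeal 𝒜)
  haveI : Subsingleton (F.H (posIdeal 𝒜) (d + 1)) := by
    obtain ⟨eH⟩ := nonempty_H_equiv F (posIdeal 𝒜) (d + 1)
    haveI := LocCohLib.subsingleton_H_of_supportDim_lt (I := (posIdeal 𝒜).toIdeal) (d + 1) Q.carrier
      (hdimQ.trans_lt (by exact_mod_cast d.lt_succ_self))
    exact eH.toEquiv.subsingleton
  obtain ⟨w, hw⟩ := ((hle (d + 1)).1 z).1 (Subsingleton.elim _ _)
  rw [Hmap_smul E (posIdeal 𝒜) x hxN hx] at hw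
  exact ⟨w, hw⟩

/-- Multiples in a *injective module along an injective scalar. -/
theorem exists_smul_eq_of_starInj {E : GrLC.GMod.{u} 𝒜} (hE : GrLC.IsStarInj 𝒜 E.gr) (Q : GrLC.GMod.{u} 𝒜)
    {k : ℤ} {y : R} (hy : y ∈ 𝒜 k) (hyr : IsSMulRegular Q.carrier y) {g : ℤ} (α : Q.carrier →ₗ[R] E.carrier)
    (hα : GrLC.IsGrHomDeg Q.gr E.gr α g) : ∃ β : Q.carrier →ₗ[R] E.carrier, ∀ v, y • β v = α v := by
  obtain ⟨β, -, hβ⟩ := extend_factor hE Q.gr Q.gr (y • (LinearMap.id : Q.carrier →ₗ[R] Q.carrier)) (e := k)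
    (fun j v hv => by rw [add_comm]; exact smul_mem 𝒜 Q.gr hy hv) α (d := g - k)
    (by rwa [add_sub_cancel]) (fun v hv => by
      have h0 : v = 0 := hyr (show y • v = y • (0 : Q.carrier) from (LinearMap.mem_ker.1 hv).trans (smul_zero y).symm)
      rw [h0]; exact zero_mem _)
  exact ⟨β, fun v => by rw [← map_smul]; exact LinearMap.congr_fun hβ v⟩

variable {R' : Type u} [CommRing R'] {𝒜' : ℤ → AddSubgroup R'} [GradedRing 𝒜'] {φ : R' →+* R} {q : ℕ}

/-- If the Veronese subring is Gorenstein, so is the ring, and `q` divides the `a`-invariant. -/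
theorem gorenstein_of_veronese [LocCoh.IsCohenMacaulayRing R] (hV : IsVer 𝒜 𝒜' φ q)
    (hpos : ∀ n : ℤ, n < 0 → 𝒜 n = ⊥) (h0 : IsField (GrLC.deg0 𝒜))
    (hstd : (posIdeal 𝒜).toIdeal = Ideal.span ((𝒜 1 : AddSubgroup R) : Set R)) {n : ℕ} (hn : ringKrullDim R = n)
    (h2 : 2 ≤ n) (I : GrLC.StarInjRes 𝒜 𝒜) (hG' : LocCoh.IsGorensteinRing R') :
    LocCoh.IsGorensteinRing R ∧ ∃ a : ℤ,
      GrLC.endDeg (I.Hgr (posIdeal 𝒜) n) = ((a : WithTop ℤ) : WithBot (WithTop ℤ)) ∧ (q : ℤ) ∣ a := by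
  haveI := hG'
  haveI := hV.isNoetherianRing
  obtain ⟨d, rfl⟩ : ∃ d, n = d + 1 := ⟨n - 1, by omega⟩
  have hpos' := hV.hpos' hpos
  have h0' := hV.isField' h0
  have hm := isStarLocal_posIdeal (𝒜 := 𝒜) hpos h0
  haveI hmax := isMaximal_of_starLocal hpos hm
  let RG : GrLC.GMod.{u} 𝒜 := GrLC.GMod.of 𝒜 R 𝒜
  haveI : Module.Finite R RG.carrier := inferInstanceAs (Module.Finite R R)
  let RG' : GrLC.GMod.{u} 𝒜' := GrLC.GMod.of 𝒜' R' 𝒜'
  let g : RG'.carrier →ₛₗ[φ] RG.carrier :=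
    { toFun := fun x => φ x, map_add' := fun x y => map_add φ x y, map_smul' := fun r x => map_mul φ r x }
  have hgdeg : ∀ j : ℤ, (RG'.gr j).map (g : RG'.carrier →+ RG.carrier) = RG.gr (j * q) := hV.map_eq
  obtain ⟨F⟩ := nonempty_resG RG'
  obtain ⟨E, e, he⟩ := exists_residue_hull (posIdeal 𝒜)
  obtain ⟨E'', e', he'⟩ := exists_residue_hull (posIdeal 𝒜')
  obtain ⟨κ, hκ⟩ := exists_verHull_equiv hV hpos h0 he he'
  obtain ⟨B, Θ, -, hΘ⟩ := exists_top_equiv_endDeg hpos' h0' ((hV.ringKrullDim_eq hpos).trans hn) F he'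
  obtain ⟨Φ, hΦi, hΦs, hΦj⟩ := exists_verH hV RG RG' g hV.inj hgdeg I F (d + 1)
  let HG : GrLC.GMod.{u} 𝒜 := GrLC.GMod.of 𝒜 (I.H (posIdeal 𝒜) (d + 1)) (I.Hgr (posIdeal 𝒜) (d + 1))
  let HG' : GrLC.GMod.{u} 𝒜' := GrLC.GMod.of 𝒜' (F.H (posIdeal 𝒜') (d + 1)) (F.Hgr (posIdeal 𝒜') (d + 1))
  let W := verG hV E
  -- the functional in degree `B q`
  have hex : ∀ v : GrLC.comp 𝒜 HG.gr (- -(B * q)), ∃ (u : HG'.carrier) (w : W.carrier),
      u ∈ HG'.gr B ∧ Φ u = v.1 ∧ w ∈ W.gr 0 ∧ κ w = Θ u := fun v => by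
    have hneg : ∀ (j : ℤ) (w : HG.carrier), w ∈ HG.gr (- -j) → w ∈ HG.gr j := fun j w hw => by rwa [neg_neg] at hw
    have hv1 := hneg (B * q) v.1 v.2
    obtain ⟨u, hu, huv⟩ := (hΦj B).ge (show v.1 ∈ I.Hgr (posIdeal 𝒜) (d + 1) (B * q) from hv1)
    have hΘu : Θ u ∈ E''.gr 0 := by
      have h1 : Θ u ∈ E''.gr (B + -B) := hΘ B u hu
      rwa [add_neg_cancel] at h1
    obtain ⟨w, hw, hwe⟩ := preimage_homogeneous (isGrHomDeg_zero_iff.2 hκ) (g := 0) (y := Θ u)
      (by rwa [add_zero]) (κ.surjective _)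
    exact ⟨u, w, hu, huv, hw, hwe⟩
  choose uv wv huv huvv hwv hκwv using hex
  let ψ : GrLC.comp 𝒜 HG.gr (- -(B * q)) →ₗ[GrLC.deg0 𝒜] GrLC.comp 𝒜 E.gr 0 :=
    { toFun := fun v => ⟨vInc hV E (wv v), by
        have := (mem_verG_gr hV).1 (hwv v)
        rwa [zero_mul] at this⟩
      map_add' := fun v v' => Subtype.ext (by
        show vInc hV E (wv (v + v')) = vInc hV E (wv v) + vInc hV E (wv v')
        rw [← map_add]
        refine congrArg (vInc hV E) (κ.injective ?_)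
        rw [map_add, hκwv, hκwv, hκwv]
        refine Eq.trans (congrArg Θ ?_) (map_add Θ (uv v) (uv v'))
        refine hΦi ((huvv (v + v')).trans (Eq.symm ?_))
        exact (map_add Φ _ _).trans (congrArg₂ (· + ·) (huvv v) (huvv v')))
      map_smul' := fun c v => Subtype.ext (by
        show vInc hV E (wv (c • v)) = (c : R) • vInc hV E (wv v)
        obtain ⟨c', -, hc'⟩ := hV.exists_mem (j := 0) (x := (c : R)) (by rw [zero_mul]; exact c.2)
        rw [← hc', ← vInc_smul hV]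
        refine congrArg (vInc hV E) (κ.injective ?_)
        rw [map_smul, hκwv, hκwv]
        refine Eq.trans (congrArg Θ ?_) (map_smul Θ c' (uv v))
        refine hΦi ((huvv (c • v)).trans (Eq.symm ?_))
        refine (hΦs c' (uv v)).trans ?_
        rw [hc']
        exact congrArg ((c : R) • ·) (huvv v)) }
  obtain ⟨θ, hθ, hθv⟩ := exists_hom_deg hpos h0 he HG (-(B * q)) ψ
  have hdeg : ∀ (j : ℤ) u, u ∈ HG'.gr j → θ (Φ u) ∈ E.gr ((j - B) * q) := fun j u hu => by
    have h1 := hθ _ _ ((hΦj j).le ⟨u, hu, rfl⟩)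
    rwa [show j * (q : ℤ) + -(B * q) = (j - B) * q by ring] at h1
  have hfix : ∀ u : HG'.carrier, prDvd (q := q) E (θ (Φ u)) = θ (Φ u) := fun u => by
    induction u using induction HG'.gr with
    | h0 =>
      have h1 : θ (Φ (0 : HG'.carrier)) = 0 := (congrArg θ (map_zero Φ)).trans (map_zero θ)
      rw [h1, map_zero]
    | hadd s t hs ht =>
      have h1 : θ (Φ (s + t)) = θ (Φ s) + θ (Φ t) := (congrArg θ (map_add Φ s t)).trans (map_add θ _ _)
      rw [h1, map_add, hs, ht]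
    | hmem j m hm => rw [prDvd_of_mem (hdeg j m hm), if_pos (dvd_mul_left _ _)]
  let Γ : HG'.carrier →ₗ[R'] E''.carrier :=
    κ.toLinearMap ∘ₗ
      ({ toFun := fun u => verProj hV E (θ (Φ u))
         map_add' := fun x y => (congrArg (verProj hV E) ((congrArg θ (map_add Φ x y)).trans (map_add θ _ _))).trans
           (map_add (verProj hV E) _ _)
         map_smul' := fun r x => (congrArg (verProj hV E) ((congrArg θ (hΦs r x)).trans (map_smul θ _ _))).trans
           (verProj_smul hV r _) } : HG'.carrier →ₗ[R'] W.carrier)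
  let Θ₀ : HG'.carrier →ₗ[R'] E''.carrier := Θ.toLinearMap
  have hΓ : Γ = Θ₀ := by
    refine sub_eq_zero.1 (eq_zero_of_restrict hpos' he' HG' (d := -B) (fun j u hu => ?_) fun u hu => ?_)
    · refine sub_mem ?_ (hΘ j u hu)
      show κ (verProj hV E (θ (Φ u))) ∈ E''.gr (j + -B)
      exact hκ _ _ (verProj_mem hV (by rw [← sub_eq_add_neg]; exact hdeg j u hu))
    · rw [neg_neg] at hu
      let v : GrLC.comp 𝒜 HG.gr (- -(B * q)) := ⟨Φ u, by rw [neg_neg]; exact (hΦj B).le ⟨u, hu, rfl⟩⟩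
      have h1 : uv v = u := hΦi (huvv v)
      have h2 : θ (Φ u) = vInc hV E (wv v) := hθv v
      show κ (verProj hV E (θ (Φ u))) - Θ₀ u = 0
      rw [h2, verProj_vInc, sub_eq_zero, hκwv, h1]
      rfl
  have hΓb : Function.Bijective Γ := hΓ ▸ Θ.bijective
  -- kernel and cokernel of `θ` on the Veronese pieces
  have hkerq : ∀ (j : ℤ) z, z ∈ HG.gr (j * q) → θ z = 0 → z = 0 := fun j z hz hzθ => by
    obtain ⟨u, -, rfl⟩ := (hΦj j).ge hz
    have : Γ u = 0 := by
      show κ (verProj hV E (θ (Φ u))) = 0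
      rw [show θ (Φ u) = 0 from hzθ, map_zero, map_zero]
    rw [hΓb.1 (this.trans (map_zero Γ).symm)]
    exact map_zero Φ
  have himq : ∀ (j : ℤ) y, y ∈ E.gr (j * q) → y ∈ LinearMap.range θ := fun j y hy => by
    obtain ⟨u, hu⟩ := hΓb.2 (κ (verProj hV E y))
    have h1 := congrArg (vInc hV E) (κ.injective (show κ (verProj hV E (θ (Φ u))) = κ (verProj hV E y) from hu))
    rw [vInc_verProj, vInc_verProj, hfix, prDvd_of_mem hy, if_pos (dvd_mul_left _ _)] at h1
    exact ⟨_, h1⟩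
  have hvanR : ∀ j, j < d + 1 → ∀ i, Van (posIdeal 𝒜) RG.gr j i := fun j hj i => van_below_dim hpos hm hn j hj i
  have hdimR : Module.supportDim R RG.carrier ≤ ((d + 1 : ℕ) : WithBot ℕ∞) :=
    (Module.supportDim_le_ringKrullDim R R).trans hn.le
  have hgam : ∀ N : GrLC.GMod.{u} 𝒜, (∀ i, Van (posIdeal 𝒜) N.gr 0 i) →
      GrLC.gam (posIdeal 𝒜).toIdeal N.carrier = ⊥ := fun N hN => eq_bot_iff.2 fun y hy => by
    refine (Submodule.mem_bot R).2 (pr_ext N.gr fun g => ?_)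
    rw [map_zero]
    exact eq_zero_of_van_zero (hN g) (pr_mem N.gr g y) (gam_isHomogeneous (ℳ := N.gr) (posIdeal 𝒜) g hy)
  obtain ⟨k, x₀, hk, hx₀, hx₀r⟩ := exists_pos_regular hpos (hgam RG fun i => hvanR 0 (Nat.succ_pos d) i)
  let x := x₀ ^ q
  have hx : x ∈ 𝒜 (q • k) := SetLike.pow_mem_graded q hx₀
  have hxq : x ∈ (posIdeal 𝒜).toIdeal ^ q := Ideal.pow_mem_pow (mem_posIdeal hk hx₀) q
  have hxr : IsSMulRegular RG.carrier x := hx₀r.pow q
  have hxm : x ∈ (posIdeal 𝒜).toIdeal := Ideal.pow_le_self (by have := hV.pos; omega) hxq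
  have hxN : GrLC.IsGrHomDeg RG.gr RG.gr (x • (LinearMap.id : RG.carrier →ₗ[R] RG.carrier)) (q • k) := fun g v hv => by
    rw [add_comm]; exact smul_mem 𝒜 RG.gr hx hv
  let S := LinearMap.range (x • (LinearMap.id : RG.carrier →ₗ[R] RG.carrier))
  let Q := quotG 𝒜 (ℳ := RG.gr) S (range_isHomogeneous_deg hxN)
  haveI : Module.Finite R Q.carrier := finite_quotG RG S _
  have hvQ := (end_step (a := posIdeal 𝒜) hpos RG Q hx hxm hxr S.mkQ (fun g v hv => ⟨v, hv, rfl⟩) S.mkQ_surjective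
    S.ker_mkQ hvanR).1
  obtain ⟨l, y₀, hl, hy₀, hy₀r⟩ := exists_pos_regular hpos (hgam Q fun i => hvQ 0 (by omega) i)
  let y := y₀ ^ q
  have hy : y ∈ 𝒜 (q • l) := SetLike.pow_mem_graded q hy₀
  have hyq : y ∈ (posIdeal 𝒜).toIdeal ^ q := Ideal.pow_mem_pow (mem_posIdeal hl hy₀) q
  have hyr : IsSMulRegular Q.carrier y := hy₀r.pow q
  have hkill : ∀ r ∈ (posIdeal 𝒜).toIdeal ^ q, ∀ z, θ z = 0 → r • z = 0 := fun r hr z hz => by
    let P0 : Submodule R HG.carrier := LinearMap.ker θ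
    let K : GrLC.GMod.{u} 𝒜 := subG 𝒜 (ℳ := HG.gr) P0 (ker_isHomogeneous_deg hθ)
    let z' : K.carrier := (⟨z, hz⟩ : P0)
    have hw0 : ∀ (j : ℤ) (w : K.carrier), w ∈ K.gr (j * q) → w ∈ (⊥ : Submodule R K.carrier) := by
      intro j w hw
      obtain ⟨a, ha⟩ := w
      exact (Submodule.mem_bot R).2 (Subtype.ext (hkerq j a hw ha))
    have h1 := smul_mem_of_pow hstd K (⊥ : Submodule R K.carrier) hV.pos hw0 r hr z'
    have h3 : r • z' = 0 := (Submodule.mem_bot R).1 h1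
    exact congrArg (fun w : P0 => w.1) h3
  have hsurj : Function.Surjective θ := fun t => by
    show t ∈ LinearMap.range θ
    induction t using induction E.gr with
    | h0 => exact zero_mem _
    | hadd a b ha hb => exact add_mem ha hb
    | hmem i t ht =>
      obtain ⟨β, hβ⟩ := exists_smul_eq_of_starInj he.starInj RG hx hxr (g := i)
        (LinearMap.toSpanSingleton R E.carrier t) (fun j r hr => by
          show r • t ∈ E.gr (j + i)
          exact smul_mem 𝒜 E.gr hr ht)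
      rw [show t = x • β (1 : R) from (one_smul R t).symm.trans (hβ (1 : R)).symm]
      exact smul_mem_of_pow hstd E (LinearMap.range θ) hV.pos himq x hxq _
  have hinj : Function.Injective θ := by
    rw [← LinearMap.ker_eq_bot, eq_bot_iff]
    intro z hz
    refine (Submodule.mem_bot R).2 (pr_ext HG.gr fun i => ?_)
    rw [map_zero]
    have hzi : θ (pr HG.gr i z) = 0 := by rw [map_pr_deg hθ, LinearMap.mem_ker.1 hz, map_zero]
    obtain ⟨h₀, hh₀⟩ := top_divisible RG I hdimR hx hxr (pr HG.gr i z)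
    let h : HG.carrier := pr HG.gr (i - q • k) h₀
    have hxh : x • h = pr HG.gr i z := by
      have := pr_smul 𝒜 HG.gr hx i h₀
      exact this.symm.trans ((congrArg (pr HG.gr i) hh₀).trans (pr_self HG.gr (pr_mem HG.gr i z)))
    have hxu : x • θ h = 0 := by rw [← map_smul, hxh, hzi]
    have hu : θ h ∈ E.gr (i - q • k + -(B * q)) := hθ _ _ (pr_mem HG.gr _ _)
    let α : Q.carrier →ₗ[R] E.carrier := Submodule.liftQ S (LinearMap.toSpanSingleton R E.carrier (θ h)) (by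
      rintro _ ⟨(v : R), rfl⟩
      show (x * v : R) • θ h = 0
      rw [mul_comm, mul_smul, hxu, smul_zero])
    obtain ⟨β, hβ⟩ := exists_smul_eq_of_starInj he.starInj Q hy hyr (g := i - q • k + -(B * q)) α (by
      rintro j _ ⟨r, hr, rfl⟩
      exact smul_mem 𝒜 E.gr hr hu)
    obtain ⟨h', hh'⟩ := hsurj (β (S.mkQ (1 : R)))
    have hy' : θ h = y • θ h' := by
      rw [hh', hβ]
      exact (one_smul R _).symm
    have h1 : x • (h - y • h') = 0 := hkill x hxq _ (by rw [map_sub, map_smul, ← hy', sub_self])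
    have h2 : y • x • h' = 0 := hkill y hyq _ (by
      rw [map_smul, hh', ← map_smul]
      refine (congrArg β ?_).trans (map_zero β)
      exact (Submodule.Quotient.mk_eq_zero S).2 ⟨(1 : R), rfl⟩)
    rw [smul_sub, sub_eq_zero, hxh] at h1
    rw [h1, smul_comm, h2]
  let θe : I.H (posIdeal 𝒜) (d + 1) ≃ₗ[R] E.carrier := LinearEquiv.ofBijective θ ⟨hinj, hsurj⟩
  have hh : (posIdeal 𝒜).toIdeal.height = ((d + 1 : ℕ) : ℕ∞) := by
    have h := (ringKrullDim_eq_height hpos hm).symm.trans hn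
    exact_mod_cast h
  refine ⟨gorensteinRing_of_starLocal hm (fun J hJ => le_of_starLocal hm J hJ) hh
    (gorensteinLocal_of_starInj hm.1 hh I (shiftG 𝒜 E.gr (-(B * q))) θe (starInj_shiftG he.starInj _)
      fun j x hx => hθ j x hx), B * q, ?_, dvd_mul_left _ _⟩
  have h := endDeg_eq_of_equiv hpos h0 he (I.Hgr (posIdeal 𝒜) (d + 1)) θe (g := -(B * q)) (fun j x hx => hθ j x hx)
  rwa [neg_neg] at h

end GrModLib
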