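import Groth.Agent.GrModLib.VerLC
import Groth.Agent.GrModLib.GorCrit
import Groth.Agent.GrModLib.Dual
import Groth.Agent.GrModLib.CMLib
import Groth.Agent.CommAlgDim.Integral

/-! Veronese subrings of Gorenstein rings graded over a field. -/

set_option autoImplicit false
universe u

open DirectSum

namespace GrModLib

section Over

variable {R : Type u} [CommRing R] {𝒜 : ℤ → AddSubgroup R} [GradedRing 𝒜]

theorem starInj_shiftG {X : GrLC.GMod.{u} 𝒜} (hX : GrLC.IsStarInj 𝒜 X.gr) (g : ℤ) :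
    GrLC.IsStarInj 𝒜 (shiftG 𝒜 X.gr g).gr := fun A B i hi hii ψ hψ => by
  obtain ⟨h, hh, hhi⟩ := extend_deg hX A.gr B.gr i hi hii ψ g hψ
  exact ⟨h, hh, hhi⟩

/-- Existence of a *injective hull of `R ⧸ m`. -/
theorem exists_residue_hull (m : HomogeneousIdeal 𝒜) :
    ∃ (E : GrLC.GMod.{u} 𝒜) (e : (R ⧸ m.toIdeal) →ₗ[R] E.carrier),
      GrLC.IsStarInjHull 𝒜 (GrLC.quotGr 𝒜 m) E.gr e := by
  letI : DirectSum.Decomposition (GrLC.quotGr 𝒜 m) :=
    (quotGr'_isInternal (ℳ := 𝒜) m.toIdeal m.isHomogeneous).chooseDecomposition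
  haveI : SetLike.GradedSMul 𝒜 (GrLC.quotGr 𝒜 m) := ⟨fun {h g r x} hr ⟨y, hy, e⟩ =>
    ⟨r • y, smul_mem 𝒜 𝒜 hr hy, e ▸ (Submodule.mkQ m.toIdeal).map_smul r y⟩⟩
  exact exists_hull (𝒜 := 𝒜) (GrLC.quotGr 𝒜 m)

variable [IsNoetherianRing R] {E : GrLC.GMod.{u} 𝒜} {e : (R ⧸ (posIdeal 𝒜).toIdeal) →ₗ[R] E.carrier}

/-- The hull of the residue field lives in degrees at most zero. -/
theorem hull_eq_zero_of_pos (hpos : ∀ n : ℤ, n < 0 → 𝒜 n = ⊥)
    (he : GrLC.IsStarInjHull 𝒜 (GrLC.quotGr 𝒜 (posIdeal 𝒜)) E.gr e) {d : ℤ} (hd : 0 < d) {y : E.carrier}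
    (hy : y ∈ E.gr d) : y = 0 := by
  by_contra hy0
  obtain ⟨r, hr, -, hne⟩ := exists_smul_hull hpos he hy hy0
  exact hne (by rw [eq_zero_of_neg hpos (show -d < 0 by omega) hr, zero_smul])

theorem hull_one_ne_zero (hpos : ∀ n : ℤ, n < 0 → 𝒜 n = ⊥) (h0 : IsField (GrLC.deg0 𝒜))
    (he : GrLC.IsStarInjHull 𝒜 (GrLC.quotGr 𝒜 (posIdeal 𝒜)) E.gr e) : e 1 ≠ 0 := fun h => by
  haveI := isMaximal_of_starLocal hpos (isStarLocal_posIdeal (𝒜 := 𝒜) hpos h0)
  exact one_ne_zero (α := R ⧸ (posIdeal 𝒜).toIdeal) (he.injective (h.trans (map_zero e).symm))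

/-- The top local cohomology of a Gorenstein ring, shifted by the `a`-invariant. -/
theorem exists_top_equiv_endDeg [LocCoh.IsGorensteinRing R] (hpos : ∀ n : ℤ, n < 0 → 𝒜 n = ⊥)
    (h0 : IsField (GrLC.deg0 𝒜)) {n : ℕ} (hn : ringKrullDim R = n) (I : GrLC.StarInjRes 𝒜 𝒜)
    (he : GrLC.IsStarInjHull 𝒜 (GrLC.quotGr 𝒜 (posIdeal 𝒜)) E.gr e) :
    ∃ (a : ℤ) (θ : I.H (posIdeal 𝒜) n ≃ₗ[R] (shiftG 𝒜 E.gr (-a)).carrier),
      GrLC.endDeg (I.Hgr (posIdeal 𝒜) n) = ((a : WithTop ℤ) : WithBot (WithTop ℤ)) ∧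
      GrLC.IsGrHom (I.Hgr (posIdeal 𝒜) n) (shiftG 𝒜 E.gr (-a)).gr θ.toLinearMap := by
  have hm := isStarLocal_posIdeal (𝒜 := 𝒜) hpos h0
  have hh : (posIdeal 𝒜).toIdeal.height = (n : ℕ∞) := by
    have h := (ringKrullDim_eq_height hpos hm).symm.trans hn
    exact_mod_cast h
  obtain ⟨g, θ, hθ⟩ := exists_top_equiv_of_gorenstein hm.1 hh I E.gr e he
  refine ⟨-g, θ, ?_, fun j x hx => ?_⟩
  · refine le_antisymm (iSup₂_le fun j hj => WithBot.coe_le_coe.2 (WithTop.coe_le_coe.2 ?_)) (le_iSup₂_of_le (-g) ?_ le_rfl)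
    · by_contra hlt
      refine hj ((AddSubgroup.eq_bot_iff_forall _).2 fun x hx => θ.injective ?_)
      rw [map_zero]
      exact hull_eq_zero_of_pos hpos he (d := j + g) (by omega) (hθ j x hx)
    · intro hb
      obtain ⟨x, hx, hxe⟩ := preimage_homogeneous hθ (g := -g) (y := e 1)
        (by rw [neg_add_cancel]; exact hull_mem_zero hpos he 1) (θ.surjective _)
      rw [(AddSubgroup.eq_bot_iff_forall _).1 hb x hx, map_zero] at hxe
      exact hull_one_ne_zero hpos h0 he hxe.symm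
  · show θ x ∈ E.gr (j + - -g)
    rw [neg_neg]
    exact hθ j x hx

end Over

variable {R : Type u} [CommRing R] [IsNoetherianRing R] {𝒜 : ℤ → AddSubgroup R} [GradedRing 𝒜]
  {R' : Type u} [CommRing R'] {𝒜' : ℤ → AddSubgroup R'} [GradedRing 𝒜'] {φ : R' →+* R} {q : ℕ}

/-- The Veronese of the hull of the residue field is the hull of the residue field. -/
theorem exists_verHull_equiv (hV : IsVer 𝒜 𝒜' φ q) (hpos : ∀ n : ℤ, n < 0 → 𝒜 n = ⊥) (h0 : IsField (GrLC.deg0 𝒜))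
    {E : GrLC.GMod.{u} 𝒜} {e : (R ⧸ (posIdeal 𝒜).toIdeal) →ₗ[R] E.carrier}
    (he : GrLC.IsStarInjHull 𝒜 (GrLC.quotGr 𝒜 (posIdeal 𝒜)) E.gr e)
    {E'' : GrLC.GMod.{u} 𝒜'} {e' : (R' ⧸ (posIdeal 𝒜').toIdeal) →ₗ[R'] E''.carrier}
    (he' : GrLC.IsStarInjHull 𝒜' (GrLC.quotGr 𝒜' (posIdeal 𝒜')) E''.gr e') :
    ∃ κ : (verG hV E).carrier ≃ₗ[R'] E''.carrier, GrLC.IsGrHom (verG hV E).gr E''.gr κ.toLinearMap := by
  haveI := hV.isNoetherianRing
  have hpos' := hV.hpos' hpos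
  have h0' := hV.isField' h0
  haveI hmax' := isMaximal_of_starLocal hpos' (isStarLocal_posIdeal (𝒜 := 𝒜') hpos' h0')
  let m' := posIdeal 𝒜'
  let W := verG hV E
  let w₀ : W.carrier := verProj hV E (e 1)
  have he1 : e 1 ∈ E.gr 0 := hull_mem_zero hpos he 1
  have hw₀ : vInc hV E w₀ = e 1 := by
    rw [vInc_verProj, prDvd_of_mem he1, if_pos (dvd_zero _)]
  have hw₀g : w₀ ∈ W.gr 0 := verProj_mem hV (by rw [zero_mul]; exact he1)
  have hkill : m'.toIdeal ≤ LinearMap.ker (LinearMap.toSpanSingleton R' W.carrier w₀) := fun r hr => by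
    refine vInc_injective hV ?_
    rw [LinearMap.toSpanSingleton_apply, vInc_smul, hw₀, map_zero]
    exact smul_range_eq_zero (hV.map_posIdeal_le (Ideal.mem_map_of_mem φ hr)) 1
  let ι : (R' ⧸ m'.toIdeal) →ₗ[R'] W.carrier := Submodule.liftQ m'.toIdeal _ hkill
  letI : DirectSum.Decomposition (GrLC.quotGr 𝒜' m') :=
    (quotGr'_isInternal (ℳ := 𝒜') m'.toIdeal m'.isHomogeneous).chooseDecomposition
  haveI : SetLike.GradedSMul 𝒜' (GrLC.quotGr 𝒜' m') := ⟨fun {h g r x} hr ⟨y, hy, e⟩ =>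
    ⟨r • y, smul_mem 𝒜' 𝒜' hr hy, e ▸ (Submodule.mkQ m'.toIdeal).map_smul r y⟩⟩
  have hι : GrLC.IsGrHom (GrLC.quotGr 𝒜' m') W.gr ι := by
    rintro j _ ⟨y, hy, rfl⟩
    show y • w₀ ∈ W.gr j
    have := smul_mem 𝒜' W.gr hy hw₀g
    rwa [add_zero] at this
  have hιi : Function.Injective ι := by
    rw [← LinearMap.ker_eq_bot]
    refine Submodule.ker_liftQ_eq_bot _ _ _ ?_
    refine (hmax'.eq_of_le (fun h => hull_one_ne_zero hpos h0 he ?_) hkill).ge
    have h1 : (1 : R') • w₀ = 0 :=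
      LinearMap.mem_ker.1 (h.ge (Submodule.mem_top : (1 : R') ∈ (⊤ : Submodule R' R')))
    rw [← hw₀, show w₀ = 0 from (one_smul R' w₀).symm.trans h1, map_zero]
  have hιe : GrLC.IsStarEss (GrLC.quotGr 𝒜' m') W.gr ι :=
    isStarEss_of hιi hι fun j x hx hx0 => by
      obtain ⟨r, hr, hmem, hne⟩ := exists_smul_hull hpos he ((mem_verG_gr hV).1 hx)
        (fun h => hx0 (vInc_injective hV (h.trans (map_zero _).symm)))
      obtain ⟨r', hr', rfl⟩ := hV.exists_mem (j := -j) (by rw [neg_mul]; exact hr)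
      refine ⟨r', ?_, fun h => hne (by rw [← vInc_smul hV, h, map_zero])⟩
      obtain ⟨z, hz⟩ := hmem
      obtain ⟨s, rfl⟩ := Ideal.Quotient.mk_surjective z
      obtain ⟨t, -, ht⟩ := hV.exists_mem (j := 0) (by rw [zero_mul]; exact pr_mem 𝒜 0 s)
      refine ⟨Submodule.Quotient.mk t, vInc_injective hV ?_⟩
      show vInc hV E (t • w₀) = vInc hV E (r' • x)
      rw [vInc_smul, vInc_smul, hw₀, ← hz, ht, ← map_smul]
      refine congrArg e ((Ideal.Quotient.eq).2 ?_)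
      show pr 𝒜 0 s * 1 - s ∈ (posIdeal 𝒜).toIdeal
      rw [mul_one, ← neg_sub]
      exact neg_mem (mk_eq_mk_pr hpos s)
  obtain ⟨κ, hκ, hκe⟩ := extend he'.starInj (GrLC.quotGr 𝒜' m') W.gr ι hι hιi e' he'.grHom
  have hκi : Function.Injective κ := by
    rw [← LinearMap.ker_eq_bot]
    by_contra hne
    obtain ⟨y, ⟨hy, x, rfl⟩, hy0⟩ := Submodule.exists_mem_ne_zero_of_ne_bot
      (hιe.essential _ (ker_isHomogeneous hκ) hne)
    refine hy0 ?_
    rw [show x = 0 from he'.injective (by rw [← hκe, map_zero]; exact hy), map_zero]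
  refine ⟨LinearEquiv.ofBijective κ ⟨hκi, fun y => ?_⟩, hκ⟩
  induction y using induction E''.gr with
  | h0 => exact ⟨0, map_zero κ⟩
  | hadd a b ha hb => obtain ⟨u, rfl⟩ := ha; obtain ⟨v, rfl⟩ := hb; exact ⟨u + v, map_add κ u v⟩
  | hmem j y hy =>
    let RG : GrLC.GMod.{u} 𝒜 := GrLC.GMod.of 𝒜 R 𝒜
    have hex : ∀ v : GrLC.comp 𝒜 RG.gr (-(j * q)), ∃ (r : R') (w : W.carrier), r ∈ 𝒜' (-j) ∧ φ r = (v.1 : R) ∧
        w ∈ W.gr 0 ∧ κ w = r • y := fun v => by
      obtain ⟨r, hr, hrv⟩ := hV.exists_mem (j := -j) (x := (v.1 : R)) (by rw [neg_mul]; exact v.2)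
      have hry : r • y ∈ E''.gr 0 := by
        have := smul_mem 𝒜' E''.gr hr hy
        rwa [neg_add_cancel] at this
      obtain ⟨z, hz⟩ := mem_range_of_deg_zero hpos' h0' he' hry
      obtain ⟨t, rfl⟩ := Ideal.Quotient.mk_surjective z
      refine ⟨r, pr W.gr 0 (ι (Submodule.Quotient.mk t)), hr, hrv, pr_mem W.gr 0 _, ?_⟩
      rw [map_pr hκ, ← LinearMap.comp_apply, hκe]
      rw [show e' (Submodule.Quotient.mk t) = r • y from hz, pr_self E''.gr hry]
    choose rv wv hrv hrvv hwv hκwv using hex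
    have hψadd : ∀ v v', wv (v + v') = wv v + wv v' := fun v v' => hκi (by
      rw [map_add, hκwv, hκwv, hκwv, ← add_smul]
      exact congrArg (· • y) (hV.inj (by rw [hrvv, map_add, hrvv, hrvv]; rfl)))
    let ψ : GrLC.comp 𝒜 RG.gr (-(j * q)) →ₗ[GrLC.deg0 𝒜] GrLC.comp 𝒜 E.gr 0 :=
      { toFun := fun v => ⟨vInc hV E (wv v), by
          have := (mem_verG_gr hV).1 (hwv v)
          rwa [zero_mul] at this⟩
        map_add' := fun v v' => Subtype.ext (by
          show vInc hV E (wv (v + v')) = vInc hV E (wv v) + vInc hV E (wv v')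
          rw [hψadd, map_add])
        map_smul' := fun c v => Subtype.ext (by
          show vInc hV E (wv (c • v)) = (c : R) • vInc hV E (wv v)
          obtain ⟨c', -, hc'⟩ := hV.exists_mem (j := 0) (x := (c : R)) (by rw [zero_mul]; exact c.2)
          rw [← hc', ← vInc_smul hV]
          refine congrArg (vInc hV E) (hκi ?_)
          rw [map_smul, hκwv, hκwv, ← mul_smul]
          exact congrArg (· • y) (hV.inj (by rw [hrvv, map_mul, hrvv, hc']; rfl))) }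
    obtain ⟨χ, hχ, hχv⟩ := exists_hom_deg hpos h0 he RG (j * q) ψ
    have hx : χ (1 : R) ∈ E.gr (j * q) := by
      have := hχ 0 (1 : R) (SetLike.one_mem_graded 𝒜)
      rwa [zero_add] at this
    refine ⟨verProj hV E (χ (1 : R)), ?_⟩
    by_contra hne
    have hd : κ (verProj hV E (χ (1 : R))) - y ∈ E''.gr j := sub_mem (hκ j _ (verProj_mem hV hx)) hy
    obtain ⟨r, hr, -, hr0⟩ := exists_smul_hull hpos' he' hd (sub_ne_zero.2 hne)
    refine hr0 ?_
    let v : GrLC.comp 𝒜 RG.gr (-(j * q)) := ⟨φ r, by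
      have := hV.mem_iff.1 hr
      rwa [neg_mul] at this⟩
    have h1 : r • verProj hV E (χ (1 : R)) = wv v := by
      refine vInc_injective hV ?_
      rw [vInc_smul, vInc_verProj, prDvd_of_mem hx, if_pos (dvd_mul_left _ _)]
      refine ((map_smul χ (φ r) (1 : R)).symm.trans ?_).trans (hχv v)
      exact congrArg χ (mul_one (φ r))
    rw [smul_sub, ← map_smul, h1, hκwv, show rv v = r from hV.inj (hrvv v), sub_self]

/-- The Veronese of an identification of local cohomology. -/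
theorem exists_verH_equiv (hV : IsVer 𝒜 𝒜' φ q) (N : GrLC.GMod.{u} 𝒜) (A : GrLC.GMod.{u} 𝒜')
    (g : A.carrier →ₛₗ[φ] N.carrier) (hg : Function.Injective g)
    (hgdeg : ∀ j : ℤ, (A.gr j).map (g : A.carrier →+ N.carrier) = N.gr (j * q))
    (E : GrLC.StarInjRes 𝒜 N.gr) (F : GrLC.StarInjRes 𝒜' A.gr) (p : ℕ) (X : GrLC.GMod.{u} 𝒜)
    (θ : E.H (posIdeal 𝒜) p ≃ₗ[R] X.carrier) (hθ : GrLC.IsGrHom (E.Hgr (posIdeal 𝒜) p) X.gr θ.toLinearMap) :
    ∃ Θ : F.H (posIdeal 𝒜') p ≃ₗ[R'] (verG hV X).carrier,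
      GrLC.IsGrHom (F.Hgr (posIdeal 𝒜') p) (verG hV X).gr Θ.toLinearMap := by
  obtain ⟨Φ, hΦi, hΦs, hΦj⟩ := exists_verH hV N A g hg hgdeg E F p
  have hdeg : ∀ (j : ℤ) x, x ∈ F.Hgr (posIdeal 𝒜') p j → θ (Φ x) ∈ X.gr (j * q) := fun j x hx =>
    hθ _ _ ((hΦj j).le ⟨x, hx, rfl⟩)
  have hfix : ∀ x, prDvd (q := q) X (θ (Φ x)) = θ (Φ x) := fun x => by
    induction x using induction (F.Hgr (posIdeal 𝒜') p) with
    | h0 => simp
    | hadd s t hs ht => rw [map_add, map_add, map_add, hs, ht]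
    | hmem j m hm => rw [prDvd_of_mem (hdeg j m hm), if_pos (dvd_mul_left _ _)]
  let Θ : F.H (posIdeal 𝒜') p →ₗ[R'] (verG hV X).carrier :=
    { toFun := fun x => verProj hV X (θ (Φ x))
      map_add' := fun x y => by rw [map_add, map_add, map_add]
      map_smul' := fun r x => by rw [hΦs, map_smul, verProj_smul]; rfl }
  have hΘ : ∀ x, vInc hV X (Θ x) = θ (Φ x) := fun x => hfix x
  refine ⟨LinearEquiv.ofBijective Θ ⟨fun x y h => hΦi (θ.injective (by rw [← hΘ, ← hΘ, h])), fun v => ?_⟩,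
    fun j x hx => verProj_mem hV (hdeg j x hx)⟩
  induction v using induction (verG hV X).gr with
  | h0 => exact ⟨0, map_zero Θ⟩
  | hadd a b ha hb => obtain ⟨u, rfl⟩ := ha; obtain ⟨w, rfl⟩ := hb; exact ⟨u + w, map_add Θ u w⟩
  | hmem j v hv =>
    obtain ⟨y, hy, hyv⟩ := preimage_homogeneous (isGrHomDeg_zero_iff.2 hθ) (g := j * q) (y := vInc hV X v)
      (by rw [add_zero]; exact (mem_verG_gr hV).1 hv) (θ.surjective _)
    obtain ⟨x, -, rfl⟩ := (hΦj j).ge hy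
    exact ⟨x, vInc_injective hV ((hΘ x).trans hyv)⟩

include R in
theorem IsVer.ringKrullDim_eq (hV : IsVer 𝒜 𝒜' φ q) (hpos : ∀ n : ℤ, n < 0 → 𝒜 n = ⊥) :
    ringKrullDim R' = ringKrullDim R := by
  letI := φ.toAlgebra
  haveI : Algebra.IsIntegral R' R := ⟨fun x => by
    induction x using induction 𝒜 with
    | h0 => exact isIntegral_zero
    | hadd a b ha hb => exact ha.add hb
    | hmem k x hx =>
      refine IsIntegral.of_pow hV.pos ?_
      have hxq : x ^ q ∈ 𝒜 (k * q) := by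
        have := SetLike.pow_mem_graded q hx
        rwa [nsmul_eq_mul, mul_comm] at this
      obtain ⟨r, -, hr⟩ := hV.exists_mem hxq
      rw [← hr]
      exact isIntegral_algebraMap⟩
  exact (CommAlgDim.ringKrullDim_eq_of_integral R' R hV.inj).symm

/-- The Veronese subring is Gorenstein when `q` divides the `a`-invariant. -/
theorem gorenstein_veronese [LocCoh.IsGorensteinRing R] (hV : IsVer 𝒜 𝒜' φ q)
    (hpos : ∀ n : ℤ, n < 0 → 𝒜 n = ⊥) (h0 : IsField (GrLC.deg0 𝒜)) {n : ℕ} (hn : ringKrullDim R = n)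
    (I : GrLC.StarInjRes 𝒜 𝒜) (a : ℤ)
    (ha : GrLC.endDeg (I.Hgr (posIdeal 𝒜) n) = ((a : WithTop ℤ) : WithBot (WithTop ℤ))) (hdvd : (q : ℤ) ∣ a) :
    LocCoh.IsGorensteinRing R' := by
  haveI := hV.isNoetherianRing
  haveI : LocCoh.IsCohenMacaulayRing R := ⟨fun p _ => by
    haveI := LocCoh.IsGorensteinRing.isGorensteinLocalRing_localization (A := R) p
    exact SMTLib.isCohenMacaulayLocalRing_of_isCM _ GorLib.isCM_of_gorenstein⟩
  have hpos' := hV.hpos' hpos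
  have h0' := hV.isField' h0
  have hm' := isStarLocal_posIdeal (𝒜 := 𝒜') hpos' h0'
  haveI := isMaximal_of_starLocal hpos' hm'
  have hn' : (posIdeal 𝒜').toIdeal.height = (n : ℕ∞) := by
    have h := (ringKrullDim_eq_height hpos' hm').symm.trans ((hV.ringKrullDim_eq hpos).trans hn)
    exact_mod_cast h
  let RG : GrLC.GMod.{u} 𝒜 := GrLC.GMod.of 𝒜 R 𝒜
  let RG' : GrLC.GMod.{u} 𝒜' := GrLC.GMod.of 𝒜' R' 𝒜'
  let g : RG'.carrier →ₛₗ[φ] RG.carrier :=
    { toFun := fun x => φ x, map_add' := fun x y => map_add φ x y, map_smul' := fun r x => map_mul φ r x }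
  have hgdeg : ∀ j : ℤ, (RG'.gr j).map (g : RG'.carrier →+ RG.carrier) = RG.gr (j * q) := hV.map_eq
  obtain ⟨I'⟩ := nonempty_resG RG'
  obtain ⟨E, e, he⟩ := exists_residue_hull (posIdeal 𝒜)
  obtain ⟨a', θ, ha', hθ⟩ := exists_top_equiv_endDeg hpos h0 hn I he
  obtain rfl : a' = a := by
    rw [ha] at ha'
    exact (WithTop.coe_injective (WithBot.coe_injective ha')).symm
  obtain ⟨b, rfl⟩ := hdvd
  obtain ⟨E'', e', he'⟩ := exists_residue_hull (posIdeal 𝒜')
  obtain ⟨κ, hκ⟩ := exists_verHull_equiv hV hpos h0 he he'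
  obtain ⟨Θ, hΘ⟩ := exists_verH_equiv hV RG RG' g hV.inj hgdeg I I' n _ θ hθ
  let S := shiftG 𝒜 E.gr (-((q : ℤ) * b))
  have hprS : ∀ (i : ℤ) (x : S.carrier), pr S.gr i x = pr E.gr (i + -((q : ℤ) * b)) x := fun i x => by
    induction x using induction S.gr with
    | h0 => rw [map_zero]; exact (map_zero (pr E.gr _)).symm
    | hadd s t hs ht => rw [map_add, hs, ht]; exact (map_add (pr E.gr _) s t).symm
    | hmem j m hm =>
      by_cases h : j = i
      · subst h; exact (pr_self S.gr hm).trans (pr_self E.gr hm).symm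
      · exact (pr_ne S.gr hm h).trans (pr_ne E.gr hm (by omega)).symm
  let K : (verG hV S).carrier →ₗ[R'] (verG hV E).carrier :=
    { toFun := fun v => verProj hV E (vInc hV S v)
      map_add' := fun v w => by rw [map_add]; exact map_add (verProj hV E) _ _
      map_smul' := fun r v => by rw [vInc_smul]; exact verProj_smul hV r _ }
  have hK : ∀ v, vInc hV E (K v) = vInc hV S v := fun v => by
    refine pr_ext E.gr fun i => ?_
    show pr E.gr i (prDvd (q := q) E (vInc hV S v)) = pr E.gr i (vInc hV S v)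
    rw [pr_prDvd]
    split_ifs with h
    · rfl
    · refine Eq.symm ?_
      have h1 := pr_vInc_of_not_dvd hV v (g := i + (q : ℤ) * b)
        (fun hd => h (by have := dvd_sub hd (dvd_mul_right (q : ℤ) b); rwa [add_sub_cancel_right] at this))
      rwa [hprS, add_neg_cancel_right] at h1
  have hKb : Function.Bijective K := by
    refine ⟨fun v w h => vInc_injective hV (by rw [← hK, ← hK, h]), fun w => ?_⟩
    refine ⟨verProj hV S (vInc hV E w), vInc_injective hV ?_⟩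
    rw [hK]
    refine pr_ext E.gr fun i => ?_
    have h1 := pr_prDvd (q := q) (X := S) (i + (q : ℤ) * b) (vInc hV E w)
    rw [hprS, hprS, add_neg_cancel_right] at h1
    refine h1.trans ?_
    split_ifs with h
    · rfl
    · exact (pr_vInc_of_not_dvd hV w fun hd => h (dvd_add hd (dvd_mul_right _ _))).symm
  let Y := shiftG 𝒜' E''.gr (-b)
  refine gorensteinRing_of_starLocal hm' (fun J hJ => le_of_starLocal hm' J hJ) hn' ?_
  refine gorensteinLocal_of_van hm'.1 hn' (fun j hj i => ?_) I' Y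
    (Θ.trans ((LinearEquiv.ofBijective K hKb).trans κ)) (starInj_shiftG he'.starInj (-b)) fun j x hx => ?_
  · obtain ⟨Φ, hΦi, -, hΦj⟩ := exists_verH hV RG RG' g hV.inj hgdeg I I' j
    refine (van_iff I' j i).2 fun x hx => hΦi ?_
    rw [map_zero]
    exact van_below_dim hpos (isStarLocal_posIdeal hpos h0) hn j hj _ I _ ((hΦj i).le ⟨x, hx, rfl⟩)
  · show κ (K (Θ x)) ∈ E''.gr (j + -b)
    refine hκ _ _ (verProj_mem hV ?_)
    have h1 : vInc hV S (Θ x) ∈ E.gr (j * q + -((q : ℤ) * b)) := (mem_verG_gr hV).1 (hΘ j x hx)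
    rwa [show (j + -b) * (q : ℤ) = j * q + -((q : ℤ) * b) by ring]

end GrModLib
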