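import Groth.Agent.GrModLib.CanonDeg
import Groth.Agent.GrModLib.StdField
import Groth.Agent.S2092

/-! Weighted polynomial rings over a field. -/

set_option autoImplicit false
universe u
attribute [local instance] MvPolynomial.weightedGradedAlgebra

open DirectSum MvPolynomial

namespace GrModLib

variable (k : Type u) [Field k] {N : ℕ} (w : Fin N → ℤ)

local notation "S" => MvPolynomial (Fin N) k
local notation "𝒮" => toAdd (MvPolynomial.weightedHomogeneousSubmodule k w)

theorem weight_nonneg (hw : ∀ i, 0 < w i) (d : Fin N →₀ ℕ) :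
    0 ≤ Finsupp.weight w d ∧ (Finsupp.weight w d = 0 → d = 0) := by
  rw [Finsupp.weight_apply, Finsupp.sum_fintype _ _ (fun i => by simp)]
  have hnn : ∀ i ∈ (Finset.univ : Finset (Fin N)), (0 : ℤ) ≤ d i • w i := fun i _ => nsmul_nonneg (hw i).le _
  refine ⟨Finset.sum_nonneg hnn, fun h => Finsupp.ext fun i => ?_⟩
  have h1 := (Finset.sum_eq_zero_iff_of_nonneg hnn).1 h i (Finset.mem_univ i)
  rw [nsmul_eq_mul, mul_eq_zero] at h1
  exact h1.elim (fun h2 => by exact_mod_cast h2) fun h2 => absurd h2 (hw i).ne'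

theorem wpoly_pos (hw : ∀ i, 0 < w i) (n : ℤ) (hn : n < 0) : 𝒮 n = ⊥ := by
  refine (AddSubgroup.eq_bot_iff_forall _).2 fun p hp => ?_
  have hp' : IsWeightedHomogeneous w p n := hp
  refine MvPolynomial.ext _ _ fun d => ?_
  rw [coeff_zero]
  by_contra hd
  have h1 := hp' hd
  have h2 := (weight_nonneg w hw d).1
  omega

theorem wpoly_eq_C (hw : ∀ i, 0 < w i) {p : S} (hp : p ∈ 𝒮 0) : p = C (constantCoeff p) := by
  classical
  have hp' : IsWeightedHomogeneous w p 0 := hp
  refine MvPolynomial.ext _ _ fun d => ?_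
  rw [coeff_C, constantCoeff_eq]
  by_cases hd : 0 = d
  · rw [if_pos hd, hd]
  · rw [if_neg hd]
    by_contra hne
    exact hd ((weight_nonneg w hw d).2 (hp' hne)).symm

theorem wpoly_isField (hw : ∀ i, 0 < w i) : IsField (GrLC.deg0 𝒮) :=
  { exists_pair_ne := ⟨⟨0, zero_mem _⟩, ⟨1, one_mem _⟩, fun h => zero_ne_one (congrArg Subtype.val h)⟩
    mul_comm := mul_comm
    mul_inv_cancel := fun {a} ha => by
      have hc : constantCoeff (a : S) ≠ 0 := fun h => ha (Subtype.ext (by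
        rw [wpoly_eq_C k w hw a.2, h, C_0]; rfl))
      refine ⟨⟨C (constantCoeff (a : S))⁻¹, isWeightedHomogeneous_C w _⟩, Subtype.ext ?_⟩
      show (a : S) * C (constantCoeff (a : S))⁻¹ = 1
      conv_lhs => arg 1; rw [wpoly_eq_C k w hw a.2]
      rw [← C_mul, mul_inv_cancel₀ hc, C_1] }

theorem X_mem_weight (i : Fin N) : (X i : S) ∈ 𝒮 (w i) := isWeightedHomogeneous_X k w i

theorem wpoly_posIdeal (hw : ∀ i, 0 < w i) :
    (posIdeal 𝒮).toIdeal = Ideal.ofList (List.ofFn (X : Fin N → S)) := by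
  refine le_antisymm (Ideal.span_le.2 fun p hp => ?_) (Ideal.span_le.2 fun p hp => ?_)
  · simp only [Set.mem_iUnion, Set.mem_Ioi] at hp
    obtain ⟨n, hn, hp⟩ := hp
    have hp' : IsWeightedHomogeneous w p n := hp
    have h1 : p ∈ Ideal.span (X '' (Set.univ : Set (Fin N)) : Set S) := by
      rw [mem_ideal_span_X_image]
      intro d hd
      have hd' := hp' (MvPolynomial.mem_support_iff.1 hd)
      obtain ⟨i, hi⟩ : ∃ i, d i ≠ 0 := by
        by_contra hall
        push Not at hall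
        rw [show d = 0 from Finsupp.ext hall, map_zero] at hd'
        omega
      exact ⟨i, trivial, hi⟩
    refine (Ideal.span_le (I := Ideal.ofList (List.ofFn (X : Fin N → S)))).2 ?_ h1
    rintro _ ⟨i, -, rfl⟩
    exact Ideal.subset_span (by simp)
  · simp only [Set.mem_setOf_eq, List.mem_ofFn', Set.mem_range] at hp
    obtain ⟨i, rfl⟩ := hp
    exact mem_posIdeal (hw i) (X_mem_weight k w i)

/-- The polynomial ring is Cohen–Macaulay. -/
theorem isCM_mvPolynomial : LocCoh.IsCohenMacaulayRing S := by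
  haveI : LocCoh.IsCohenMacaulayRing k := CatLib.isCMRing_iff.1 CatLib.isCMRing_of_isRegularRing
  exact Groth.Agent.S2092.result N

theorem dim_mvPolynomial : ringKrullDim S = (N : WithBot ℕ∞) := by
  rw [MvPolynomial.ringKrullDim_of_isNoetherianRing, ringKrullDim_eq_zero_of_field, zero_add, Nat.card_fin]

/-- The top local cohomology of the polynomial ring: nothing above degree `-∑ w`, something there. -/
theorem wpoly_H (hw : ∀ i, 0 < w i) (I : GrLC.StarInjRes 𝒮 𝒮) :
    (∀ m : ℤ, -(∑ i, w i) < m → ∀ y ∈ I.Hgr (posIdeal 𝒮) N m, y = 0) ∧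
      ∃ y ∈ I.Hgr (posIdeal 𝒮) N (-(∑ i, w i)), y ≠ 0 := by
  haveI := isCM_mvPolynomial k (N := N)
  let P := (posIdeal 𝒮).toIdeal
  let M : GrLC.GMod.{u} 𝒮 := GrLC.GMod.of 𝒮 S 𝒮
  let Q := quotG 𝒮 (ℳ := 𝒮) (P : Submodule S S) (posIdeal 𝒮).isHomogeneous
  let π : M.carrier →ₗ[S] Q.carrier := Submodule.mkQ (P : Submodule S S)
  let xs : List (S × ℤ) := List.ofFn fun i => ((X i : S), w i)
  have hfst : xs.map Prod.fst = List.ofFn (X : Fin N → S) := by
    simp only [xs, List.map_ofFn]; rfl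
  have hsum : (xs.map Prod.snd).sum = ∑ i, w i := by
    simp only [xs, List.map_ofFn, List.sum_ofFn]; rfl
  have hlen : 0 + xs.length = N := by simp [xs]
  have hQ : ∀ n : ℤ, n ≠ 0 → ∀ y ∈ Q.gr n, y = 0 := by
    rintro n hn _ ⟨r, hr, rfl⟩
    rcases lt_or_gt_of_ne hn with h | h
    · rw [eq_zero_of_neg (wpoly_pos k w hw) h hr]; exact map_zero _
    · exact (Submodule.Quotient.mk_eq_zero _).2 (mem_posIdeal h hr)
  have hvan0 : ∀ n : ℤ, n ≠ 0 → Van (posIdeal 𝒮) Q.gr 0 n := by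
    intro n hn E x hx
    obtain ⟨z, hz, rfl⟩ := hx
    rw [← add_zero n] at hz
    obtain ⟨y, hy, hyz⟩ := preimage_homogeneous (ε_deg E) hz (E.exact_zero.le z.2.2)
    rw [show z = 0 from Subtype.ext (by rw [← hyz, hQ n hn y hy, map_zero]; rfl), map_zero]
  have hnv : ¬ Van (posIdeal 𝒮) Q.gr 0 0 := fun h => by
    have h1 : π (1 : S) = 0 :=
      eq_zero_of_van_zero h (y := π (1 : S))
        ⟨1, SetLike.one_mem_graded 𝒮, rfl⟩ ⟨1, fun r hr => by
          rw [pow_one] at hr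
          refine (π.map_smul r (1 : S)).symm.trans ?_
          exact (Submodule.Quotient.mk_eq_zero _).2 (Ideal.mul_mem_right _ _ hr)⟩
    have h2 : (1 : S) ∈ P := (Submodule.Quotient.mk_eq_zero _).1 h1
    have h3 := (isMaximal_of_starLocal (wpoly_pos k w hw)
      (isStarLocal_posIdeal (wpoly_pos k w hw) (wpoly_isField k w hw))).ne_top
    exact h3 ((Ideal.eq_top_iff_one _).2 h2)
  have key := end_seq (a := posIdeal 𝒮) (wpoly_pos k w hw) xs (fun p hp => by
      simp only [xs, List.mem_ofFn', Set.mem_range] at hp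
      obtain ⟨i, rfl⟩ := hp
      exact ⟨X_mem_weight k w i, mem_posIdeal (hw i) (X_mem_weight k w i)⟩)
    M Q π (fun g z hz => ⟨z, hz, rfl⟩) (Submodule.mkQ_surjective (P : Submodule S S))
    (by rw [hfst]; exact isWeaklyRegular_X k N)
    (by
      refine (Submodule.ker_mkQ (P : Submodule S S)).trans ?_
      rw [hfst, ← wpoly_posIdeal k w hw]
      exact (Ideal.mul_top P).symm) 0
    (fun j hj m => van_below_dim (wpoly_pos k w hw)
      (isStarLocal_posIdeal (wpoly_pos k w hw) (wpoly_isField k w hw)) (dim_mvPolynomial k) j (by omega) m)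
  rw [hsum] at key
  have hup := (key (-(∑ i, w i))).1 fun m hm => hvan0 m (by omega)
  refine ⟨fun m hm y hy => by
    have h1 := hup m hm
    rw [hlen] at h1
    exact (van_iff I N m).1 h1 y hy, ?_⟩
  by_contra hcon
  push Not at hcon
  refine hnv ((key (-(∑ i, w i) - 1)).2 (fun m hm => ?_) 0 (by omega))
  rcases eq_or_lt_of_le (show -(∑ i, w i) ≤ m by omega) with h | h
  · subst h
    rw [hlen]
    exact (van_iff I N _).2 hcon
  · exact hup m h

/-- The polynomial ring has type one. -/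
theorem wpoly_type (hw : ∀ i, 0 < w i) [(posIdeal 𝒮).toIdeal.IsMaximal] :
    GrLC.bassNum (posIdeal 𝒮).toIdeal S N = 1 := by
  let q := (posIdeal 𝒮).toIdeal
  have h := (bassNum_of_regular q (List.ofFn (X : Fin N → S)) S (isWeaklyRegular_X k N)
    fun r hr => (wpoly_posIdeal k w hw).ge (Ideal.subset_span hr)).2
  rw [List.length_ofFn] at h
  rw [h, bassNum_congr q (Submodule.quotEquivOfEq _ (q : Submodule S S)
    (by rw [smul_eq_mul, Ideal.mul_top]; exact (wpoly_posIdeal k w hw).symm)) 0,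
    bassNum_zero_eq_length_tors q]
  have htop : tors q (S ⧸ q) = ⊤ := eq_top_iff.2 fun x _ => (mem_tors q).2 fun r hr => by
    obtain ⟨s, rfl⟩ := Ideal.Quotient.mk_surjective x
    exact (Submodule.Quotient.mk_eq_zero _).2 (Ideal.mul_mem_right s _ hr)
  rw [htop, Module.length_top, Module.length_eq_one_iff]
  exact isSimpleModule_iff_isCoatom.2 (Ideal.IsMaximal.out)


/-- The *canonical module of a weighted polynomial ring. -/
theorem wpoly_canon (hw : ∀ i, 0 < w i) (I : GrLC.StarInjRes 𝒮 𝒮) {E' : Type u} [AddCommGroup E'] [Module S E']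
    {𝓔 : ℤ → AddSubgroup E'} [DirectSum.Decomposition 𝓔] [SetLike.GradedSMul 𝒮 𝓔]
    (m : HomogeneousIdeal 𝒮) (hm : m.toIdeal = (posIdeal 𝒮).toIdeal) {e : (S ⧸ m.toIdeal) →ₗ[S] E'}
    (he : GrLC.IsStarInjHull 𝒮 (GrLC.quotGr 𝒮 m) 𝓔 e) (CG : GrLC.GMod.{u} 𝒮)
    (hC : GrLC.IsStarCanonical 𝒮 CG.gr 𝓔 m N I) :
    ∃ f : S →ₗ[S] CG.carrier, Function.Bijective f ∧ GrLC.IsGrHomDeg 𝒮 CG.gr f (∑ i, w i) := by
  obtain rfl : m = posIdeal 𝒮 := HomogeneousIdeal.ext hm
  haveI := isCM_mvPolynomial k (N := N)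
  haveI : Module.Finite S CG.carrier := hC.1
  have hpos := wpoly_pos k w hw
  have h0 := wpoly_isField k w hw
  haveI hmax : (posIdeal 𝒮).toIdeal.IsMaximal :=
    isMaximal_of_starLocal hpos (isStarLocal_posIdeal hpos h0)
  have hn := dim_mvPolynomial (N := N) k
  obtain ⟨-, -, h3⟩ := canon_data hpos h0 he hn I CG hC
  obtain ⟨a, c, hc, hsurj⟩ := exists_homogeneous_generator hpos CG (by
    have h4 := h3.symm.trans (wpoly_type k w hw)
    exact_mod_cast h4)
  obtain ⟨-, ψ, hψ⟩ := hC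
  let RG : GrLC.GMod.{u} 𝒮 := GrLC.GMod.of 𝒮 S 𝒮
  haveI : Module.Finite S RG.carrier := inferInstanceAs (Module.Finite S S)
  let f : RG.carrier →ₗ[S] CG.carrier := LinearMap.toSpanSingleton S CG.carrier c
  have hfdeg : GrLC.IsGrHomDeg RG.gr CG.gr f a := fun g r hr => smul_mem 𝒮 CG.gr hr hc
  have hinj : Function.Injective f :=
    injective_of_surjective_canon hpos h0 he N RG CG inferInstance inferInstance I
      (fun j hj l => van_below_dim hpos (isStarLocal_posIdeal hpos h0) hn j hj l)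
      ((Module.supportDim_le_ringKrullDim S S).trans hn.le) ψ a f hfdeg hsurj
  have hc0 : c ≠ 0 := fun h => by
    have h1 : f (1 : S) = f (0 : S) := by
      show (1 : S) • c = (0 : S) • c
      rw [h, smul_zero, smul_zero]
    exact one_ne_zero (α := S) (hinj h1)
  obtain ⟨hup, y, hy, hy0⟩ := wpoly_H k w hw I
  have hge : ∑ i, w i ≤ a := by
    by_contra hlt
    obtain ⟨z, hz, hz0⟩ := exists_Hgr_ne_zero hpos h0 he CG _ ψ hψ hc hc0
    exact hz0 (hup (-a) (by omega) z hz)
  have hle : a ≤ ∑ i, w i := by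
    by_contra hlt
    obtain ⟨v, hv, hv0⟩ := exists_piece_ne_zero hpos he CG _ (Hgr_isInternal I _ N) ψ hψ hy hy0
    obtain ⟨r, hr⟩ := hsurj v
    rw [neg_neg] at hv
    apply hv0
    rw [← pr_self CG.gr hv, ← hr]
    show pr CG.gr _ (r • c) = 0
    rw [pr_smul_mem 𝒮 CG.gr hc,
      eq_zero_of_neg hpos (show ∑ i, w i - a < 0 by omega) (pr_mem 𝒮 _ r), zero_smul]
  obtain rfl : a = ∑ i, w i := le_antisymm hle hge
  exact ⟨f, ⟨hinj, hsurj⟩, fun g r hr => hfdeg g r hr⟩


end GrModLib
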