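import Groth.Agent.GrModLib.VerType
import Groth.Agent.GrModLib.WPoly
import Groth.Agent.GorLib.Polynomial

/-! Veronese subrings of polynomial rings. -/

set_option autoImplicit false
universe u
attribute [local instance] MvPolynomial.weightedGradedAlgebra

open DirectSum MvPolynomial

namespace GrModLib

/-- A subring of elements supported in degrees divisible by `q` carries the Veronese grading. -/
theorem exists_ver_grading {R : Type u} [CommRing R] {𝒜 : ℤ → AddSubgroup R} [GradedRing 𝒜] {R' : Type u}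
    [CommRing R'] (φ : R' →+* R) (hφ : Function.Injective φ) {q : ℕ} (hq : 0 < q)
    (hrange : ∀ p : R, p ∈ φ.range ↔ ∀ g : ℤ, ¬ (q : ℤ) ∣ g → pr 𝒜 g p = 0) :
    ∃ (𝒜' : ℤ → AddSubgroup R') (_ : GradedRing 𝒜'), IsVer 𝒜 𝒜' φ q := by
  let 𝒜' : ℤ → AddSubgroup R' := fun j => (𝒜 (j * q)).comap (φ : R' →+ R)
  have hmem : ∀ (j : ℤ) (x : R), x ∈ 𝒜 (j * q) → x ∈ φ.range := fun j x hx =>
    (hrange x).2 fun g hg => pr_ne 𝒜 hx fun e => hg ⟨j, by rw [← e, mul_comm]⟩
  haveI : SetLike.GradedMonoid 𝒜' :=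
    { one_mem := by
        show φ 1 ∈ 𝒜 (0 * q)
        rw [map_one, zero_mul]
        exact SetLike.one_mem_graded 𝒜
      mul_mem := fun i j x y hx hy => by
        show φ (x * y) ∈ 𝒜 ((i + j) * q)
        rw [map_mul, add_mul]
        exact SetLike.mul_mem_graded hx hy }
  choose P hP using fun (j : ℤ) (x : R') => hmem j _ (pr_mem 𝒜 (j * (q : ℤ)) (φ x))
  have hint : DirectSum.IsInternal 𝒜' := by
    refine isInternal_of_pr 𝒜' (fun j =>
      { toFun := P j
        map_zero' := hφ (by rw [hP, map_zero, map_zero])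
        map_add' := fun x y => hφ (by rw [hP, map_add φ (P j x), hP, hP, map_add φ x, map_add]) })
      (fun j x hx => hφ ((hP j x).trans (pr_self 𝒜 hx)))
      (fun j i x hx hne => hφ ((hP j x).trans ((pr_ne 𝒜 hx fun e => hne (mul_right_cancel₀ (by omega) e)).trans
        (map_zero φ).symm))) fun x => ?_
    obtain ⟨t, -, ht⟩ := exists_finset 𝒜 (φ x)
    have hg : ∀ g, pr 𝒜 g (φ x) ∈ φ.range := fun g => by
      by_cases hd : (q : ℤ) ∣ g
      · obtain ⟨c, rfl⟩ := hd
        rw [mul_comm]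
        exact hmem c _ (pr_mem 𝒜 _ _)
      · rw [(hrange (φ x)).1 ⟨x, rfl⟩ g hd]; exact zero_mem _
    choose Q hQ using hg
    have hx : x = ∑ g ∈ t, Q g := hφ (by rw [map_sum]; exact ht.symm.trans (Finset.sum_congr rfl fun g _ => (hQ g).symm))
    rw [hx]
    refine sum_mem fun g _ => ?_
    by_cases hd : (q : ℤ) ∣ g
    · obtain ⟨c, rfl⟩ := hd
      refine AddSubgroup.mem_iSup_of_mem c (show φ (Q _) ∈ 𝒜 (c * q) from ?_)
      rw [hQ, mul_comm c]
      exact pr_mem 𝒜 _ _
    · rw [show Q g = 0 from hφ (by rw [hQ, (hrange (φ x)).1 ⟨x, rfl⟩ g hd, map_zero])]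
      exact zero_mem _
  letI : DirectSum.Decomposition 𝒜' := hint.chooseDecomposition
  refine ⟨𝒜', { (inferInstance : SetLike.GradedMonoid 𝒜'), (inferInstance : DirectSum.Decomposition 𝒜') with },
    hq, hφ, fun j => le_antisymm (by rintro _ ⟨r, hr, rfl⟩; exact hr) fun x hx => ?_⟩
  obtain ⟨r, rfl⟩ := hmem j x hx
  exact ⟨r, hx, rfl⟩

section Poly

variable (k : Type u) [Field k] (s : ℕ)

local notation "S" => MvPolynomial (Fin s) k
local notation "𝒮" => toAdd (MvPolynomial.weightedHomogeneousSubmodule k (fun _ : Fin s => (1 : ℤ)))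

theorem weight_one_eq (e : Fin s →₀ ℕ) : Finsupp.weight (fun _ : Fin s => (1 : ℤ)) e = (e.degree : ℤ) := by
  rw [Finsupp.weight_apply, Finsupp.sum_fintype _ _ (fun i => by simp), Finsupp.degree_eq_sum, Nat.cast_sum]
  exact Finset.sum_congr rfl fun i _ => by simp

theorem coeff_pr (g : ℤ) (p : S) (e : Fin s →₀ ℕ) :
    MvPolynomial.coeff e (pr 𝒮 g p) = if (e.degree : ℤ) = g then MvPolynomial.coeff e p else 0 := by
  induction p using MvPolynomial.induction_on' with
  | monomial a c =>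
    have ha : monomial a c ∈ 𝒮 (a.degree : ℤ) := isWeightedHomogeneous_monomial _ _ _ (weight_one_eq s a)
    by_cases h : (a.degree : ℤ) = g
    · subst h
      rw [pr_self 𝒮 ha, MvPolynomial.coeff_monomial]
      by_cases hea : a = e
      · subst hea; rw [if_pos rfl, if_pos rfl]
      · rw [if_neg hea]; split_ifs <;> rfl
    · rw [pr_ne 𝒮 ha h, MvPolynomial.coeff_zero, MvPolynomial.coeff_monomial]
      by_cases hea : a = e
      · subst hea; rw [if_pos rfl, if_neg h]
      · rw [if_neg hea]; split_ifs <;> rfl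
  | add a b ha hb => rw [map_add, MvPolynomial.coeff_add, MvPolynomial.coeff_add, ha, hb]; split_ifs <;> simp

theorem supported_iff {q : ℕ} (p : S) : (∀ g : ℤ, ¬ (q : ℤ) ∣ g → pr 𝒮 g p = 0) ↔
    ∀ j : ℕ, ¬ q ∣ j → MvPolynomial.homogeneousComponent j p = 0 := by
  classical
  constructor
  · intro h j hj
    refine MvPolynomial.ext _ _ fun e => ?_
    rw [coeff_homogeneousComponent, MvPolynomial.coeff_zero]
    split_ifs with he
    · have := congrArg (MvPolynomial.coeff e) (h (j : ℤ) (by exact_mod_cast hj))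
      rwa [coeff_pr, if_pos (by rw [he]), MvPolynomial.coeff_zero] at this
    · rfl
  · intro h g hg
    refine MvPolynomial.ext _ _ fun e => ?_
    rw [coeff_pr, MvPolynomial.coeff_zero]
    split_ifs with he
    · subst he
      have := congrArg (MvPolynomial.coeff e) (h e.degree (by exact_mod_cast hg))
      rwa [coeff_homogeneousComponent, if_pos rfl, MvPolynomial.coeff_zero] at this
    · rfl

theorem wpoly_endDeg (I : GrLC.StarInjRes 𝒮 𝒮) :
    GrLC.endDeg (I.Hgr (posIdeal 𝒮) s) = (((-(s : ℤ) : ℤ) : WithTop ℤ) : WithBot (WithTop ℤ)) := by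
  obtain ⟨hup, y, hy, hy0⟩ := wpoly_H k (fun _ : Fin s => (1 : ℤ)) (fun _ => one_pos) I
  have hsum : (∑ _i : Fin s, (1 : ℤ)) = s := by simp
  rw [hsum] at hup hy
  refine le_antisymm (iSup₂_le fun j hj => WithBot.coe_le_coe.2 (WithTop.coe_le_coe.2 ?_)) (le_iSup₂_of_le (-(s : ℤ)) ?_ le_rfl)
  · by_contra hlt
    exact hj ((AddSubgroup.eq_bot_iff_forall _).2 (hup j (by omega)))
  · exact fun hb => hy0 ((AddSubgroup.eq_bot_iff_forall _).1 hb y hy)

theorem wpoly_std : (posIdeal 𝒮).toIdeal = Ideal.span ((𝒮 1 : AddSubgroup S) : Set S) := by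
  refine le_antisymm ?_ (Ideal.span_le.2 fun p hp => mem_posIdeal one_pos hp)
  rw [wpoly_posIdeal k (fun _ : Fin s => (1 : ℤ)) fun _ => one_pos]
  refine Ideal.span_le.2 fun p hp => ?_
  simp only [Set.mem_setOf_eq, List.mem_ofFn', Set.mem_range] at hp
  obtain ⟨i, rfl⟩ := hp
  exact Ideal.subset_span (X_mem_weight k (fun _ : Fin s => (1 : ℤ)) i)

/-- The number of monomials of a given degree. -/
theorem finrank_piece_eq_choose (t : ℕ) :
    Module.finrank (GrLC.deg0 𝒮) (GrLC.comp 𝒮 𝒮 (t : ℤ)) = (s + t - 1).choose t := by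
  classical
  let w : Fin s → ℤ := fun _ => 1
  let V := weightedHomogeneousSubmodule k w (t : ℤ)
  let c : k →+* GrLC.deg0 𝒮 := (C : k →+* S).codRestrict (GrLC.deg0 𝒮) fun a => isWeightedHomogeneous_C w a
  have hc : Function.Bijective c := by
    refine ⟨fun a b h => C_injective _ _ (congrArg Subtype.val h), fun p => ⟨constantCoeff (p : S), Subtype.ext ?_⟩⟩
    exact (wpoly_eq_C k w (fun _ => one_pos) p.2).symm
  let j : V ≃+ GrLC.comp 𝒮 𝒮 (t : ℤ) :=
    { toFun := fun v => ⟨v.1, v.2⟩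
      invFun := fun v => ⟨v.1, v.2⟩
      left_inv := fun v => rfl
      right_inv := fun v => rfl
      map_add' := fun v v' => rfl }
  have hrk : Module.rank k V = Module.rank (GrLC.deg0 𝒮) (GrLC.comp 𝒮 𝒮 (t : ℤ)) :=
    rank_eq_of_equiv_equiv c j hc fun a v => Subtype.ext (MvPolynomial.smul_eq_C_mul (v.1) a)
  show Cardinal.toNat _ = _
  rw [← hrk]
  let T : Set (Fin s →₀ ℕ) := {e | Finsupp.weight w e = (t : ℤ)}
  have hT : T = ((Finset.univ : Finset (Fin s)).finsuppAntidiag t : Set (Fin s →₀ ℕ)) := by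
    ext e
    rw [Finset.mem_coe, Finset.mem_finsuppAntidiag]
    show Finsupp.weight w e = (t : ℤ) ↔ _
    rw [weight_one_eq, Nat.cast_inj, Finsupp.degree_eq_sum]
    exact ⟨fun h => ⟨h, Finset.subset_univ _⟩, fun h => h.1⟩
  have hV : V = restrictSupport k T := weightedHomogeneousSubmodule_eq_finsupp_supported k w (t : ℤ)
  show Module.finrank k V = _
  rw [hV, Module.finrank_eq_nat_card_basis (basisRestrictSupport k T), hT, Nat.card_coe_set_eq, Set.ncard_coe_finset,
    Finset.card_finsuppAntidiag_nat_eq_choose, Finset.card_univ, Fintype.card_fin]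

end Poly

end GrModLib
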