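import Groth.Agent.GrModLib.VerGor
import Groth.Agent.GrModLib.Canon
import Groth.Agent.GrModLib.CanonGrowth

/-! The type of Veronese subrings of standard graded Gorenstein rings. -/

set_option autoImplicit false
universe u

open DirectSum

namespace GrModLib

/-- A killed module with an independent spanning family. -/
theorem length_eq_card_of_indep {R : Type u} [CommRing R] {q : Ideal R} [q.IsMaximal] {T : Type u} [AddCommGroup T]
    [Module R T] {κ : Type u} (v : κ → T) (hk : ∀ k, ∀ r ∈ q, r • v k = 0)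
    (hind : ∀ c : κ →₀ R, Finsupp.linearCombination R v c = 0 → ∀ k, c k ∈ q)
    (hspan : ⊤ ≤ Submodule.span R (Set.range v)) : Module.length R T = ENat.card κ := by
  let f : κ → ((R ⧸ q) →ₗ[R] T) := fun k =>
    Submodule.liftQ q (LinearMap.toSpanSingleton R T (v k)) fun r hr => hk k r hr
  let L : (κ →₀ R ⧸ q) →ₗ[R] T := Finsupp.lsum R f
  have hL : ∀ c : κ →₀ R, L (c.mapRange (Submodule.Quotient.mk (p := q)) rfl) = Finsupp.linearCombination R v c := fun c => by
    induction c using Finsupp.induction_linear with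
    | zero => simp
    | add a b ha hb =>
      rw [Finsupp.mapRange_add (fun x y => rfl), map_add, ha, hb, map_add]
    | single k r =>
      rw [Finsupp.mapRange_single, Finsupp.lsum_single, Finsupp.linearCombination_single]
      rfl
  have hmr : Function.Surjective (Finsupp.mapRange (Submodule.Quotient.mk (p := q)) rfl : (κ →₀ R) → (κ →₀ R ⧸ q)) :=
    Finsupp.mapRange_surjective _ rfl (Submodule.Quotient.mk_surjective q)
  have hLb : Function.Bijective L := by
    refine ⟨(injective_iff_map_eq_zero L).2 fun x hx => ?_, fun t => ?_⟩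
    · obtain ⟨c, rfl⟩ := hmr x
      rw [hL] at hx
      refine Finsupp.ext fun k => ?_
      rw [Finsupp.mapRange_apply, Finsupp.zero_apply]
      exact (Submodule.Quotient.mk_eq_zero q).2 (hind c hx k)
    · obtain ⟨c, hc⟩ := Finsupp.mem_span_range_iff_exists_finsupp.1 (hspan (Submodule.mem_top : t ∈ ⊤))
      exact ⟨_, (hL c).trans hc⟩
  haveI : IsSimpleModule R (R ⧸ q) := isSimpleModule_iff_isCoatom.2 Ideal.IsMaximal.out
  rw [← (LinearEquiv.ofBijective L hLb).length_eq, Module.length_finsupp, Module.length_eq_one, mul_one]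

section Single

variable {ι : Type} [AddCommGroup ι] [DecidableEq ι] [Module.Free ℤ ι] [Module.Finite ℤ ι] {R : Type u}
  [CommRing R] [IsNoetherianRing R] {𝒜 : ι → AddSubgroup R} [GradedRing 𝒜] {m : HomogeneousIdeal 𝒜}

/-- In the presence of vanishing below `n`, the `n`-th Bass number is the length of the socle of `H^n`. -/
theorem bassNum_eq_length_tors_H [m.toIdeal.IsMaximal] (hm : IsCoatom m) {n : ℕ} {M : Type u} [AddCommGroup M]
    [Module R M] {ℳ : ι → AddSubgroup M} [DirectSum.Decomposition ℳ] [SetLike.GradedSMul 𝒜 ℳ]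
    (hvan : ∀ j < n, ∀ g, Van m ℳ j g) (I : GrLC.StarInjRes 𝒜 ℳ) :
    GrLC.bassNum m.toIdeal M n = Module.length R (tors m.toIdeal (I.H m n)) := by
  obtain ⟨X, hess⟩ := exists_minimal_res (𝒜 := 𝒜) (M := M) ℳ
  have hlow : ∀ j, j < n → ∀ x ∈ GrLC.gam m.toIdeal (X.X j).carrier, x = 0 := by
    intro j
    induction j using Nat.strong_induction_on with
    | _ j ih =>
    intro hj x hx
    by_contra hx0
    obtain ⟨r, hy, hr0⟩ := exists_tors_ne_zero m.toIdeal hx hx0
    refine hr0 ?_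
    have hyc : r • x ∈ X.cocyc m j :=
      ⟨⟨1, fun s hs => (mem_tors _).1 hy s (by rwa [pow_one] at hs)⟩, d_eq_zero_of_tors X hess hm j hy⟩
    have hH : ∀ z : X.H m j, z = 0 := fun z => by
      induction z using induction (X.Hgr m j) with
      | h0 => rfl
      | hmem g w hw => exact hvan j hj g X w hw
      | hadd a b ha hb => rw [ha, hb, add_zero]
    have h0 := (Submodule.Quotient.mk_eq_zero _).1 (hH (X.toH m j ⟨r • x, hyc⟩))
    cases j with
    | zero => exact (Submodule.mem_bot R).1 h0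
    | succ k =>
      obtain ⟨w, hw, hwx⟩ := h0
      rw [← show X.d k w = r • x from hwx, ih k (by omega) (by omega) w hw, map_zero]
  have hcob : X.cobdy m n = ⊥ := by
    cases n with
    | zero => rfl
    | succ n =>
      rw [eq_bot_iff]
      rintro _ ⟨x, hx, rfl⟩
      rw [Submodule.mem_bot, hlow n (by omega) x hx, map_zero]
  obtain ⟨κ, v, -, hvt, hind, hgen, hcard⟩ := exists_socle_basis X hess hm n
  rw [hcard]
  obtain ⟨c, -, -⟩ := exists_compare m X I n
  let f : X.cocyc m n →ₗ[R] I.H m n := c.toLinearMap ∘ₗ X.toH m n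
  have hfi : Function.Injective f := by
    refine c.injective.comp (fun a b h => ?_)
    have h1 := (Submodule.Quotient.eq _).1 h
    rw [hcob] at h1
    exact sub_eq_zero.1 (Subtype.ext ((Submodule.mem_bot R).1 h1))
  rw [← length_tors_congr m.toIdeal f hfi fun b _ => (c.surjective.comp (Submodule.mkQ_surjective _)) b]
  have hvc : ∀ k, v k ∈ X.cocyc m n := fun k =>
    ⟨⟨1, fun s hs => (mem_tors _).1 (hvt k) s (by rwa [pow_one] at hs)⟩, d_eq_zero_of_tors X hess hm n (hvt k)⟩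
  let w : κ → tors m.toIdeal (X.cocyc m n) := fun k =>
    ⟨⟨v k, hvc k⟩, (mem_tors _).2 fun r hr => Subtype.ext ((mem_tors _).1 (hvt k) r hr)⟩
  let p : tors m.toIdeal (X.cocyc m n) →ₗ[R] (X.X n).carrier := (X.cocyc m n).subtype ∘ₗ Submodule.subtype _
  have hpi : Function.Injective p := (Submodule.subtype_injective _).comp (Submodule.subtype_injective _)
  refine (length_eq_card_of_indep w (fun k r hr => Subtype.ext (Subtype.ext ((mem_tors _).1 (hvt k) r hr)))
    (fun c hc => hind c (by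
      have h1 : p (Finsupp.linearCombination R w c) = 0 := by rw [hc, map_zero]
      rwa [Finsupp.apply_linearCombination] at h1)) fun t _ => ?_).symm
  have ht : p t ∈ tors m.toIdeal (X.X n).carrier := (mem_tors _).2 fun r hr => by
    rw [← map_smul, show r • t = 0 from Subtype.ext ((mem_tors _).1 t.2 r hr), map_zero]
  obtain ⟨c, hc⟩ := Finsupp.mem_span_range_iff_exists_finsupp.1 (hgen ht)
  refine Finsupp.mem_span_range_iff_exists_finsupp.2 ⟨c, hpi ?_⟩
  show p (Finsupp.linearCombination R w c) = p t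
  rw [Finsupp.apply_linearCombination]
  exact hc

end Single

variable {R : Type u} [CommRing R] [IsNoetherianRing R] {𝒜 : ℤ → AddSubgroup R} [GradedRing 𝒜]
  {E : GrLC.GMod.{u} 𝒜} {e : (R ⧸ (posIdeal 𝒜).toIdeal) →ₗ[R] E.carrier}

/-- A piece of the hull is dual to the opposite piece of the ring. -/
theorem finrank_hull_piece (hpos : ∀ n : ℤ, n < 0 → 𝒜 n = ⊥) (h0 : IsField (GrLC.deg0 𝒜))
    (he : GrLC.IsStarInjHull 𝒜 (GrLC.quotGr 𝒜 (posIdeal 𝒜)) E.gr e) (d : ℤ) :
    Module.Finite (GrLC.deg0 𝒜) (GrLC.comp 𝒜 E.gr (-d)) ∧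
      Module.finrank (GrLC.deg0 𝒜) (GrLC.comp 𝒜 E.gr (-d)) = Module.finrank (GrLC.deg0 𝒜) (GrLC.comp 𝒜 𝒜 d) := by
  letI := h0.toField
  let RG : GrLC.GMod.{u} 𝒜 := GrLC.GMod.of 𝒜 R 𝒜
  haveI : Module.Finite R RG.carrier := inferInstanceAs (Module.Finite R R)
  haveI : IsNoetherian (GrLC.deg0 𝒜) (GrLC.comp 𝒜 𝒜 d) := isNoetherian_comp RG d
  let K := GrLC.comp 𝒜 E.gr 0
  have he1 : e 1 ∈ K := hull_mem_zero hpos he 1
  let u : GrLC.deg0 𝒜 →ₗ[GrLC.deg0 𝒜] K := LinearMap.toSpanSingleton _ _ ⟨e 1, he1⟩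
  have hu : Function.Bijective u := by
    refine ⟨fun a b h => ?_, fun y => ?_⟩
    · by_contra hne
      have h1 : ((a : R) - (b : R)) • e 1 = 0 := by rw [sub_smul, sub_eq_zero]; exact congrArg Subtype.val h
      obtain ⟨s, -, hs⟩ := deg0_inv h0 (sub_mem a.2 b.2) (fun hz => hne (Subtype.ext (sub_eq_zero.1 hz)))
      refine hull_one_ne_zero hpos h0 he ?_
      rw [← one_smul R (e 1), ← hs, mul_smul, h1, smul_zero]
    · obtain ⟨z, hz⟩ := mem_range_of_deg_zero hpos h0 he y.2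
      obtain ⟨t, rfl⟩ := Ideal.Quotient.mk_surjective z
      refine ⟨⟨pr 𝒜 0 t, pr_mem 𝒜 0 t⟩, Subtype.ext ?_⟩
      show pr 𝒜 0 t • e 1 = y.1
      rw [← hz, ← map_smul]
      refine congrArg e ((Ideal.Quotient.eq).2 ?_)
      show pr 𝒜 0 t * 1 - t ∈ (posIdeal 𝒜).toIdeal
      rw [mul_one, ← neg_sub]
      exact neg_mem (mk_eq_mk_pr hpos t)
  let uK := LinearEquiv.ofBijective u hu
  haveI : Module.Finite (GrLC.deg0 𝒜) K := Module.Finite.equiv uK
  let D : GrLC.comp 𝒜 E.gr (-d) →ₗ[GrLC.deg0 𝒜] (GrLC.comp 𝒜 𝒜 d →ₗ[GrLC.deg0 𝒜] K) :=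
    LinearMap.mk₂ _ (fun y r => (⟨r.1 • y.1, by
        have := smul_mem 𝒜 E.gr (show r.1 ∈ 𝒜 d from r.2) (show y.1 ∈ E.gr (-d) from y.2)
        rwa [add_neg_cancel] at this⟩ : K))
      (fun y y' r => Subtype.ext (smul_add r.1 y.1 y'.1))
      (fun c y r => Subtype.ext (smul_comm r.1 (c : R) y.1))
      (fun y r r' => Subtype.ext (add_smul r.1 r'.1 y.1))
      (fun c y r => Subtype.ext (mul_smul (c : R) r.1 y.1))
  have hD : Function.Bijective D := by
    refine ⟨(injective_iff_map_eq_zero D).2 fun y hy => ?_, fun f => ?_⟩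
    · by_contra hne
      obtain ⟨r, hr, -, hr0⟩ := exists_smul_hull hpos he (show y.1 ∈ E.gr (-d) from y.2) fun h => hne (Subtype.ext h)
      rw [neg_neg] at hr
      exact hr0 (congrArg Subtype.val (LinearMap.congr_fun hy ⟨r, hr⟩))
    · have hneg : ∀ (i : ℤ) (w : R), w ∈ 𝒜 (- -i) → w ∈ 𝒜 i := fun i w hw => by rwa [neg_neg] at hw
      let ψ : GrLC.comp 𝒜 RG.gr (- -d) →ₗ[GrLC.deg0 𝒜] GrLC.comp 𝒜 E.gr 0 :=
        { toFun := fun v => f ⟨v.1, hneg d v.1 v.2⟩
          map_add' := fun v w => (congrArg f (Subtype.ext rfl)).trans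
            (map_add f (⟨v.1, hneg d v.1 v.2⟩ : GrLC.comp 𝒜 𝒜 d) ⟨w.1, hneg d w.1 w.2⟩)
          map_smul' := fun c v =>
            (congrArg f (Subtype.ext rfl)).trans (map_smul f c (⟨v.1, hneg d v.1 v.2⟩ : GrLC.comp 𝒜 𝒜 d)) }
      obtain ⟨χ, hχ, hχv⟩ := exists_hom_deg hpos h0 he RG (-d) ψ
      have hx : χ (1 : R) ∈ E.gr (-d) := by
        have := hχ 0 (1 : R) (SetLike.one_mem_graded 𝒜)
        rwa [zero_add] at this
      refine ⟨⟨χ (1 : R), hx⟩, LinearMap.ext fun r => Subtype.ext ?_⟩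
      show r.1 • χ (1 : R) = (f r).1
      let r' : GrLC.comp 𝒜 RG.gr (- -d) := ⟨r.1, by
        show r.1 ∈ 𝒜 (- -d)
        rw [neg_neg]; exact r.2⟩
      exact ((map_smul χ r.1 (1 : R)).symm.trans (congrArg χ (mul_one r.1))).trans (hχv r')
  let De := LinearEquiv.ofBijective D hD
  refine ⟨Module.Finite.equiv De.symm, ?_⟩
  rw [De.finrank_eq, Module.finrank_linearMap, ← uK.finrank_eq, Module.finrank_self, mul_one]

variable {R' : Type u} [CommRing R'] {𝒜' : ℤ → AddSubgroup R'} [GradedRing 𝒜'] {φ : R' →+* R} {q : ℕ}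

/-- The type of a Veronese subring. -/
theorem bassNum_veronese [LocCoh.IsGorensteinRing R] (hV : IsVer 𝒜 𝒜' φ q)
    (hpos : ∀ n : ℤ, n < 0 → 𝒜 n = ⊥) (h0 : IsField (GrLC.deg0 𝒜))
    (hstd : (posIdeal 𝒜).toIdeal = Ideal.span ((𝒜 1 : AddSubgroup R) : Set R)) {n : ℕ} (hn : ringKrullDim R = n)
    (I : GrLC.StarInjRes 𝒜 𝒜) (a : ℤ)
    (ha : GrLC.endDeg (I.Hgr (posIdeal 𝒜) n) = ((a : WithTop ℤ) : WithBot (WithTop ℤ)))
    [(posIdeal 𝒜').toIdeal.IsMaximal] (ρ : ℤ) (hρ0 : 0 ≤ ρ) (hρq : ρ < q) (hρa : (q : ℤ) ∣ a - ρ) :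
    GrLC.bassNum (posIdeal 𝒜').toIdeal R' n = (Module.finrank (GrLC.deg0 𝒜) (GrLC.comp 𝒜 𝒜 ρ) : ℕ∞) := by
  haveI := hV.isNoetherianRing
  haveI : LocCoh.IsCohenMacaulayRing R := ⟨fun p _ => by
    haveI := LocCoh.IsGorensteinRing.isGorensteinLocalRing_localization (A := R) p
    exact SMTLib.isCohenMacaulayLocalRing_of_isCM _ GorLib.isCM_of_gorenstein⟩
  have hpos' := hV.hpos' hpos
  have h0' := hV.isField' h0
  have hm' := isStarLocal_posIdeal (𝒜 := 𝒜') hpos' h0'
  let RG : GrLC.GMod.{u} 𝒜 := GrLC.GMod.of 𝒜 R 𝒜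
  let RG' : GrLC.GMod.{u} 𝒜' := GrLC.GMod.of 𝒜' R' 𝒜'
  let g : RG'.carrier →ₛₗ[φ] RG.carrier :=
    { toFun := fun x => φ x, map_add' := fun x y => map_add φ x y, map_smul' := fun r x => map_mul φ r x }
  have hgdeg : ∀ j : ℤ, (RG'.gr j).map (g : RG'.carrier →+ RG.carrier) = RG.gr (j * q) := hV.map_eq
  obtain ⟨I'⟩ := nonempty_resG RG'
  obtain ⟨E, e, he⟩ := exists_residue_hull (posIdeal 𝒜)
  obtain ⟨a', θ, ha', hθ⟩ := exists_top_equiv_endDeg hpos h0 hn I he
  obtain rfl : a' = a := by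
    rw [ha] at ha'
    exact (WithTop.coe_injective (WithBot.coe_injective ha')).symm
  obtain ⟨Θ, -⟩ := exists_verH_equiv hV RG RG' g hV.inj hgdeg I I' n _ θ hθ
  have hvan : ∀ j, j < n → ∀ i, Van (posIdeal 𝒜') RG'.gr j i := fun j hj i => by
    obtain ⟨Φ, hΦi, -, hΦj⟩ := exists_verH hV RG RG' g hV.inj hgdeg I I' j
    refine (van_iff I' j i).2 fun x hx => hΦi ?_
    rw [map_zero]
    exact van_below_dim hpos (isStarLocal_posIdeal hpos h0) hn j hj _ I _ ((hΦj i).le ⟨x, hx, rfl⟩)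
  let m' := posIdeal 𝒜'
  show GrLC.bassNum m'.toIdeal RG'.carrier n = _
  rw [bassNum_eq_length_tors_H hm'.1 (ℳ := RG'.gr) hvan I',
    length_tors_congr m'.toIdeal Θ.toLinearMap Θ.injective fun b _ => Θ.surjective b]
  obtain ⟨j₀, hj₀⟩ := hρa
  let S := shiftG 𝒜 E.gr (-a')
  let W := verG hV S
  -- multiples in a high power
  have hpow : ∀ (k : ℕ), (posIdeal 𝒜).toIdeal ^ k ≤ Ideal.span ((𝒜 (k : ℤ) : AddSubgroup R) : Set R) := by
    intro k
    induction k with
    | zero =>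
      rw [pow_zero, Ideal.one_eq_top]
      exact ((Ideal.eq_top_iff_one _).2 (Ideal.subset_span (SetLike.one_mem_graded 𝒜))).ge
    | succ k ih =>
      rw [pow_succ, hstd]
      refine (Ideal.mul_mono ((hstd ▸ ih : _)) le_rfl).trans ?_
      rw [Ideal.span_mul_span']
      refine Ideal.span_mono ?_
      rintro _ ⟨x, hx, y, hy, rfl⟩
      show x * y ∈ 𝒜 ((k + 1 : ℕ) : ℤ)
      rw [Nat.cast_add_one]
      exact SetLike.mul_mem_graded hx hy
  have hkey : ∀ (j : ℤ) (v : W.carrier), v ∈ W.gr j → v ∈ tors m'.toIdeal W.carrier → v ≠ 0 → j = j₀ := by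
    intro j v hv hvt hv0
    let x : E.carrier := vInc hV S v
    have hx : x ∈ E.gr (j * q + -a') := (mem_verG_gr hV).1 hv
    have hx0 : x ≠ 0 := fun h => hv0 (vInc_injective hV (h.trans (map_zero (vInc hV S)).symm))
    obtain ⟨r, hr, -, hr0⟩ := exists_smul_hull hpos he hx hx0
    have hkill : ∀ s ∈ (posIdeal 𝒜).toIdeal ^ q, s • x = 0 := by
      intro s hs
      have hs' := hpow q hs
      clear hs
      induction hs' using Submodule.span_induction with
      | mem s hs =>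
        obtain ⟨t, ht, rfl⟩ := hV.exists_mem (j := 1) (x := s) (by rw [one_mul]; exact hs)
        exact (vInc_smul hV t v).symm.trans
          ((congrArg (vInc hV S) ((mem_tors _).1 hvt t (mem_posIdeal one_pos ht))).trans (map_zero (vInc hV S)))
      | zero => exact zero_smul R x
      | add s s' _ _ h1 h2 => rw [add_smul, h1, h2, add_zero]
      | smul c s _ h1 => rw [smul_eq_mul, mul_smul, h1, smul_zero]
    have hlt : -(j * (q : ℤ) + -a') < q := by
      by_contra hge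
      refine hr0 (hkill r ?_)
      obtain ⟨t, ht⟩ : ∃ t : ℕ, -(j * (q : ℤ) + -a') = t := ⟨_, (Int.toNat_of_nonneg (by omega)).symm⟩
      rw [ht] at hr
      exact Ideal.pow_le_pow_right (show q ≤ t by omega) (mem_pow_of_std hstd t r hr)
    have hle : j * (q : ℤ) + -a' ≤ 0 := by
      by_contra hlt'
      exact hx0 (hull_eq_zero_of_pos hpos he (by omega) hx)
    by_contra hne
    rcases lt_or_gt_of_ne hne with h | h
    · have := mul_le_mul_of_nonneg_right (show j + 1 ≤ j₀ by omega) (show (0 : ℤ) ≤ q by omega)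
      rw [add_mul, one_mul, mul_comm j₀] at this
      omega
    · have := mul_le_mul_of_nonneg_right (show j₀ + 1 ≤ j by omega) (show (0 : ℤ) ≤ q by omega)
      rw [add_mul, one_mul, mul_comm j₀] at this
      omega
  let T : Submodule R' W.carrier := tors m'.toIdeal W.carrier
  have hTmem : ∀ v : W.carrier, v ∈ T ↔ v ∈ W.gr j₀ := fun v => by
    constructor
    · intro hv
      obtain ⟨s, -, hs⟩ := exists_finset W.gr v
      rw [← hs]
      refine sum_mem fun j _ => ?_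
      by_cases h0v : pr W.gr j v = 0
      · rw [h0v]; exact zero_mem _
      · rw [← hkey j _ (pr_mem W.gr j v) (tors_isHomogeneous _ m'.isHomogeneous j hv) h0v]
        exact pr_mem W.gr j v
    · intro hv
      refine (mem_tors _).2 fun r hr => ?_
      have hhom : ∀ i, 0 < i → ∀ t ∈ 𝒜' i, t • v = 0 := fun i hi t ht => by
        refine vInc_injective hV ?_
        rw [vInc_smul, map_zero]
        have hmem : (φ t • vInc hV S v : S.carrier) ∈ S.gr (i * q + j₀ * q) :=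
          smul_mem 𝒜 S.gr (hV.mem_iff.1 ht) ((mem_verG_gr hV).1 hv)
        refine hull_eq_zero_of_pos hpos he (d := i * q + j₀ * q + -a') ?_ hmem
        have := le_mul_of_one_le_left (show (0 : ℤ) ≤ q by omega) (show (1 : ℤ) ≤ i by omega)
        rw [mul_comm j₀]
        omega
      rw [posIdeal_toIdeal] at hr
      induction hr using Submodule.span_induction with
      | mem t ht =>
        simp only [Set.mem_iUnion] at ht
        obtain ⟨i, hi, hti⟩ := ht
        exact hhom i hi t hti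
      | zero => exact zero_smul R' v
      | add a b _ _ ha hb => rw [add_smul, ha, hb, add_zero]
      | smul c a _ ha => rw [smul_eq_mul, mul_smul, ha, smul_zero]
  have hlen : Module.length R' T = Module.length (GrLC.deg0 𝒜') T := by
    refine length_eq_of_smul_eq T fun r => ⟨⟨pr 𝒜' 0 r, pr_mem 𝒜' 0 r⟩, fun t => Subtype.ext ?_⟩
    show r • t.1 = pr 𝒜' 0 r • t.1
    rw [← sub_eq_zero, ← sub_smul]
    exact (mem_tors _).1 t.2 _ (mk_eq_mk_pr hpos' r)
  obtain ⟨ε, hε⟩ := hV.bijective_deg0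
  let T₀ := GrLC.comp 𝒜 E.gr (-ρ)
  have hidx : j₀ * (q : ℤ) + -a' = -ρ := by rw [mul_comm]; omega
  have hmem : ∀ v : T, vInc hV S v.1 ∈ E.gr (-ρ) := fun v => by
    rw [← hidx]; exact (mem_verG_gr hV).1 ((hTmem v.1).1 v.2)
  let f : T →+ T₀ :=
    { toFun := fun v => ⟨vInc hV S v.1, hmem v⟩
      map_zero' := Subtype.ext (map_zero (vInc hV S))
      map_add' := fun v w => Subtype.ext (map_add (vInc hV S) v.1 w.1) }
  have hf : Function.Bijective f := by
    refine ⟨fun v w h => Subtype.ext (vInc_injective hV (congrArg (fun y : T₀ => y.1) h)), fun y => ?_⟩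
    obtain ⟨v, hv, hvy⟩ := exists_vInc_of_mem hV (X := S) (j := j₀) (x := y.1) (by
      show y.1 ∈ E.gr (j₀ * q + -a')
      rw [hidx]; exact y.2)
    exact ⟨⟨v, (hTmem v).2 hv⟩, Subtype.ext hvy⟩
  obtain ⟨hfin, hrank⟩ := finrank_hull_piece hpos h0 he ρ
  have hrk : Module.rank (GrLC.deg0 𝒜') T = Module.rank (GrLC.deg0 𝒜) T₀ :=
    rank_eq_of_equiv_equiv (fun r => ε r) (AddEquiv.ofBijective f hf) ε.bijective fun r v => Subtype.ext (by
      show vInc hV S ((r : R') • v.1) = (ε r : R) • vInc hV S v.1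
      rw [hε, vInc_smul])
  letI := h0'.toField
  letI := h0.toField
  haveI : Module.Finite (GrLC.deg0 𝒜') T := Module.finite_of_rank_eq_nat (n := Module.finrank (GrLC.deg0 𝒜) T₀)
    (hrk.trans (Module.finrank_eq_rank _ _).symm)
  show Module.length R' T = _
  rw [hlen, Module.length_eq_finrank, ← hrank]
  exact congrArg Nat.cast (congrArg Cardinal.toNat hrk)

end GrModLib

namespace GrModLib

variable {R : Type u} [CommRing R] [IsNoetherianRing R] {𝒜 : ℤ → AddSubgroup R} [GradedRing 𝒜]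

/-- Powers of the irrelevant ideal of a standard graded ring. -/
theorem pow_le_span_piece (hstd : (posIdeal 𝒜).toIdeal = Ideal.span ((𝒜 1 : AddSubgroup R) : Set R)) :
    ∀ k : ℕ, (posIdeal 𝒜).toIdeal ^ k ≤ Ideal.span ((𝒜 (k : ℤ) : AddSubgroup R) : Set R)
  | 0 => by
    rw [pow_zero, Ideal.one_eq_top]
    exact ((Ideal.eq_top_iff_one _).2 (Ideal.subset_span (SetLike.one_mem_graded 𝒜))).ge
  | k + 1 => by
    rw [pow_succ]
    refine (Ideal.mul_mono (pow_le_span_piece hstd k) hstd.le).trans ?_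
    rw [Ideal.span_mul_span']
    refine Ideal.span_mono ?_
    rintro _ ⟨x, hx, y, hy, rfl⟩
    show x * y ∈ 𝒜 ((k + 1 : ℕ) : ℤ)
    rw [Nat.cast_add_one]
    exact SetLike.mul_mem_graded hx hy

/-- The pieces of a standard graded ring of positive depth do not shrink below two. -/
theorem two_le_finrank_piece (h0 : IsField (GrLC.deg0 𝒜))
    (hstd : (posIdeal 𝒜).toIdeal = Ideal.span ((𝒜 1 : AddSubgroup R) : Set R))
    (hgam : GrLC.gam (posIdeal 𝒜).toIdeal R = ⊥)
    (hR1 : 2 ≤ Module.finrank (GrLC.deg0 𝒜) (GrLC.comp 𝒜 𝒜 1)) (t : ℕ) :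
    2 ≤ Module.finrank (GrLC.deg0 𝒜) (GrLC.comp 𝒜 𝒜 ((t : ℤ) + 1)) := by
  let RG : GrLC.GMod.{u} 𝒜 := GrLC.GMod.of 𝒜 R 𝒜
  haveI : Module.Finite R RG.carrier := inferInstanceAs (Module.Finite R R)
  haveI : IsNoetherian (GrLC.deg0 𝒜) (GrLC.comp 𝒜 𝒜 ((t : ℤ) + 1)) := isNoetherian_comp RG _
  have hzero : ∀ (k : ℕ) (v : R), (∀ r ∈ 𝒜 (k : ℤ), r * v = 0) → v = 0 := fun k v hv => by
    refine (Submodule.mem_bot R).1 (hgam.le ⟨k, fun r hr => ?_⟩)
    have hr' := pow_le_span_piece hstd k hr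
    clear hr
    induction hr' using Submodule.span_induction with
    | mem r hr => exact hv r hr
    | zero => exact zero_smul R v
    | add a b _ _ ha hb => rw [add_smul, ha, hb, add_zero]
    | smul c a _ ha =>
      show c * a * v = 0
      rw [mul_assoc, show a * v = 0 from ha, mul_zero]
  have hup : ∀ v : R, v ≠ 0 → ∃ l ∈ 𝒜 1, l * v ≠ 0 := fun v hv => by
    by_contra hcon
    push Not at hcon
    exact hv (hzero 1 v (by rw [Nat.cast_one]; exact hcon))
  haveI : Nontrivial R := by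
    by_contra hnt
    rw [not_nontrivial_iff_subsingleton] at hnt
    haveI := hnt
    obtain ⟨a, b, hab⟩ := h0.exists_pair_ne
    exact hab (Subtype.ext (Subsingleton.elim _ _))
  have hex : ∀ s : ℕ, ∃ v ∈ 𝒜 (s : ℤ), v ≠ 0 := by
    intro s
    induction s with
    | zero => exact ⟨1, by rw [Nat.cast_zero]; exact SetLike.one_mem_graded 𝒜, one_ne_zero⟩
    | succ s ih =>
      obtain ⟨v, hv, hv0⟩ := ih
      obtain ⟨l, hl, hlv⟩ := hup v hv0
      refine ⟨l * v, ?_, hlv⟩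
      rw [Nat.cast_add_one, add_comm]
      exact SetLike.mul_mem_graded hl hv
  obtain ⟨v, hv, hv0⟩ := hex t
  obtain ⟨l₁, hl₁, hw0⟩ := hup v hv0
  have hmem : ∀ l ∈ 𝒜 1, l * v ∈ 𝒜 ((t : ℤ) + 1) := fun l hl => by
    rw [add_comm]; exact SetLike.mul_mem_graded hl hv
  by_contra hlt
  have hcyc : ∀ r ∈ 𝒜 ((t : ℤ) + 1), ∃ c : GrLC.deg0 𝒜, (c : R) * (l₁ * v) = r := fun r hr => by
    obtain ⟨c, hc⟩ := exists_smul_of_finrank_lt_two h0 (V := GrLC.comp 𝒜 𝒜 ((t : ℤ) + 1)) (lt_of_not_ge hlt)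
      (w := ⟨l₁ * v, hmem l₁ hl₁⟩) (fun h => hw0 (congrArg Subtype.val h)) ⟨r, hr⟩
    exact ⟨c, congrArg Subtype.val hc⟩
  have hreg : ∀ z : R, z * (l₁ * v) = 0 → z = 0 := fun z hz => hzero (t + 1) z fun r hr => by
    obtain ⟨c, rfl⟩ := hcyc r (by rw [← Nat.cast_add_one]; exact hr)
    rw [mul_assoc, mul_comm (l₁ * v) z, hz, mul_zero]
  letI := h0.toField
  haveI : IsNoetherian (GrLC.deg0 𝒜) (GrLC.comp 𝒜 𝒜 1) := isNoetherian_comp RG 1
  have h1 : Module.finrank (GrLC.deg0 𝒜) (GrLC.comp 𝒜 𝒜 1) ≤ 1 := finrank_le_one (⟨l₁, hl₁⟩ : GrLC.comp 𝒜 𝒜 1)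
    fun l => by
      obtain ⟨c, hc⟩ := hcyc _ (hmem l.1 l.2)
      refine ⟨c, Subtype.ext ?_⟩
      show (c : R) * l₁ = l.1
      refine sub_eq_zero.1 (hreg _ ?_)
      calc ((c : R) * l₁ - l.1) * (l₁ * v) = ((c : R) * (l₁ * v) - l.1 * v) * l₁ := by ring
        _ = 0 := by rw [hc, sub_self, zero_mul]
  omega

end GrModLib
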