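import Groth.Agent.GrModLib.Coresolution
import Groth.Agent.GrModLib.Growth
import Groth.Agent.LocCohLib.BaseChange

/-! Veronese subrings and Veronese submodules. -/

set_option autoImplicit false
universe u

open DirectSum CategoryTheory

namespace GrModLib

variable {R : Type u} [CommRing R] {𝒜 : ℤ → AddSubgroup R} [GradedRing 𝒜]
  {R' : Type u} [CommRing R'] {𝒜' : ℤ → AddSubgroup R'} [GradedRing 𝒜'] {φ : R' →+* R} {q : ℕ}

variable (𝒜 𝒜' φ q) in
/-- `φ` presents `R'` as the `q`-th Veronese subring of `R`. -/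
structure IsVer : Prop where
  pos : 0 < q
  inj : Function.Injective φ
  map_eq : ∀ j : ℤ, (𝒜' j).map (φ : R' →+ R) = 𝒜 (j * q)

section Ring

variable (hV : IsVer 𝒜 𝒜' φ q)
include hV

theorem IsVer.mem_iff {j : ℤ} {r : R'} : r ∈ 𝒜' j ↔ φ r ∈ 𝒜 (j * q) := by
  rw [← hV.map_eq j]
  exact ⟨fun h => ⟨r, h, rfl⟩, fun ⟨s, hs, hsr⟩ => hV.inj hsr ▸ hs⟩

theorem IsVer.exists_mem {j : ℤ} {x : R} (hx : x ∈ 𝒜 (j * q)) : ∃ r ∈ 𝒜' j, φ r = x := by
  rw [← hV.map_eq j] at hx
  exact hx

theorem IsVer.mul_right_inj {i j : ℤ} (h : i * (q : ℤ) = j * q) : i = j :=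
  mul_right_cancel₀ (by have := hV.pos; omega) h

theorem IsVer.pr_map (j : ℤ) (r : R') : φ (pr 𝒜' j r) = pr 𝒜 (j * q) (φ r) := by
  induction r using induction 𝒜' with
  | h0 => simp
  | hadd a b ha hb => simp [map_add, ha, hb]
  | hmem i a ha =>
    have hφa := hV.mem_iff.1 ha
    by_cases h : i = j
    · subst h; rw [pr_self 𝒜' ha, pr_self 𝒜 hφa]
    · rw [pr_ne 𝒜' ha h, pr_ne 𝒜 hφa fun e => h (hV.mul_right_inj e), map_zero]

/-- Components of a multiple by an element of the subring. -/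
theorem IsVer.pr_smul_eq_zero {X : GrLC.GMod.{u} 𝒜} (r : R') {g : ℤ} (hg : ¬ (q : ℤ) ∣ g) {x : X.carrier}
    (hx : ∀ i : ℤ, ¬ (q : ℤ) ∣ i → pr X.gr i x = 0) : pr X.gr g (φ r • x) = 0 := by
  induction r using induction 𝒜' with
  | h0 => simp
  | hadd a b ha hb => rw [map_add, add_smul, map_add, ha, hb, add_zero]
  | hmem i a ha =>
    rw [pr_smul 𝒜 X.gr (hV.mem_iff.1 ha), hx _ ?_, smul_zero]
    rintro ⟨c, hc⟩
    exact hg ⟨i + c, by linear_combination hc⟩

end Ring

variable (q) in
/-- The elements all of whose components have degree divisible by `q`. -/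
def verSub (X : GrLC.GMod.{u} 𝒜) : AddSubgroup X.carrier where
  carrier := {x | ∀ g : ℤ, ¬ (q : ℤ) ∣ g → pr X.gr g x = 0}
  add_mem' ha hb g hg := by rw [map_add, ha g hg, hb g hg, add_zero]
  zero_mem' g _ := map_zero _
  neg_mem' ha g hg := by rw [map_neg, ha g hg, neg_zero]

theorem mem_verSub {X : GrLC.GMod.{u} 𝒜} {x : X.carrier} :
    x ∈ verSub q X ↔ ∀ g : ℤ, ¬ (q : ℤ) ∣ g → pr X.gr g x = 0 := Iff.rfl

theorem mem_verSub_of_mem {X : GrLC.GMod.{u} 𝒜} {j : ℤ} {x : X.carrier} (hx : x ∈ X.gr (j * q)) :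
    x ∈ verSub q X := fun g hg => pr_ne X.gr hx fun e => hg ⟨j, by rw [← e, mul_comm]⟩

variable (q) in
/-- The pieces of the Veronese submodule. -/
def verGr (X : GrLC.GMod.{u} 𝒜) (j : ℤ) : AddSubgroup (verSub q X) :=
  (X.gr (j * q)).comap (verSub q X).subtype

variable (hV : IsVer 𝒜 𝒜' φ q)

/-- The module structure of the Veronese submodule over the subring. -/
@[reducible] def verModule (X : GrLC.GMod.{u} 𝒜) : Module R' (verSub q X) where
  smul r x := ⟨φ r • x.1, fun _ hg => hV.pr_smul_eq_zero r hg x.2⟩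
  one_smul x := Subtype.ext (show φ 1 • x.1 = x.1 by rw [map_one, one_smul])
  mul_smul r s x := Subtype.ext (show φ (r * s) • x.1 = φ r • φ s • x.1 by rw [map_mul, mul_smul])
  smul_zero r := Subtype.ext (smul_zero (φ r))
  smul_add r x y := Subtype.ext (smul_add (φ r) x.1 y.1)
  add_smul r s x := Subtype.ext (show φ (r + s) • x.1 = φ r • x.1 + φ s • x.1 by rw [map_add, add_smul])
  zero_smul x := Subtype.ext (show φ 0 • x.1 = 0 by rw [map_zero, zero_smul])

include hV in
theorem verGr_isInternal (X : GrLC.GMod.{u} 𝒜) : DirectSum.IsInternal (verGr q X) := by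
  refine isInternal_of_pr _ (fun j =>
    { toFun := fun x => ⟨pr X.gr (j * q) x.1, mem_verSub_of_mem (pr_mem X.gr _ _)⟩
      map_zero' := Subtype.ext (map_zero _)
      map_add' := fun x y => Subtype.ext (map_add _ _ _) })
    (fun j x hx => Subtype.ext (pr_self X.gr hx))
    (fun j i x hx hne => Subtype.ext (pr_ne X.gr hx fun e => hne (hV.mul_right_inj e))) fun x => ?_
  obtain ⟨s, -, hs⟩ := exists_finset X.gr x.1
  have hmem : ∀ g, pr X.gr g x.1 ∈ verSub q X := fun g => by
    by_cases hg : (q : ℤ) ∣ g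
    · obtain ⟨c, rfl⟩ := hg
      rw [mul_comm]
      exact mem_verSub_of_mem (pr_mem X.gr _ _)
    · rw [x.2 g hg]; exact zero_mem _
  have hx : x = ∑ g ∈ s, (⟨pr X.gr g x.1, hmem g⟩ : verSub q X) :=
    Subtype.ext (by rw [AddSubgroup.val_finsetSum]; exact hs.symm)
  rw [hx]
  refine sum_mem fun g _ => ?_
  by_cases hg : (q : ℤ) ∣ g
  · obtain ⟨c, rfl⟩ := hg
    exact AddSubgroup.mem_iSup_of_mem c (show pr X.gr _ x.1 ∈ X.gr (c * q) by rw [mul_comm c]; exact pr_mem X.gr _ _)
  · rw [show (⟨pr X.gr g x.1, hmem g⟩ : verSub q X) = 0 from Subtype.ext (x.2 g hg)]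
    exact zero_mem _

/-- The Veronese submodule, a graded module over the subring. -/
noncomputable def verG (X : GrLC.GMod.{u} 𝒜) : GrLC.GMod.{u} 𝒜' :=
  letI := verModule hV X
  letI := (verGr_isInternal hV X).chooseDecomposition
  haveI : SetLike.GradedSMul 𝒜' (verGr q X) := ⟨fun {i j r x} hr hx => by
    show φ r • x.1 ∈ X.gr ((i + j) * q)
    rw [add_mul]
    exact smul_mem 𝒜 X.gr (hV.mem_iff.1 hr) hx⟩
  { carrier := verSub q X, gr := verGr q X }

/-- The inclusion of the Veronese submodule. -/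
def vInc (X : GrLC.GMod.{u} 𝒜) : (verG hV X).carrier →+ X.carrier := (verSub q X).subtype

variable {X Y : GrLC.GMod.{u} 𝒜}

theorem vInc_injective : Function.Injective (vInc hV X) := Subtype.coe_injective

theorem vInc_smul (r : R') (v : (verG hV X).carrier) : vInc hV X (r • v) = φ r • vInc hV X v := rfl

theorem mem_verG_gr {j : ℤ} {v : (verG hV X).carrier} : v ∈ (verG hV X).gr j ↔ vInc hV X v ∈ X.gr (j * q) :=
  Iff.rfl

theorem pr_vInc_of_not_dvd (v : (verG hV X).carrier) {g : ℤ} (hg : ¬ (q : ℤ) ∣ g) :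
    pr X.gr g (vInc hV X v) = 0 := (v : verSub q X).2 g hg

theorem pr_vInc (j : ℤ) (v : (verG hV X).carrier) :
    vInc hV X (pr (verG hV X).gr j v) = pr X.gr (j * q) (vInc hV X v) := by
  induction v using induction (verG hV X).gr with
  | h0 => simp
  | hadd a b ha hb => simp [map_add, ha, hb]
  | hmem i a ha =>
    by_cases h : i = j
    · subst h; rw [pr_self (verG hV X).gr ha, pr_self X.gr ((mem_verG_gr hV).1 ha)]
    · rw [pr_ne (verG hV X).gr ha h, pr_ne X.gr ((mem_verG_gr hV).1 ha) fun e => h (hV.mul_right_inj e), map_zero]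

theorem exists_vInc_of_mem {j : ℤ} {x : X.carrier} (hx : x ∈ X.gr (j * q)) :
    ∃ v ∈ (verG hV X).gr j, vInc hV X v = x := ⟨(⟨x, mem_verSub_of_mem hx⟩ : verSub q X), hx, rfl⟩

/-- The components of degree divisible by `q`. -/
noncomputable def prDvd (X : GrLC.GMod.{u} 𝒜) : X.carrier →+ X.carrier :=
  (DirectSum.toAddMonoid fun g => if (q : ℤ) ∣ g then (X.gr g).subtype else 0).comp
    (DirectSum.decomposeAddEquiv X.gr).toAddMonoidHom

theorem prDvd_of_mem {g : ℤ} {x : X.carrier} (hx : x ∈ X.gr g) :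
    prDvd (q := q) X x = if (q : ℤ) ∣ g then x else 0 := by
  show DirectSum.toAddMonoid _ (DirectSum.decompose X.gr x) = _
  rw [DirectSum.decompose_of_mem X.gr hx, DirectSum.toAddMonoid_of]
  split_ifs <;> rfl

theorem pr_prDvd (g : ℤ) (x : X.carrier) :
    pr X.gr g (prDvd (q := q) X x) = if (q : ℤ) ∣ g then pr X.gr g x else 0 := by
  induction x using induction X.gr with
  | h0 => simp
  | hadd a b ha hb => rw [map_add, map_add, ha, hb, map_add]; split_ifs <;> simp
  | hmem i a ha =>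
    rw [prDvd_of_mem ha]
    by_cases h : i = g
    · subst h
      split_ifs <;> simp [pr_self X.gr ha]
    · rw [pr_ne X.gr ha h]
      split_ifs <;> simp [pr_ne X.gr ha h]

/-- The projection onto the Veronese submodule. -/
noncomputable def verProj (X : GrLC.GMod.{u} 𝒜) : X.carrier →+ (verG hV X).carrier :=
  (prDvd (q := q) X).codRestrict (verSub q X) fun x g hg => by rw [pr_prDvd, if_neg hg]

theorem vInc_verProj (x : X.carrier) : vInc hV X (verProj hV X x) = prDvd (q := q) X x := rfl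

theorem verProj_vInc (v : (verG hV X).carrier) : verProj hV X (vInc hV X v) = v := by
  refine vInc_injective hV (pr_ext X.gr fun g => ?_)
  rw [vInc_verProj, pr_prDvd]
  split_ifs with h
  · rfl
  · rw [pr_vInc_of_not_dvd hV v h]

theorem verProj_mem {j : ℤ} {x : X.carrier} (hx : x ∈ X.gr (j * q)) : verProj hV X x ∈ (verG hV X).gr j := by
  rw [mem_verG_gr, vInc_verProj, prDvd_of_mem hx, if_pos (dvd_mul_left _ _)]
  exact hx

theorem verProj_smul (r : R') (x : X.carrier) : verProj hV X (φ r • x) = r • verProj hV X x := by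
  refine vInc_injective hV ?_
  rw [vInc_smul, vInc_verProj, vInc_verProj]
  induction r using induction 𝒜' with
  | h0 => simp
  | hadd a b ha hb => rw [map_add, add_smul, map_add, ha, hb, add_smul]
  | hmem i a ha =>
    refine pr_ext X.gr fun g => ?_
    have hφa := hV.mem_iff.1 ha
    rw [pr_prDvd, pr_smul 𝒜 X.gr hφa, pr_smul 𝒜 X.gr hφa, pr_prDvd]
    have hiff : (q : ℤ) ∣ g - i * q ↔ (q : ℤ) ∣ g :=
      ⟨fun h => by have := dvd_add h (dvd_mul_left (q : ℤ) i); rwa [sub_add_cancel] at this,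
        fun h => dvd_sub h (dvd_mul_left _ _)⟩
    by_cases h : (q : ℤ) ∣ g
    · rw [if_pos h, if_pos (hiff.2 h)]
    · rw [if_neg h, if_neg (fun e => h (hiff.1 e)), smul_zero]

/-- The Veronese submodule of a homogeneous map. -/
noncomputable def verMap (f : X.carrier →ₗ[R] Y.carrier) (hf : GrLC.IsGrHom X.gr Y.gr f) :
    (verG hV X).carrier →ₗ[R'] (verG hV Y).carrier where
  toFun v := (⟨f (vInc hV X v), fun g hg => by rw [← map_pr hf, pr_vInc_of_not_dvd hV v hg, map_zero]⟩ :
    verSub q Y)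
  map_add' a b := Subtype.ext (show f (vInc hV X (a + b)) = f _ + f _ by rw [map_add, map_add])
  map_smul' r a := Subtype.ext (show f (vInc hV X (r • a)) = φ r • f _ by rw [vInc_smul, map_smul])

theorem vInc_verMap (f : X.carrier →ₗ[R] Y.carrier) (hf : GrLC.IsGrHom X.gr Y.gr f) (v : (verG hV X).carrier) :
    vInc hV Y (verMap hV f hf v) = f (vInc hV X v) := rfl

theorem verMap_grHom (f : X.carrier →ₗ[R] Y.carrier) (hf : GrLC.IsGrHom X.gr Y.gr f) :
    GrLC.IsGrHom (verG hV X).gr (verG hV Y).gr (verMap hV f hf) := fun j v hv =>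
  (mem_verG_gr hV).2 (by rw [vInc_verMap]; exact hf _ _ ((mem_verG_gr hV).1 hv))

theorem map_prDvd (f : X.carrier →ₗ[R] Y.carrier) (hf : GrLC.IsGrHom X.gr Y.gr f) (x : X.carrier) :
    f (prDvd (q := q) X x) = prDvd (q := q) Y (f x) := by
  refine pr_ext Y.gr fun g => ?_
  rw [← map_pr hf, pr_prDvd, pr_prDvd, apply_ite f, map_zero, map_pr hf]

theorem verMap_verProj (f : X.carrier →ₗ[R] Y.carrier) (hf : GrLC.IsGrHom X.gr Y.gr f) (x : X.carrier) :
    verMap hV f hf (verProj hV X x) = verProj hV Y (f x) :=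
  vInc_injective hV (by rw [vInc_verMap, vInc_verProj, vInc_verProj, map_prDvd f hf])

theorem verMap_ker {Z : GrLC.GMod.{u} 𝒜} (f : X.carrier →ₗ[R] Y.carrier) (hf : GrLC.IsGrHom X.gr Y.gr f)
    (g : Y.carrier →ₗ[R] Z.carrier) (hg : GrLC.IsGrHom Y.gr Z.gr g)
    (hex : LinearMap.ker g = LinearMap.range f) :
    LinearMap.ker (verMap hV g hg) = LinearMap.range (verMap hV f hf) := by
  refine le_antisymm (fun v hv => ?_) ?_
  · have h1 : vInc hV Y v ∈ LinearMap.ker g := by
      rw [LinearMap.mem_ker, ← vInc_verMap hV g hg, LinearMap.mem_ker.1 hv, map_zero]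
    obtain ⟨x, hx⟩ := hex.le h1
    exact ⟨verProj hV X x, by rw [verMap_verProj, hx, verProj_vInc]⟩
  · rintro _ ⟨w, rfl⟩
    refine vInc_injective hV ?_
    rw [vInc_verMap, vInc_verMap, map_zero]
    exact hex.ge ⟨_, rfl⟩

section Noetherian

variable [IsNoetherianRing R]

/-- Retractions keep finiteness. -/
theorem isNoetherian_verG [Module.Finite R X.carrier] : IsNoetherian R' (verG hV X).carrier := by
  have key : ∀ (N : Submodule R' (verG hV X).carrier) (x : X.carrier),
      x ∈ Submodule.span R (vInc hV X '' N) → ∀ c : R, verProj hV X (c • x) ∈ N := by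
    intro N x hx
    induction hx using Submodule.span_induction with
    | zero => intro c; rw [smul_zero, map_zero]; exact zero_mem _
    | add a b _ _ ha hb => intro c; rw [smul_add, map_add]; exact add_mem (ha c) (hb c)
    | smul d a _ ha => intro c; rw [smul_smul]; exact ha _
    | mem a ha =>
      obtain ⟨v, hv, rfl⟩ := ha
      intro c
      induction c using induction 𝒜 with
      | h0 => rw [zero_smul, map_zero]; exact zero_mem _
      | hadd c d hc hd => rw [add_smul, map_add]; exact add_mem hc hd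
      | hmem g c hc =>
        by_cases hg : (q : ℤ) ∣ g
        · obtain ⟨j, rfl⟩ := hg
          rw [mul_comm] at hc
          obtain ⟨r, -, rfl⟩ := hV.exists_mem hc
          rw [verProj_smul, verProj_vInc]
          exact N.smul_mem r hv
        · suffices h : verProj hV X (c • vInc hV X v) = 0 by rw [h]; exact zero_mem _
          refine vInc_injective hV (pr_ext X.gr fun i => ?_)
          rw [vInc_verProj, pr_prDvd, map_zero, map_zero]
          split_ifs with hi
          · rw [pr_smul 𝒜 X.gr hc, pr_vInc_of_not_dvd hV v fun h => hg ?_, smul_zero]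
            have := dvd_sub hi h
            rwa [sub_sub_cancel] at this
          · rfl
  haveI : IsNoetherian R X.carrier := inferInstance
  refine isNoetherian_iff'.2 (StrictMono.wellFoundedGT
    (f := fun N : Submodule R' (verG hV X).carrier => Submodule.span R (vInc hV X '' N))
    fun N N' hlt => lt_of_le_of_ne (Submodule.span_mono (Set.image_mono hlt.le)) fun e => hlt.not_ge fun v hv => ?_)
  have := key N (vInc hV X v) (e.ge (Submodule.subset_span ⟨v, hv, rfl⟩)) 1
  rwa [one_smul, verProj_vInc] at this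

include hV in
theorem IsVer.isNoetherianRing : IsNoetherianRing R' := by
  let RG : GrLC.GMod.{u} 𝒜 := GrLC.GMod.of 𝒜 R 𝒜
  haveI : Module.Finite R RG.carrier := inferInstanceAs (Module.Finite R R)
  haveI := isNoetherian_verG hV (X := RG)
  let one : (verG hV RG).carrier := verProj hV RG (1 : R)
  have hone : vInc hV RG one = (1 : R) := by
    rw [vInc_verProj, prDvd_of_mem (X := RG) (g := 0) (SetLike.one_mem_graded 𝒜), if_pos (dvd_zero _)]
  refine isNoetherian_of_injective (LinearMap.toSpanSingleton R' (verG hV RG).carrier one) fun r s h => hV.inj ?_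
  have h1 := congrArg (vInc hV RG) h
  simp only [LinearMap.toSpanSingleton_apply] at h1
  rw [vInc_smul, vInc_smul, hone] at h1
  exact (mul_one (φ r)).symm.trans (h1.trans (mul_one (φ s)))

end Noetherian

section Torsion

include hV

theorem IsVer.hpos' (hpos : ∀ n : ℤ, n < 0 → 𝒜 n = ⊥) (n : ℤ) (hn : n < 0) : 𝒜' n = ⊥ := by
  refine (AddSubgroup.eq_bot_iff_forall _).2 fun r hr => hV.inj ?_
  rw [map_zero]
  exact eq_zero_of_neg hpos (mul_neg_of_neg_of_pos hn (by have := hV.pos; omega)) (hV.mem_iff.1 hr)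

theorem IsVer.map_posIdeal_le : (posIdeal 𝒜').toIdeal.map φ ≤ (posIdeal 𝒜).toIdeal := by
  rw [posIdeal_toIdeal, Ideal.map_span, Ideal.span_le]
  rintro _ ⟨r, hr, rfl⟩
  simp only [Set.mem_iUnion] at hr
  obtain ⟨j, hj, hrj⟩ := hr
  exact mem_posIdeal (mul_pos (Set.mem_Ioi.1 hj) (by have := hV.pos; omega)) (hV.mem_iff.1 hrj)

theorem IsVer.posIdeal_le_radical : (posIdeal 𝒜).toIdeal ≤ ((posIdeal 𝒜').toIdeal.map φ).radical := by
  rw [posIdeal_toIdeal 𝒜, Ideal.span_le]
  intro x hx
  simp only [Set.mem_iUnion] at hx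
  obtain ⟨k, hk, hxk⟩ := hx
  have hxq : x ^ q ∈ 𝒜 (k * q) := by
    have := SetLike.pow_mem_graded q hxk
    rwa [nsmul_eq_mul, mul_comm] at this
  obtain ⟨r, hr, hrx⟩ := hV.exists_mem hxq
  exact ⟨q, hrx ▸ Ideal.mem_map_of_mem φ (mem_posIdeal hk hr)⟩

theorem IsVer.map_isHomogeneous : ((posIdeal 𝒜').toIdeal.map φ).IsHomogeneous 𝒜 := by
  rw [posIdeal_toIdeal, Ideal.map_span]
  refine Ideal.homogeneous_span 𝒜 _ ?_
  rintro _ ⟨r, hr, rfl⟩
  simp only [Set.mem_iUnion] at hr
  obtain ⟨j, -, hrj⟩ := hr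
  exact ⟨_, hV.mem_iff.1 hrj⟩

variable [IsNoetherianRing R]

theorem mem_gam_verG (v : (verG hV X).carrier) :
    v ∈ GrLC.gam (posIdeal 𝒜').toIdeal (verG hV X).carrier ↔
      vInc hV X v ∈ GrLC.gam (posIdeal 𝒜).toIdeal X.carrier := by
  constructor
  · rintro ⟨k, hk⟩
    obtain ⟨N, hN⟩ := Ideal.exists_pow_le_of_le_radical_of_fg hV.posIdeal_le_radical (IsNoetherian.noetherian _)
    refine ⟨N * k, fun r hr => ?_⟩
    have hle : ((posIdeal 𝒜).toIdeal) ^ (N * k) ≤ ((posIdeal 𝒜').toIdeal ^ k).map φ := by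
      rw [pow_mul, Ideal.map_pow]
      exact Ideal.pow_right_mono hN k
    have : r ∈ (Submodule.span R {vInc hV X v}).annihilator := by
      refine (hle.trans ?_) hr
      rw [Ideal.map_le_iff_le_comap]
      intro s hs
      rw [Ideal.mem_comap, Submodule.mem_annihilator_span_singleton, ← vInc_smul hV, hk s hs, map_zero]
    exact (Submodule.mem_annihilator_span_singleton _ _).1 this
  · rintro ⟨k, hk⟩
    refine ⟨k, fun r hr => vInc_injective hV ?_⟩
    rw [vInc_smul, map_zero]
    refine hk _ ?_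
    have h1 : φ r ∈ ((posIdeal 𝒜').toIdeal ^ k).map φ := Ideal.mem_map_of_mem φ hr
    rw [Ideal.map_pow] at h1
    exact Ideal.pow_right_mono hV.map_posIdeal_le k h1

/-- Veronese submodules of *injectives are acyclic. -/
theorem van_verG_of_starInj (hX : GrLC.IsStarInj 𝒜 X.gr) (i : ℕ) (m : ℤ) :
    Van (posIdeal 𝒜') (verG hV X).gr (i + 1) m := by
  haveI := hV.isNoetherianRing
  refine van_of_subsingleton_H ?_ m
  letI : Algebra R' R := φ.toAlgebra
  letI : Module R' X.carrier := Module.compHom X.carrier (algebraMap R' R)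
  haveI := LocCohLib.tower_compHom (R := R') (R' := R) X.carrier
  let I := (posIdeal 𝒜').toIdeal
  haveI h1 : Subsingleton (LocCoh.H (I.map (algebraMap R' R)) (i + 1) X.carrier) :=
    subsingleton_H hX ⟨I.map φ, hV.map_isHomogeneous⟩ (i + 1) (Nat.le_add_left 1 i)
  obtain ⟨e, -⟩ := LocCohLib.exists_addEquiv_restrict (R := R') (R' := R) I X.carrier (i + 1)
  haveI h2 : Subsingleton (LocCoh.H I (i + 1) X.carrier) := e.symm.injective.subsingleton
  let a : (verG hV X).carrier →ₗ[R'] X.carrier :=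
    { toFun := vInc hV X
      map_add' := map_add _
      map_smul' := fun r v => vInc_smul hV r v }
  let b : X.carrier →ₗ[R'] (verG hV X).carrier :=
    { toFun := verProj hV X
      map_add' := map_add _
      map_smul' := fun r x => verProj_smul hV r x }
  have hba : ModuleCat.ofHom a ≫ ModuleCat.ofHom b = 𝟙 (ModuleCat.of R' (verG hV X).carrier) :=
    ModuleCat.hom_ext (LinearMap.ext fun v => verProj_vInc hV v)
  let F := localCohomology I (i + 1)
  have hinj : Function.Injective (F.map (ModuleCat.ofHom a)).hom := fun x y h => by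
    have h1 := congrArg (F.map (ModuleCat.ofHom b)).hom h
    rwa [← ModuleCat.comp_apply, ← ModuleCat.comp_apply, ← F.map_comp, hba, F.map_id] at h1
  exact hinj.subsingleton

theorem IsVer.bijective_deg0 : ∃ e : GrLC.deg0 𝒜' ≃+* GrLC.deg0 𝒜, ∀ r, (e r : R) = φ r := by
  let f : GrLC.deg0 𝒜' →+* GrLC.deg0 𝒜 :=
    (φ.comp (GrLC.deg0 𝒜').subtype).codRestrict (GrLC.deg0 𝒜) fun r => by
      have := hV.mem_iff.1 (show (r : R') ∈ 𝒜' 0 from r.2)
      rw [zero_mul] at this
      exact this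
  refine ⟨RingEquiv.ofBijective f ⟨fun a b h => Subtype.ext (hV.inj (congrArg Subtype.val h)), fun x => ?_⟩,
    fun r => rfl⟩
  obtain ⟨r, hr, hrx⟩ := hV.exists_mem (j := 0) (x := (x : R)) (by rw [zero_mul]; exact x.2)
  exact ⟨⟨r, hr⟩, Subtype.ext hrx⟩

theorem IsVer.isField' (h0 : IsField (GrLC.deg0 𝒜)) : IsField (GrLC.deg0 𝒜') := by
  obtain ⟨e, -⟩ := hV.bijective_deg0
  exact e.toMulEquiv.isField h0

end Torsion

end GrModLib
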